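import Cfsg.Prelude.Def_LieTypeChar
import Cfsg.Agent.H37.Card
import Cfsg.Agent.H48.Count
import Cfsg.Agent.H49.SpBlock
import Cfsg.Agent.H50.Center
import Cfsg.Agent.H38.POmegaStd
import Cfsg.Agent.H57.SzStab
import Cfsg.Agent.H57.SzForm
import Cfsg.Agent.S1059
import Cfsg.Agent.S1062
import Cfsg.Agent.S1063
import Cfsg.Agent.S1064
import Cfsg.Agent.S1065
import Cfsg.Agent.S1066
import Cfsg.Agent.S1067

/-!
# Orders of groups of Lie type against their Sylow subgroup in the defining characteristic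
-/

set_option autoImplicit false
set_option linter.unusedSectionVars false

open Cfsg

namespace H40.LieBound

/-- both inequalities for a group of order `n` -/
def Small (p n : ℕ) : Prop :=
  n < p ^ (3 * n.factorization p) ∧ n ^ 3 < p ^ (8 * n.factorization p)

theorem not_dvd_mul {p a b : ℕ} (hp : p.Prime) (ha : ¬ p ∣ a) (hb : ¬ p ∣ b) : ¬ p ∣ a * b :=
  fun h => (hp.dvd_mul.1 h).elim ha hb

theorem not_dvd_gcd_right {p a b : ℕ} (hb : ¬ p ∣ b) : ¬ p ∣ Nat.gcd a b :=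
  fun h => hb (h.trans (Nat.gcd_dvd_right a b))

theorem not_dvd_pred {p q : ℕ} (hp : p.Prime) (hq : p ∣ q) (hq0 : 1 ≤ q) : ¬ p ∣ q - 1 :=
  fun h => hp.not_dvd_one (by simpa [Nat.sub_sub_self hq0] using Nat.dvd_sub hq h)

theorem not_dvd_succ {p q : ℕ} (hp : p.Prime) (hq : p ∣ q) : ¬ p ∣ q + 1 :=
  fun h => hp.not_dvd_one ((Nat.dvd_add_right hq).1 h)

/-- from an order formula `g |G| = q^N R` -/
theorem small_of_formula {p f q n g N R M : ℕ} (hp : p.Prime) (hq : q = p ^ f) (hn : n ≠ 0)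
    (hg : ¬ p ∣ g) (heq : g * n = q ^ N * R) (hR : R < g * q ^ M)
    (h3 : N + M ≤ 3 * N) (h8 : 3 * (N + M) ≤ 8 * N) : Small p n := by
  have hg0 : 0 < g := Nat.pos_of_ne_zero fun h => hg (h ▸ dvd_zero p)
  have hq0 : 0 < q := hq ▸ pow_pos hp.pos f
  have hlt : n < q ^ (N + M) := by
    apply Nat.lt_of_mul_lt_mul_left (a := g)
    rw [heq, pow_add, mul_left_comm g]
    exact Nat.mul_lt_mul_of_pos_left hR (pow_pos hq0 _)
  have hdvd : p ^ (f * N) ∣ n := by
    have : p ^ (f * N) ∣ g * n := ⟨R, by rw [heq, hq, pow_mul]⟩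
    exact (Nat.Coprime.pow_left _ (hp.coprime_iff_not_dvd.2 hg)).dvd_of_dvd_mul_left this
  have hk : f * N ≤ n.factorization p := (hp.pow_dvd_iff_le_factorization hn).1 hdvd
  refine ⟨hlt.trans_le ?_, (Nat.pow_lt_pow_left hlt (by norm_num : 3 ≠ 0)).trans_le ?_⟩
  · rw [hq, ← pow_mul]
    refine Nat.pow_le_pow_right hp.pos ?_
    calc f * (N + M) ≤ f * (3 * N) := Nat.mul_le_mul_left _ h3
      _ = 3 * (f * N) := by ring
      _ ≤ _ := Nat.mul_le_mul_left _ hk
  · rw [hq, ← pow_mul, ← pow_mul]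
    refine Nat.pow_le_pow_right hp.pos ?_
    calc f * ((N + M) * 3) = f * (3 * (N + M)) := by ring
      _ ≤ f * (8 * N) := Nat.mul_le_mul_left _ h8
      _ = 8 * (f * N) := by ring
      _ ≤ _ := Nat.mul_le_mul_left _ hk

section products

variable {q : ℕ}

theorem prod_even_lt (hq : 2 ≤ q) {m : ℕ} (hm : 1 ≤ m) :
    ∏ i ∈ Finset.range m, (q ^ (2 * (i + 1)) - 1) < q ^ (m * (m + 1)) := by
  induction m, hm using Nat.le_induction with
  | base => simpa using Nat.pow_pos (n := 2) (show 0 < q by omega)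
  | succ m hm ih =>
    rw [Finset.prod_range_succ, show (m + 1) * (m + 1 + 1) = m * (m + 1) + 2 * (m + 1) by ring,
      pow_add]
    exact Nat.mul_lt_mul'' ih (Nat.sub_lt (pow_pos (by omega) _) one_pos)

theorem prod_minus_lt (hq : 2 ≤ q) {a k : ℕ} (ha : 2 ≤ a) (hk : 1 ≤ k) :
    (q ^ a + 1) * ∏ i ∈ Finset.range k, (q ^ (2 * (i + 1)) - 1) < q ^ (a + k * (k + 1)) := by
  induction k, hk using Nat.le_induction with
  | base =>
    have h2 : q ^ 2 ≤ q ^ a := Nat.pow_le_pow_right (by omega) ha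
    have h1 : 1 ≤ q ^ 2 := Nat.one_le_pow _ _ (by omega)
    simp only [Finset.range_one, Finset.prod_singleton, pow_add, Nat.zero_add, Nat.one_mul,
      Nat.mul_one]
    norm_num
    zify [h1] at h2 ⊢
    nlinarith
  | succ k hk ih =>
    rw [Finset.prod_range_succ, ← mul_assoc,
      show a + (k + 1) * (k + 1 + 1) = a + k * (k + 1) + 2 * (k + 1) by ring, pow_add]
    exact Nat.mul_lt_mul'' ih (Nat.sub_lt (pow_pos (by omega) _) one_pos)

theorem prod_all_lt (hq : 2 ≤ q) {n : ℕ} (hn : 2 ≤ n) :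
    ∃ M, 2 * (M + 1) = n * (n + 1) ∧
      ∏ i ∈ Finset.range n, (q ^ (i + 1) - 1) < (q - 1) * q ^ M := by
  induction n, hn using Nat.le_induction with
  | base =>
    refine ⟨2, rfl, ?_⟩
    simp only [Finset.prod_range_succ, Finset.prod_range_zero, one_mul, Nat.zero_add, pow_one]
    exact Nat.mul_lt_mul_of_pos_left (Nat.sub_lt (pow_pos (by omega) _) one_pos) (by omega)
  | succ n hn ih =>
    obtain ⟨M, hM, hlt⟩ := ih
    refine ⟨M + (n + 1), by linarith [hM], ?_⟩
    rw [Finset.prod_range_succ, pow_add q M, ← mul_assoc]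
    exact Nat.mul_lt_mul'' hlt (Nat.sub_lt (pow_pos (by omega) _) one_pos)

/-- the factor of the unitary order -/
def uFac (q i : ℕ) : ℕ := if Even i then q ^ (i + 1) + 1 else q ^ (i + 1) - 1

theorem uFac_le (hq : 2 ≤ q) (j : ℕ) :
    (q ^ (2 * j + 2) - 1) * (q ^ (2 * j + 3) + 1) < q ^ (4 * j + 5) := by
  have h1 : 1 ≤ q ^ (2 * j + 2) := Nat.one_le_pow _ _ (by omega)
  have h2 : q ^ (4 * j + 5) = q ^ (2 * j + 2) * q ^ (2 * j + 3) := by rw [← pow_add]; ring_nf
  have h3 : q ^ (2 * j + 2) ≤ q ^ (2 * j + 3) := Nat.pow_le_pow_right (by omega) (by omega)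
  rw [h2]
  zify [h1] at h3 ⊢
  nlinarith

theorem prod_uFac_lt (hq : 2 ≤ q) {n : ℕ} (hn : 3 ≤ n) :
    ∃ M, 2 * (M + 1) = n * (n + 1) ∧
      ∏ i ∈ Finset.range n, uFac q i < (q + 1) * q ^ M := by
  have hodd : ∀ j : ℕ, ∃ M, 2 * (M + 1) = (2 * j + 3) * (2 * j + 4) ∧
      ∏ i ∈ Finset.range (2 * j + 3), uFac q i < (q + 1) * q ^ M := by
    intro j
    induction j with
    | zero =>
      refine ⟨5, rfl, ?_⟩
      simp only [Nat.mul_zero, Nat.zero_add, Finset.prod_range_succ, Finset.prod_range_zero,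
        one_mul, uFac]
      norm_num
      have := uFac_le hq 0
      norm_num at this
      rw [mul_assoc]
      exact Nat.mul_lt_mul_of_pos_left this (by omega)
    | succ j ih =>
      obtain ⟨M, hM, hlt⟩ := ih
      refine ⟨M + (4 * j + 9), by linarith [hM], ?_⟩
      rw [show 2 * (j + 1) + 3 = 2 * j + 3 + 1 + 1 by ring, Finset.prod_range_succ,
        Finset.prod_range_succ, mul_assoc, pow_add q M, ← mul_assoc (q + 1)]
      refine Nat.mul_lt_mul'' (by exact hlt) ?_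
      have he : ¬ Even (2 * j + 3) := by simp [parity_simps]
      have he' : Even (2 * j + 3 + 1) := by simp [parity_simps]
      simp only [uFac, if_neg he, if_pos he']
      have := uFac_le hq (j + 1)
      ring_nf at this ⊢
      exact this
  rcases Nat.even_or_odd' n with ⟨k, hk | hk⟩
  · obtain ⟨j, rfl⟩ : ∃ j, k = j + 2 := ⟨k - 2, by omega⟩
    obtain ⟨M, hM, hlt⟩ := hodd j
    subst hk
    refine ⟨M + (2 * j + 4), by linarith [hM], ?_⟩
    rw [show 2 * (j + 2) = 2 * j + 3 + 1 by ring, Finset.prod_range_succ, pow_add, ← mul_assoc]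
    refine Nat.mul_lt_mul'' hlt ?_
    have he : ¬ Even (2 * j + 3) := by simp [parity_simps]
    rw [uFac, if_neg he]
    exact Nat.sub_lt (pow_pos (by omega) _) one_pos
  · obtain ⟨j, rfl⟩ : ∃ j, k = j + 1 := ⟨k - 1, by omega⟩
    subst hk
    have := hodd j
    exact this

end products

section families

variable {p : ℕ} (hp : p.Prime) {F : Type} [Field F] [Fintype F] [CharP F p]

include hp

theorem exists_card_eq : ∃ f, 1 ≤ f ∧ Fintype.card F = p ^ f := by
  obtain ⟨f, -, hf⟩ := FiniteField.card F p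
  exact ⟨f, f.pos, hf⟩

theorem psl (n : ℕ) (hn : 2 ≤ n) :
    (n = 2 → (Nat.card (Matrix.ProjectiveSpecialLinearGroup (Fin n) F)).factorization p =
      Nat.log p (Fintype.card F) ∧
        Nat.card (Matrix.ProjectiveSpecialLinearGroup (Fin n) F) <
          p ^ (3 * (Nat.card (Matrix.ProjectiveSpecialLinearGroup (Fin n) F)).factorization p)) ∧
    (3 ≤ n → Small p (Nat.card (Matrix.ProjectiveSpecialLinearGroup (Fin n) F))) := by
  obtain ⟨f, hf1, hf⟩ := exists_card_eq hp (F := F)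
  have hcard := H37.card_PSL_fin (F := F) n (by omega)
  rw [Nat.card_eq_fintype_card (α := F)] at hcard
  set X := Nat.card (Matrix.ProjectiveSpecialLinearGroup (Fin n) F) with hXdef
  clear_value X
  set q := Fintype.card F with hqdef
  clear_value q
  have hq2 : 2 ≤ q := by rw [hqdef]; exact Fintype.one_lt_card
  have hpq : p ∣ q := hf ▸ dvd_pow_self p (by omega)
  have hX0 : X ≠ 0 := by rw [hXdef]; exact Nat.card_pos.ne'
  have hsplit : ∏ i : Fin n, (q ^ n - q ^ (i : ℕ)) =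
      q ^ (∑ i ∈ Finset.range n, i) * ∏ i ∈ Finset.range n, (q ^ (i + 1) - 1) := by
    rw [Fin.prod_univ_eq_prod_range (fun i => q ^ n - q ^ i) n, ← Finset.prod_pow_eq_pow_sum,
      ← Finset.prod_range_reflect (fun i => q ^ (i + 1) - 1) n, ← Finset.prod_mul_distrib]
    refine Finset.prod_congr rfl fun i hi => ?_
    rw [Finset.mem_range] at hi
    rw [Nat.mul_sub_one, ← pow_add]
    congr 2
    omega
  rw [hsplit] at hcard
  have hsum := Finset.sum_range_id_mul_two n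
  have hg : ¬ p ∣ Nat.gcd n (q - 1) * (q - 1) :=
    not_dvd_mul hp (not_dvd_gcd_right (not_dvd_pred hp hpq (by omega))) (not_dvd_pred hp hpq (by omega))
  have heq : Nat.gcd n (q - 1) * (q - 1) * X =
      q ^ (∑ i ∈ Finset.range n, i) * ∏ i ∈ Finset.range n, (q ^ (i + 1) - 1) := by
    rw [← hcard]; ring
  refine ⟨fun h2 => ?_, fun h3 => ?_⟩
  · subst h2
    simp only [Finset.sum_range_succ, Finset.prod_range_succ, Finset.sum_range_zero,
      Finset.prod_range_zero, one_mul, Nat.zero_add, pow_one] at heq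
    have hne : q ^ (1 + 1) - 1 ≠ 0 := by
      have := Nat.one_lt_pow (n := 1 + 1) (by omega) (show 1 < q by omega)
      omega
    have hP : ¬ p ∣ (q - 1) * (q ^ (1 + 1) - 1) :=
      not_dvd_mul hp (not_dvd_pred hp hpq (by omega))
        (not_dvd_pred hp (hpq.trans (dvd_pow_self q (by omega))) (Nat.one_le_pow _ _ (by omega)))
    have hfac := congrArg (fun a => Nat.factorization a p) heq
    rw [Nat.factorization_mul (fun h => hg (by rw [h]; exact dvd_zero p)) hX0,
      Nat.factorization_mul (by omega) (Nat.mul_ne_zero (by omega) hne), Finsupp.add_apply,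
      Finsupp.add_apply, Nat.factorization_eq_zero_of_not_dvd hg,
      Nat.factorization_eq_zero_of_not_dvd hP, hf, hp.factorization_pow, Finsupp.single_eq_same,
      zero_add, add_zero] at hfac
    refine ⟨by rw [hfac, hf, Nat.log_pow hp.one_lt], ?_⟩
    rw [hfac, mul_comm 3, pow_mul, ← hf]
    have hlt : Nat.gcd 2 (q - 1) * (q - 1) * X < Nat.gcd 2 (q - 1) * (q - 1) * q ^ 3 := by
      rw [heq, pow_succ' q 2, mul_left_comm _ q]
      refine Nat.mul_lt_mul_of_pos_left ?_ (by omega)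
      refine lt_of_lt_of_le (Nat.mul_lt_mul_of_pos_left (Nat.sub_lt (pow_pos (by omega) _) one_pos)
        (by omega)) ?_
      exact Nat.mul_le_mul_right _ (Nat.le_mul_of_pos_left _ (Nat.gcd_pos_of_pos_left _ (by omega)))
    exact Nat.lt_of_mul_lt_mul_left hlt
  · obtain ⟨M, hM, hlt⟩ := prod_all_lt hq2 hn
    obtain ⟨j, rfl⟩ : ∃ j, n = j + 3 := ⟨n - 3, by omega⟩
    rw [show j + 3 - 1 = j + 2 by omega] at hsum
    refine small_of_formula hp hf hX0 hg heq (M := M) ?_ ?_ ?_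
    · refine hlt.trans_le (Nat.mul_le_mul_right _ ?_)
      exact Nat.le_mul_of_pos_left _ (Nat.gcd_pos_of_pos_left _ (by omega))
    · nlinarith
    · nlinarith

theorem psp (m : ℕ) (hm : 2 ≤ m) : Small p (Nat.card (PSp m F)) := by
  classical
  obtain ⟨f, hf1, hf⟩ := exists_card_eq hp (F := F)
  have : Nonempty (Fin m) := ⟨⟨0, by omega⟩⟩
  have : Fact p.Prime := ⟨hp⟩
  have hq2 : 2 ≤ Fintype.card F := Fintype.one_lt_card
  have hsp := H48.card_sp (F := F) (l := Fin m)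
  rw [Fintype.card_fin] at hsp
  have hz : ¬ p ∣ Nat.card (Subgroup.center (Matrix.symplecticGroup (Fin m) F)) := by
    intro hdvd
    obtain ⟨z, hz⟩ := exists_prime_orderOf_dvd_card' p hdvd
    have hz1 : (z : Matrix.symplecticGroup (Fin m) F) ≠ 1 := fun h => by
      rw [OneMemClass.coe_eq_one] at h
      rw [h, orderOf_one] at hz
      exact hp.one_lt.ne hz
    have hsq : z ^ 2 = 1 := Subtype.ext (by
      rw [pow_two]; exact H49.sq_eq_one_of_mem_center z.2)
    have hp2 : p = 2 := (Nat.prime_dvd_prime_iff_eq hp Nat.prime_two).1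
      (hz ▸ orderOf_dvd_of_pow_eq_one hsq)
    subst hp2
    refine hz1 ((H49.eq_one_or_negOne_of_mem_center z.2).resolve_right fun h => hz1 ?_)
    rw [h]
    apply Subtype.ext
    show (-1 : Matrix (Fin m ⊕ Fin m) (Fin m ⊕ Fin m) F) = 1
    ext a b
    simp [CharTwo.neg_eq]
  have heq : Nat.card (Subgroup.center (Matrix.symplecticGroup (Fin m) F)) * Nat.card (PSp m F) =
      Fintype.card F ^ m ^ 2 * ∏ i ∈ Finset.range m, (Fintype.card F ^ (2 * (i + 1)) - 1) := by
    rw [← hsp, mul_comm]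
    exact (Subgroup.card_eq_card_quotient_mul_card_subgroup _).symm
  refine small_of_formula hp hf Nat.card_pos.ne' hz heq (M := m * (m + 1)) ?_ ?_ ?_
  · exact (prod_even_lt hq2 (by omega)).trans_le (Nat.le_mul_of_pos_left _ Nat.card_pos)
  · nlinarith
  · nlinarith

theorem psu (n q : ℕ) (hF : Fintype.card F = q ^ 2) (hn : 3 ≤ n) :
    Small p (Nat.card (PSU n F q)) := by
  have hq2 : 2 ≤ q := by
    by_contra h
    have := Fintype.one_lt_card (α := F)
    interval_cases q <;> simp_all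
  obtain ⟨f, hf1, hf⟩ := exists_card_eq hp (F := F)
  obtain ⟨e, -, he⟩ := (Nat.dvd_prime_pow hp).1 (hf ▸ hF ▸ dvd_pow_self q two_ne_zero : q ∣ p ^ f)
  have hpq : p ∣ q := by
    rw [he]
    refine dvd_pow_self p fun h => ?_
    rw [h, pow_zero] at he
    omega
  have heq := H50.card_PSU_mul (F := F) hF (n := n) (by omega)
  rw [H50.card_GU hF, ← mul_assoc] at heq
  obtain ⟨M, hM, hlt⟩ := prod_uFac_lt hq2 hn
  have hN : n * (n - 1) / 2 * 2 = n * (n - 1) :=
    Nat.div_mul_cancel (Nat.even_mul_pred_self n).two_dvd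
  obtain ⟨j, rfl⟩ : ∃ j, n = j + 3 := ⟨n - 3, by omega⟩
  simp only [show j + 3 - 1 = j + 2 by omega] at hN heq
  refine small_of_formula hp he Nat.card_pos.ne' ?_ heq (M := M) ?_ ?_ ?_
  · exact not_dvd_mul hp (not_dvd_gcd_right (not_dvd_succ hp hpq)) (not_dvd_succ hp hpq)
  · refine hlt.trans_le (Nat.mul_le_mul_right _ ?_)
    exact Nat.le_mul_of_pos_left _ (Nat.gcd_pos_of_pos_left _ (by omega))
  · nlinarith
  · nlinarith

theorem pomega_odd (m : ℕ) (hm : 3 ≤ m) (hodd : Odd (Fintype.card F)) :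
    Small p (Nat.card (POmega F (quadFormOdd m F))) := by
  obtain ⟨f, hf1, hf⟩ := exists_card_eq hp (F := F)
  have hp2 : p ≠ 2 := by
    rintro rfl
    rw [hf] at hodd
    exact Nat.not_even_iff_odd.2 hodd (Nat.even_pow.2 ⟨even_two, by omega⟩)
  have h2 : (2 : F) ≠ 0 := Ring.two_ne_zero (ringChar.eq F p ▸ hp2)
  have heq := H38.card_pomega_odd' (F := F) h2 m (by omega)
  refine small_of_formula hp hf ?_ ?_ heq (M := m * (m + 1)) ?_ ?_ ?_
  · exact Nat.card_pos.ne'
  · exact fun h => hp2 ((Nat.prime_dvd_prime_iff_eq hp Nat.prime_two).1 h)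
  · exact (prod_even_lt Fintype.one_lt_card (by omega)).trans_le (Nat.le_mul_of_pos_left _ two_pos)
  · nlinarith
  · nlinarith

theorem pomega_plus (m : ℕ) (hm : 4 ≤ m) : Small p (Nat.card (POmega F (quadFormPlus m F))) := by
  obtain ⟨f, hf1, hf⟩ := exists_card_eq hp (F := F)
  have hq2 : 2 ≤ Fintype.card F := Fintype.one_lt_card
  have hpq : p ∣ Fintype.card F := hf ▸ dvd_pow_self p (by omega)
  obtain ⟨k, rfl⟩ : ∃ k, m = k + 1 := ⟨m - 1, by omega⟩
  have heq := H38.card_pomega_plus' (F := F) k (by omega)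
  rw [mul_assoc (Fintype.card F ^ (k * (k + 1)))] at heq
  refine small_of_formula hp hf Nat.card_pos.ne' ?_ heq (M := k + 1 + k * (k + 1)) ?_ ?_ ?_
  · exact not_dvd_gcd_right (not_dvd_pred hp (hpq.trans (dvd_pow_self _ (by omega)))
      (Nat.one_le_pow _ _ (by omega)))
  · refine lt_of_lt_of_le ?_ (Nat.le_mul_of_pos_left _ (Nat.gcd_pos_of_pos_left _ (by omega)))
    rw [pow_add (Fintype.card F) (k + 1) (k * (k + 1))]
    exact Nat.mul_lt_mul'' (Nat.sub_lt (pow_pos (Fintype.card_pos (α := F)) _) one_pos) (prod_even_lt hq2 (by omega))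
  · nlinarith
  · nlinarith

theorem pomega_minus (m : ℕ) (a b : F) (hm : 4 ≤ m)
    (hab : ∀ z₁ z₂ : F, z₁ ^ 2 + a * z₁ * z₂ + b * z₂ ^ 2 = 0 → z₁ = 0 ∧ z₂ = 0) :
    Small p (Nat.card (POmega F (quadFormMinus (m - 1) F a b))) := by
  obtain ⟨f, hf1, hf⟩ := exists_card_eq hp (F := F)
  have hq2 : 2 ≤ Fintype.card F := Fintype.one_lt_card
  have hpq : p ∣ Fintype.card F := hf ▸ dvd_pow_self p (by omega)
  obtain ⟨k, rfl⟩ : ∃ k, m = k + 1 := ⟨m - 1, by omega⟩
  rw [Nat.add_sub_cancel]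
  have heq := H38.card_pomega_minus' (F := F) k (by omega) a b hab
  rw [mul_assoc (Fintype.card F ^ (k * (k + 1)))] at heq
  refine small_of_formula hp hf Nat.card_pos.ne' ?_ heq (M := k + 1 + k * (k + 1)) ?_ ?_ ?_
  · exact not_dvd_gcd_right (not_dvd_succ hp (hpq.trans (dvd_pow_self _ (by omega))))
  · exact (prod_minus_lt hq2 (by omega) (by omega)).trans_le
      (Nat.le_mul_of_pos_left _ (Nat.gcd_pos_of_pos_left _ (by omega)))
  · nlinarith
  · nlinarith

theorem exceptional (hG : 3 ≤ Fintype.card F) :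
    Small p (Nat.card ↥(Lie.chevG2.group F)) := by
  obtain ⟨f, hf1, hf⟩ := exists_card_eq hp (F := F)
  have heq := Cfsg.Agent.S1059.result (F := F) rfl
  have hpos : ∀ k, 0 < Fintype.card F ^ k := fun k => pow_pos (by omega) k
  refine small_of_formula hp hf Nat.card_pos.ne' hp.not_dvd_one (g := 1) (N := 6) (M := 8)
    (R := (Fintype.card F ^ 2 - 1) * (Fintype.card F ^ 6 - 1)) ?_ ?_ (by norm_num) (by norm_num)
  · rw [one_mul, heq, mul_assoc]
  · rw [one_mul, show 8 = 2 + 6 by rfl, pow_add]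
    exact Nat.mul_lt_mul'' (Nat.sub_lt (hpos 2) one_pos) (Nat.sub_lt (hpos 6) one_pos)

theorem chevF4 : Small p (Nat.card ↥(Lie.chevF4.group F)) := by
  obtain ⟨f, hf1, hf⟩ := exists_card_eq hp (F := F)
  have heq := Cfsg.Agent.S1062.result (F := F) rfl
  have hpos : ∀ k, 0 < Fintype.card F ^ k := fun k => pow_pos Fintype.card_pos k
  refine small_of_formula hp hf Nat.card_pos.ne' hp.not_dvd_one (g := 1) (N := 24) (M := 28)
    (R := (Fintype.card F ^ 2 - 1) * (Fintype.card F ^ 6 - 1) * (Fintype.card F ^ 8 - 1) *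
      (Fintype.card F ^ 12 - 1)) ?_ ?_ (by norm_num) (by norm_num)
  · rw [one_mul, heq]; ring
  · rw [one_mul, show 28 = 2 + 6 + 8 + 12 by rfl]
    simp only [pow_add]
    refine Nat.mul_lt_mul'' (Nat.mul_lt_mul'' (Nat.mul_lt_mul'' ?_ ?_) ?_) ?_
    all_goals exact Nat.sub_lt (hpos _) one_pos

theorem chevE6 : Small p (Nat.card ↥(Lie.chevE6.group F)) := by
  obtain ⟨f, hf1, hf⟩ := exists_card_eq hp (F := F)
  have heq := Cfsg.Agent.S1063.result (F := F) rfl
  have hpos : ∀ k, 0 < Fintype.card F ^ k := fun k => pow_pos Fintype.card_pos k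
  have hpq : p ∣ Fintype.card F := hf ▸ dvd_pow_self p (by omega)
  refine small_of_formula hp hf Nat.card_pos.ne' (g := Nat.gcd 3 (Fintype.card F - 1))
    (not_dvd_gcd_right (not_dvd_pred hp hpq Fintype.card_pos)) (N := 36) (M := 42)
    (R := (Fintype.card F ^ 2 - 1) * (Fintype.card F ^ 5 - 1) * (Fintype.card F ^ 6 - 1) *
      (Fintype.card F ^ 8 - 1) * (Fintype.card F ^ 9 - 1) * (Fintype.card F ^ 12 - 1)) ?_ ?_
    (by norm_num) (by norm_num)
  · rw [heq]; ring
  · refine lt_of_lt_of_le ?_ (Nat.le_mul_of_pos_left _ (Nat.gcd_pos_of_pos_left _ (by omega)))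
    rw [show 42 = 2 + 5 + 6 + 8 + 9 + 12 by rfl]
    simp only [pow_add]
    refine Nat.mul_lt_mul'' (Nat.mul_lt_mul'' (Nat.mul_lt_mul'' (Nat.mul_lt_mul'' (Nat.mul_lt_mul'' ?_ ?_) ?_) ?_) ?_) ?_
    all_goals exact Nat.sub_lt (hpos _) one_pos

theorem chevE7 : Small p (Nat.card ↥(Lie.chevE7.group F)) := by
  obtain ⟨f, hf1, hf⟩ := exists_card_eq hp (F := F)
  have heq := Cfsg.Agent.S1064.result (F := F) rfl
  have hpos : ∀ k, 0 < Fintype.card F ^ k := fun k => pow_pos Fintype.card_pos k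
  have hpq : p ∣ Fintype.card F := hf ▸ dvd_pow_self p (by omega)
  refine small_of_formula hp hf Nat.card_pos.ne' (g := Nat.gcd 2 (Fintype.card F - 1))
    (not_dvd_gcd_right (not_dvd_pred hp hpq Fintype.card_pos)) (N := 63) (M := 70)
    (R := (Fintype.card F ^ 2 - 1) * (Fintype.card F ^ 6 - 1) * (Fintype.card F ^ 8 - 1) *
      (Fintype.card F ^ 10 - 1) * (Fintype.card F ^ 12 - 1) * (Fintype.card F ^ 14 - 1) *
      (Fintype.card F ^ 18 - 1)) ?_ ?_
    (by norm_num) (by norm_num)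
  · rw [heq]; ring
  · refine lt_of_lt_of_le ?_ (Nat.le_mul_of_pos_left _ (Nat.gcd_pos_of_pos_left _ (by omega)))
    rw [show 70 = 2 + 6 + 8 + 10 + 12 + 14 + 18 by rfl]
    simp only [pow_add]
    refine Nat.mul_lt_mul'' (Nat.mul_lt_mul'' (Nat.mul_lt_mul'' (Nat.mul_lt_mul'' (Nat.mul_lt_mul'' (Nat.mul_lt_mul'' ?_ ?_) ?_) ?_) ?_) ?_) ?_
    all_goals exact Nat.sub_lt (hpos _) one_pos

theorem chevE8 : Small p (Nat.card ↥(Lie.chevE8.group F)) := by
  obtain ⟨f, hf1, hf⟩ := exists_card_eq hp (F := F)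
  have heq := Cfsg.Agent.S1065.result (F := F) rfl
  have hpos : ∀ k, 0 < Fintype.card F ^ k := fun k => pow_pos Fintype.card_pos k
  refine small_of_formula hp hf Nat.card_pos.ne' hp.not_dvd_one (g := 1) (N := 120) (M := 128)
    (R := (Fintype.card F ^ 2 - 1) * (Fintype.card F ^ 8 - 1) * (Fintype.card F ^ 12 - 1) *
      (Fintype.card F ^ 14 - 1) * (Fintype.card F ^ 18 - 1) * (Fintype.card F ^ 20 - 1) *
      (Fintype.card F ^ 24 - 1) * (Fintype.card F ^ 30 - 1)) ?_ ?_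
    (by norm_num) (by norm_num)
  · rw [one_mul, heq]; ring
  · rw [one_mul, show 128 = 2 + 8 + 12 + 14 + 18 + 20 + 24 + 30 by rfl]
    simp only [pow_add]
    refine Nat.mul_lt_mul'' (Nat.mul_lt_mul'' (Nat.mul_lt_mul'' (Nat.mul_lt_mul'' (Nat.mul_lt_mul'' (Nat.mul_lt_mul'' (Nat.mul_lt_mul'' ?_ ?_) ?_) ?_) ?_) ?_) ?_) ?_
    all_goals exact Nat.sub_lt (hpos _) one_pos

theorem twisted (q : ℕ) (hq : IsPrimePow q) :
    (Fintype.card F = q ^ 2 → Small p (Nat.card ↥(Lie.twistedE6 F q))) ∧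
    (Fintype.card F = q ^ 3 → Small p (Nat.card ↥(Lie.twistedD4 F q))) := by
  obtain ⟨f, hf1, hf⟩ := exists_card_eq hp (F := F)
  have hq2 : 2 ≤ q := hq.two_le
  have hpe : ∀ k, k ≠ 0 → Fintype.card F = q ^ k → ∃ e, q = p ^ e ∧ p ∣ q := by
    intro k hk h
    obtain ⟨e, -, he⟩ := (Nat.dvd_prime_pow hp).1 (hf ▸ h ▸ dvd_pow_self q hk : q ∣ p ^ f)
    refine ⟨e, he, ?_⟩
    rw [he]
    refine dvd_pow_self p fun h0 => ?_
    rw [h0, pow_zero] at he
    omega
  have hpos : ∀ k, 0 < q ^ k := fun k => pow_pos (by omega) k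
  refine ⟨fun h => ?_, fun h => ?_⟩
  · obtain ⟨e, he, hpq⟩ := hpe 2 (by omega) h
    refine small_of_formula hp he Nat.card_pos.ne' (g := Nat.gcd 3 (q + 1))
      (not_dvd_gcd_right (not_dvd_succ hp hpq)) (N := 36) (M := 44)
      (R := (q ^ 2 - 1) * (q ^ 5 + 1) * (q ^ 6 - 1) * (q ^ 8 - 1) * (q ^ 9 + 1) * (q ^ 12 - 1))
      ?_ ?_ (by norm_num) (by norm_num)
    · rw [Cfsg.Agent.S1066.result hq h]; ring
    · refine lt_of_lt_of_le ?_ (Nat.le_mul_of_pos_left _ (Nat.gcd_pos_of_pos_left _ (by omega)))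
      rw [show 44 = 2 + 6 + 6 + 8 + 10 + 12 by rfl]
      simp only [pow_add]
      have h5 : q ^ 5 + 1 < q ^ 6 := by
        have : q ^ 5 * 2 ≤ q ^ 5 * q := Nat.mul_le_mul_left _ hq2
        rw [pow_succ q 5]
        have := Nat.one_lt_pow (n := 5) (by omega) (show 1 < q by omega)
        omega
      have h9 : q ^ 9 + 1 < q ^ 10 := by
        have : q ^ 9 * 2 ≤ q ^ 9 * q := Nat.mul_le_mul_left _ hq2
        rw [pow_succ q 9]
        have := Nat.one_lt_pow (n := 9) (by omega) (show 1 < q by omega)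
        omega
      refine Nat.mul_lt_mul'' (Nat.mul_lt_mul'' (Nat.mul_lt_mul'' (Nat.mul_lt_mul'' (Nat.mul_lt_mul'' ?_ ?_) ?_) ?_) ?_) ?_
      all_goals first | exact h5 | exact h9 | exact Nat.sub_lt (hpos _) one_pos
  · obtain ⟨e, he, hpq⟩ := hpe 3 (by omega) h
    refine small_of_formula hp he Nat.card_pos.ne' hp.not_dvd_one (g := 1) (N := 12) (M := 17)
      (R := (q ^ 2 - 1) * (q ^ 6 - 1) * (q ^ 8 + q ^ 4 + 1))
      ?_ ?_ (by norm_num) (by norm_num)
    · rw [one_mul, Cfsg.Agent.S1067.result hq h]; ring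
    · rw [one_mul, show 17 = 2 + 6 + 9 by rfl, pow_add, pow_add]
      have h8 : q ^ 8 + q ^ 4 + 1 < q ^ 9 := by
        have : q ^ 8 * 2 ≤ q ^ 8 * q := Nat.mul_le_mul_left _ hq2
        rw [pow_succ q 8]
        have : q ^ 4 + 2 ≤ q ^ 8 := by
          have h4 : 16 ≤ q ^ 4 := le_trans (by norm_num) (Nat.pow_le_pow_left hq2 4)
          rw [show 8 = 4 + 4 by rfl, pow_add]
          nlinarith
        omega
      refine Nat.mul_lt_mul'' (Nat.mul_lt_mul'' ?_ ?_) ?_
      all_goals first | exact h8 | exact Nat.sub_lt (hpos _) one_pos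

end families

theorem suzuki {G : Type*} [Group G] (h : Lie.IsoSuzuki G) : Small 2 (Nat.card G) := by
  obtain ⟨F, _, _, m, hm, hF, ⟨e⟩⟩ := h
  rw [Nat.card_congr (e.trans (H57.lieSzEquiv hm hF).symm).toEquiv, H57.card_sz hm hF]
  set q := 2 ^ (2 * m + 1) with hq
  have hq2 : 2 ≤ q := Nat.le_self_pow (by omega) 2
  have h2 : 0 < q - 1 := by omega
  refine small_of_formula Nat.prime_two hq (by positivity) Nat.prime_two.not_dvd_one (g := 1)
    (N := 2) (M := 3) (R := (q ^ 2 + 1) * (q - 1)) ?_ ?_ (by norm_num) (by norm_num)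
  · rw [one_mul, mul_assoc]
  · rw [one_mul]
    obtain ⟨r, hr⟩ : ∃ r, q = r + 2 := ⟨q - 2, by omega⟩
    rw [hr, show r + 2 - 1 = r + 1 by omega]
    nlinarith

/-- the conclusion for every family, given the orders of the two large Ree families -/
theorem bound_of_isLieTypeChar
    (h2F4 : ∀ (K : Type) [Field K] [Fintype K] (m : ℕ), Fintype.card K = 2 ^ (2 * m + 1) →
      Nat.card ↥(Lie.twistedF4 K (2 ^ m)) = (2 ^ (2 * m + 1)) ^ 12 * (2 ^ (2 * m + 1) - 1) *
        ((2 ^ (2 * m + 1)) ^ 3 + 1) * ((2 ^ (2 * m + 1)) ^ 4 - 1) * ((2 ^ (2 * m + 1)) ^ 6 + 1))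
    (h2G2 : ∀ (K : Type) [Field K] [Fintype K] (m : ℕ), Fintype.card K = 3 ^ (2 * m + 1) →
      Nat.card ↥(Lie.twistedG2 K (3 ^ m)) =
        (3 ^ (2 * m + 1)) ^ 3 * (3 ^ (2 * m + 1) - 1) * ((3 ^ (2 * m + 1)) ^ 3 + 1))
    {G : Type*} [Group G] [Finite G] (p : ℕ) (hp : p.Prime) (hG : IsLieTypeChar p G) :
    Nat.card G < p ^ (3 * (Nat.card G).factorization p) ∧
      ((¬ ∃ (F : Type) (_ : Field F) (_ : Fintype F),
          Fintype.card F = p ^ (Nat.card G).factorization p ∧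
          Nonempty (G ≃* Matrix.ProjectiveSpecialLinearGroup (Fin 2) F)) →
        Nat.card G ^ 3 < p ^ (8 * (Nat.card G).factorization p)) := by
  have of_small : ∀ {H : Type} [Group H], Nonempty (G ≃* H) → Small p (Nat.card H) →
      Nat.card G < p ^ (3 * (Nat.card G).factorization p) ∧
      ((¬ ∃ (F : Type) (_ : Field F) (_ : Fintype F),
          Fintype.card F = p ^ (Nat.card G).factorization p ∧
          Nonempty (G ≃* Matrix.ProjectiveSpecialLinearGroup (Fin 2) F)) →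
        Nat.card G ^ 3 < p ^ (8 * (Nat.card G).factorization p)) := by
    intro H _ ⟨e⟩ hs
    rw [Nat.card_congr e.toEquiv]
    exact ⟨hs.1, fun _ => hs.2⟩
  rcases hG with h | h | h | h | h | h | h | h | ⟨rfl, h⟩ | ⟨rfl, h⟩ | ⟨rfl, h⟩
  · obtain ⟨F, _, _, _, n, hn, -, ⟨e⟩⟩ := h
    obtain ⟨h2, h3⟩ := psl hp (F := F) n hn
    rcases hn.eq_or_lt with rfl | hn3
    · obtain ⟨hk, hlt⟩ := h2 rfl
      rw [Nat.card_congr e.toEquiv]
      refine ⟨hlt, fun hno => absurd ⟨F, inferInstance, inferInstance, ?_, ⟨e⟩⟩ hno⟩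
      rw [hk]
      obtain ⟨f, -, hf⟩ := exists_card_eq hp (F := F)
      rw [hf, Nat.log_pow hp.one_lt]
    · exact of_small ⟨e⟩ (h3 hn3)
  · obtain ⟨F, _, _, _, m, hm, -, e⟩ := h
    exact of_small e (psp hp m hm)
  · obtain ⟨F, _, _, _, n, q, hF, hn, -, e⟩ := h
    exact of_small e (psu hp n q hF hn)
  · obtain ⟨F, _, _, _, m, hm, hodd, e⟩ := h
    exact of_small e (pomega_odd hp m hm hodd)
  · obtain ⟨F, _, _, _, m, hm, e⟩ := h
    exact of_small e (pomega_plus hp m hm)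
  · obtain ⟨F, _, _, _, m, a, b, hm, hab, e⟩ := h
    exact of_small e (pomega_minus hp m a b hm hab)
  · obtain ⟨F, _, _, _, ⟨hG2, e⟩ | e | e | e | e⟩ := h
    · exact of_small e (exceptional hp hG2)
    · exact of_small e (chevF4 hp)
    · exact of_small e (chevE6 hp)
    · exact of_small e (chevE7 hp)
    · exact of_small e (chevE8 hp)
  · obtain ⟨K, _, _, _, q, hq, ⟨hK, e⟩ | ⟨hK, e⟩⟩ := h
    · exact of_small e ((twisted hp q hq).1 hK)
    · exact of_small e ((twisted hp q hq).2 hK)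
  · have hs := suzuki h
    exact ⟨hs.1, fun _ => hs.2⟩
  · obtain ⟨K, _, _, m, hm, hK, e⟩ := h
    refine of_small e ?_
    rw [h2F4 K m hK]
    set q := 2 ^ (2 * m + 1) with hq
    have hq2 : 2 ≤ q := Nat.le_self_pow (by omega) 2
    have hpos : ∀ k, 0 < q ^ k := fun k => pow_pos (by omega) k
    refine small_of_formula hp hq ?_ hp.not_dvd_one (g := 1) (N := 12) (M := 16)
      (R := (q - 1) * (q ^ 3 + 1) * (q ^ 4 - 1) * (q ^ 6 + 1)) ?_ ?_ (by norm_num) (by norm_num)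
    · have h1 : 0 < q - 1 := by omega
      have h4 : 0 < q ^ 4 - 1 := by
        have := Nat.one_lt_pow (n := 4) (by omega) (show 1 < q by omega); omega
      positivity
    · rw [one_mul]; ring
    · rw [one_mul, show 16 = 1 + 4 + 4 + 7 by rfl, pow_add, pow_add, pow_add, pow_one]
      have h3 : q ^ 3 + 1 < q ^ 4 := by
        have : q ^ 3 * 2 ≤ q ^ 3 * q := Nat.mul_le_mul_left _ hq2
        rw [pow_succ q 3]
        have := Nat.one_lt_pow (n := 3) (by omega) (show 1 < q by omega)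
        omega
      have h6 : q ^ 6 + 1 < q ^ 7 := by
        have : q ^ 6 * 2 ≤ q ^ 6 * q := Nat.mul_le_mul_left _ hq2
        rw [pow_succ q 6]
        have := Nat.one_lt_pow (n := 6) (by omega) (show 1 < q by omega)
        omega
      refine Nat.mul_lt_mul'' (Nat.mul_lt_mul'' (Nat.mul_lt_mul'' ?_ ?_) ?_) ?_
      all_goals omega
  · obtain ⟨K, _, _, m, hm, hK, e⟩ := h
    refine of_small e ?_
    rw [h2G2 K m hK]
    set q := 3 ^ (2 * m + 1) with hq
    have hq2 : 3 ≤ q := Nat.le_self_pow (by omega) 3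
    have h1 : 0 < q - 1 := by omega
    refine small_of_formula hp hq ?_ hp.not_dvd_one (g := 1) (N := 3) (M := 4)
      (R := (q - 1) * (q ^ 3 + 1)) ?_ ?_ (by norm_num) (by norm_num)
    · positivity
    · rw [one_mul, mul_assoc]
    · rw [one_mul]
      obtain ⟨r, hr⟩ : ∃ r, q = r + 1 := ⟨q - 1, by omega⟩
      rw [hr, Nat.add_sub_cancel]
      nlinarith [Nat.zero_le r, sq_nonneg r]

end H40.LieBound
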