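import Mathlib
import Cfsg.Agent.H40.GL2Count

/-!
# The split classes of SL₂ in odd characteristic.
-/

set_option autoImplicit false

open Matrix

namespace H40

variable {F : Type*} [Field F]

theorem trace2_isConj_iff (h2 : (2 : F) ≠ 0) {g h : Matrix.SpecialLinearGroup (Fin 2) F}
    (hg : ¬ IsScalar2 (g : Matrix (Fin 2) (Fin 2) F))
    (hh : ¬ IsScalar2 (h : Matrix (Fin 2) (Fin 2) F))
    (ht : (g : Matrix (Fin 2) (Fin 2) F).trace = (h : Matrix (Fin 2) (Fin 2) F).trace)
    (hD : (g : Matrix (Fin 2) (Fin 2) F).trace ^ 2 = 4)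
    (P : Matrix (Fin 2) (Fin 2) F) (hP : P.det ≠ 0)
    (hPg : P * (g : Matrix (Fin 2) (Fin 2) F) = (h : Matrix (Fin 2) (Fin 2) F) * P) :
    IsConj g h ↔ IsSquare P.det := by
  obtain ⟨δ, hδ, hset⟩ := exists_intertwiner_det hg hh ht (by rw [g.2, h.2])
  have key : ∀ a b : F, a ^ 2 + a * b * (g : Matrix (Fin 2) (Fin 2) F).trace +
      b ^ 2 * (g : Matrix (Fin 2) (Fin 2) F).det =
      (a + b * ((g : Matrix (Fin 2) (Fin 2) F).trace / 2)) ^ 2 := by
    intro a b
    rw [g.2]
    field_simp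
    linear_combination (-b ^ 2) * hD
  obtain ⟨a, b, hab⟩ := (hset P.det).1 ⟨P, rfl, hPg⟩
  rw [key] at hab
  rw [isConj_SL2_iff_exists]
  constructor
  · intro h1
    obtain ⟨a', b', hab'⟩ := (hset 1).1 h1
    rw [key] at hab'
    refine ⟨(a + b * ((g : Matrix (Fin 2) (Fin 2) F).trace / 2)) /
      (a' + b' * ((g : Matrix (Fin 2) (Fin 2) F).trace / 2)), ?_⟩
    have : (a' + b' * ((g : Matrix (Fin 2) (Fin 2) F).trace / 2)) ≠ 0 := by
      intro h0; rw [h0] at hab'; simp at hab'
    generalize a + b * ((g : Matrix (Fin 2) (Fin 2) F).trace / 2) = u at hab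
    generalize a' + b' * ((g : Matrix (Fin 2) (Fin 2) F).trace / 2) = w at hab' this
    rw [hab]
    field_simp
    linear_combination (-u ^ 2) * hab'
  · rintro ⟨r, hr⟩
    refine (hset 1).2 ⟨(a + b * ((g : Matrix (Fin 2) (Fin 2) F).trace / 2)) / r, 0, ?_⟩
    have hr0 : r ≠ 0 := by intro h0; rw [h0] at hr; simp at hr; exact hP hr
    generalize a + b * ((g : Matrix (Fin 2) (Fin 2) F).trace / 2) = u at hab
    field_simp
    linear_combination hab - hr

/-- A representative of the twisted class with trace `t`. -/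
def twist2 (ε : Fˣ) (t : F) : Matrix.SpecialLinearGroup (Fin 2) F :=
  ⟨!![0, -(ε⁻¹ : Fˣ); (ε : F), t], by simp [Matrix.det_fin_two]⟩

/-- The representative with trace `t`. -/
def compSL (t : F) : Matrix.SpecialLinearGroup (Fin 2) F :=
  ⟨comp2 t 1, det_comp2 t 1⟩

lemma trace_compSL (t : F) : (compSL t : Matrix (Fin 2) (Fin 2) F).trace = t := trace_comp2 t 1

lemma ns_compSL (t : F) : ¬ IsScalar2 (compSL t : Matrix (Fin 2) (Fin 2) F) :=
  not_isScalar2_comp2 t 1

lemma trace_twist2 (ε : Fˣ) (t : F) : (twist2 ε t : Matrix (Fin 2) (Fin 2) F).trace = t := by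
  simp [twist2, Matrix.trace_fin_two]

lemma ns_twist2 (ε : Fˣ) (t : F) : ¬ IsScalar2 (twist2 ε t : Matrix (Fin 2) (Fin 2) F) := by
  intro h
  simpa [twist2] using h.2.1

lemma twist2_intertwiner (ε : Fˣ) (t : F) :
    (Matrix.diagonal ![(1 : F), ε]) * (compSL t : Matrix (Fin 2) (Fin 2) F) =
      (twist2 ε t : Matrix (Fin 2) (Fin 2) F) * Matrix.diagonal ![(1 : F), ε] := by
  ext i j
  fin_cases i <;> fin_cases j <;>
    simp [twist2, compSL, comp2, Matrix.mul_apply, Fin.sum_univ_two, mul_comm]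

theorem not_isConj_comp_twist (h2 : (2 : F) ≠ 0) {ε : Fˣ} (hε : ¬ IsSquare (ε : F)) {t : F}
    (ht : t ^ 2 = 4) : ¬ IsConj (compSL t) (twist2 ε t) := by
  rw [trace2_isConj_iff h2 (ns_compSL t) (ns_twist2 ε t) (by rw [trace_compSL, trace_twist2])
    (by rw [trace_compSL, ht]) _ (by simp) (twist2_intertwiner ε t)]
  simpa using hε

theorem isConj_comp_or_twist [Finite F] (h2 : (2 : F) ≠ 0) {ε : Fˣ} (hε : ¬ IsSquare (ε : F))
    {g : Matrix.SpecialLinearGroup (Fin 2) F} (hg : ¬ IsScalar2 (g : Matrix (Fin 2) (Fin 2) F))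
    {t : F} (ht : (g : Matrix (Fin 2) (Fin 2) F).trace = t) (hD : t ^ 2 = 4) :
    IsConj g (compSL t) ∨ IsConj g (twist2 ε t) := by
  classical
  cases nonempty_fintype F
  obtain ⟨P, hP, hPg⟩ := exists_intertwiner hg (ns_compSL t) (by rw [ht, trace_compSL])
    (by rw [g.2, (compSL t).2])
  by_cases hsq : IsSquare P.det
  · exact Or.inl ((trace2_isConj_iff h2 hg (ns_compSL t) (by rw [ht, trace_compSL])
      (by rw [ht, hD]) P hP hPg).2 hsq)
  · refine Or.inr ((trace2_isConj_iff h2 hg (ns_twist2 ε t) (by rw [ht, trace_twist2])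
      (by rw [ht, hD]) (Matrix.diagonal ![(1 : F), ε] * P) ?_ ?_).2 ?_)
    · rw [det_mul]; exact mul_ne_zero (by simp) hP
    · rw [Matrix.mul_assoc, hPg, ← Matrix.mul_assoc, twist2_intertwiner, Matrix.mul_assoc]
    · rw [det_mul]
      have hd : (Matrix.diagonal ![(1 : F), ε]).det = ε := by simp
      rw [hd]
      have hchar : ringChar F ≠ 2 := by
        intro hh
        apply h2
        have := (ringChar.spec F 2).2 (by rw [hh])
        exact_mod_cast this
      refine (FiniteField.isSquare_iff hchar (mul_ne_zero ε.ne_zero hP)).2 ?_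
      rw [mul_pow,
        (FiniteField.pow_dichotomy hchar ε.ne_zero).resolve_left
          (fun h => hε ((FiniteField.isSquare_iff hchar ε.ne_zero).2 h)),
        (FiniteField.pow_dichotomy hchar hP).resolve_left
          (fun h => hsq ((FiniteField.isSquare_iff hchar hP).2 h))]
      norm_num

end H40
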