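import Mathlib

/-!
# Translation subgroup of SL_{m+1}, its characters in cross characteristic.
-/

set_option autoImplicit false

open Matrix

namespace H40

variable {F : Type*} [Field F]

/-- transitivity of SL on non-zero vectors -/
theorem exists_SL_mulVec_eq {m : ℕ} (hm : 2 ≤ m) {u v : Fin m → F} (hu : u ≠ 0) (hv : v ≠ 0) :
    ∃ A : Matrix.SpecialLinearGroup (Fin m) F, (A : Matrix (Fin m) (Fin m) F) *ᵥ u = v := by
  classical
  have indep : ∀ a b : Fin m → F, a ≠ 0 → b ∉ Submodule.span F {a} →
      ∃ A : Matrix.SpecialLinearGroup (Fin m) F, (A : Matrix (Fin m) (Fin m) F) *ᵥ a = b := by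
    intro a b ha hb
    have hli : LinearIndependent F ![a, b] := by
      refine (LinearIndependent.pair_iff' ha).2 fun c hc => hb ?_
      exact Submodule.mem_span_singleton.2 ⟨c, hc⟩
    obtain ⟨g, hg⟩ := LinearMap.exists_extend
      (((Pi.basisFun F (Fin 2)).constr F (fun _ => (1 : F))) ∘ₗ
        ((Pi.basisFun F (Fin 2)).equivFun.symm.toLinearMap ∘ₗ
          (Finsupp.linearEquivFunOnFinite F F (Fin 2)).toLinearMap) ∘ₗ hli.repr)
    have key : ∀ i : Fin 2, g (![a, b] i) = 1 := by
      intro i
      have := LinearMap.congr_fun hg ⟨![a, b] i, Submodule.subset_span ⟨i, rfl⟩⟩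
      simp only [LinearMap.comp_apply, Submodule.subtype_apply] at this
      rw [this, hli.repr_eq_single i _ rfl]
      fin_cases i <;> simp
    let f : Fin m → F := (dotProductEquiv F (Fin m)).symm g
    have hf : ∀ x, f ⬝ᵥ x = g x := fun x => by
      have h := (dotProductEquiv F (Fin m)).apply_symm_apply g
      conv_rhs => rw [← h]
      rfl
    let T : Matrix (Fin m) (Fin m) F := 1 + vecMulVec (b - a) f
    have hT : T.det = 1 := by
      show (1 + vecMulVec (b - a) f).det = 1
      rw [vecMulVec_eq (Fin 1), det_one_add_replicateCol_mul_replicateRow, hf, map_sub]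
      have h0 := key 0; have h1 := key 1
      simp only [Matrix.cons_val_zero, Matrix.cons_val_one] at h0 h1
      rw [h0, h1, sub_self, add_zero]
    refine ⟨⟨T, hT⟩, ?_⟩
    show T *ᵥ a = b
    have h0 := key 0
    simp only [Matrix.cons_val_zero] at h0
    simp only [T, add_mulVec, one_mulVec, vecMulVec_mulVec, hf, h0, MulOpposite.op_one, one_smul]
    abel
  have prop : ∃ w : Fin m → F, w ∉ Submodule.span F {u} ∧ v ∉ Submodule.span F {w} ∨ v ∉ Submodule.span F {u} := by
    by_cases h : v ∈ Submodule.span F {u}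
    · obtain ⟨c, rfl⟩ := Submodule.mem_span_singleton.1 h
      have : Submodule.span F {u} ≠ ⊤ := by
        intro htop
        have h1 := finrank_span_singleton (K := F) hu
        rw [htop, finrank_top, Module.finrank_fin_fun] at h1
        omega
      obtain ⟨w, hw⟩ : ∃ w, w ∉ Submodule.span F {u} := by
        by_contra hall
        push Not at hall
        exact this (Submodule.eq_top_iff'.2 hall)
      refine ⟨w, Or.inl ⟨hw, fun hcw => hw ?_⟩⟩
      obtain ⟨d, hd⟩ := Submodule.mem_span_singleton.1 hcw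
      have hd0 : d ≠ 0 := by
        rintro rfl
        rw [zero_smul] at hd
        exact hv hd.symm
      refine Submodule.mem_span_singleton.2 ⟨d⁻¹ * c, ?_⟩
      rw [mul_smul, ← hd, inv_smul_smul₀ hd0]
    · exact ⟨u, Or.inr h⟩
  obtain ⟨w, ⟨h1, h2⟩ | h⟩ := prop
  · obtain ⟨A, hA⟩ := indep u w hu h1
    obtain ⟨B, hB⟩ := indep w v (by rintro rfl; exact h1 (Submodule.zero_mem _)) h2
    refine ⟨B * A, ?_⟩
    show ((B : Matrix (Fin m) (Fin m) F) * (A : Matrix (Fin m) (Fin m) F)) *ᵥ u = v
    rw [← mulVec_mulVec, hA, hB]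
  · exact indep u v hu h

/-- A non-trivial additive character in an algebraically closed field of another characteristic. -/
theorem exists_addChar_ne_one [Fintype F] (E : Type*) [Field E] [IsAlgClosed E]
    (p : ℕ) [Fact p.Prime] [CharP F p] (hpE : (p : E) ≠ 0) : ∃ ψ : AddChar F E, ψ ≠ 1 := by
  haveI : NeZero (p : E) := ⟨hpE⟩
  obtain ⟨ζ, hζ⟩ := HasEnoughRootsOfUnity.exists_primitiveRoot E p
  letI : Algebra (ZMod p) F := ZMod.algebra F p
  obtain ⟨l, hl⟩ : ∃ l : F →ₗ[ZMod p] ZMod p, l ≠ 0 :=
    ⟨Algebra.trace (ZMod p) F, Algebra.trace_ne_zero _ _⟩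
  refine ⟨(AddChar.zmodChar p hζ.pow_eq_one).compAddMonoidHom l.toAddMonoidHom, ?_⟩
  intro h
  apply hl
  refine LinearMap.ext fun x => ?_
  have h1 := DFunLike.congr_fun h x
  simp only [AddChar.compAddMonoidHom_apply, AddChar.one_apply, AddChar.zmodChar_apply,
    LinearMap.toAddMonoidHom_coe] at h1
  have h2 := (hζ.pow_eq_one_iff_dvd _).1 h1
  have h3 : (l x).val = 0 := Nat.eq_zero_of_dvd_of_lt h2 (ZMod.val_lt _)
  simpa using h3

section translation

variable {m : ℕ}

/-- the translation `[[1, x], [0, 1]]` -/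
def transl (x : Fin m → F) : Matrix (Fin (m + 1)) (Fin (m + 1)) F :=
  Matrix.of (Fin.cons (Fin.cons 1 x) (fun i => Fin.cons 0 ((1 : Matrix (Fin m) (Fin m) F) i)))

/-- the Levi element `[[1, 0], [0, A]]` -/
def levi (A : Matrix (Fin m) (Fin m) F) : Matrix (Fin (m + 1)) (Fin (m + 1)) F :=
  Matrix.of (Fin.cons (Fin.cons 1 0) (fun i => Fin.cons 0 (A i)))

theorem det_transl (x : Fin m → F) : (transl x).det = 1 := by
  rw [det_succ_column_zero, Fin.sum_univ_succ]
  simp [transl, submatrix]
  convert det_one (R := F) (n := Fin m) using 2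
  ext i j
  simp

theorem det_levi (A : Matrix (Fin m) (Fin m) F) : (levi A).det = A.det := by
  rw [det_succ_column_zero, Fin.sum_univ_succ]
  simp [levi, submatrix]
  congr 1

/-- the translation as an element of SL -/
def translSL (x : Fin m → F) : Matrix.SpecialLinearGroup (Fin (m + 1)) F :=
  ⟨transl x, det_transl x⟩

/-- the Levi element in SL -/
def leviSL (A : Matrix.SpecialLinearGroup (Fin m) F) : Matrix.SpecialLinearGroup (Fin (m + 1)) F :=
  ⟨levi (A : Matrix (Fin m) (Fin m) F), (det_levi _).trans A.2⟩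

theorem translSL_add (x y : Fin m → F) : translSL (x + y) = translSL x * translSL y := by
  apply Subtype.ext
  show transl (x + y) = transl x * transl y
  ext i j
  refine Fin.cases ?_ (fun i => ?_) i <;> refine Fin.cases ?_ (fun j => ?_) j <;>
    simp [transl, Matrix.mul_apply, Fin.sum_univ_succ, Matrix.one_apply, add_comm]

theorem levi_transl (A : Matrix.SpecialLinearGroup (Fin m) F) (y : Fin m → F) :
    leviSL A * translSL (y ᵥ* (A : Matrix (Fin m) (Fin m) F)) = translSL y * leviSL A := by
  apply Subtype.ext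
  show levi (A : Matrix (Fin m) (Fin m) F) * transl _ = transl y * levi _
  ext i j
  refine Fin.cases ?_ (fun i => ?_) i <;> refine Fin.cases ?_ (fun j => ?_) j <;>
    simp [transl, levi, Matrix.mul_apply, Fin.sum_univ_succ, Matrix.one_apply, Matrix.vecMul,
      dotProduct]

theorem translSL_notMem_center {x : Fin m → F} (hx : x ≠ 0) :
    translSL x ∉ Subgroup.center (Matrix.SpecialLinearGroup (Fin (m + 1)) F) := by
  intro h
  obtain ⟨c, -, hc⟩ := Matrix.SpecialLinearGroup.mem_center_iff.1 h
  apply hx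
  funext j
  have := congrFun (congrFun hc 0) j.succ
  simpa [translSL, transl, Fin.ext_iff] using this.symm

/-- The translation subgroup bounds the degree of a representation not trivial on it. -/
theorem card_le_dim_of_translation [Fintype F] [DecidableEq F] (hm : 2 ≤ m) {E : Type*} [Field E]
    [IsAlgClosed E] (p : ℕ) [Fact p.Prime] [CharP F p] (hpE : (p : E) ≠ 0) {d : ℕ}
    (ρ : Matrix.SpecialLinearGroup (Fin (m + 1)) F →* Matrix (Fin d) (Fin d) E)
    (hρ : ∃ x, ρ (translSL x) ≠ 1) :
    Fintype.card F ^ m - 1 ≤ d := by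
  classical
  obtain ⟨ψ, hψ⟩ := exists_addChar_ne_one (F := F) E p hpE
  let ψw : (Fin m → F) → AddChar (Fin m → F) E := fun w =>
    { toFun := fun x => ψ (x ⬝ᵥ w)
      map_zero_eq_one' := by simp
      map_add_eq_mul' := fun x y => by simp [add_dotProduct, AddChar.map_add_eq_mul] }
  have hsum : ∀ w : Fin m → F, w ≠ 0 → ∑ x : Fin m → F, ψ (x ⬝ᵥ w) = 0 := by
    intro w hw
    refine AddChar.sum_eq_zero_of_ne_one (ψ := ψw w) ?_
    intro h
    obtain ⟨j, hj⟩ := Function.ne_iff.1 hw
    apply hψ
    refine DFunLike.ext _ _ fun a => ?_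
    have h1 := DFunLike.congr_fun h (Pi.single j (a / w j))
    change ψ (Pi.single j (a / w j) ⬝ᵥ w) = _ at h1
    rw [single_dotProduct, div_mul_cancel₀ a hj] at h1
    simpa using h1
  let R : (Fin m → F) → Matrix (Fin d) (Fin d) E := fun x => ρ (translSL x)
  have hR : ∀ x y, R (x + y) = R x * R y := fun x y => by simp only [R, translSL_add, map_mul]
  let e : (Fin m → F) → Matrix (Fin d) (Fin d) E := fun w => ∑ x, ψ (-(x ⬝ᵥ w)) • R x
  have hmul : ∀ w w', e w * e w' = (∑ x, ψ (x ⬝ᵥ (w' - w))) • e w' := by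
    intro w w'
    simp only [e, Finset.sum_mul, Finset.mul_sum, Finset.sum_smul, Finset.smul_sum]
    rw [Finset.sum_comm]
    conv_rhs => rw [Finset.sum_comm]
    refine Finset.sum_congr rfl fun x _ => ?_
    refine Fintype.sum_equiv (Equiv.addLeft x) _ _ fun z => ?_
    simp only [Equiv.coe_addLeft, smul_mul_smul_comm, ← hR, smul_smul, ← AddChar.map_add_eq_mul]
    congr 2
    simp [dotProduct_sub, add_dotProduct]
    ring
  have hN : ((Fintype.card (Fin m → F) : ℕ) : E) ≠ 0 := by
    obtain ⟨f, -, hcard⟩ := FiniteField.card F p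
    rw [Fintype.card_fun, hcard, Nat.cast_pow, Nat.cast_pow]
    exact pow_ne_zero _ (pow_ne_zero _ hpE)
  have hdiag : ∀ w, e w * e w = (Fintype.card (Fin m → F) : E) • e w := by
    intro w; rw [hmul]; simp
  have hoff : ∀ w w', w ≠ w' → e w * e w' = 0 := by
    intro w w' h; rw [hmul, hsum _ (sub_ne_zero.2 h.symm), zero_smul]
  have htot : ∑ w, e w = (Fintype.card (Fin m → F) : E) • R 0 := by
    simp only [e]
    rw [Finset.sum_comm, Finset.sum_eq_single (0 : Fin m → F)]
    · simp [← Finset.sum_smul, ← Nat.cast_smul_eq_nsmul E]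
    · intro x _ hx
      rw [← Finset.sum_smul]
      have : ∑ w : Fin m → F, ψ (-(x ⬝ᵥ w)) = 0 := by
        have h := hsum (-x) (neg_ne_zero.2 hx)
        rw [← h]
        exact Finset.sum_congr rfl fun w _ => by rw [dotProduct_neg, dotProduct_comm x w]
      rw [this, zero_smul]
    · simp
  have hR0 : R 0 = 1 := by
    have : translSL (0 : Fin m → F) = 1 := by
      have h := translSL_add (0 : Fin m → F) 0
      rw [add_zero] at h
      exact mul_eq_left.1 h.symm
    simp only [R, this, map_one]
  have hex : ∃ w, w ≠ 0 ∧ e w ≠ 0 := by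
    by_contra hno
    push Not at hno
    obtain ⟨x, hx⟩ := hρ
    apply hx
    have h0 : e 0 = (Fintype.card (Fin m → F) : E) • (1 : Matrix (Fin d) (Fin d) E) := by
      rw [← hR0, ← htot, Finset.sum_eq_single (0 : Fin m → F) (fun w _ hw => hno w hw) (by simp)]
    have h2 : e 0 * R x = e 0 := by
      simp only [e, dotProduct_zero, neg_zero, AddChar.map_zero_eq_one, one_smul, Finset.sum_mul, ← hR]
      exact Fintype.sum_equiv (Equiv.addRight x) _ _ fun _ => rfl
    rw [h0, smul_mul_assoc, one_mul] at h2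
    exact smul_right_injective _ hN h2
  obtain ⟨w₁, hw₁, hew₁⟩ := hex
  have hall : ∀ w, w ≠ 0 → e w ≠ 0 := by
    intro w hw
    obtain ⟨A, hA⟩ := exists_SL_mulVec_eq hm hw₁ hw
    have key : ρ (leviSL A) * e w₁ = e w * ρ (leviSL A) := by
      simp only [e, Finset.mul_sum, Finset.sum_mul, R]
      refine (Fintype.sum_bijective (fun y => y ᵥ* (A : Matrix (Fin m) (Fin m) F)) ?_ _ _ fun y => ?_).symm
      · have hu : IsUnit (A : Matrix (Fin m) (Fin m) F) := by
          rw [Matrix.isUnit_iff_isUnit_det, A.2]; exact isUnit_one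
        exact ⟨vecMul_injective_iff_isUnit.2 hu, vecMul_surjective_iff_isUnit.2 hu⟩
      · rw [mul_smul_comm, smul_mul_assoc, ← map_mul, ← map_mul, levi_transl,
          ← dotProduct_mulVec, hA]
    intro h0
    rw [h0, zero_mul] at key
    apply hew₁
    have h1 := congrArg (ρ (leviSL A)⁻¹ * ·) key
    simpa [← mul_assoc, ← map_mul] using h1
  have hcol : ∀ w : {w : Fin m → F // w ≠ 0}, ∃ j, (fun i => e w.1 i j) ≠ 0 := by
    intro w
    by_contra hno
    push Not at hno
    exact hall w.1 w.2 (Matrix.ext fun i j => congrFun (hno j) i)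
  choose j hj using hcol
  have hmv : ∀ (w : Fin m → F) (u : {w : Fin m → F // w ≠ 0}),
      e w *ᵥ (fun i => e u.1 i (j u)) = fun i => (e w * e u.1) i (j u) := fun w u => rfl
  have hli : LinearIndependent E fun u : {w : Fin m → F // w ≠ 0} => (fun i => e u.1 i (j u)) := by
    rw [Fintype.linearIndependent_iff]
    intro g hg u
    have h1 := congrArg (fun v => e u.1 *ᵥ v) hg
    simp only [Matrix.mulVec_sum, Matrix.mulVec_smul, mulVec_zero, hmv] at h1
    rw [Finset.sum_eq_single u] at h1
    · rw [hdiag] at h1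
      rcases smul_eq_zero.1 h1 with h | h
      · exact h
      · exfalso
        apply hj u
        funext i
        have := congrFun h i
        simp only [Matrix.smul_apply, Pi.zero_apply, smul_eq_mul, mul_eq_zero] at this
        exact this.resolve_left hN
    · intro b _ hb
      rw [hoff u.1 b.1 (fun h => hb (Subtype.ext h).symm)]
      exact smul_zero _
    · simp
  have := hli.fintype_card_le_finrank
  rw [Module.finrank_fin_fun, Fintype.card_subtype_compl, Fintype.card_subtype_eq,
    Fintype.card_fun, Fintype.card_fin] at this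
  exact this

end translation

end H40
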