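import Cfsg.Agent.H12.Orth
import Cfsg.Agent.H40.CrossChar

/-!
# Irreducible representations of SL_{m+1} with a vector fixed by the stabiliser of a point
-/

set_option autoImplicit false

open Matrix Module

namespace H40.MinDeg

variable {F : Type*} [Field F] [Fintype F]

omit [Fintype F] in
theorem leviSL_mulVec {m : ℕ} (A : SpecialLinearGroup (Fin m) F) (a : F) (z : Fin m → F) :
    (leviSL A : Matrix (Fin (m + 1)) (Fin (m + 1)) F) *ᵥ Fin.cons a z =
      Fin.cons a ((A : Matrix (Fin m) (Fin m) F) *ᵥ z) := by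
  funext i
  refine Fin.cases ?_ (fun i => ?_) i <;>
    simp [leviSL, levi, mulVec, dotProduct, Fin.sum_univ_succ]

omit [Fintype F] in
theorem translSL_mulVec {m : ℕ} (x : Fin m → F) (a : F) (z : Fin m → F) :
    (translSL x : Matrix (Fin (m + 1)) (Fin (m + 1)) F) *ᵥ Fin.cons a z =
      Fin.cons (a + x ⬝ᵥ z) z := by
  funext i
  refine Fin.cases ?_ (fun i => ?_) i <;>
    simp [translSL, transl, mulVec, dotProduct, Fin.sum_univ_succ, Matrix.one_apply]

omit [Fintype F] in
/-- the stabiliser of the first point is transitive off its line -/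
theorem exists_stab_mulVec {m : ℕ} (hm : 2 ≤ m) {a a' : F} {z z' : Fin m → F} (hz : z ≠ 0)
    (hz' : z' ≠ 0) :
    ∃ k : SpecialLinearGroup (Fin (m + 1)) F,
      (k : Matrix (Fin (m + 1)) (Fin (m + 1)) F) *ᵥ Fin.cons 1 0 = Fin.cons 1 0 ∧
      (k : Matrix (Fin (m + 1)) (Fin (m + 1)) F) *ᵥ Fin.cons a z = Fin.cons a' z' := by
  classical
  obtain ⟨A, hA⟩ := exists_SL_mulVec_eq hm hz hz'
  obtain ⟨j, hj⟩ := Function.ne_iff.1 hz'
  refine ⟨translSL (Pi.single j ((a' - a) / z' j)) * leviSL A, ?_, ?_⟩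
  · show ((translSL (Pi.single j ((a' - a) / z' j)) : Matrix (Fin (m + 1)) (Fin (m + 1)) F) *
      (leviSL A : Matrix (Fin (m + 1)) (Fin (m + 1)) F)) *ᵥ _ = _
    rw [← mulVec_mulVec, leviSL_mulVec, mulVec_zero, translSL_mulVec]
    simp
  · show ((translSL (Pi.single j ((a' - a) / z' j)) : Matrix (Fin (m + 1)) (Fin (m + 1)) F) *
      (leviSL A : Matrix (Fin (m + 1)) (Fin (m + 1)) F)) *ᵥ _ = _
    rw [← mulVec_mulVec, leviSL_mulVec, hA, translSL_mulVec,
      single_dotProduct, div_mul_cancel₀ _ hj, add_sub_cancel]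

variable [DecidableEq F]
variable {V : Type*} [AddCommGroup V] [Module ℂ V] [FiniteDimensional ℂ V]

/-- The degree of an irreducible representation with a vector fixed by a point stabiliser. -/
theorem degree_of_stab_fixed {m : ℕ} (hm : 2 ≤ m)
    (ρ : Representation ℂ (SpecialLinearGroup (Fin (m + 1)) F) V) [ρ.IsIrreducible]
    (hd : 2 ≤ finrank ℂ V) {v₀ : V} (hv₀ : v₀ ≠ 0)
    (hfix₀ : ∀ g : SpecialLinearGroup (Fin (m + 1)) F,
      (g : Matrix (Fin (m + 1)) (Fin (m + 1)) F) *ᵥ Fin.cons 1 0 = Fin.cons 1 0 → ρ g v₀ = v₀) :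
    (Fintype.card F - 1) * finrank ℂ V = Fintype.card F ^ (m + 1) - Fintype.card F ∨
      (Fintype.card F - 1) * finrank ℂ V = Fintype.card F ^ (m + 1) - 1 := by
  classical
  let e : Fin (m + 1) → F := Fin.cons 1 0
  have he : e ≠ 0 := fun h => by simpa [e] using congrFun h 0
  let act : SpecialLinearGroup (Fin (m + 1)) F → (Fin (m + 1) → F) → (Fin (m + 1) → F) :=
    fun g w => (g : Matrix (Fin (m + 1)) (Fin (m + 1)) F) *ᵥ w
  have act_mul : ∀ g h w, act (g * h) w = act g (act h w) := fun g h w => (mulVec_mulVec _ _ _).symm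
  have act_one : ∀ w, act 1 w = w := fun w => by simp [act]
  have act_inv : ∀ g w w', act g w = w' → act g⁻¹ w' = w := fun g w w' h => by
    rw [← h, ← act_mul, inv_mul_cancel, act_one]
  have act_smul : ∀ g (a : F) w, act g (a • w) = a • act g w := fun g a w => mulVec_smul _ _ _
  have act_ne : ∀ g w, w ≠ 0 → act g w ≠ 0 := fun g w hw h => hw (by
    have := act_inv g w 0 h
    simpa [act] using this.symm)
  -- a fixed vector which is an eigenvector for the scalars of the line
  obtain ⟨ζ, hζ⟩ := IsCyclic.exists_generator (α := Fˣ)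
  obtain ⟨h₀, hh₀⟩ := exists_SL_mulVec_eq (m := m + 1) (by omega) he
    (smul_ne_zero ζ.ne_zero he : (ζ : F) • e ≠ 0)
  let W : Submodule ℂ V :=
    { carrier := {v | ∀ g, act g e = e → ρ g v = v}
      add_mem' := fun {a b} ha hb g hg => by rw [map_add, ha g hg, hb g hg]
      zero_mem' := fun g _ => map_zero _
      smul_mem' := fun c x hx g hg => by rw [map_smul, hx g hg] }
  have hW : ∀ w ∈ W, ρ h₀ w ∈ W := by
    intro w hw g hg
    have h1 : act (h₀⁻¹ * g * h₀) e = e := by
      rw [act_mul, act_mul]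
      show act h₀⁻¹ (act g (act h₀ e)) = e
      rw [show act h₀ e = (ζ : F) • e from hh₀, act_smul, hg]
      exact act_inv _ _ _ hh₀
    have h2 := hw _ h1
    conv_rhs => rw [← h2]
    rw [← Module.End.mul_apply, ← map_mul, ← Module.End.mul_apply, ← map_mul]
    congr 2
    group
  have : Nontrivial W := Submodule.nontrivial_iff_ne_bot.2 fun h => hv₀ (by
    have : v₀ ∈ W := hfix₀
    rwa [h, Submodule.mem_bot] at this)
  obtain ⟨μ, hμ⟩ := Module.End.exists_eigenvalue (K := ℂ) ((ρ h₀).restrict hW)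
  obtain ⟨v', hv'⟩ := hμ.exists_hasEigenvector
  obtain ⟨v, hvW⟩ := v'
  have hv : v ≠ 0 := fun h => hv'.2 (Subtype.ext h)
  have hveig : ρ h₀ v = μ • v := congrArg Subtype.val hv'.apply_eq_smul
  -- the orbit map
  have hg : ∀ w : Fin (m + 1) → F, ∃ g, w ≠ 0 → act g e = w := by
    intro w
    by_cases hw : w = 0
    · exact ⟨1, fun h => absurd hw h⟩
    · obtain ⟨g, hg⟩ := exists_SL_mulVec_eq (m := m + 1) (by omega) he hw
      exact ⟨g, fun _ => hg⟩
  choose gw hgw using hg
  let u : (Fin (m + 1) → F) → V := fun w => if w = 0 then 0 else ρ (gw w) v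
  have hu : ∀ g w, act g e = w → u w = ρ g v := by
    intro g w hgwe
    have hw : w ≠ 0 := hgwe ▸ act_ne g e he
    simp only [u, if_neg hw]
    have h1 : act (g⁻¹ * gw w) e = e := by rw [act_mul, hgw w hw]; exact act_inv _ _ _ hgwe
    have h2 := hvW _ h1
    conv_rhs => rw [← h2]
    rw [← Module.End.mul_apply, ← map_mul, mul_inv_cancel_left]
  have hline : ∀ a : F, a ≠ 0 → ∃ α : ℂ, u (a • e) = α • v := by
    intro a ha
    obtain ⟨j, hj⟩ : ∃ j : ℕ, ζ ^ j = Units.mk0 a ha :=
      (mem_powers_iff_mem_zpowers.2 (hζ _))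
    have key : ∀ j : ℕ, act (h₀ ^ j) e = ((ζ : F) ^ j) • e ∧ ρ (h₀ ^ j) v = μ ^ j • v := by
      intro j
      induction j with
      | zero => simp [act]
      | succ j ih =>
        refine ⟨?_, ?_⟩
        · rw [pow_succ, act_mul, show act h₀ e = (ζ : F) • e from hh₀, act_smul, ih.1, smul_smul,
            pow_succ']
        · rw [pow_succ, map_mul, Module.End.mul_apply, hveig, map_smul, ih.2, smul_smul, pow_succ']
    refine ⟨μ ^ j, ?_⟩
    rw [hu (h₀ ^ j) (a • e) ?_, (key j).2]
    rw [(key j).1, ← Units.val_pow_eq_pow_val, hj]; rfl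
  -- an invariant functional
  obtain ⟨φ₀, hφ₀⟩ : ∃ φ₀ : Module.Dual ℂ V, φ₀ v = 1 := by
    obtain ⟨φ₁, hφ₁⟩ : ∃ φ₁ : Module.Dual ℂ V, φ₁ v ≠ 0 := by
      by_contra h
      push Not at h
      exact hv ((Module.forall_dual_apply_eq_zero_iff ℂ v).1 h)
    exact ⟨(φ₁ v)⁻¹ • φ₁, by simp [inv_mul_cancel₀ hφ₁]⟩
  let K : Finset (SpecialLinearGroup (Fin (m + 1)) F) := Finset.univ.filter fun g => act g e = e
  have hK : (K.card : ℂ) ≠ 0 := by
    have : (1 : SpecialLinearGroup (Fin (m + 1)) F) ∈ K := by simp [K, act_one]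
    exact_mod_cast (Finset.card_pos.2 ⟨1, this⟩).ne'
  let φ : Module.Dual ℂ V := (K.card : ℂ)⁻¹ • ∑ k ∈ K, φ₀.comp (ρ k)
  have hφv : φ v = 1 := by
    simp only [φ, LinearMap.smul_apply, LinearMap.sum_apply, LinearMap.comp_apply, smul_eq_mul]
    rw [Finset.sum_congr rfl (fun k hk => by rw [hvW k (by simpa [K] using hk), hφ₀])]
    simp [hK]
  have hφK : ∀ k, act k e = e → ∀ x, φ (ρ k x) = φ x := by
    intro k hk x
    simp only [φ, LinearMap.smul_apply, LinearMap.sum_apply, LinearMap.comp_apply]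
    congr 1
    refine Finset.sum_nbij' (fun g => g * k) (fun g => g * k⁻¹) ?_ ?_ ?_ ?_ ?_
    · intro g hg'
      simp only [Finset.mem_coe, K, Finset.mem_filter, Finset.mem_univ, true_and] at hg' ⊢
      rw [act_mul, hk, hg']
    · intro g hg'
      simp only [Finset.mem_coe, K, Finset.mem_filter, Finset.mem_univ, true_and] at hg' ⊢
      rw [act_mul, act_inv _ _ _ hk, hg']
    · intros; simp
    · intros; simp
    · intro g _; rw [map_mul, Module.End.mul_apply]
  let β : (Fin (m + 1) → F) → Module.Dual ℂ V :=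
    fun w => if w = 0 then 0 else φ.comp (ρ (gw w)⁻¹)
  have hβ : ∀ g w, act g e = w → ∀ x, β w x = φ (ρ g⁻¹ x) := by
    intro g w hgwe x
    have hw : w ≠ 0 := hgwe ▸ act_ne g e he
    simp only [β, if_neg hw, LinearMap.comp_apply]
    have h1 : act ((gw w)⁻¹ * g) e = e := by rw [act_mul, hgwe]; exact act_inv _ _ _ (hgw w hw)
    conv_rhs => rw [← hφK _ h1]
    rw [← Module.End.mul_apply, ← map_mul, mul_inv_cancel_right]
  have hu_act : ∀ g w, u (act g w) = ρ g (u w) := by
    intro g w
    by_cases hw : w = 0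
    · subst hw; simp [u, act]
    · rw [hu (g * gw w) (act g w) (by rw [act_mul, hgw w hw]), hu (gw w) w (hgw w hw), map_mul,
        Module.End.mul_apply]
  have hβ_act : ∀ g w x, β (act g w) (ρ g x) = β w x := by
    intro g w x
    by_cases hw : w = 0
    · subst hw; simp [β, act]
    · rw [hβ (g * gw w) (act g w) (by rw [act_mul, hgw w hw]), hβ (gw w) w (hgw w hw),
        ← Module.End.mul_apply, ← map_mul, _root_.mul_inv_rev, inv_mul_cancel_right]
  have hβu : ∀ w, w ≠ 0 → β w (u w) = 1 := by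
    intro w hw
    rw [hβ (gw w) w (hgw w hw), hu (gw w) w (hgw w hw), ← Module.End.mul_apply, ← map_mul,
      inv_mul_cancel, map_one, Module.End.one_apply, hφv]
  have hue : u e = v := by rw [hu 1 e (act_one e), map_one, Module.End.one_apply]
  have hβe : ∀ x, β e x = φ x := fun x => by
    rw [hβ 1 e (act_one e), inv_one, map_one, Module.End.one_apply]
  -- the intertwining operator
  let E : Module.End ℂ V := ∑ w, (β w).smulRight (u w)
  have hEcomm : ∀ g, ρ g ∘ₗ E = E ∘ₗ ρ g := by
    intro g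
    apply LinearMap.ext
    intro x
    simp only [LinearMap.comp_apply, E, LinearMap.sum_apply, LinearMap.smulRight_apply, map_sum,
      map_smul]
    refine Fintype.sum_bijective (act g) ⟨fun a b hab => ?_, fun b => ?_⟩ _ _ fun w => ?_
    · have h1 := act_inv g a _ rfl
      rw [hab, act_inv g b _ rfl] at h1
      exact h1.symm
    · exact ⟨act g⁻¹ b, by rw [← act_mul, mul_inv_cancel, act_one]⟩
    · rw [hu_act, hβ_act]
  obtain ⟨lam, hlam⟩ : ∃ lam : ℂ, E = lam • (1 : Module.End ℂ V) :=
    H12.exists_scalar_of_commute ρ E fun g => (hEcomm g).symm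
  have htr : lam * (finrank ℂ V : ℂ) = ((Fintype.card F : ℂ) ^ (m + 1) - 1) := by
    have h1 : LinearMap.trace ℂ V E = ∑ w, β w (u w) := by
      simp only [E, map_sum, LinearMap.trace_smulRight]
    rw [hlam, map_smul, LinearMap.trace_one, smul_eq_mul] at h1
    rw [h1, ← Finset.sum_erase_add _ _ (Finset.mem_univ (0 : Fin (m + 1) → F)),
      Finset.sum_congr rfl fun w hw => hβu w (Finset.ne_of_mem_erase hw)]
    simp [β, Nat.cast_sub (Nat.one_le_pow _ _ Fintype.card_pos)]
  -- values on the two orbits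
  let z₁ : Fin m → F := Pi.single ⟨0, by omega⟩ 1
  have hz₁ : z₁ ≠ 0 := by simp [z₁]
  let y : Fin (m + 1) → F := Fin.cons 0 z₁
  let b : ℂ := φ (u y)
  have hoff : ∀ (a : F) (z : Fin m → F), z ≠ 0 → φ (u (Fin.cons a z)) = b := by
    intro a z hz
    obtain ⟨k, hk1, hk2⟩ := exists_stab_mulVec hm (a := (0 : F)) (a' := a) hz₁ hz
    rw [show (Fin.cons a z : Fin (m + 1) → F) = act k y from hk2.symm, hu_act, hφK k hk1]
  have hsame : ∀ w, ¬ (Fin.tail w = 0) → φ (u w) = b := fun w hw => by
    rw [← Fin.cons_self_tail w]; exact hoff _ _ hw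
  have hcons : ∀ a : F, (Fin.cons a 0 : Fin (m + 1) → F) = a • e := fun a => by
    funext i; refine Fin.cases ?_ (fun i => ?_) i <;> simp [e]
  have htail : ∀ w : Fin (m + 1) → F, Fin.tail w = 0 → w = w 0 • e := fun w h => by
    conv_lhs => rw [← Fin.cons_self_tail w, h, hcons]
  have hβb : ∀ w, w ≠ 0 → ¬ (Fin.tail w = 0) → β w v = b := by
    intro w hw0 hw
    rw [hβ (gw w) w (hgw w hw0), ← hu (gw w)⁻¹ (act (gw w)⁻¹ e) rfl]
    refine hsame _ fun h => hw ?_
    have h1 := htail _ h
    set a := act (gw w)⁻¹ e 0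
    have h2 := congrArg (act (gw w)) h1
    rw [act_smul, hgw w hw0, ← act_mul, mul_inv_cancel, act_one] at h2
    have h3 : ∀ i : Fin m, (0 : F) = a * w i.succ := fun i => by
      have := congrFun h2 i.succ
      simpa [e] using this
    have ha : a ≠ 0 := fun ha => he (by rw [h2, ha, zero_smul])
    funext i
    exact (mul_eq_zero.1 (h3 i).symm).resolve_left ha
  have hαβ : ∀ a : F, a ≠ 0 → ∀ y', β (a • e) v * β y' (u (a • e)) = β y' v := by
    intro a ha y'
    obtain ⟨α, hα⟩ := hline a ha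
    have h1 := hβu _ (smul_ne_zero ha he)
    rw [hα, map_smul, smul_eq_mul] at h1 ⊢
    rw [← mul_assoc, mul_comm _ α, h1, one_mul]
  have hEv : ∀ y', ∑ w, β w v * β y' (u w) = lam * β y' v := by
    intro y'
    have h1 : β y' (E v) = lam * β y' v := by rw [hlam]; simp
    rw [← h1]
    simp [E, map_sum]
  -- splitting the sum over the vectors
  have hsplit : ∀ G : (Fin (m + 1) → F) → ℂ, G 0 = 0 → (∑ w, G w) =
      (∑ a ∈ Finset.univ.erase (0 : F), G (a • e)) +
        ∑ a : F, ∑ z ∈ Finset.univ.erase (0 : Fin m → F), G (Fin.cons a z) := by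
    intro G hG
    rw [← Fintype.sum_equiv (Fin.consEquiv fun _ => F) (fun p => G (Fin.cons p.1 p.2)) G
      (fun _ => rfl), Fintype.sum_prod_type, ← Finset.sum_congr rfl fun a _ =>
        Finset.add_sum_erase Finset.univ (fun z => G (Fin.cons a z)) (Finset.mem_univ 0),
      Finset.sum_add_distrib]
    congr 1
    rw [← Finset.add_sum_erase Finset.univ _ (Finset.mem_univ (0 : F))]
    simp only [hcons]
    rw [zero_smul, hG, zero_add]
  set q : ℂ := (Fintype.card F : ℂ) with hq
  have hcard1 : ((Finset.univ.erase (0 : F)).card : ℂ) = q - 1 := by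
    rw [Finset.card_erase_of_mem (Finset.mem_univ _), Finset.card_univ,
      Nat.cast_sub Fintype.card_pos]; simp [hq]
  have hcard2 : ((Finset.univ.erase (0 : Fin m → F)).card : ℂ) = q ^ m - 1 := by
    rw [Finset.card_erase_of_mem (Finset.mem_univ _), Finset.card_univ, Fintype.card_fun,
      Fintype.card_fin, Nat.cast_sub (Nat.one_le_pow _ _ Fintype.card_pos)]
    simp [hq]
  have hcz : ∀ (a : F) (z : Fin m → F), z ≠ 0 →
      (Fin.cons a z : Fin (m + 1) → F) ≠ 0 ∧ ¬ (Fin.tail (Fin.cons a z : Fin (m + 1) → F) = 0) := fun a z hz =>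
    ⟨fun h => hz (funext fun i => by simpa using congrFun h i.succ), by rw [Fin.tail_cons]; exact hz⟩
  -- first equation: evaluate at multiples of e
  have eq1 : ∀ s : F, s ≠ 0 → (q - 1) * β (s • e) v + (q ^ (m + 1) - q) * (b * b) =
      lam * β (s • e) v := by
    intro s hs
    rw [← hEv, hsplit _ (by simp [u]), Finset.sum_congr rfl (fun a ha =>
      hαβ a (Finset.ne_of_mem_erase ha) (s • e)), Finset.sum_const, nsmul_eq_mul, hcard1]
    congr 1
    rw [Finset.sum_congr rfl (fun a _ => Finset.sum_congr rfl (g := fun _ => b * b) fun z hz => ?_)]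
    · simp only [Finset.sum_const, nsmul_eq_mul, Finset.card_univ, hcard2, ← hq]
      ring
    · have hz0 : z ≠ 0 := Finset.ne_of_mem_erase hz
      rw [hβb _ (hcz a z hz0).1 (hcz a z hz0).2]
      congr 1
      have hse : s • e ≠ 0 := smul_ne_zero hs he
      rw [hβ (gw (s • e)) _ (hgw _ hse), ← hu_act]
      refine hsame _ fun h => (hcz a z hz0).2 ?_
      have h1 := congrArg (act (gw (s • e))) (htail _ h)
      rw [act_smul, hgw _ hse, ← act_mul, mul_inv_cancel, act_one] at h1
      funext i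
      have := congrFun h1 i.succ
      simpa [e] using this
  have hd0 : (finrank ℂ V : ℂ) ≠ 0 := by exact_mod_cast (show finrank ℂ V ≠ 0 by omega)
  have hdD : lam = q - 1 →
      (Fintype.card F - 1) * finrank ℂ V = Fintype.card F ^ (m + 1) - 1 := by
    intro h
    rw [h] at htr
    have : (((Fintype.card F - 1) * finrank ℂ V : ℕ) : ℂ) =
        ((Fintype.card F ^ (m + 1) - 1 : ℕ) : ℂ) := by
      rw [Nat.cast_mul, Nat.cast_sub Fintype.card_pos,
        Nat.cast_sub (Nat.one_le_pow _ _ Fintype.card_pos), Nat.cast_pow]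
      simpa [hq] using htr
    exact_mod_cast this
  have hβee : β ((1 : F) • e) v = 1 := by rw [one_smul, hβe, hφv]
  by_cases hα : ∀ s : F, s ≠ 0 → β (s • e) v = 1
  swap
  · push Not at hα
    obtain ⟨s, hs, hs1⟩ := hα
    have h1 := eq1 1 one_ne_zero
    have h2 := eq1 s hs
    rw [hβee] at h1
    have : (lam - (q - 1)) * (β (s • e) v - 1) = 0 := by linear_combination h1 - h2
    exact Or.inr (hdD (sub_eq_zero.1 ((mul_eq_zero.1 this).resolve_right (sub_ne_zero.2 hs1))))
  have h1 := eq1 1 one_ne_zero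
  rw [hβee] at h1
  -- second equation: evaluate at y
  have hy0 : y ≠ 0 := (hcz 0 z₁ hz₁).1
  have hβy : β y v = b := hβb _ hy0 (hcz 0 z₁ hz₁).2
  have hu1 : ∀ t : F, t ≠ 0 → φ (u (t • e)) = 1 := by
    intro t ht
    have h2 := hαβ t ht e
    rw [hβe, hβe, hφv, hα t ht, one_mul] at h2
    exact h2
  have hterm : ∀ (a : F) (z : Fin m → F), z ≠ 0 →
      β y (u (Fin.cons a z)) = if a = 0 ∧ ∃ t : F, z = t • z₁ then 1 else b := by
    intro a z hz
    rw [hβ (gw y) y (hgw y hy0), ← hu_act]
    split_ifs with hc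
    · obtain ⟨rfl, t, rfl⟩ := hc
      have ht : t ≠ 0 := fun h => hz (by rw [h, zero_smul])
      have : (Fin.cons 0 (t • z₁) : Fin (m + 1) → F) = t • y := by
        funext i; refine Fin.cases ?_ (fun i => ?_) i <;> simp [y]
      rw [this, act_smul, act_inv _ _ _ (hgw y hy0), hu1 t ht]
    · refine hsame _ fun h => hc ?_
      have h2 := congrArg (act (gw y)) (htail _ h)
      rw [act_smul, hgw y hy0, ← act_mul, mul_inv_cancel, act_one] at h2
      refine ⟨?_, act (gw y)⁻¹ (Fin.cons a z) 0, funext fun i => ?_⟩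
      · simpa [y] using congrFun h2 0
      · simpa [y] using congrFun h2 i.succ
  have eq2 : (q - 1) * b + ((q ^ (m + 1) - q - (q - 1)) * (b * b) + (q - 1) * b) = lam * b := by
    rw [← hβy, ← hEv, hβy, hsplit _ (by simp [u]), Finset.sum_congr rfl (fun a ha =>
      hαβ a (Finset.ne_of_mem_erase ha) y), Finset.sum_const, nsmul_eq_mul, hcard1, hβy]
    congr 1
    have hinner : ∀ a : F, (∑ z ∈ Finset.univ.erase (0 : Fin m → F),
        β (Fin.cons a z) v * β y (u (Fin.cons a z))) =
        (q ^ m - 1) * (b * b) + if a = 0 then (q - 1) * (b - b * b) else 0 := by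
      intro a
      rw [Finset.sum_congr rfl (g := fun z => b * b +
        if a = 0 ∧ ∃ t : F, z = t • z₁ then b - b * b else 0) (fun z hz => ?_),
        Finset.sum_add_distrib, Finset.sum_const, nsmul_eq_mul, hcard2]
      · congr 1
        by_cases ha : a = 0
        · simp only [ha, true_and, if_true, ← Finset.sum_filter]
          rw [Finset.sum_const, nsmul_eq_mul, ← hcard1]
          congr 2
          refine (Finset.card_nbij (fun t : F => t • z₁) ?_ ?_ ?_).symm
          · intro t ht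
            simp only [Finset.mem_coe, Finset.mem_erase, Finset.mem_univ, and_true,
              Finset.mem_filter] at ht ⊢
            exact ⟨smul_ne_zero ht hz₁, t, rfl⟩
          · exact fun t _ t' _ h => smul_left_injective F hz₁ h
          · intro z hz
            simp only [Finset.mem_coe, Finset.mem_erase, Finset.mem_univ, and_true,
              Finset.mem_filter] at hz
            obtain ⟨hz0, t, rfl⟩ := hz
            exact ⟨t, by simpa using fun h => hz0 (by rw [h, zero_smul]), rfl⟩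
        · simp [ha]
      · have hz0 : z ≠ 0 := Finset.ne_of_mem_erase hz
        rw [hβb _ (hcz a z hz0).1 (hcz a z hz0).2, hterm a z hz0]
        split_ifs <;> ring
    rw [Finset.sum_congr rfl fun a _ => hinner a, Finset.sum_add_distrib, Finset.sum_const,
      nsmul_eq_mul, Finset.sum_ite_eq' Finset.univ (0 : F), Finset.card_univ, ← hq]
    simp only [Finset.mem_univ, if_true]
    ring
  by_cases hb : b = 0
  · rw [hb] at h1
    exact Or.inr (hdD (by linear_combination -h1))
  have h3 : (b - 1) * ((q ^ (m + 1) - q) * b + (q - 1)) = 0 := by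
    apply mul_left_cancel₀ hb
    linear_combination b * h1 - eq2
  rcases mul_eq_zero.1 h3 with h | h
  · exfalso
    have hb1 : b = 1 := by linear_combination h
    have hl : lam = q ^ (m + 1) - 1 := by rw [hb1] at h1; linear_combination -h1
    have hne : q ^ (m + 1) - 1 ≠ 0 := by
      have : ((Fintype.card F ^ (m + 1) : ℕ) : ℂ) ≠ ((1 : ℕ) : ℂ) := by
        exact_mod_cast (Nat.one_lt_pow (by omega) Fintype.one_lt_card).ne'
      simpa [sub_ne_zero, hq] using this
    rw [hl] at htr
    have : (finrank ℂ V : ℂ) = 1 := mul_left_cancel₀ hne (by rw [htr, mul_one])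
    have : finrank ℂ V = 1 := by exact_mod_cast this
    omega
  · left
    have hne : (q ^ (m + 1) - 1) ≠ 0 := by
      intro h0
      rw [h0] at htr
      rcases mul_eq_zero.1 htr with h' | h'
      · have h5 : (q - 1) * ((finrank ℂ V : ℂ) * 0) = 0 := by ring
        have : ((Fintype.card F ^ (m + 1) : ℕ) : ℂ) = ((1 : ℕ) : ℂ) := by
          push_cast; linear_combination h0
        have := Nat.one_lt_pow (n := m + 1) (by omega) (Fintype.one_lt_card (α := F))
        have h6 : Fintype.card F ^ (m + 1) = 1 := by exact_mod_cast ‹((Fintype.card F ^ (m + 1) : ℕ) : ℂ) = ((1 : ℕ) : ℂ)›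
        omega
      · exact hd0 h'
    have h4 : (q - 1) * (finrank ℂ V : ℂ) = q ^ (m + 1) - q := by
      apply mul_left_cancel₀ hne
      have hl : lam * (q ^ (m + 1) - q) = (q - 1) * (q ^ (m + 1) - 1) := by
        linear_combination -(q ^ (m + 1) - q) * h1 + ((q ^ (m + 1) - q) * b - (q - 1)) * h
      linear_combination -(finrank ℂ V : ℂ) * hl + (q ^ (m + 1) - q) * htr
    have h7 : (((Fintype.card F - 1) * finrank ℂ V : ℕ) : ℂ) =
        ((Fintype.card F ^ (m + 1) - Fintype.card F : ℕ) : ℂ) := by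
      rw [Nat.cast_mul, Nat.cast_sub Fintype.card_pos, Nat.cast_sub (Nat.le_self_pow (by omega) _),
        Nat.cast_pow]
      simpa [hq] using h4
    exact_mod_cast h7

end H40.MinDeg
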