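import Cfsg.Agent.H40.StarRep
import Cfsg.Agent.H40.FixedVec

/-!
# From SL_{l+2} to the Levi SL_{l+1} for representations with multiplicity one
-/

set_option autoImplicit false
set_option linter.unusedSectionVars false

open Matrix Module

namespace H40.MinDeg

section scalars

variable {F : Type*} [Field F] [Fintype F]

theorem exists_pow_ne_one {k : ℕ} (hk : ¬ (Fintype.card F - 1 ∣ k)) :
    ∃ s : Fˣ, s ^ k ≠ 1 := by
  classical
  obtain ⟨ζ, hζ⟩ := IsCyclic.exists_generator (α := Fˣ)
  refine ⟨ζ, fun h => hk ?_⟩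
  have h1 := orderOf_eq_card_of_forall_mem_zpowers hζ
  rw [Nat.card_eq_fintype_card, Fintype.card_units] at h1
  rw [← h1]
  exact orderOf_dvd_of_pow_eq_one h

end scalars

section rankone

variable {G : Type*} [Group G] {V : Type*} [AddCommGroup V] [Module ℂ V]

theorem exists_scalar_on_line (ρ : Representation ℂ G V) {P : Module.End ℂ V}
    (hidem : P * P = P) (hr : finrank ℂ (LinearMap.range P) = 1) {g : G}
    (hg : ρ g * P = P * ρ g) : ∃ μ : ℂ, μ ≠ 0 ∧ ρ g * P = μ • P := by
  obtain ⟨⟨v, hv⟩, hv0, hspan⟩ := finrank_eq_one_iff'.1 hr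
  have hv0' : v ≠ 0 := fun h => hv0 (Subtype.ext h)
  have hPv : P v = v := by
    obtain ⟨y, rfl⟩ := hv
    rw [← Module.End.mul_apply, hidem]
  have hmem : ρ g v ∈ LinearMap.range P := by
    refine ⟨ρ g v, ?_⟩
    rw [← Module.End.mul_apply, ← hg, Module.End.mul_apply, hPv]
  obtain ⟨μ, hμ⟩ := hspan ⟨ρ g v, hmem⟩
  have hμ' : μ • v = ρ g v := congrArg Subtype.val hμ
  refine ⟨μ, ?_, ?_⟩
  · rintro rfl
    rw [zero_smul] at hμ'
    apply hv0'
    have := congrArg (ρ g⁻¹) hμ'
    rw [map_zero, ← Module.End.mul_apply, ← map_mul, inv_mul_cancel, map_one,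
      Module.End.one_apply] at this
    exact this.symm
  · apply LinearMap.ext
    intro y
    obtain ⟨c, hc⟩ := hspan ⟨P y, LinearMap.mem_range_self P y⟩
    have hc' : c • v = P y := congrArg Subtype.val hc
    rw [Module.End.mul_apply, LinearMap.smul_apply, ← hc', map_smul, ← hμ', smul_comm]

/-- a commutator of elements commuting with a rank one projection acts as one on its range -/
theorem commutator_mul_line (ρ : Representation ℂ G V) {P : Module.End ℂ V}
    (hidem : P * P = P) (hr : finrank ℂ (LinearMap.range P) = 1) {g h x : G}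
    (hg : ρ g * P = P * ρ g) (hh : ρ h * P = P * ρ h) (hx : g * h = x * (h * g)) :
    ρ x * P = P := by
  obtain ⟨α, hα0, hα⟩ := exists_scalar_on_line ρ hidem hr hg
  obtain ⟨β, hβ0, hβ⟩ := exists_scalar_on_line ρ hidem hr hh
  have e : ρ (g * h) * P = (β * α) • P := by
    rw [map_mul, mul_assoc, hβ, mul_smul_comm, hα, smul_smul]
  rw [hx, map_mul, mul_assoc, map_mul, mul_assoc, hα, mul_smul_comm, hβ, smul_smul,
    mul_smul_comm, mul_comm α β] at e
  exact smul_right_injective _ (mul_ne_zero hβ0 hα0) e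

end rankone

variable {F : Type*} [Field F] [Fintype F] [DecidableEq F] {l : ℕ} [NeZero l]
variable {V : Type*} [AddCommGroup V] [Module ℂ V] [FiniteDimensional ℂ V]
variable (ρ : Representation ℂ (SpecialLinearGroup (Fin (l + 1 + 1)) F) V)

/-- the root element `1 + a E₀₁` of the Levi complement -/
noncomputable abbrev rootElt (a : F) : SpecialLinearGroup (Fin (l + 1)) F :=
  translSL (Pi.single 0 a)

omit [Fintype F] [DecidableEq F] in
theorem rootElt_mulVec (a : F) (w : Fin (l + 1) → F) :
    (rootElt (l := l) a : Matrix (Fin (l + 1)) (Fin (l + 1)) F) *ᵥ w =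
      Fin.cons (w 0 + a * w (Fin.succ 0)) (Fin.tail w) := by
  conv_lhs => rw [← Fin.cons_self_tail w]
  rw [translSL_mulVec, single_dotProduct]
  rfl

theorem levi_commute_proj {A : SpecialLinearGroup (Fin (l + 1)) F} {w : Fin (l + 1) → F}
    (h : (A : Matrix (Fin (l + 1)) (Fin (l + 1)) F) *ᵥ w = w) :
    ρ (leviSL A) * proj ρ w = proj ρ w * ρ (leviSL A) := by
  rw [levi_mul_proj, h]

/-- when is the step from `SL_{l+2}` to `SL_{l+1}` available -/
def Good (F : Type*) [Fintype F] (l : ℕ) : Prop :=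
  (l = 1 → Fintype.card F ≠ 2 ∧ Fintype.card F ≠ 4) ∧
    (l = 2 → Fintype.card F ≠ 2 ∧ Fintype.card F ≠ 3)

omit [Fintype F] [DecidableEq F] in
theorem commutator_tvec {n : ℕ} {u v f g : Fin n → F} (hfu : f ⬝ᵥ u = 0) (hgv : g ⬝ᵥ v = 0)
    (hgu : g ⬝ᵥ u = 0) (hfv : f ⬝ᵥ v = 1) :
    tvec u f hfu * tvec v g hgv = tvec u g hgu * (tvec v g hgv * tvec u f hfu) := by
  apply Subtype.ext
  show (1 + vecMulVec u f) * (1 + vecMulVec v g) =
    (1 + vecMulVec u g) * ((1 + vecMulVec v g) * (1 + vecMulVec u f))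
  simp only [mul_add, add_mul, one_mul, mul_one, vecMulVec_mul_vecMulVec, hfv, hgu, hgv,
    one_smul, zero_smul, vecMulVec_zero, add_zero, MulOpposite.op_one, MulOpposite.op_zero,
    mul_zero, zero_add]
  abel

omit [Fintype F] [DecidableEq F] in
theorem tvec_mulVec {n : ℕ} {u f : Fin n → F} (h : f ⬝ᵥ u = 0) {w : Fin n → F}
    (hw : f ⬝ᵥ w = 0) : (tvec u f h : Matrix (Fin n) (Fin n) F) *ᵥ w = w := by
  show (1 + vecMulVec u f) *ᵥ w = w
  rw [add_mulVec, one_mulVec, vecMulVec_mulVec, hw]
  simp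

/-- the general commutator trick -/
theorem rootElt_mul_proj_of_functional (hm : mult₁ ρ = 1) (a : F) {w : Fin (l + 1) → F}
    (hw0 : w ≠ 0) (hw : w (Fin.succ 0) = 0) (f v : Fin (l + 1) → F) (hf0 : f 0 = 0)
    (hfw : f ⬝ᵥ w = 0) (hv : v (Fin.succ 0) = 0) (hfv : f ⬝ᵥ v = 1) :
    ρ (leviSL (rootElt a)) * proj ρ w = proj ρ w := by
  have hfu : f ⬝ᵥ (Fin.cons 1 0 : Fin (l + 1) → F) = 0 := by
    simp [dotProduct, Fin.sum_univ_succ, hf0]
  have hgv : (Fin.cons 0 (Pi.single 0 a) : Fin (l + 1) → F) ⬝ᵥ v = 0 := by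
    have hv1 : v 1 = 0 := by simpa using hv
    simp [dotProduct, Fin.sum_univ_succ, Pi.single_apply, hv1]
  have hgw : (Fin.cons 0 (Pi.single 0 a) : Fin (l + 1) → F) ⬝ᵥ w = 0 := by
    have hw1 : w 1 = 0 := by simpa using hw
    simp [dotProduct, Fin.sum_univ_succ, Pi.single_apply, hw1]
  have hgu : (Fin.cons 0 (Pi.single 0 a) : Fin (l + 1) → F) ⬝ᵥ
      (Fin.cons 1 0 : Fin (l + 1) → F) = 0 := by
    simp [dotProduct, Fin.sum_univ_succ]
  refine commutator_mul_line ρ (by rw [proj_mul_proj, if_pos rfl])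
    ((mult_eq ρ (constOnTransl ρ (by have := NeZero.pos l; omega)) hw0).trans hm)
    (g := leviSL (tvec _ f hfu)) (h := leviSL (tvec v _ hgv))
    (levi_commute_proj ρ (tvec_mulVec _ hfw)) (levi_commute_proj ρ (tvec_mulVec _ hgw)) ?_
  rw [← leviSL_mul, ← leviSL_mul, ← leviSL_mul, rootElt, translSL_eq_tvec]
  exact congrArg leviSL (commutator_tvec hfu hgv hgu hfv)

omit [Fintype F] in
/-- a diagonal element -/
def diagElt {n : ℕ} (d : Fin n → F) (hd : ∏ i, d i = 1) : SpecialLinearGroup (Fin n) F :=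
  ⟨Matrix.diagonal d, by rw [det_diagonal, hd]⟩

omit [Fintype F] in
theorem diag_transl {n : ℕ} (d : Fin (n + 1) → F) (hd : ∏ i, d i = 1) (hd0 : ∀ i, d i ≠ 0)
    (z : Fin n → F) :
    diagElt d hd * translSL z = translSL (fun j => d 0 * z j / d j.succ) * diagElt d hd := by
  apply Subtype.ext
  show Matrix.diagonal d * transl z = transl _ * Matrix.diagonal d
  ext i j
  rw [diagonal_mul, mul_diagonal]
  refine Fin.cases ?_ (fun i => ?_) i <;> refine Fin.cases ?_ (fun j => ?_) j <;>
    simp [transl, Matrix.one_apply, hd0]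
  split_ifs with h <;> simp [h]

omit [Fintype F] in
theorem diag_levi {n : ℕ} (d : Fin (n + 1) → F) (hd : ∏ i, d i = 1)
    (A B : SpecialLinearGroup (Fin n) F)
    (hAB : ∀ i j, d (Fin.succ i) * (A : Matrix (Fin n) (Fin n) F) i j =
      (B : Matrix (Fin n) (Fin n) F) i j * d (Fin.succ j)) :
    diagElt d hd * leviSL A = leviSL B * diagElt d hd := by
  apply Subtype.ext
  show Matrix.diagonal d * levi _ = levi _ * Matrix.diagonal d
  ext i j
  rw [diagonal_mul, mul_diagonal]
  refine Fin.cases ?_ (fun i => ?_) i <;> refine Fin.cases ?_ (fun j => ?_) j <;>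
    simp [levi, hAB]

/-- `SL₃`: a torus element fixing the character scales the root -/
theorem rootElt_mul_proj_three (hl : l = 1) (hq : Fintype.card F ≠ 2 ∧ Fintype.card F ≠ 4)
    (hm : mult₁ ρ = 1) (a : F) {w : Fin (l + 1) → F} (hw0 : w ≠ 0) (hw : w (Fin.succ 0) = 0) :
    ρ (leviSL (rootElt a)) * proj ρ w = proj ρ w := by
  subst hl
  obtain ⟨s, hs⟩ := exists_pow_ne_one (F := F) (k := 3) (by
    intro h
    rcases (Nat.dvd_prime Nat.prime_three).1 h with h' | h' <;>
    · have := Fintype.one_lt_card (α := F); omega)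
  set t : F := (s : F) ^ 3 with ht
  have ht1 : t ≠ 1 := fun h => hs (Units.ext (by rw [Units.val_pow_eq_pow_val]; exact h))
  let d : Fin 3 → F := ![(s : F), (s : F), ((s : F) ^ 2)⁻¹]
  have hd0 : ∀ i, d i ≠ 0 := fun i => by fin_cases i <;> simp [d]
  have hd : ∏ i, d i = 1 := by
    simp [d, Fin.prod_univ_three]; field_simp
  let h : SpecialLinearGroup (Fin (1 + 1 + 1)) F := diagElt d hd
  have hh : ρ h * proj ρ w = proj ρ w * ρ h := by
    refine mul_proj_of_normalize ρ h (Equiv.piCongrRight fun j =>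
      Equiv.mulLeft₀ (d 0 / d j.succ) (div_ne_zero (hd0 _) (hd0 _))) (fun z => ?_) w w fun z => ?_
    · rw [diag_transl d hd hd0 z]
      congr 2
      funext j
      show d 0 * z j / d j.succ = d 0 / d j.succ * z j
      ring
    · have h1 : w 1 = 0 := hw
      simp [dotProduct, Fin.sum_univ_succ, h1, Pi.map, d]
  set a' : F := a / (t - 1)
  have hb : ρ (leviSL (rootElt (l := 1) a')) * proj ρ w = proj ρ w * ρ (leviSL (rootElt a')) := by
    refine levi_commute_proj ρ ?_
    rw [rootElt_mulVec, hw, mul_zero, add_zero, Fin.cons_self_tail]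
  refine commutator_mul_line ρ (by rw [proj_mul_proj, if_pos rfl])
    ((mult_eq ρ (constOnTransl ρ (by omega)) hw0).trans hm) hh hb ?_
  rw [← mul_assoc, ← leviSL_mul, ← translSL_add, ← Pi.single_add]
  refine diag_levi d hd _ _ fun i j => ?_
  have ht0 : t - 1 ≠ 0 := sub_ne_zero.2 ht1
  fin_cases i <;> fin_cases j <;>
    simp [rootElt, translSL, transl, d, a', Fin.ext_iff] <;> field_simp
  ring

/-- `SL₄`: a torus element of the Levi complement fixing the character scales the root -/
theorem rootElt_mul_proj_four (hl : l = 2) (hq : Fintype.card F ≠ 2 ∧ Fintype.card F ≠ 3)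
    (hm : mult₁ ρ = 1) (a : F) {w : Fin (l + 1) → F} (hw : w (Fin.succ 0) = 0)
    (hw2 : w (Fin.last l) ≠ 0) :
    ρ (leviSL (rootElt a)) * proj ρ w = proj ρ w := by
  subst hl
  have hw1 : w 1 = 0 := hw
  have hw2' : w 2 ≠ 0 := hw2
  obtain ⟨s, hs⟩ := exists_pow_ne_one (F := F) (k := 2) (by
    intro h
    rcases (Nat.dvd_prime Nat.prime_two).1 h with h' | h' <;>
    · have := Fintype.one_lt_card (α := F); omega)
  set t : F := (s : F) ^ 2 with ht
  have ht1 : t ≠ 1 := fun h => hs (Units.ext (by rw [Units.val_pow_eq_pow_val]; exact h))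
  have ht0 : t - 1 ≠ 0 := sub_ne_zero.2 ht1
  let c : SpecialLinearGroup (Fin 3) F := translSL (Pi.single 1 (-(w 0) / w 2))
  let w' : Fin 3 → F := ![0, 0, w 2]
  have hcw : (c : Matrix (Fin 3) (Fin 3) F) *ᵥ w = w' := by
    conv_lhs => rw [← Fin.cons_self_tail w]
    rw [translSL_mulVec, single_dotProduct]
    funext i
    fin_cases i
    · simp [w', Fin.tail, hw1]; field_simp; ring
    · exact hw1
    · rfl
  have hcx : rootElt (l := 2) a * c = c * rootElt a := by
    rw [← translSL_add, ← translSL_add]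
    exact congrArg translSL (add_comm _ _)
  have key : ρ (leviSL (rootElt (l := 2) a)) * proj ρ w' = proj ρ w' := by
    let d : Fin 3 → F := ![(s : F), ((s : F))⁻¹, 1]
    have hd : ∏ i, d i = 1 := by simp [d, Fin.prod_univ_three]
    let h : SpecialLinearGroup (Fin 3) F := diagElt d hd
    set a' : F := a / (t - 1)
    have hh : (h : Matrix (Fin 3) (Fin 3) F) *ᵥ w' = w' := by
      funext i
      show (Matrix.diagonal d *ᵥ w') i = _
      rw [mulVec_diagonal]
      fin_cases i <;> simp [w', d]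
    have hb : (rootElt (l := 2) a' : Matrix (Fin 3) (Fin 3) F) *ᵥ w' = w' := by
      rw [rootElt_mulVec]
      funext i
      fin_cases i <;> simp [w', Fin.tail]
    refine commutator_mul_line ρ (by rw [proj_mul_proj, if_pos rfl])
      ((mult_eq ρ (constOnTransl ρ (by omega)) ?_).trans hm)
      (g := leviSL h) (h := leviSL (rootElt a')) (levi_commute_proj ρ hh)
      (levi_commute_proj ρ hb) ?_
    · intro h0
      exact hw2' (by simpa [w'] using congrFun h0 2)
    · rw [← leviSL_mul, ← mul_assoc, ← leviSL_mul, ← leviSL_mul, ← translSL_add, ← Pi.single_add]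
      congr 1
      have hd0 : ∀ i, d i ≠ 0 := fun i => by fin_cases i <;> simp [d]
      rw [rootElt, diag_transl d hd hd0]
      congr 2
      funext j
      fin_cases j <;> simp [d, a']
      field_simp
      ring
  have h1 : ρ (leviSL c) * (ρ (leviSL (rootElt (l := 2) a)) * proj ρ w) =
      ρ (leviSL c) * proj ρ w := by
    rw [← mul_assoc, ← map_mul, ← leviSL_mul, ← hcx, leviSL_mul, map_mul, mul_assoc, levi_mul_proj,
      hcw, ← mul_assoc, key]
  have h2 := congrArg (ρ (leviSL c)⁻¹ * ·) h1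
  simpa [← mul_assoc, ← map_mul] using h2

theorem rootElt_mul_proj (hgood : Good F l) (hm : mult₁ ρ = 1) (a : F) {w : Fin (l + 1) → F}
    (hw0 : w ≠ 0) (hw : w (Fin.succ 0) = 0) :
    ρ (leviSL (rootElt a)) * proj ρ w = proj ρ w := by
  by_cases hl : l = 1
  · exact rootElt_mul_proj_three ρ hl (hgood.1 hl) hm a hw0 hw
  have hl2 : 2 ≤ l := by have := NeZero.pos l; omega
  let k : Fin (l + 1) := ⟨2, by omega⟩
  have hk0 : k ≠ 0 := by simp [k, Fin.ext_iff]
  have hk1 : k ≠ Fin.succ 0 := Fin.ne_of_val_ne (by simp [k, Nat.mod_eq_of_lt (show 1 < l + 1 by omega)])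
  by_cases hwk : w k = 0
  · exact rootElt_mul_proj_of_functional ρ hm a hw0 hw (Pi.single k 1) (Pi.single k 1)
      (by simp [hk0.symm]) (by simp [hwk]) (Pi.single_eq_of_ne hk1.symm _) (by simp)
  by_cases hl3 : l = 2
  · refine rootElt_mul_proj_four ρ hl3 (hgood.2 hl3) hm a hw ?_
    rwa [show Fin.last l = k from by simp [k, Fin.ext_iff, hl3]]
  let k' : Fin (l + 1) := ⟨3, by omega⟩
  have hk' : k' ≠ k := by simp [k, k', Fin.ext_iff]
  by_cases hwk' : w k' = 0
  · exact rootElt_mul_proj_of_functional ρ hm a hw0 hw (Pi.single k' 1) (Pi.single k' 1)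
      (by simp [k', Fin.ext_iff]) (by simp [hwk'])
      (Pi.single_eq_of_ne (Fin.ne_of_val_ne (by simp [k', Nat.mod_eq_of_lt (show 1 < l + 1 by omega)])) _) (by simp)
  refine rootElt_mul_proj_of_functional ρ hm a hw0 hw
    (Pi.single k 1 - Pi.single k' (w k / w k')) (Pi.single k 1)
    (by simp [k, k', Fin.ext_iff]) ?_ (Pi.single_eq_of_ne hk1.symm _) ?_
  · rw [sub_dotProduct, single_dotProduct, single_dotProduct, one_mul, div_mul_cancel₀ _ hwk',
      sub_self]
  · rw [sub_dotProduct, single_dotProduct, single_dotProduct, one_mul, Pi.single_eq_same,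
      Pi.single_eq_of_ne hk', mul_zero, sub_zero]

theorem trace_rootElt_mul_proj (hgood : Good F l) (hm : mult₁ ρ = 1) {a : F} (ha : a ≠ 0) :
    LinearMap.trace ℂ V (ρ (leviSL (rootElt (l := l) a)) * proj ρ 0) =
      (cdim ρ : ℂ) - (Fintype.card F : ℂ) ^ l := by
  classical
  have hl2 : 2 ≤ l + 1 := by have := NeZero.pos l; omega
  have hconst := constOnTransl ρ hl2
  have h1 : LinearMap.trace ℂ V (ρ (leviSL (rootElt (l := l) a))) = (cdim ρ : ℂ) - 1 := by
    have : ρ.character (leviSL (rootElt (l := l) a)) = tval ρ := by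
      rw [rootElt, translSL_eq_tvec, leviSL_tvec]
      exact character_tvec ρ hl2 _ (cons_ne_zero fun h => by simpa using congrFun h 0)
        (cons_ne_zero (cons_ne_zero (by simpa using ha)))
    rw [show LinearMap.trace ℂ V (ρ (leviSL (rootElt (l := l) a))) = _ from this,
      tval_eq ρ hconst, hm, Nat.cast_one]
  have hterm : ∀ w : Fin (l + 1) → F, w ≠ 0 →
      LinearMap.trace ℂ V (ρ (leviSL (rootElt (l := l) a)) * proj ρ w) =
        if w (Fin.succ 0) = 0 then 1 else 0 := by
    intro w hw0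
    split_ifs with hw
    · rw [rootElt_mul_proj ρ hgood hm a hw0 hw, trace_proj, mult_eq ρ hconst hw0, hm,
        Nat.cast_one]
    · have hne : (rootElt (l := l) a : Matrix (Fin (l + 1)) (Fin (l + 1)) F) *ᵥ w ≠ w := by
        rw [rootElt_mulVec]
        intro h
        have := congrFun h 0
        rw [Fin.cons_zero, add_eq_left, mul_eq_zero] at this
        exact hw (this.resolve_left ha)
      calc LinearMap.trace ℂ V (ρ (leviSL (rootElt (l := l) a)) * proj ρ w)
          = LinearMap.trace ℂ V (ρ (leviSL (rootElt (l := l) a)) * proj ρ w * proj ρ w) := by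
            rw [mul_assoc, proj_mul_proj, if_pos rfl]
        _ = LinearMap.trace ℂ V (proj ρ w * (ρ (leviSL (rootElt (l := l) a)) * proj ρ w)) :=
            LinearMap.trace_mul_comm _ _ _
        _ = 0 := by
            rw [levi_mul_proj, ← mul_assoc, proj_mul_proj, if_neg hne.symm, zero_mul, map_zero]
  have h2 : LinearMap.trace ℂ V (ρ (leviSL (rootElt (l := l) a))) =
      ∑ w, LinearMap.trace ℂ V (ρ (leviSL (rootElt (l := l) a)) * proj ρ w) := by
    rw [← map_sum, ← Finset.mul_sum, sum_proj, mul_one]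
  rw [h1, ← Finset.add_sum_erase _ _ (Finset.mem_univ (0 : Fin (l + 1) → F)),
    Finset.sum_congr rfl fun w hw => hterm w (Finset.ne_of_mem_erase hw), Finset.sum_boole] at h2
  have hcard : (({w ∈ Finset.univ.erase (0 : Fin (l + 1) → F) | w (Fin.succ 0) = 0}).card : ℂ) =
      (Fintype.card F : ℂ) ^ l - 1 := by
    rw [Finset.filter_erase, Finset.card_erase_of_mem (by simp)]
    have : ({w : Fin (l + 1) → F | w (Fin.succ 0) = 0} : Finset _).card = Fintype.card F ^ l := by
      rw [← Fintype.card_subtype]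
      let e : {w : Fin (l + 1) → F // w (Fin.succ 0) = 0} ≃ (Fin l → F) :=
        { toFun := fun w j => w.1 ((Fin.succ (0 : Fin l)).succAbove j)
          invFun := fun v => ⟨(Fin.succ (0 : Fin l)).insertNth 0 v, by simp⟩
          left_inv := fun w => Subtype.ext (by
            have := Fin.insertNth_self_removeNth (Fin.succ (0 : Fin l)) w.1
            rw [w.2] at this
            exact this)
          right_inv := fun v => funext fun j => by simp }
      rw [Fintype.card_congr e, Fintype.card_fun, Fintype.card_fin]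
    rw [this, Nat.cast_sub (Nat.one_le_pow _ _ Fintype.card_pos)]
    simp
  rw [hcard] at h2
  linear_combination -h2

/-- the representation of the Levi complement on the fixed space of the translations -/
noncomputable def levRep : Representation ℂ (SpecialLinearGroup (Fin (l + 1)) F)
    (LinearMap.range (proj ρ 0)) where
  toFun A := (ρ (leviSL A)).restrict (p := LinearMap.range (proj ρ 0))
    (q := LinearMap.range (proj ρ 0)) (by
      rintro x ⟨y, rfl⟩
      exact ⟨ρ (leviSL A) y, (LinearMap.congr_fun (proj_zero_mul_levi ρ A) y).symm⟩)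
  map_one' := by ext x; simp [leviSL_one]
  map_mul' A B := by ext x; simp [leviSL_mul]

theorem levRep_character (A : SpecialLinearGroup (Fin (l + 1)) F) :
    (levRep ρ).character A = LinearMap.trace ℂ V (ρ (leviSL A) * proj ρ 0) := by
  have hmem : ∀ x, (ρ (leviSL A) * proj ρ 0) x ∈ LinearMap.range (proj ρ 0) := fun x => by
    rw [proj_zero_mul_levi]; exact LinearMap.mem_range_self _ _
  conv_rhs => rw [← LinearMap.subtype_comp_codRestrict _ _ hmem, LinearMap.trace_comp_comm']
  unfold Representation.character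
  congr 1
  apply LinearMap.ext
  rintro ⟨x, y, rfl⟩
  apply Subtype.ext
  show ρ (leviSL A) (proj ρ 0 y) = (ρ (leviSL A) * proj ρ 0) (proj ρ 0 y)
  rw [Module.End.mul_apply, ← Module.End.mul_apply (proj ρ 0), proj_mul_proj, if_pos rfl]

/-- the step: the fixed space is a representation of the same kind for the Levi complement -/
theorem levRep_spec (hgood : Good F l) (hm : mult₁ ρ = 1) :
    ConstOnTransl (levRep ρ) ∧ mult₁ (levRep ρ) = 1 ∧
      cdim ρ = cdim (levRep ρ) + (Fintype.card F ^ l - 1) := by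
  have hval : ∀ a : F, a ≠ 0 →
      (levRep ρ).character (translSL (Pi.single (0 : Fin l) a)) =
        (cdim ρ : ℂ) - (Fintype.card F : ℂ) ^ l :=
    fun a ha => (levRep_character ρ _).trans (trace_rootElt_mul_proj ρ hgood hm ha)
  have hconst : ConstOnTransl (levRep ρ) := by
    rcases Nat.lt_or_ge l 2 with hl | hl
    · have hl1 : l = 1 := by have := NeZero.pos l; omega
      intro x hx
      have hx' : x = Pi.single 0 (x 0) := by
        funext j
        have : j = 0 := by subst hl1; exact Subsingleton.elim _ _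
        rw [this, Pi.single_eq_same]
      have hx0 : x 0 ≠ 0 := fun h => hx (by rw [hx', h, Pi.single_zero])
      rw [hx', tval, hval _ hx0, hval 1 one_ne_zero]
    · exact constOnTransl _ hl
  have hd : finrank ℂ (LinearMap.range (proj ρ 0)) = cdim ρ := rfl
  have h1 : tval (levRep ρ) = (cdim ρ : ℂ) - (Fintype.card F : ℂ) ^ l := hval 1 one_ne_zero
  have h2 := mult_mul_card (levRep ρ) hconst (Pi.single 0 1)
  rw [if_neg (by simp), hd, h1, sub_sub_cancel] at h2
  have hm1 : mult₁ (levRep ρ) = 1 := by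
    have : ((mult₁ (levRep ρ) : ℕ) : ℂ) = 1 :=
      mul_right_cancel₀ (card_pow_ne_zero (F := F) (m := l)) (h2.trans (one_mul _).symm)
    exact_mod_cast this
  refine ⟨hconst, hm1, ?_⟩
  have := finrank_eq (levRep ρ) hconst
  rw [hm1, mul_one, hd] at this
  exact this

end H40.MinDeg
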