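import Mathlib

/-!
# Conjugacy classes of a group with an abelian index-two subgroup inverted by the other elements.
-/

set_option autoImplicit false

namespace H40

variable {G : Type*} [Group G] [Finite G]

theorem card_classes_of_inverted (C : Subgroup G) {c : ℕ} (hc : Nat.card C = c)
    (hG : Nat.card G = 2 * c)
    (hcomm : ∀ x ∈ C, ∀ y ∈ C, x * y = y * x)
    (hinv : ∀ x, x ∉ C → ∀ y ∈ C, x * y * x⁻¹ = y⁻¹)
    (htwo : Nat.card {y : C // (y : G) * y = 1} = 2) :
    2 * Nat.card (ConjClasses G) = c + 6 := by
  classical
  cases nonempty_fintype G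
  have hout : ∀ x, x ∉ C → ∀ z, z ∉ C → x⁻¹ * z ∈ C := by
    intro x hx z hz
    have h2 : C.index = 2 := by
      have := C.card_mul_index
      rw [hc, hG, mul_comm 2 c] at this
      exact Nat.eq_of_mul_eq_mul_left (hc ▸ Nat.card_pos) this
    rw [Subgroup.mul_mem_iff_of_index_two h2, inv_mem_iff]
    exact iff_of_false hx hz
  have key : ∀ x : G, Nat.card {z : G // Commute x z} =
      if x ∈ C then (if x * x = 1 then 2 * c else c) else 4 := by
    intro x
    split_ifs with hx hxx
    · have hall : ∀ z, Commute x z := by
        intro z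
        by_cases hz : z ∈ C
        · exact hcomm x hx z hz
        · have h := hinv z hz x hx
          rw [inv_eq_of_mul_eq_one_right hxx] at h
          exact (mul_inv_eq_iff_eq_mul.1 h).symm
      rw [← hG]
      exact Nat.card_congr (Equiv.subtypeUnivEquiv hall)
    · rw [← hc]
      refine Nat.card_congr (Equiv.subtypeEquivRight fun z => ⟨fun hz => ?_, fun hz => hcomm x hx z hz⟩)
      by_contra hzC
      apply hxx
      have h := hinv z hzC x hx
      rw [← hz.eq, mul_inv_cancel_right] at h
      exact eq_inv_iff_mul_eq_one.1 h
    · have hfix : ∀ y ∈ C, Commute x y ↔ y * y = 1 := by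
        intro y hy
        have h := hinv x hx y hy
        constructor
        · intro hc'
          rw [hc'.eq, mul_inv_cancel_right] at h
          exact eq_inv_iff_mul_eq_one.1 h
        · intro hyy
          rw [inv_eq_of_mul_eq_one_right hyy] at h
          exact mul_inv_eq_iff_eq_mul.1 h
      let S := {y : C // (y : G) * y = 1}
      let e : {z : G // Commute x z} ≃ S ⊕ S :=
        { toFun := fun z => if hz : z.1 ∈ C then Sum.inl ⟨⟨z.1, hz⟩, (hfix _ hz).1 z.2⟩
            else Sum.inr ⟨⟨x⁻¹ * z.1, hout x hx _ hz⟩,
              (hfix _ (hout x hx _ hz)).1 (((Commute.refl x).inv_right).mul_right z.2)⟩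
          invFun := fun s => s.elim (fun y => ⟨y.1.1, (hfix _ y.1.2).2 y.2⟩)
            (fun y => ⟨x * y.1.1, (Commute.refl x).mul_right ((hfix _ y.1.2).2 y.2)⟩)
          left_inv := fun z => by
            by_cases hz : z.1 ∈ C
            · simp [hz]
            · simp [hz]
          right_inv := fun s => by
            rcases s with y | y
            · simp
            · have : x * y.1.1 ∉ C := fun h => hx (by simpa using mul_mem h (inv_mem y.1.2))
              simp [this] }
      rw [Nat.card_congr e, Nat.card_sum, htwo]
  have hsum : Nat.card {p : G × G // Commute p.1 p.2} = ∑ x : G, Nat.card {z : G // Commute x z} := by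
    rw [← Nat.card_sigma]
    exact Nat.card_congr
      { toFun := fun p => ⟨p.1.1, p.1.2, p.2⟩
        invFun := fun s => ⟨(s.1, s.2.1), s.2.2⟩
        left_inv := fun _ => rfl
        right_inv := fun _ => rfl }
  have h1 := card_comm_eq_card_conjClasses_mul_card G
  rw [hsum, Finset.sum_congr rfl (fun x _ => key x), Finset.sum_ite, Finset.sum_ite] at h1
  simp only [Finset.sum_const, smul_eq_mul, Finset.filter_filter] at h1
  have hC : (Finset.univ.filter fun x : G => x ∈ C).card = c := by
    rw [← hc, Nat.card_eq_fintype_card, Fintype.card_subtype]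
  have hS : (Finset.univ.filter fun x : G => x ∈ C ∧ x * x = 1).card = 2 := by
    rw [← htwo, Nat.card_congr (Equiv.subtypeSubtypeEquivSubtypeInter (fun x : G => x ∈ C)
      (fun x => x * x = 1)), Nat.card_eq_fintype_card, Fintype.card_subtype]
  have hnot : (Finset.univ.filter fun x : G => x ∈ C ∧ ¬ x * x = 1).card + 2 = c := by
    rw [← hS, ← hC, add_comm, ← Finset.filter_filter, ← Finset.filter_filter]
    exact Finset.card_filter_add_card_filter_not _
  have hnC : (Finset.univ.filter fun x : G => ¬ x ∈ C).card = c := by
    have h : (Finset.univ.filter fun x : G => x ∈ C).card +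
        (Finset.univ.filter fun x : G => ¬ x ∈ C).card = Fintype.card G :=
      Finset.card_filter_add_card_filter_not _
    rw [hC, ← Nat.card_eq_fintype_card, hG] at h
    omega
  rw [hS, hnC, hG] at h1
  generalize (Finset.univ.filter fun x : G => x ∈ C ∧ ¬ x * x = 1).card = k at hnot h1
  subst hnot
  have : (k + 2) * (k + 2 + 6) = (k + 2) * (2 * Nat.card (ConjClasses G)) := by linarith
  exact (Nat.eq_of_mul_eq_mul_left (by omega) this).symm

end H40
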