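import Mathlib
import Cfsg.Agent.H40.SL2Split
import Cfsg.Agent.H40.InvertedSubgroup
import Cfsg.Agent.H37.Torus

/-!
# Maximal tori of SL₂ in odd characteristic and their normalisers.
-/

set_option autoImplicit false

open Matrix

namespace H40

variable {F : Type*} [Field F]

local notation "S2" => Matrix.SpecialLinearGroup (Fin 2) F

/-- a regular semisimple element -/
def Reg2 (g : Matrix.SpecialLinearGroup (Fin 2) F) : Prop :=
  ¬ IsScalar2 (g : Matrix (Fin 2) (Fin 2) F) ∧ (g : Matrix (Fin 2) (Fin 2) F).trace ^ 2 ≠ 4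

/-- the torus through g -/
def tor (g : Matrix.SpecialLinearGroup (Fin 2) F) :
    Subgroup (Matrix.SpecialLinearGroup (Fin 2) F) :=
  Subgroup.centralizer {g}

theorem mem_tor {g x : S2} : x ∈ tor g ↔ x * g = g * x := Subgroup.mem_centralizer_singleton_iff

theorem exists_poly_of_mem_tor {g x : S2} (hg : Reg2 g) (hx : x ∈ tor g) :
    ∃ a b : F, (x : Matrix (Fin 2) (Fin 2) F) = a • 1 + b • (g : Matrix (Fin 2) (Fin 2) F) :=
  comm_eq_poly hg.1 (congrArg Subtype.val (mem_tor.1 hx))

theorem tor_comm {g x y : S2} (hg : Reg2 g) (hx : x ∈ tor g) (hy : y ∈ tor g) : x * y = y * x := by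
  obtain ⟨a, b, hab⟩ := exists_poly_of_mem_tor hg hx
  apply Subtype.ext
  show (x : Matrix (Fin 2) (Fin 2) F) * (y : Matrix (Fin 2) (Fin 2) F) =
    (y : Matrix (Fin 2) (Fin 2) F) * (x : Matrix (Fin 2) (Fin 2) F)
  have hyg : (y : Matrix (Fin 2) (Fin 2) F) * (g : Matrix (Fin 2) (Fin 2) F) =
      (g : Matrix (Fin 2) (Fin 2) F) * (y : Matrix (Fin 2) (Fin 2) F) :=
    congrArg Subtype.val (mem_tor.1 hy)
  rw [hab]
  simp [Matrix.add_mul, Matrix.mul_add, hyg]

theorem eq_pm_of_scalar {x : S2} (hx : IsScalar2 (x : Matrix (Fin 2) (Fin 2) F)) :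
    x = 1 ∨ x = -1 := by
  obtain ⟨h01, h10, h00⟩ := hx
  have hd := x.2
  rw [det_fin_two, h01, ← h00] at hd
  have h : (x : Matrix (Fin 2) (Fin 2) F) 0 0 * (x : Matrix (Fin 2) (Fin 2) F) 0 0 = 1 := by
    linear_combination hd
  rcases mul_self_eq_one_iff.1 h with h1 | h1
  · left
    ext i j
    fin_cases i <;> fin_cases j <;> simp [h01, h10, ← h00, h1]
  · right
    ext i j
    fin_cases i <;> fin_cases j <;> simp [h01, h10, ← h00, h1]

theorem scalar_neg_one : IsScalar2 ((-1 : S2) : Matrix (Fin 2) (Fin 2) F) := by simp [IsScalar2]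

theorem scalar_one : IsScalar2 ((1 : S2) : Matrix (Fin 2) (Fin 2) F) := by simp [IsScalar2]

theorem comm_of_scalar {x : S2} (hx : IsScalar2 (x : Matrix (Fin 2) (Fin 2) F)) (y : S2) :
    x * y = y * x := by
  apply Subtype.ext
  show (x : Matrix (Fin 2) (Fin 2) F) * (y : Matrix (Fin 2) (Fin 2) F) =
    (y : Matrix (Fin 2) (Fin 2) F) * (x : Matrix (Fin 2) (Fin 2) F)
  obtain ⟨h01, h10, h00⟩ := hx
  ext i j
  fin_cases i <;> fin_cases j <;> simp [mul_apply, Fin.sum_univ_two, h01, h10, ← h00, mul_comm]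

theorem scalar_mem_tor {x : S2} (g : S2) (hx : IsScalar2 (x : Matrix (Fin 2) (Fin 2) F)) :
    x ∈ tor g :=
  mem_tor.2 (comm_of_scalar hx g)

theorem scalar_iff_mem_center {x : S2} :
    x ∈ Subgroup.center S2 ↔ IsScalar2 (x : Matrix (Fin 2) (Fin 2) F) := by
  constructor
  · intro h
    obtain ⟨c, -, hc⟩ := Matrix.SpecialLinearGroup.mem_center_iff.1 h
    rw [← hc]
    simp [IsScalar2]
  · intro h
    exact Subgroup.mem_center_iff.2 fun y => (comm_of_scalar h y).symm

theorem card_center_two (h2 : (2 : F) ≠ 0) :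
    Nat.card (Subgroup.center S2) = 2 := by
  have hset : (Subgroup.center S2 : Set S2) = {1, -1} := by
    ext x
    rw [SetLike.mem_coe, scalar_iff_mem_center]
    constructor
    · exact eq_pm_of_scalar
    · rintro (rfl | rfl)
      · exact scalar_one
      · exact scalar_neg_one
  rw [← SetLike.coe_sort_coe, hset, Nat.card_coe_set_eq, Set.ncard_pair]
  intro h
  have := congrArg (fun z : S2 => (z : Matrix (Fin 2) (Fin 2) F) 0 0) h
  simp at this
  exact h2 (by linear_combination this)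

theorem tor_eq_of_mem {g x : S2} (hg : Reg2 g) (hx : x ∈ tor g)
    (hns : ¬ IsScalar2 (x : Matrix (Fin 2) (Fin 2) F)) : tor x = tor g := by
  obtain ⟨a, b, hab⟩ := exists_poly_of_mem_tor hg hx
  have hb : b ≠ 0 := by
    rintro rfl
    apply hns
    rw [hab]
    simp [IsScalar2]
  ext y
  refine ⟨fun hy => mem_tor.2 ?_, fun hy => mem_tor.2 (tor_comm hg hy hx)⟩
  have h : (y : Matrix (Fin 2) (Fin 2) F) * (x : Matrix (Fin 2) (Fin 2) F) =
      (x : Matrix (Fin 2) (Fin 2) F) * (y : Matrix (Fin 2) (Fin 2) F) :=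
    congrArg Subtype.val (mem_tor.1 hy)
  rw [hab] at h
  simp [Matrix.mul_add, Matrix.add_mul] at h
  exact Subtype.ext (smul_right_injective _ hb h)

theorem poly_coe_inv (g : S2) :
    ((g⁻¹ : S2) : Matrix (Fin 2) (Fin 2) F) =
      (g : Matrix (Fin 2) (Fin 2) F).trace • 1 + (-1 : F) • (g : Matrix (Fin 2) (Fin 2) F) := by
  rw [Matrix.SpecialLinearGroup.coe_inv, Matrix.adjugate_fin_two]
  ext i j
  fin_cases i <;> fin_cases j <;> simp [trace_fin_two]

theorem reg_of_mem_tor (h2 : (2 : F) ≠ 0) {g x : S2} (hg : Reg2 g) (hx : x ∈ tor g)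
    (hns : ¬ IsScalar2 (x : Matrix (Fin 2) (Fin 2) F)) : Reg2 x := by
  obtain ⟨a, b, hab⟩ := exists_poly_of_mem_tor hg hx
  refine ⟨hns, fun htr => ?_⟩
  have hd := x.2
  rw [hab, det_poly, g.2] at hd
  rw [hab, trace_add, trace_smul, trace_smul, trace_one, Fintype.card_fin] at htr
  simp only [smul_eq_mul, Nat.cast_ofNat] at htr
  have : b ^ 2 * ((g : Matrix (Fin 2) (Fin 2) F).trace ^ 2 - 4) = 0 := by
    linear_combination htr - 4 * hd
  rcases mul_eq_zero.1 this with h | h
  · apply hns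
    rw [hab, eq_zero_of_pow_eq_zero h]
    simp [IsScalar2]
  · exact hg.2 (sub_eq_zero.1 h)

theorem conj_gen_of_normalizer (h2 : (2 : F) ≠ 0) {g x : S2} (hg : Reg2 g)
    (hx : x * g * x⁻¹ ∈ tor g) : x * g * x⁻¹ = g ∨ x * g * x⁻¹ = g⁻¹ := by
  obtain ⟨a, b, hab⟩ := exists_poly_of_mem_tor hg hx
  have htr := trace_eq_of_isConj_SL2 (isConj_iff.2 ⟨x, rfl⟩ : IsConj g (x * g * x⁻¹))
  have hd := (x * g * x⁻¹).2
  rw [hab, det_poly, g.2] at hd
  rw [hab, trace_add, trace_smul, trace_smul, trace_one, Fintype.card_fin] at htr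
  simp only [smul_eq_mul, Nat.cast_ofNat] at htr
  set t := (g : Matrix (Fin 2) (Fin 2) F).trace with ht
  have : (b ^ 2 - 1) * (t ^ 2 - 4) = 0 := by
    linear_combination (-(t + a * 2 + b * t)) * htr - 4 * hd
  rcases mul_eq_zero.1 this with h | h
  swap
  · exact absurd (sub_eq_zero.1 h) hg.2
  rcases sq_eq_one_iff.1 (sub_eq_zero.1 h) with rfl | rfl
  · left
    have ha : a = 0 := by
      have : (2 : F) * a = 0 := by linear_combination -htr
      exact (mul_eq_zero.1 this).resolve_left h2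
    apply Subtype.ext
    rw [hab, ha]
    simp
  · right
    have ha : a = t := by
      have : (2 : F) * (a - t) = 0 := by linear_combination -htr
      exact sub_eq_zero.1 ((mul_eq_zero.1 this).resolve_left h2)
    apply Subtype.ext
    rw [hab, ha, poly_coe_inv]

theorem conj_torus {g x : S2} (hg : Reg2 g) (hx : x * g * x⁻¹ = g⁻¹) {y : S2} (hy : y ∈ tor g) :
    x * y * x⁻¹ = y⁻¹ := by
  obtain ⟨a, b, hab⟩ := exists_poly_of_mem_tor hg hy
  apply Subtype.ext
  set X := (x : Matrix (Fin 2) (Fin 2) F)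
  set X' := ((x⁻¹ : S2) : Matrix (Fin 2) (Fin 2) F)
  have h1 : X * X' = 1 := congrArg Subtype.val (mul_inv_cancel x)
  have h2' : X * (g : Matrix (Fin 2) (Fin 2) F) * X' = ((g⁻¹ : S2) : Matrix (Fin 2) (Fin 2) F) :=
    congrArg Subtype.val hx
  show X * (y : Matrix (Fin 2) (Fin 2) F) * X' = _
  rw [poly_coe_inv, hab]
  simp only [Matrix.mul_add, Matrix.add_mul, Matrix.mul_smul, Matrix.smul_mul, Matrix.mul_one, h1, h2',
    poly_coe_inv, trace_add, trace_smul, trace_one, Fintype.card_fin, smul_eq_mul, Nat.cast_ofNat]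
  module

theorem sq_eq_neg_one (h2 : (2 : F) ≠ 0) {g x : S2} (hg : Reg2 g) (hx : x * g * x⁻¹ = g⁻¹)
    (hxt : x ∉ tor g) : x * x = -1 := by
  have hxx : x * x ∈ tor g := by
    rw [mem_tor]
    have h1 : x * g = g⁻¹ * x := mul_inv_eq_iff_eq_mul.1 hx
    have h2' : x * g⁻¹ = g * x := by
      calc x * g⁻¹ = g * (g⁻¹ * x) * g⁻¹ := by group
        _ = g * (x * g) * g⁻¹ := by rw [h1]
        _ = g * x := by group
    calc x * x * g = x * (g⁻¹ * x) := by rw [mul_assoc, h1]
      _ = g * (x * x) := by rw [← mul_assoc, h2', mul_assoc]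
  by_cases hns : IsScalar2 ((x * x : S2) : Matrix (Fin 2) (Fin 2) F)
  · rcases eq_pm_of_scalar hns with h | h
    · exfalso
      apply hxt
      refine scalar_mem_tor g ?_
      have e : ((x⁻¹ : S2) : Matrix (Fin 2) (Fin 2) F) = (x : Matrix (Fin 2) (Fin 2) F) := by
        rw [inv_eq_of_mul_eq_one_right h]
      rw [Matrix.SpecialLinearGroup.coe_inv, adjugate_fin_two] at e
      have e00 := congrFun (congrFun e 0) 0
      have e01 := congrFun (congrFun e 0) 1
      have e10 := congrFun (congrFun e 1) 0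
      simp at e00 e01 e10
      refine ⟨?_, ?_, e00.symm⟩
      · exact (mul_eq_zero.1 (show (2 : F) * (x : Matrix (Fin 2) (Fin 2) F) 0 1 = 0 by
          linear_combination -e01)).resolve_left h2
      · exact (mul_eq_zero.1 (show (2 : F) * (x : Matrix (Fin 2) (Fin 2) F) 1 0 = 0 by
          linear_combination -e10)).resolve_left h2
    · exact h
  · exfalso
    apply hxt
    rw [← tor_eq_of_mem hg hxx hns, mem_tor, mul_assoc]

theorem centralizer_tor {g : S2} (hg : Reg2 g) :
    Subgroup.centralizer (tor g : Set S2) = tor g := by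
  ext x
  refine ⟨fun h => mem_tor.2 (Subgroup.mem_centralizer_iff.1 h g (mem_tor.2 rfl)).symm,
    fun h => Subgroup.mem_centralizer_iff.2 fun y hy => tor_comm hg hy h⟩

theorem mem_normalizer_tor (h2 : (2 : F) ≠ 0) {g x : S2} (hg : Reg2 g) :
    x ∈ Subgroup.normalizer (tor g : Set S2) ↔ x * g * x⁻¹ = g ∨ x * g * x⁻¹ = g⁻¹ := by
  constructor
  · intro h
    exact conj_gen_of_normalizer h2 hg ((Subgroup.mem_normalizer_iff.1 h g).1 (mem_tor.2 rfl))
  · intro h
    rw [Subgroup.mem_normalizer_iff]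
    rcases h with h | h
    · have hx : x ∈ tor g := mem_tor.2 (mul_inv_eq_iff_eq_mul.1 h)
      intro y
      constructor
      · exact fun hy => mul_mem (mul_mem hx hy) (inv_mem hx)
      · intro hy
        have e : y = x⁻¹ * (x * y * x⁻¹) * x := by group
        rw [e]
        exact mul_mem (mul_mem (inv_mem hx) hy) hx
    · have h' : x⁻¹ * g * x⁻¹⁻¹ = g⁻¹ := by
        rw [inv_inv]
        calc x⁻¹ * g * x = (x⁻¹ * g⁻¹ * x)⁻¹ := by group
          _ = (x⁻¹ * (x * g * x⁻¹) * x)⁻¹ := by rw [h]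
          _ = g⁻¹ := by group
      intro y
      constructor
      · intro hy
        rw [conj_torus hg h hy]
        exact inv_mem hy
      · intro hy
        have := conj_torus hg h' hy
        rw [inv_inv, show x⁻¹ * (x * y * x⁻¹) * x = y by group] at this
        rw [this]
        exact inv_mem hy

theorem tor_le_normalizer (h2 : (2 : F) ≠ 0) {g : S2} (hg : Reg2 g) :
    tor g ≤ Subgroup.normalizer (tor g : Set S2) := fun _ hx =>
  (mem_normalizer_tor h2 hg).2 (Or.inl (mul_inv_eq_iff_eq_mul.2 (mem_tor.1 hx)))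

theorem conj_of_mem_normalizer (h2 : (2 : F) ≠ 0) {g x : S2} (hg : Reg2 g)
    (hx : x ∈ Subgroup.normalizer (tor g : Set S2)) (hxt : x ∉ tor g) : x * g * x⁻¹ = g⁻¹ :=
  ((mem_normalizer_tor h2 hg).1 hx).resolve_left fun h => hxt (mem_tor.2 (mul_inv_eq_iff_eq_mul.1 h))

theorem normalizer_sq_eq_neg_one (h2 : (2 : F) ≠ 0) {g x : S2} (hg : Reg2 g)
    (hx : x ∈ Subgroup.normalizer (tor g : Set S2)) (hxt : x ∉ tor g) : x * x = -1 :=
  sq_eq_neg_one h2 hg (conj_of_mem_normalizer h2 hg hx hxt) hxt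

theorem exists_inverter [Finite F] (h2 : (2 : F) ≠ 0) {g : S2} (hg : Reg2 g) :
    ∃ x : S2, x * g * x⁻¹ = g⁻¹ ∧ x ∉ tor g := by
  have hns : ¬ IsScalar2 ((g⁻¹ : S2) : Matrix (Fin 2) (Fin 2) F) := by
    rw [poly_coe_inv]
    intro h
    obtain ⟨h01, h10, h00⟩ := h
    simp at h01 h10 h00
    exact hg.1 ⟨h01, h10, h00⟩
  have htr : ((g⁻¹ : S2) : Matrix (Fin 2) (Fin 2) F).trace = (g : Matrix (Fin 2) (Fin 2) F).trace := by
    rw [poly_coe_inv, trace_add, trace_smul, trace_smul, trace_one, Fintype.card_fin]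
    simp
    ring
  obtain ⟨x, hx⟩ := isConj_iff.1 (isConj_SL2_of_trace hg.1 hns htr.symm (Or.inl hg.2))
  refine ⟨x, hx, fun hxt => ?_⟩
  have h : x * g * x⁻¹ = g := mul_inv_eq_iff_eq_mul.2 (mem_tor.1 hxt)
  rw [hx] at h
  apply hg.2
  have h1 := congrArg (fun z : S2 => (z : Matrix (Fin 2) (Fin 2) F)) h
  simp only [poly_coe_inv] at h1
  have e00 := congrFun (congrFun h1 0) 0
  have e01 := congrFun (congrFun h1 0) 1
  have e10 := congrFun (congrFun h1 1) 0
  simp [trace_fin_two] at e00 e01 e10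
  exfalso
  apply hg.1
  refine ⟨?_, ?_, by linear_combination -e00⟩
  · exact (mul_eq_zero.1 (show (2 : F) * (g : Matrix (Fin 2) (Fin 2) F) 0 1 = 0 by
      linear_combination -e01)).resolve_left h2
  · exact (mul_eq_zero.1 (show (2 : F) * (g : Matrix (Fin 2) (Fin 2) F) 1 0 = 0 by
      linear_combination -e10)).resolve_left h2

theorem card_normalizer_tor [Finite F] (h2 : (2 : F) ≠ 0) {g : S2} (hg : Reg2 g) :
    Nat.card (Subgroup.normalizer (tor g : Set S2)) = 2 * Nat.card (tor g) := by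
  obtain ⟨x, hx, hxt⟩ := exists_inverter h2 hg
  set N := Subgroup.normalizer (tor g : Set S2)
  have hxN : x ∈ N := (mem_normalizer_tor h2 hg).2 (Or.inr hx)
  have hidx : ((tor g).subgroupOf N).index = 2 := by
    refine Subgroup.index_eq_two_iff.2 ⟨⟨x, hxN⟩, fun y => ?_⟩
    simp only [Subgroup.mem_subgroupOf, Subgroup.coe_mul]
    by_cases hy : (y : S2) ∈ tor g
    · refine Or.inr ⟨hy, fun h => hxt ?_⟩
      simpa using mul_mem (inv_mem hy) h
    · refine Or.inl ⟨?_, hy⟩
      have h1 := conj_of_mem_normalizer h2 hg y.2 hy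
      have e : ((y : S2) * x) * g * ((y : S2) * x)⁻¹ = g := by
        calc ((y : S2) * x) * g * ((y : S2) * x)⁻¹ = (y : S2) * (x * g * x⁻¹) * (y : S2)⁻¹ := by group
          _ = ((y : S2) * g * (y : S2)⁻¹)⁻¹ := by rw [hx]; group
          _ = g := by rw [h1, inv_inv]
      exact mem_tor.2 (mul_inv_eq_iff_eq_mul.1 e)
  have h := ((tor g).subgroupOf N).card_mul_index
  rw [hidx, Nat.card_congr (Subgroup.subgroupOfEquivOfLe (tor_le_normalizer h2 hg)).toEquiv] at h
  rw [← h, mul_comm]

theorem card_classes_normalizer_tor [Finite F] (h2 : (2 : F) ≠ 0) {g : S2} (hg : Reg2 g) :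
    2 * Nat.card (ConjClasses (Subgroup.normalizer (tor g : Set S2))) = Nat.card (tor g) + 6 := by
  set N := Subgroup.normalizer (tor g : Set S2)
  have hle := tor_le_normalizer h2 hg
  refine card_classes_of_inverted ((tor g).subgroupOf N)
    (Nat.card_congr (Subgroup.subgroupOfEquivOfLe hle).toEquiv) (card_normalizer_tor h2 hg)
    ?_ ?_ ?_
  · intro a ha b hb
    exact Subtype.ext (tor_comm hg (Subgroup.mem_subgroupOf.1 ha) (Subgroup.mem_subgroupOf.1 hb))
  · intro a ha b hb
    rw [Subgroup.mem_subgroupOf] at ha hb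
    exact Subtype.ext (conj_torus hg (conj_of_mem_normalizer h2 hg a.2 ha) hb)
  · refine Eq.trans ?_ (card_center_two (F := F) h2)
    refine Nat.card_congr
      { toFun := fun y => ⟨((y.1 : N) : S2), scalar_iff_mem_center.2 ?_⟩
        invFun := fun z => ⟨⟨⟨z.1, hle (scalar_mem_tor g (scalar_iff_mem_center.1 z.2))⟩,
          Subgroup.mem_subgroupOf.2 (scalar_mem_tor g (scalar_iff_mem_center.1 z.2))⟩, ?_⟩
        left_inv := fun y => rfl
        right_inv := fun z => rfl }
    · by_contra hns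
      have hy : ((y.1 : N) : S2) ∈ tor g := Subgroup.mem_subgroupOf.1 y.1.2
      apply (reg_of_mem_tor h2 hg hy hns).2
      have e : ((y.1 : N) : S2) * ((y.1 : N) : S2) = 1 := congrArg Subtype.val y.2
      have e' := congrArg (fun w : S2 => (w : Matrix (Fin 2) (Fin 2) F)) e
      simp only [Matrix.SpecialLinearGroup.coe_mul, Matrix.SpecialLinearGroup.coe_one] at e'
      have hd := ((y.1 : N) : S2).2
      generalize (((y.1 : N) : S2) : Matrix (Fin 2) (Fin 2) F) = M at e' hd
      have t := congrArg Matrix.trace e'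
      simp [trace_fin_two, mul_apply, Fin.sum_univ_two] at t
      rw [det_fin_two] at hd
      rw [trace_fin_two]
      linear_combination t + 2 * hd
    · apply Subtype.ext
      show z.1 * z.1 = 1
      rcases eq_pm_of_scalar (scalar_iff_mem_center.1 z.2) with h | h <;> rw [h] <;> simp

theorem card_tor_mul [Fintype F] {g : S2} (hg : Reg2 g) :
    Nat.card (tor g) * (Fintype.card F - 1) = Nat.card {ab : F × F // ab.1 ^ 2 +
      ab.1 * ab.2 * (g : Matrix (Fin 2) (Fin 2) F).trace + ab.2 ^ 2 ≠ 0} := by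
  classical
  rw [tor, card_centralizer_SL2 hg.1]
  set t := (g : Matrix (Fin 2) (Fin 2) F).trace
  have hsurj : ∀ c : F, ∃ ab : F × F, ab.1 ^ 2 + ab.1 * ab.2 * t + ab.2 ^ 2 = c := by
    intro c
    obtain ⟨a, b, h⟩ := form_surjective (t := t) (d := 1)
      (Or.inl (by rw [mul_one]; exact sub_ne_zero.2 hg.2)) c
    exact ⟨(a, b), by simpa using h⟩
  have h := card_centralizer_GL2 (g := Matrix.SpecialLinearGroup.toGL g) hg.1
  have hdet : (g : Matrix (Fin 2) (Fin 2) F).det = 1 := g.2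
  rw [show ((Matrix.SpecialLinearGroup.toGL g : GL (Fin 2) F) : Matrix (Fin 2) (Fin 2) F) =
    (g : Matrix (Fin 2) (Fin 2) F) from rfl] at h
  simp only [hdet, mul_one] at h
  rw [← h]
  let H : Subgroup (GL (Fin 2) F) :=
    Subgroup.centralizer {(Matrix.SpecialLinearGroup.toGL g : GL (Fin 2) F)}
  let δ : H →* Fˣ := Matrix.GeneralLinearGroup.det.comp H.subtype
  have hδ : Function.Surjective δ := by
    intro u
    obtain ⟨⟨a, b⟩, hab⟩ := hsurj (u : F)
    have hd : (a • (1 : Matrix (Fin 2) (Fin 2) F) + b • (g : Matrix (Fin 2) (Fin 2) F)).det = (u : F) := by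
      rw [det_poly, hdet, mul_one]; exact hab
    refine ⟨⟨Matrix.GeneralLinearGroup.mkOfDetNeZero _ (by rw [hd]; exact u.ne_zero),
      Subgroup.mem_centralizer_singleton_iff.2 (Units.ext ?_)⟩, Units.ext hd⟩
    exact commute_poly _ a b
  have hker : Nat.card δ.ker = Nat.card (tor g) := by
    refine Nat.card_congr
      { toFun := fun x => ⟨⟨((x.1 : GL (Fin 2) F) : Matrix (Fin 2) (Fin 2) F), congrArg Units.val x.2⟩, ?_⟩
        invFun := fun y => ⟨⟨Matrix.SpecialLinearGroup.toGL y.1, ?_⟩, Units.ext y.1.2⟩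
        left_inv := fun x => Subtype.ext (Subtype.ext (Units.ext rfl))
        right_inv := fun y => rfl }
    · exact mem_tor.2 (Subtype.ext (congrArg Units.val (Subgroup.mem_centralizer_singleton_iff.1 x.1.2)))
    · refine Subgroup.mem_centralizer_singleton_iff.2 (Units.ext ?_)
      exact congrArg Subtype.val (mem_tor.1 y.2)
  rw [tor, card_centralizer_SL2 hg.1] at hker
  show _ = Nat.card H
  rw [Subgroup.card_eq_card_quotient_mul_card_subgroup δ.ker,
    Nat.card_congr (QuotientGroup.quotientKerEquivOfSurjective δ hδ).toEquiv, hker, Nat.card_units,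
    Nat.card_eq_fintype_card (α := F), mul_comm]

theorem card_tor_of_noEig [Fintype F] {g : S2} (hg : Reg2 g)
    (hne : ∀ c : F, c ^ 2 - c * (g : Matrix (Fin 2) (Fin 2) F).trace + 1 ≠ 0) :
    Nat.card (tor g) = Fintype.card F + 1 := by
  classical
  have h := card_tor_mul hg
  have e : Nat.card {ab : F × F // ab.1 ^ 2 +
      ab.1 * ab.2 * (g : Matrix (Fin 2) (Fin 2) F).trace + ab.2 ^ 2 ≠ 0} =
      Fintype.card F ^ 2 - 1 := by
    rw [Nat.card_eq_fintype_card, show Fintype.card F ^ 2 - 1 =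
      Fintype.card (F × F) - Fintype.card {x : F × F // x = (0, 0)} by
        rw [Fintype.card_prod, Fintype.card_subtype_eq, sq], ← Fintype.card_subtype_compl]
    refine Fintype.card_congr (Equiv.subtypeEquivRight ?_)
    rintro ⟨a, b⟩
    constructor
    · intro h' h''
      rw [Prod.mk.injEq] at h''
      exact h' (by simp [h''.1, h''.2])
    · intro h' h''
      simp only at h''
      by_cases hb : b = 0
      · subst hb
        simp at h''
        exact h' (by simp [h''])
      · apply hne (-a / b)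
        field_simp
        linear_combination h''
  rw [e, show Fintype.card F ^ 2 - 1 = (Fintype.card F + 1) * (Fintype.card F - 1) by
    rw [← one_pow 2, Nat.sq_sub_sq]; simp] at h
  exact Nat.eq_of_mul_eq_mul_right (by have : 1 < Fintype.card F := Fintype.one_lt_card; omega) h

theorem card_tor_of_eig [Fintype F] {g : S2} (hg : Reg2 g) {c : F}
    (hc : c ^ 2 - c * (g : Matrix (Fin 2) (Fin 2) F).trace + 1 = 0) :
    Nat.card (tor g) = Fintype.card F - 1 := by
  classical
  have h := card_tor_mul hg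
  set t := (g : Matrix (Fin 2) (Fin 2) F).trace with ht
  have hne : c - (t - c) ≠ 0 := by
    intro h0
    apply hg.2
    rw [← ht]
    linear_combination (2 * c - t) * h0 + (-4 : F) * hc
  have key : ∀ a b : F, a ^ 2 + a * b * t + b ^ 2 = (a + b * c) * (a + b * (t - c)) := by
    intro a b
    linear_combination (b ^ 2) * hc
  have e : Nat.card {ab : F × F // ab.1 ^ 2 + ab.1 * ab.2 * t + ab.2 ^ 2 ≠ 0} =
      (Fintype.card F - 1) * (Fintype.card F - 1) := by
    rw [show (Fintype.card F - 1) * (Fintype.card F - 1) = Nat.card (Fˣ × Fˣ) by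
      rw [Nat.card_prod, Nat.card_eq_fintype_card, Fintype.card_units]]
    simp only [key, mul_ne_zero_iff]
    refine Nat.card_congr
      { toFun := fun ab => (Units.mk0 _ ab.2.1, Units.mk0 _ ab.2.2)
        invFun := fun uv => ⟨((c * (uv.2 : F) - (t - c) * uv.1) / (c - (t - c)),
          ((uv.1 : F) - uv.2) / (c - (t - c))), ?_⟩
        left_inv := ?_
        right_inv := ?_ }
    · constructor
      · have : (c * (uv.2 : F) - (t - c) * uv.1) / (c - (t - c)) +
            ((uv.1 : F) - uv.2) / (c - (t - c)) * c = uv.1 := by field_simp; ring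
        rw [this]; exact uv.1.ne_zero
      · have : (c * (uv.2 : F) - (t - c) * uv.1) / (c - (t - c)) +
            ((uv.1 : F) - uv.2) / (c - (t - c)) * (t - c) = uv.2 := by field_simp; ring
        rw [this]; exact uv.2.ne_zero
    · rintro ⟨⟨a, b⟩, hab⟩
      refine Subtype.ext (Prod.ext ?_ ?_) <;> simp only [Units.val_mk0] <;> field_simp <;> ring
    · rintro ⟨u, v⟩
      refine Prod.ext (Units.ext ?_) (Units.ext ?_) <;> simp only [Units.val_mk0] <;> field_simp <;> ring
  rw [e] at h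
  exact Nat.eq_of_mul_eq_mul_right (by have : 1 < Fintype.card F := Fintype.one_lt_card; omega) h

theorem isCyclic_tor [Finite F] {g : S2} (hg : Reg2 g) : IsCyclic (tor g) := by
  classical
  obtain ⟨p, hpF⟩ := CharP.exists F
  haveI := hpF
  haveI : Fact p.Prime := ⟨CharP.char_is_prime F p⟩
  refine H37.isCyclic_of_abelian p (tor g) (fun x hx y hy => tor_comm hg hx hy) fun x hx hxp => ?_
  by_contra h1
  obtain ⟨hns, htr⟩ := (orderOf_SL2_eq_p_iff x).1 (orderOf_eq_prime hxp h1)
  obtain ⟨a, b, hab⟩ := exists_poly_of_mem_tor hg hx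
  have hd := x.2
  rw [hab, det_poly, g.2] at hd
  rw [hab, trace_add, trace_smul, trace_smul, trace_one, Fintype.card_fin] at htr
  simp only [smul_eq_mul, Nat.cast_ofNat] at htr
  have : b ^ 2 * ((g : Matrix (Fin 2) (Fin 2) F).trace ^ 2 - 4) = 0 := by
    linear_combination (a * 2 + b * (g : Matrix (Fin 2) (Fin 2) F).trace + 2) * htr - 4 * hd
  rcases mul_eq_zero.1 this with h | h
  · apply hns
    rw [hab, eq_zero_of_pow_eq_zero h]
    simp [IsScalar2]
  · exact hg.2 (sub_eq_zero.1 h)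

end H40
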