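import Mathlib
import Cfsg.Agent.H40.SL2Tori
import Cfsg.Agent.H37.SylowTwo

/-!
# Sylow subgroups of SL₂(q), q odd: centralisers and normalisers.
-/

set_option autoImplicit false

open Matrix

namespace H40

variable {F : Type*} [Field F]

local notation "S2" => Matrix.SpecialLinearGroup (Fin 2) F

theorem exists_nonsplit [Fintype F] :
    ∃ g : S2, Reg2 g ∧ ∀ c : F, c ^ 2 - c * (g : Matrix (Fin 2) (Fin 2) F).trace + 1 ≠ 0 := by
  classical
  have : ¬ Function.Surjective (fun u : Fˣ => (u : F) + (u : F)⁻¹) := by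
    intro h
    have h1 := Fintype.card_le_of_surjective _ h
    rw [Fintype.card_units] at h1
    have := Fintype.card_pos (α := F)
    omega
  simp only [Function.Surjective, not_forall, not_exists] at this
  obtain ⟨t, ht⟩ := this
  have hc : ∀ c : F, c ^ 2 - c * t + 1 ≠ 0 := by
    intro c hc
    have hc0 : c ≠ 0 := by rintro rfl; simp at hc
    apply ht (Units.mk0 c hc0)
    rw [Units.val_mk0]
    field_simp
    linear_combination hc
  refine ⟨compSL t, ⟨ns_compSL t, ?_⟩, by rw [trace_compSL]; exact hc⟩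
  rw [trace_compSL]
  intro h
  have e : (t - 2) * (t + 2) = 0 := by linear_combination h
  rcases mul_eq_zero.1 e with e' | e'
  · exact hc 1 (by linear_combination -e')
  · exact hc (-1) (by linear_combination e')

theorem eig_of_diag {g : S2} (h01 : (g : Matrix (Fin 2) (Fin 2) F) 0 1 = 0) :
    ((g : Matrix (Fin 2) (Fin 2) F) 0 0) ^ 2 -
      (g : Matrix (Fin 2) (Fin 2) F) 0 0 * (g : Matrix (Fin 2) (Fin 2) F).trace + 1 = 0 := by
  have hd := g.2
  rw [det_fin_two, h01] at hd
  rw [trace_fin_two]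
  linear_combination -hd

theorem exists_split [Fintype F] (h : 4 ≤ Fintype.card F) :
    ∃ g : S2, Reg2 g ∧ ∃ c : F, c ^ 2 - c * (g : Matrix (Fin 2) (Fin 2) F).trace + 1 = 0 := by
  classical
  obtain ⟨a, ha0, ha⟩ : ∃ a : F, a ≠ 0 ∧ a ^ 2 ≠ 1 := by
    by_contra hall
    push Not at hall
    have : (Finset.univ : Finset F) ⊆ {0, 1, -1} := by
      intro x _
      by_cases hx : x = 0
      · simp [hx]
      · rcases sq_eq_one_iff.1 (hall x hx) with h1 | h1 <;> simp [h1]
    have h1 := Finset.card_le_card this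
    rw [Finset.card_univ] at h1
    have h2 : ({0, 1, -1} : Finset F).card ≤ 3 := Finset.card_le_three
    omega
  let g : S2 := ⟨!![a, 0; 0, a⁻¹], by simp [det_fin_two, ha0]⟩
  have h00 : (g : Matrix (Fin 2) (Fin 2) F) 0 0 = a := rfl
  refine ⟨g, ⟨fun hs => ?_, fun hs => ?_⟩, a, by have := eig_of_diag (g := g) rfl; rwa [h00] at this⟩
  · apply ha
    have : a = a⁻¹ := hs.2.2
    field_simp at this
    exact this
  · apply ha
    have hs' : (a + a⁻¹) ^ 2 = 4 := by simpa [g, trace_fin_two] using hs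
    have : (a - a⁻¹) ^ 2 = 0 := by
      linear_combination hs' - 4 * mul_inv_cancel₀ ha0
    have := eq_zero_of_pow_eq_zero this
    field_simp at this
    linear_combination this

theorem reg_conj {g : S2} (hg : Reg2 g) (k : S2) : Reg2 (k * g * k⁻¹) := by
  have hc : IsConj g (k * g * k⁻¹) := isConj_iff.2 ⟨k, rfl⟩
  exact ⟨not_isScalar2_of_isConj_SL2 hc hg.1, by rw [← trace_eq_of_isConj_SL2 hc]; exact hg.2⟩

theorem tor_conj_card (g k : S2) : Nat.card (tor (k * g * k⁻¹)) = Nat.card (tor g) := by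
  have : tor (k * g * k⁻¹) = (tor g).map (MulAut.conj k).toMonoidHom := by
    ext y
    rw [Subgroup.mem_map_equiv, mem_tor, mem_tor, MulAut.conj_symm_apply]
    constructor
    · intro h
      calc k⁻¹ * y * k * g = k⁻¹ * (y * (k * g * k⁻¹)) * k := by group
        _ = k⁻¹ * ((k * g * k⁻¹) * y) * k := by rw [h]
        _ = g * (k⁻¹ * y * k) := by group
    · intro h
      calc y * (k * g * k⁻¹) = k * (k⁻¹ * y * k * g) * k⁻¹ := by group
        _ = k * (g * (k⁻¹ * y * k)) * k⁻¹ := by rw [h]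
        _ = (k * g * k⁻¹) * y := by group
  rw [this]
  exact (Nat.card_congr (Subgroup.equivMapOfInjective _ _ (MulAut.conj k).injective).toEquiv).symm

/-- A Sylow subgroup lies in a conjugate of any subgroup containing a full Sylow. -/
theorem exists_conj_mem {G : Type*} [Group G] [Finite G] (r : ℕ) [Fact r.Prime] (H : Subgroup G)
    (hH : (Nat.card H).factorization r = (Nat.card G).factorization r) (P : Sylow r G) :
    ∃ k : G, ∀ y ∈ (P : Subgroup G), k⁻¹ * y * k ∈ H := by
  obtain ⟨Q⟩ : Nonempty (Sylow r H) := inferInstance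
  let P0 : Sylow r G := Sylow.ofCard ((Q : Subgroup H).map H.subtype) (by
    rw [← Nat.card_congr (Subgroup.equivMapOfInjective _ _ H.subtype_injective).toEquiv,
      Q.card_eq_multiplicity, hH])
  obtain ⟨k, hk⟩ := MulAction.exists_smul_eq G P0 P
  refine ⟨k, fun y hy => ?_⟩
  rw [← hk, Sylow.coe_subgroup_smul, Subgroup.mem_pointwise_smul_iff_inv_smul_mem] at hy
  have : k⁻¹ * y * k ∈ (P0 : Subgroup G) := by simpa [MulAut.smul_def] using hy
  rw [Sylow.coe_ofCard] at this
  obtain ⟨z, -, hz⟩ := this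
  rw [← hz]
  exact z.2

theorem card_SL2_pm [Fintype F] :
    Nat.card S2 = Fintype.card F * ((Fintype.card F - 1) * (Fintype.card F + 1)) := by
  rw [card_SL2]
  congr 1
  rw [← one_pow 2, Nat.sq_sub_sq, mul_comm]
  simp

theorem sylow_in_torus [Fintype F] {g : S2} (hg : Reg2 g) (ℓ : ℕ) [Fact ℓ.Prime]
    (hfull : (Nat.card (tor g)).factorization ℓ = (Nat.card S2).factorization ℓ)
    (P : Sylow ℓ S2) :
    ∃ g' : S2, Reg2 g' ∧ Nat.card (tor g') = Nat.card (tor g) ∧ (P : Subgroup S2) ≤ tor g' := by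
  obtain ⟨k, hk⟩ := exists_conj_mem ℓ (tor g) hfull P
  refine ⟨k * g * k⁻¹, reg_conj hg k, tor_conj_card g k, fun y hy => mem_tor.2 ?_⟩
  have h := mem_tor.1 (hk y hy)
  calc y * (k * g * k⁻¹) = k * (k⁻¹ * y * k * g) * k⁻¹ := by group
    _ = k * (g * (k⁻¹ * y * k)) * k⁻¹ := by rw [h]
    _ = (k * g * k⁻¹) * y := by group

theorem odd_sylow_facts [Fintype F] (h2 : (2 : F) ≠ 0) {g : S2} (hg : Reg2 g) (ℓ : ℕ) [Fact ℓ.Prime]
    (hℓ : ℓ ≠ 2) (hdvd : ℓ ∣ Nat.card (tor g))
    (hfull : (Nat.card (tor g)).factorization ℓ = (Nat.card S2).factorization ℓ)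
    (P : Sylow ℓ S2) :
    Nat.card (Subgroup.centralizer ((P : Subgroup S2) : Set S2)) = Nat.card (tor g) ∧
    IsCyclic (Subgroup.centralizer ((P : Subgroup S2) : Set S2)) ∧
    Nat.card (Subgroup.normalizer ((P : Subgroup S2) : Set S2)) = 2 * Nat.card (tor g) := by
  obtain ⟨g', hg', hcard, hle⟩ := sylow_in_torus hg ℓ hfull P
  have hℓP : ℓ ∣ Nat.card (P : Subgroup S2) := by
    rw [P.card_eq_multiplicity, ← hfull]
    exact dvd_pow_self ℓ (((Fact.out : ℓ.Prime).factorization_pos_of_dvd Nat.card_pos.ne' hdvd).ne')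
  obtain ⟨⟨y, hy⟩, hyo⟩ := exists_prime_orderOf_dvd_card' (G := (P : Subgroup S2)) ℓ hℓP
  rw [Subgroup.orderOf_mk] at hyo
  have hns : ¬ IsScalar2 (y : Matrix (Fin 2) (Fin 2) F) := by
    intro hs
    have h1 : y ^ 2 = 1 := by
      rcases eq_pm_of_scalar hs with h | h <;> rw [h] <;> simp
    have hd := Nat.le_of_dvd two_pos (hyo ▸ orderOf_dvd_of_pow_eq_one h1)
    have := (Fact.out : ℓ.Prime).two_le
    omega
  have htor : tor y = tor g' := tor_eq_of_mem hg' (hle hy) hns
  have hcent : Subgroup.centralizer ((P : Subgroup S2) : Set S2) = tor g' := by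
    refine le_antisymm ?_ ?_
    · intro x hx
      rw [← htor, mem_tor]
      exact (Subgroup.mem_centralizer_iff.1 hx y hy).symm
    · intro x hx
      exact Subgroup.mem_centralizer_iff.2 fun z hz => tor_comm hg' (hle hz) hx
  have hnorm : Subgroup.normalizer ((P : Subgroup S2) : Set S2) =
      Subgroup.normalizer (tor g' : Set S2) := by
    refine le_antisymm ?_ ?_
    · intro x hx
      rw [mem_normalizer_tor h2 hg']
      refine conj_gen_of_normalizer h2 hg' ?_
      have hy' : x * y * x⁻¹ ∈ (P : Subgroup S2) := (Subgroup.mem_normalizer_iff.1 hx y).1 hy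
      have hns' := not_isScalar2_of_isConj_SL2 (isConj_iff.2 ⟨x, rfl⟩ : IsConj y (x * y * x⁻¹)) hns
      rw [← tor_eq_of_mem hg' (hle hy') hns', mem_tor]
      have hgy : g' * y = y * g' := (mem_tor.1 (hle hy)).symm
      calc x * g' * x⁻¹ * (x * y * x⁻¹) = x * (g' * y) * x⁻¹ := by group
        _ = x * (y * g') * x⁻¹ := by rw [hgy]
        _ = x * y * x⁻¹ * (x * g' * x⁻¹) := by group
    · intro x hx
      rw [Subgroup.mem_normalizer_iff]
      have key : ∀ z ∈ Subgroup.normalizer (tor g' : Set S2), ∀ u ∈ (P : Subgroup S2),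
          z * u * z⁻¹ ∈ (P : Subgroup S2) := by
        intro z hz u hu
        by_cases hzt : z ∈ tor g'
        · rw [tor_comm hg' hzt (hle hu), mul_inv_cancel_right]; exact hu
        · rw [conj_torus hg' (conj_of_mem_normalizer h2 hg' hz hzt) (hle hu)]
          exact inv_mem hu
      intro u
      refine ⟨key x hx u, fun hu => ?_⟩
      have := key x⁻¹ (inv_mem hx) _ hu
      rwa [show x⁻¹ * (x * u * x⁻¹) * x⁻¹⁻¹ = u by group] at this
  refine ⟨by rw [hcent, hcard], ?_, by rw [hnorm, card_normalizer_tor h2 hg', hcard]⟩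
  rw [hcent]
  exact isCyclic_tor hg'

/-- the quaternion generators -/
theorem exists_quaternion_gens [Finite F] :
    ∃ x y : S2, (x : Matrix (Fin 2) (Fin 2) F) = !![0, -1; 1, 0] ∧
      ∃ a b : F, a ^ 2 + b ^ 2 = -1 ∧ (y : Matrix (Fin 2) (Fin 2) F) = !![a, b; b, -a] := by
  classical
  obtain ⟨p, hpF⟩ := CharP.exists F
  haveI := hpF
  haveI : Fact p.Prime := ⟨CharP.char_is_prime F p⟩
  haveI : NeZero p := ⟨(Fact.out : p.Prime).ne_zero⟩
  obtain ⟨a, b, hab⟩ := CharP.sq_add_sq F p (-1)
  have hab' : (a : F) ^ 2 + (b : F) ^ 2 = -1 := by simpa using hab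
  exact ⟨⟨!![0, -1; 1, 0], by simp [det_fin_two_of]⟩,
    ⟨!![(a : F), (b : F); (b : F), -(a : F)], by rw [det_fin_two_of]; linear_combination -hab'⟩,
    rfl, a, b, hab', rfl⟩

theorem exists_q8_hom [Finite F] (h2 : (2 : F) ≠ 0) :
    ∃ φ : QuaternionGroup 2 →* S2, Function.Injective φ ∧
      ∃ w : S2, w ^ 3 = 1 ∧ w ≠ 1 ∧ w * φ (.a 1) * w⁻¹ = φ (.a 1) * φ (.xa 0) ∧
        w * φ (.xa 0) * w⁻¹ = φ (.a 1) := by
  obtain ⟨x, y, hx, a, b, hab, hy⟩ := exists_quaternion_gens (F := F)
  have hx2 : x * x = -1 := by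
    apply Subtype.ext
    show (x : Matrix (Fin 2) (Fin 2) F) * (x : Matrix (Fin 2) (Fin 2) F) = -1
    rw [hx]
    ext i j
    fin_cases i <;> fin_cases j <;> simp [mul_apply, Fin.sum_univ_two]
  have hy2 : y * y = -1 := by
    apply Subtype.ext
    show (y : Matrix (Fin 2) (Fin 2) F) * (y : Matrix (Fin 2) (Fin 2) F) = -1
    rw [hy]
    ext i j
    fin_cases i <;> fin_cases j <;> simp [mul_apply, Fin.sum_univ_two] <;>
      first | linear_combination hab | ring
  have hx2' : x ^ 2 = -1 := by rw [pow_two, hx2]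
  have hyx : y * x = x⁻¹ * y := by
    rw [eq_inv_mul_iff_mul_eq]
    apply Subtype.ext
    show (x : Matrix (Fin 2) (Fin 2) F) * ((y : Matrix (Fin 2) (Fin 2) F) * (x : Matrix (Fin 2) (Fin 2) F)) = _
    rw [hx, hy]
    ext i j
    fin_cases i <;> fin_cases j <;> simp [mul_apply, Fin.sum_univ_two]
  let φ : QuaternionGroup 2 →* S2 :=
    H37.quaternionHom x y (by rw [pow_mul, hx2']; simp) (by rw [hy2, hx2']) hyx
  have hφa : φ (.a 1) = x := by
    simp only [φ, H37.quaternionHom_a]
    rw [show (1 : ZMod (2 * 2)).val = 1 from rfl, pow_one]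
  have hφb : φ (.xa 0) = y := by
    simp only [φ, H37.quaternionHom_xa]
    rw [ZMod.val_zero, pow_zero, mul_one]
  refine ⟨φ, ?_, ?_⟩
  · rw [injective_iff_map_eq_one]
    intro q hq
    by_contra hq1
    have key : ∀ q : QuaternionGroup 2, q ≠ 1 → q = .a 1 * .a 1 ∨ q * q = .a 1 * .a 1 := by
      decide +kernel
    have : φ (.a 1 * .a 1) = 1 := by
      rcases key q hq1 with h | h
      · rw [← h]; exact hq
      · rw [← h, map_mul, hq, one_mul]
    rw [map_mul, hφa, hx2] at this
    have h' := congrArg (fun z : S2 => (z : Matrix (Fin 2) (Fin 2) F) 0 0) this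
    simp at h'
    exact h2 (by linear_combination -h')
  · let W : Matrix (Fin 2) (Fin 2) F :=
      (2 : F)⁻¹ • (-1 + (!![0, -1; 1, 0] + (!![a, b; b, -a] + !![0, -1; 1, 0] * !![a, b; b, -a])))
    have hW : W.det = 1 := by
      simp [W, det_fin_two, mul_apply, Fin.sum_univ_two]
      field_simp
      linear_combination (-2 : F) * hab
    let w : S2 := ⟨W, hW⟩
    refine ⟨w, ?_, ?_, ?_, ?_⟩
    · apply Subtype.ext
      show W ^ 3 = 1
      ext i j
      fin_cases i <;> fin_cases j <;>
        simp [W, pow_succ, mul_apply, Fin.sum_univ_two] <;> field_simp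
      · linear_combination (-6 - 2 * b + 2 * a) * hab
      · linear_combination (-2 + 2 * a + 2 * b) * hab
      · linear_combination (2 + 2 * a + 2 * b) * hab
      · linear_combination (-6 + 2 * b - 2 * a) * hab
    · intro h
      have h00 : W 0 0 = 1 := by
        have := congrArg (fun z : S2 => (z : Matrix (Fin 2) (Fin 2) F) 0 0) h
        simpa using this
      have h11 : W 1 1 = 1 := by
        have := congrArg (fun z : S2 => (z : Matrix (Fin 2) (Fin 2) F) 1 1) h
        simpa using this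
      simp [W, mul_apply, Fin.sum_univ_two] at h00 h11
      field_simp at h00 h11
      apply one_ne_zero (α := F)
      have h3 : (6 : F) = 0 := by linear_combination -h00 - h11
      have h3' : (3 : F) = 0 := by
        have : (2 : F) * 3 = 0 := by linear_combination h3
        exact (mul_eq_zero.1 this).resolve_left h2
      have h01 : W 0 1 = 0 := by
        have := congrArg (fun z : S2 => (z : Matrix (Fin 2) (Fin 2) F) 0 1) h
        simpa using this
      have h10 : W 1 0 = 0 := by
        have := congrArg (fun z : S2 => (z : Matrix (Fin 2) (Fin 2) F) 1 0) h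
        simpa using this
      simp [W, mul_apply, Fin.sum_univ_two] at h01 h10
      have e1 : -1 + (b + a) = 0 := h01.resolve_left h2
      have e2 : 1 + (b + a) = 0 := h10.resolve_left h2
      linear_combination (e2 - e1) * (2 : F) - h3'
    · rw [hφa]
      try rw [hφb]
      refine mul_inv_eq_iff_eq_mul.2 ?_
      apply Subtype.ext
      show W * (x : Matrix (Fin 2) (Fin 2) F) =
        (x : Matrix (Fin 2) (Fin 2) F) * (y : Matrix (Fin 2) (Fin 2) F) * W
      rw [hx, hy]
      ext i j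
      fin_cases i <;> fin_cases j <;> simp [W, mul_apply, Fin.sum_univ_two] <;> field_simp <;>
        first
          | linear_combination hab
          | linear_combination (-1 : F) * hab
          | ring
    · rw [hφa]
      try rw [hφb]
      refine mul_inv_eq_iff_eq_mul.2 ?_
      apply Subtype.ext
      show W * (y : Matrix (Fin 2) (Fin 2) F) = (x : Matrix (Fin 2) (Fin 2) F) * W
      rw [hx, hy]
      ext i j
      fin_cases i <;> fin_cases j <;> simp [W, mul_apply, Fin.sum_univ_two] <;> field_simp <;>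
        first
          | linear_combination hab
          | linear_combination (-1 : F) * hab
          | ring

theorem card_normalizer_smul {G : Type*} [Group G] {r : ℕ} (P : Sylow r G) (k : G) :
    Nat.card (Subgroup.normalizer (((k • P : Sylow r G) : Subgroup G) : Set G)) =
      Nat.card (Subgroup.normalizer ((P : Subgroup G) : Set G)) := by
  refine Eq.trans (congrArg (fun H : Subgroup G => Nat.card H)
    (Sylow.stabilizer_eq_normalizer (k • P)).symm) (Eq.trans ?_ (congrArg (fun H : Subgroup G => Nat.card H)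
    (Sylow.stabilizer_eq_normalizer P)))
  exact (Nat.card_congr (MulAction.stabilizerEquivStabilizer rfl).toEquiv).symm

theorem card_normalizer_q8 [Fintype F] (h2 : (2 : F) ≠ 0)
    (h8 : (Nat.card S2).factorization 2 = 3) (S : Sylow 2 S2) :
    Nat.card (Subgroup.normalizer ((S : Subgroup S2) : Set S2)) = 3 * Nat.card S := by
  classical
  obtain ⟨φ, hφ, w, hw3, hw1, hwa, hwb⟩ := exists_q8_hom h2
  have hcard : Nat.card φ.range = 8 := by
    rw [← Nat.card_congr (MonoidHom.ofInjective hφ).toEquiv, Nat.card_eq_fintype_card,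
      QuaternionGroup.card]
  let Q : Sylow 2 S2 := Sylow.ofCard φ.range (by rw [hcard, h8]; rfl)
  have hQ : (Q : Subgroup S2) = φ.range := Sylow.coe_ofCard _ _
  obtain ⟨k, hk⟩ := MulAction.exists_smul_eq S2 Q S
  have hS : Nat.card S = 8 := by
    show Nat.card (S : Subgroup S2) = 8
    rw [S.card_eq_multiplicity, h8]; rfl
  rw [hS, ← hk, card_normalizer_smul, hQ]
  set N := Subgroup.normalizer (φ.range : Set S2) with hN
  -- lower bound
  have hwN : w ∈ N := by
    have hfin : ∀ u ∈ φ.range, w * u * w⁻¹ ∈ φ.range := by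
      rintro _ ⟨q, rfl⟩
      have hgen : ∀ q : QuaternionGroup 2, ∃ i j : Fin 4,
          q = (QuaternionGroup.xa 0) ^ (i : ℕ) * (QuaternionGroup.a 1) ^ (j : ℕ) := by decide +kernel
      obtain ⟨i, j, rfl⟩ := hgen q
      rw [map_mul, map_pow, map_pow, ← MulAut.conj_apply, map_mul, map_pow, map_pow,
        MulAut.conj_apply, MulAut.conj_apply, hwa, hwb]
      exact mul_mem (pow_mem (MonoidHom.mem_range.2 ⟨_, rfl⟩) _)
        (pow_mem (mul_mem (MonoidHom.mem_range.2 ⟨_, rfl⟩) (MonoidHom.mem_range.2 ⟨_, rfl⟩)) _)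
    have hfin' : ∀ u ∈ φ.range, w⁻¹ * u * w ∈ φ.range := by
      intro u hu
      have := hfin _ (hfin u hu)
      have hwi : w⁻¹ = w * w := inv_eq_of_mul_eq_one_right (by rw [← hw3]; simp [pow_succ, mul_assoc])
      rw [show w * (w * u * w⁻¹) * w⁻¹ = (w * w) * u * (w * w)⁻¹ by group, ← hwi, inv_inv] at this
      exact this
    rw [hN, Subgroup.mem_normalizer_iff]
    refine fun u => ⟨hfin u, fun hu => ?_⟩
    have := hfin' _ hu
    rwa [show w⁻¹ * (w * u * w⁻¹) * w = u by group] at this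
  have hle : φ.range ≤ N := Subgroup.le_normalizer
  have h8dvd : 8 ∣ Nat.card N := hcard ▸ Subgroup.card_dvd_of_le hle
  have h3 : 3 ∣ Nat.card N := by
    have : orderOf w = 3 := by
      haveI : Fact (Nat.Prime 3) := ⟨Nat.prime_three⟩
      exact orderOf_eq_prime hw3 hw1
    exact this ▸ Subgroup.orderOf_dvd_natCard _ hwN
  have h24 : 24 ∣ Nat.card N := Nat.Coprime.mul_dvd_of_dvd_of_dvd (by decide : Nat.Coprime 8 3) h8dvd h3
  have h16 : ¬ 16 ∣ Nat.card N := by
    intro h
    have h' : 2 ^ 4 ∣ Nat.card S2 := dvd_trans h (Subgroup.card_subgroup_dvd_card N)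
    have := ((Fact.out : Nat.Prime 2).pow_dvd_iff_le_factorization Nat.card_pos.ne').1 h'
    omega
  -- upper bound
  have hP : Fintype.card {uv : QuaternionGroup 2 × QuaternionGroup 2 //
      (uv.1 * uv.1 = .a 2 ∧ uv.2 * uv.2 = .a 2 ∧ uv.1 * uv.2 ≠ uv.2 * uv.1)} = 24 := by
    decide +kernel
  have hmem : ∀ n : N, ∀ q, ∃ q', φ q' = (n : S2) * φ q * (n : S2)⁻¹ := fun n q =>
    (Subgroup.mem_normalizer_iff.1 n.2 (φ q)).1 ⟨q, rfl⟩
  choose σ hσ using hmem
  have hconj : ∀ (n : N) q q', σ n (q * q') = σ n q * σ n q' := by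
    intro n q q'
    apply hφ
    rw [map_mul, hσ, hσ, hσ, map_mul]
    group
  have hinj : ∀ (n : N) q q', σ n q = σ n q' → q = q' := by
    intro n q q' h
    have := congrArg φ h
    rw [hσ, hσ] at this
    exact hφ (mul_left_cancel (mul_right_cancel this))
  have hz : ∀ n : N, σ n (.a 2) = .a 2 := by
    intro n
    have key : ∀ q : QuaternionGroup 2, q * q = 1 → q ≠ 1 → q = .a 2 := by decide +kernel
    have h1 : σ n 1 = 1 := by
      apply hφ; rw [hσ, map_one]; group
    refine key _ ?_ (fun h => ?_)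
    · rw [← hconj, show (QuaternionGroup.a 2 : QuaternionGroup 2) * .a 2 = 1 by decide +kernel, h1]
    · rw [← h1] at h
      exact absurd (hinj n _ _ h) (by decide +kernel)
  let f : N → {uv : QuaternionGroup 2 × QuaternionGroup 2 //
      (uv.1 * uv.1 = .a 2 ∧ uv.2 * uv.2 = .a 2 ∧ uv.1 * uv.2 ≠ uv.2 * uv.1)} := fun n =>
    ⟨(σ n (.a 1), σ n (.xa 0)), by rw [← hconj, ← hz n]; exact congrArg (σ n) (by decide +kernel),
      by rw [← hconj, ← hz n]; exact congrArg (σ n) (by decide +kernel),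
      fun h => by
        rw [← hconj, ← hconj] at h
        exact absurd (hinj n _ _ h) (by decide +kernel)⟩
  have hfib : ∀ n m : N, f n = f m → ((n : S2)⁻¹ * (m : S2)) ∈ Subgroup.center S2 := by
    intro n m h
    have h1 : σ n (.a 1) = σ m (.a 1) := congrArg (fun u => u.1.1) h
    have h2' : σ n (.xa 0) = σ m (.xa 0) := congrArg (fun u => u.1.2) h
    have hcm : ∀ q, σ n q = σ m q → ((n : S2)⁻¹ * (m : S2)) * φ q = φ q * ((n : S2)⁻¹ * (m : S2)) := by
      intro q hq
      have := congrArg φ hq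
      rw [hσ, hσ] at this
      calc ((n : S2)⁻¹ * (m : S2)) * φ q
          = (n : S2)⁻¹ * ((m : S2) * φ q * (m : S2)⁻¹) * (m : S2) := by group
        _ = (n : S2)⁻¹ * ((n : S2) * φ q * (n : S2)⁻¹) * (m : S2) := by rw [this]
        _ = φ q * ((n : S2)⁻¹ * (m : S2)) := by group
    by_contra hnc
    have hab := (H37.commute_of_commute_noncentral hnc (hcm _ h1).symm (hcm _ h2').symm).eq
    rw [← map_mul, ← map_mul] at hab
    exact absurd (hφ hab) (by decide +kernel)
  have hcard2 : Nat.card N ≤ 48 := by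
    have hfibre : ∀ v, (Finset.univ.filter fun n : N => f n = v).card ≤ 2 := by
      intro v
      rcases (Finset.univ.filter fun n : N => f n = v).eq_empty_or_nonempty with h | ⟨n, hn⟩
      · rw [h]; simp
      · refine le_trans ?_ (card_center_two (F := F) h2).le
        rw [Nat.card_eq_fintype_card, ← Finset.card_univ]
        refine Finset.card_le_card_of_injOn (fun m =>
          if h : (n : S2)⁻¹ * (m : S2) ∈ Subgroup.center S2 then ⟨_, h⟩ else 1)
          (fun m _ => by simp) ?_
        intro m hm m' hm' he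
        simp only [Finset.coe_filter, Finset.mem_univ, true_and, Set.mem_setOf_eq] at hm hm'
        have hnv : f n = v := (Finset.mem_filter.1 hn).2
        simp only [dif_pos (hfib n m (hnv.trans hm.symm)), dif_pos (hfib n m' (hnv.trans hm'.symm))] at he
        exact Subtype.ext (mul_left_cancel (congrArg Subtype.val he))
    rw [Nat.card_eq_fintype_card, ← Finset.card_univ]
    refine (Finset.card_le_mul_card_image Finset.univ 2 fun v _ => hfibre v).trans ?_
    calc 2 * (Finset.univ.image f).card ≤ 2 * 24 := by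
          refine Nat.mul_le_mul_left 2 ?_
          rw [← hP]
          exact Finset.card_le_univ _
      _ = 48 := rfl
  obtain ⟨m, hm⟩ := h24
  have hmpos : 0 < Nat.card N := Nat.card_pos
  have hm2 : m ≤ 2 := by omega
  show Nat.card N = 24
  interval_cases m
  · omega
  · omega
  · exact absurd (hm ▸ by norm_num) h16

theorem sylow_two_center [Fintype F] (h2 : (2 : F) ≠ 0) (S : Sylow 2 S2) :
    Subgroup.centralizer ((S : Subgroup S2) : Set S2) = Subgroup.center S2 := by
  refine le_antisymm ?_ (Subgroup.center_le_centralizer _)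
  intro z hz
  by_contra hnc
  obtain ⟨φ, hφ, -⟩ := exists_q8_hom h2
  obtain ⟨Q, hQ⟩ := (H37.range_q8_isPGroup φ).exists_le_sylow
  obtain ⟨k, hk⟩ := MulAction.exists_smul_eq S2 Q S
  have hmem : ∀ u ∈ φ.range, k * u * k⁻¹ ∈ (S : Subgroup S2) := by
    intro u hu
    rw [← hk, Sylow.coe_subgroup_smul, Subgroup.mem_pointwise_smul_iff_inv_smul_mem]
    simpa [MulAut.smul_def, mul_assoc] using hQ hu
  have hc := fun q => Subgroup.mem_centralizer_iff.1 hz _ (hmem (φ q) ⟨q, rfl⟩)
  have hab := H37.commute_of_commute_noncentral hnc (hc (.a 1)) (hc (.xa 0))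
  have hab' : φ (.a 1) * φ (.xa 0) = φ (.xa 0) * φ (.a 1) := by
    have h := hab.eq
    have e : ∀ u v : S2, k * u * k⁻¹ * (k * v * k⁻¹) = k * (u * v) * k⁻¹ := fun u v => by group
    rw [e, e] at h
    exact mul_left_cancel (mul_right_cancel h)
  rw [← map_mul, ← map_mul] at hab'
  exact absurd (hφ hab') (by decide +kernel)

theorem sylow_two_self_normalizing [Fintype F] (h2 : (2 : F) ≠ 0) {g : S2} (hg : Reg2 g)
    (hfull : (Nat.card (Subgroup.normalizer (tor g : Set S2))).factorization 2 =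
      (Nat.card S2).factorization 2)
    (h16 : 4 ≤ (Nat.card S2).factorization 2) (S : Sylow 2 S2) :
    Subgroup.normalizer ((S : Subgroup S2) : Set S2) = (S : Subgroup S2) := by
  classical
  obtain ⟨k, hk⟩ := exists_conj_mem 2 _ hfull S
  set g' := k * g * k⁻¹
  have hg' : Reg2 g' := reg_conj hg k
  have hSN : ∀ y ∈ (S : Subgroup S2), y ∈ Subgroup.normalizer (tor g' : Set S2) := by
    intro y hy
    rw [mem_normalizer_tor h2 hg']
    rcases (mem_normalizer_tor h2 hg).1 (hk y hy) with h | h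
    · left
      calc y * (k * g * k⁻¹) * y⁻¹ = k * (k⁻¹ * y * k * g * (k⁻¹ * y * k)⁻¹) * k⁻¹ := by group
        _ = k * g * k⁻¹ := by rw [h]
    · right
      calc y * (k * g * k⁻¹) * y⁻¹ = k * (k⁻¹ * y * k * g * (k⁻¹ * y * k)⁻¹) * k⁻¹ := by group
        _ = k * g⁻¹ * k⁻¹ := by rw [h]
        _ = (k * g * k⁻¹)⁻¹ := by group
  have hcS : Nat.card (S : Subgroup S2) = 2 ^ (Nat.card S2).factorization 2 := S.card_eq_multiplicity
  have hS16 : 16 ≤ Nat.card (S : Subgroup S2) := by
    rw [hcS]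
    exact le_trans (by norm_num) (Nat.pow_le_pow_right two_pos h16)
  set A := tor g' ⊓ (S : Subgroup S2)
  have hA : ∀ y ∈ (S : Subgroup S2), y ∉ tor g' → y * y = -1 := fun y hy hyt =>
    normalizer_sq_eq_neg_one h2 hg' (hSN y hy) hyt
  haveI := isCyclic_tor hg'
  haveI : IsCyclic A := isCyclic_of_injective (Subgroup.inclusion (inf_le_left : A ≤ tor g'))
    (Subgroup.inclusion_injective _)
  obtain ⟨⟨a, ha⟩, hgen⟩ := IsCyclic.exists_ofOrder_eq_natCard (α := A)
  rw [Subgroup.orderOf_mk] at hgen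
  have hidx : Nat.card (S : Subgroup S2) ≤ 2 * Nat.card A := by
    set B := (tor g').subgroupOf (S : Subgroup S2)
    have hB : Nat.card B = Nat.card A := by
      refine Nat.card_congr
        { toFun := fun u => ⟨u.1.1, ⟨u.2, u.1.2⟩⟩
          invFun := fun u => ⟨⟨u.1, u.2.2⟩, u.2.1⟩
          left_inv := fun u => rfl
          right_inv := fun u => rfl }
    by_cases hall : ∀ y : (S : Subgroup S2), (y : S2) ∈ tor g'
    · have : B = ⊤ := (Subgroup.eq_top_iff' B).2 hall
      rw [← hB, this, Subgroup.card_top]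
      omega
    · push Not at hall
      obtain ⟨x, hx⟩ := hall
      have h := B.card_mul_index
      have hi : B.index = 2 := by
        refine Subgroup.index_eq_two_iff.2 ⟨x, fun y => ?_⟩
        simp only [B, Subgroup.mem_subgroupOf, Subgroup.coe_mul]
        by_cases hy : (y : S2) ∈ tor g'
        · refine Or.inr ⟨hy, fun h => hx ?_⟩
          simpa using mul_mem (inv_mem hy) h
        · refine Or.inl ⟨?_, hy⟩
          have h1 := conj_of_mem_normalizer h2 hg' (hSN _ x.2) hx
          have h2' := conj_of_mem_normalizer h2 hg' (hSN _ y.2) hy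
          have e : ((y : S2) * (x : S2)) * g' * ((y : S2) * (x : S2))⁻¹ = g' := by
            calc ((y : S2) * (x : S2)) * g' * ((y : S2) * (x : S2))⁻¹
                = (y : S2) * ((x : S2) * g' * (x : S2)⁻¹) * (y : S2)⁻¹ := by group
              _ = ((y : S2) * g' * (y : S2)⁻¹)⁻¹ := by rw [h1]; group
              _ = g' := by rw [h2', inv_inv]
          exact mem_tor.2 (mul_inv_eq_iff_eq_mul.1 e)
      rw [hi, hB] at h
      omega
  have ha8 : 8 ≤ orderOf a := by omega
  have h4 : ∀ y : S2, y * y = -1 → orderOf y ≤ 4 := by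
    intro y hy
    refine Nat.le_of_dvd (by norm_num) (orderOf_dvd_of_pow_eq_one ?_)
    rw [show (4 : ℕ) = 2 * 2 from rfl, pow_mul, pow_two y, hy]
    simp
  have hns : ¬ IsScalar2 (a : Matrix (Fin 2) (Fin 2) F) := by
    intro hs
    have h1 : a ^ 2 = 1 := by rcases eq_pm_of_scalar hs with h | h <;> rw [h] <;> simp
    have := Nat.le_of_dvd two_pos (orderOf_dvd_of_pow_eq_one h1)
    omega
  refine le_antisymm ?_ Subgroup.le_normalizer
  intro x hx
  have hxa : x * a * x⁻¹ ∈ (S : Subgroup S2) := (Subgroup.mem_normalizer_iff.1 hx a).1 ha.2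
  have hxat : x * a * x⁻¹ ∈ tor g' := by
    by_contra hnot
    have h := h4 _ (hA _ hxa hnot)
    rw [← MulAut.conj_apply, MulEquiv.orderOf_eq] at h
    omega
  have hxN : x ∈ Subgroup.normalizer (tor g' : Set S2) := by
    rw [mem_normalizer_tor h2 hg']
    refine conj_gen_of_normalizer h2 hg' ?_
    have hns' := not_isScalar2_of_isConj_SL2 (isConj_iff.2 ⟨x, rfl⟩ : IsConj a (x * a * x⁻¹)) hns
    rw [← tor_eq_of_mem hg' hxat hns', mem_tor]
    have hga : g' * a = a * g' := (mem_tor.1 ha.1).symm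
    calc x * g' * x⁻¹ * (x * a * x⁻¹) = x * (g' * a) * x⁻¹ := by group
      _ = x * (a * g') * x⁻¹ := by rw [hga]
      _ = x * a * x⁻¹ * (x * g' * x⁻¹) := by group
  -- an element of S outside the torus
  obtain ⟨t, htS, htt⟩ : ∃ t, t ∈ (S : Subgroup S2) ∧ t ∉ tor g' := by
    by_contra hno
    push Not at hno
    obtain ⟨φ, hφ, -⟩ := exists_q8_hom (F := F) h2
    obtain ⟨Q, hQ⟩ := (H37.range_q8_isPGroup φ).exists_le_sylow
    let e := Sylow.equiv Q S
    have hc : ∀ u v : (S : Subgroup S2), u * v = v * u := fun u v =>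
      Subtype.ext (tor_comm hg' (hno _ u.2) (hno _ v.2))
    have h := e.injective (show e (⟨φ (.a 1), hQ ⟨_, rfl⟩⟩ * ⟨φ (.xa 0), hQ ⟨_, rfl⟩⟩) =
      e (⟨φ (.xa 0), hQ ⟨_, rfl⟩⟩ * ⟨φ (.a 1), hQ ⟨_, rfl⟩⟩) by rw [map_mul, map_mul]; exact hc _ _)
    have h' := congrArg Subtype.val h
    simp only [Subgroup.coe_mul, ← map_mul] at h'
    exact absurd (hφ h') (by decide +kernel)
  have main : ∀ y ∈ Subgroup.normalizer ((S : Subgroup S2) : Set S2), y ∈ tor g' →
      y ∈ (S : Subgroup S2) := by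
    intro y hyN hyt
    have hyy : y * y ∈ (S : Subgroup S2) := by
      have h1 := conj_torus hg' (conj_of_mem_normalizer h2 hg' (hSN t htS) htt) (inv_mem hyt)
      rw [inv_inv] at h1
      have h3 : (y * t * y⁻¹) * t⁻¹ = y * y := by
        calc (y * t * y⁻¹) * t⁻¹ = y * (t * y⁻¹ * t⁻¹) := by group
          _ = y * y := by rw [h1]
      rw [← h3]
      exact mul_mem ((Subgroup.mem_normalizer_iff.1 hyN t).1 htS) (inv_mem htS)
    obtain ⟨j, hj⟩ := S.2 ⟨y * y, hyy⟩
    have hy2 : y ^ 2 ^ (j + 1) = 1 := by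
      rw [pow_succ', pow_mul, pow_two]
      exact congrArg Subtype.val hj
    have hP : IsPGroup 2 (Subgroup.zpowers y) := by
      obtain ⟨i, -, hi⟩ := (Nat.dvd_prime_pow Nat.prime_two).1 (orderOf_dvd_of_pow_eq_one hy2)
      exact IsPGroup.of_card (n := i) (by rw [Nat.card_zpowers, hi])
    have hsup : IsPGroup 2 (Subgroup.zpowers y ⊔ (S : Subgroup S2) : Subgroup S2) :=
      hP.to_sup_of_normal_right' S.2 (Subgroup.zpowers_le.2 hyN)
    have := S.3 hsup le_sup_right
    rw [← this]
    exact Subgroup.mem_sup_left (Subgroup.mem_zpowers y)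
  by_cases hxt : x ∈ tor g'
  · exact main x hx hxt
  · have h1 := conj_of_mem_normalizer h2 hg' hxN hxt
    have h2' := conj_of_mem_normalizer h2 hg' (hSN t htS) htt
    have hxtmem : x * t ∈ tor g' := by
      refine mem_tor.2 (mul_inv_eq_iff_eq_mul.1 ?_)
      calc (x * t) * g' * (x * t)⁻¹ = x * (t * g' * t⁻¹) * x⁻¹ := by group
        _ = (x * g' * x⁻¹)⁻¹ := by rw [h2']; group
        _ = g' := by rw [h1, inv_inv]
    have := main (x * t) (mul_mem hx (Subgroup.le_normalizer htS)) hxtmem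
    simpa using mul_mem this (inv_mem htS)

end H40
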