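import Mathlib
import Cfsg.Agent.H40.SL2Sylow

/-!
# Arithmetic of |SL₂(q)|.
-/

set_option autoImplicit false

namespace H40

variable {F : Type*} [Field F] [Fintype F]

theorem two_ne_zero_of_odd_card (hodd : Odd (Fintype.card F)) : (2 : F) ≠ 0 := by
  refine Ring.two_ne_zero fun h => ?_
  exact Nat.not_even_iff_odd.2 hodd (Nat.even_iff.2 ((FiniteField.even_card_iff_char_two (F := F)).1 h))

theorem factorization_SL2_of_dvd (ℓ : ℕ) [Fact ℓ.Prime] {c d : ℕ}
    (hcd : c * d = (Fintype.card F - 1) * (Fintype.card F + 1)) (hc : c ≠ 0) (hd : d ≠ 0)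
    (hq : ¬ ℓ ∣ Fintype.card F) :
    (Nat.card (Matrix.SpecialLinearGroup (Fin 2) F)).factorization ℓ =
      c.factorization ℓ + d.factorization ℓ := by
  rw [card_SL2_pm, ← hcd, Nat.factorization_mul Fintype.card_ne_zero (mul_ne_zero hc hd),
    Nat.factorization_mul hc hd]
  simp [Nat.factorization_eq_zero_of_not_dvd hq]

theorem factorization_two_eq_one {m : ℕ} (h : m % 4 = 2) : m.factorization 2 = 1 := by
  obtain ⟨r, rfl⟩ : 2 ∣ m := by omega
  rw [Nat.factorization_mul two_ne_zero (by omega)]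
  simp [Nat.factorization_eq_zero_of_not_dvd (show ¬ 2 ∣ r by omega), Nat.prime_two.factorization]

theorem factorization_two_eq_two {m : ℕ} (h : m % 8 = 4) : m.factorization 2 = 2 := by
  obtain ⟨r, rfl⟩ : 2 ∣ m := by omega
  rw [Nat.factorization_mul two_ne_zero (by omega)]
  simp [factorization_two_eq_one (show r % 4 = 2 by omega), Nat.prime_two.factorization]

theorem three_le_factorization_two {m : ℕ} (hm : m ≠ 0) (h : m % 8 = 0) : 3 ≤ m.factorization 2 :=
  (Nat.prime_two.pow_dvd_iff_le_factorization hm).1 (by omega)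

end H40
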