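import Cfsg.Agent.H40.BlockSteinberg

/-!
The Steinberg relations from two overlapping families of root elements.

The indices fall into three classes `0, 1, 2`; root elements are given for the pairs inside the
classes `0, 1` and for those inside the classes `1, 2`.
-/

set_option autoImplicit false
set_option linter.unusedSectionVars false

namespace H40.Amal

open scoped commutatorElement
open H40.Block (bracket_commute bracket_step conj_eq_of_bracket)

variable {J : Type*} {F : Type*} [Field F] {G : Type*} [Group G]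

/-- A pair of indices from the two outer classes. -/
def Cross (c : J → Fin 3) (i j : J) : Prop := c i ≠ 1 ∧ c j ≠ 1 ∧ c i ≠ c j

/-- All root elements from the given ones. -/
def full (c : J → Fin 3) (m₀ : J) {G : Type*} [Group G] (x : J → J → F → G) (i j : J) (t : F) : G :=
  if c i ≠ 1 ∧ c j ≠ 1 ∧ c i ≠ c j then ⁅x i m₀ t, x m₀ j 1⁆ else x i j t

theorem map_full {G' : Type*} [Group G'] (f : G →* G') (c : J → Fin 3) (m₀ : J)
    (x : J → J → F → G) (i j : J) (t : F) :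
    f (full c m₀ x i j t) = full c m₀ (fun i j t => f (x i j t)) i j t := by
  unfold full
  split_ifs
  · rw [map_commutatorElement]
  · rfl

/-- Two overlapping families. -/
structure Ax (c : J → Fin 3) (x : J → J → F → G) : Prop where
  other : ∀ u, ∃ m, c m = 1 ∧ m ≠ u
  add : ∀ i j, i ≠ j → ¬ Cross c i j → ∀ t u, x i j (t + u) = x i j t * x i j u
  chev : ∀ i j l, i ≠ j → j ≠ l → i ≠ l → ¬ Cross c i j → ¬ Cross c j l → ¬ Cross c i l →
    ∀ t u, ⁅x i j t, x j l u⁆ = x i l (t * u)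
  side : ∀ i j k l, i ≠ j → k ≠ l → i ≠ l → j ≠ k →
    (c i ≠ 2 ∧ c j ≠ 2 ∧ c k ≠ 2 ∧ c l ≠ 2) ∨ (c i ≠ 0 ∧ c j ≠ 0 ∧ c k ≠ 0 ∧ c l ≠ 0) →
    ∀ t u, Commute (x i j t) (x k l u)
  disj : ∀ i j k l, i ≠ j → k ≠ l → i ≠ l → j ≠ k → i ≠ k → j ≠ l →
    c i ≠ 2 → c j ≠ 2 → c k ≠ 0 → c l ≠ 0 → ∀ t u, Commute (x i j t) (x k l u)

namespace Ax

variable {c : J → Fin 3} {x : J → J → F → G} (S : Ax c x)

theorem not_cross_one {i j : J} (h : c i = 1 ∨ c j = 1) : ¬ Cross c i j := fun e =>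
  h.elim e.1 e.2.1

theorem good_cases {i j : J} (h : ¬ Cross c i j) :
    (c i ≠ 2 ∧ c j ≠ 2) ∨ (c i ≠ 0 ∧ c j ≠ 0) := by
  have key : ∀ a b : Fin 3, ¬ (a ≠ 1 ∧ b ≠ 1 ∧ a ≠ b) → (a ≠ 2 ∧ b ≠ 2) ∨ (a ≠ 0 ∧ b ≠ 0) := by decide
  exact key _ _ h

include S

theorem two (u : J) : ∃ m, c m = 1 ∧ m ≠ u := S.other u

theorem commAB {i j k l : J} (hij : i ≠ j) (hkl : k ≠ l) (hil : i ≠ l) (hjk : j ≠ k)
    (hi : c i ≠ 2) (hj : c j ≠ 2) (hk : c k ≠ 0) (hl : c l ≠ 0) (t u : F) :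
    Commute (x i j t) (x k l u) := by
  have key : ∀ a : Fin 3, a ≠ 2 → a ≠ 0 → a = 1 := by decide
  have one2 : (1 : Fin 3) ≠ 2 := by decide
  have one0 : (1 : Fin 3) ≠ 0 := by decide
  by_cases hB : c i ≠ 0 ∧ c j ≠ 0
  · exact S.side i j k l hij hkl hil hjk (Or.inr ⟨hB.1, hB.2, hk, hl⟩) t u
  by_cases hA : c k ≠ 2 ∧ c l ≠ 2
  · exact S.side i j k l hij hkl hil hjk (Or.inl ⟨hi, hj, hA.1, hA.2⟩) t u
  by_cases hik : i = k
  · subst hik
    have hi1 : c i = 1 := key _ hi hk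
    have hcj : c j = 0 := by_contra fun h => hB ⟨hk, h⟩
    have hcl : c l = 2 := by_contra fun h => hA ⟨hi, h⟩
    obtain ⟨m, hm, hmi⟩ := S.other i
    have hmj : m ≠ j := fun e => one0 (by rw [← hm, e, hcj])
    have hml : m ≠ l := fun e => one2 (by rw [← hm, e, hcl])
    have e : x i j t = ⁅x i m t, x m j 1⁆ := by
      rw [S.chev i m j hmi.symm hmj hij (not_cross_one (Or.inl hi1))
        (not_cross_one (Or.inl hm)) (not_cross_one (Or.inl hi1)), mul_one]
    rw [e]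
    refine bracket_commute (S.side i m i l hmi.symm hkl hil hmi
      (Or.inr ⟨hk, hm ▸ one0, hk, hl⟩) t u) ?_
    exact S.disj m j i l hmj hkl hml hij.symm hmi
      (fun e => hl (by rw [← e, hcj])) (hm ▸ one2) hj hk hl 1 u
  by_cases hjl : j = l
  · subst hjl
    have hj1 : c j = 1 := key _ hj hl
    have hci : c i = 0 := by_contra fun h => hB ⟨h, hl⟩
    have hck : c k = 2 := by_contra fun h => hA ⟨h, hj⟩
    obtain ⟨m, hm, hmj⟩ := S.other j
    have him : i ≠ m := fun e => one0 (by rw [← hm, ← e, hci])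
    have hmk : m ≠ k := fun e => one2 (by rw [← hm, e, hck])
    have e : x i j t = ⁅x i m t, x m j 1⁆ := by
      rw [S.chev i m j him hmj hij (not_cross_one (Or.inr hm))
        (not_cross_one (Or.inl hm)) (not_cross_one (Or.inr hj1)), mul_one]
    rw [e]
    refine bracket_commute ?_ (S.side m j k j hmj hkl hmj hjk
      (Or.inr ⟨hm ▸ one0, hl, hk, hl⟩) 1 u)
    exact S.disj i m k j him hkl hil hmk hik hmj hi (hm ▸ one2) hk hl t u
  exact S.disj i j k l hij hkl hil hjk hik hjl hi hj hk hl t u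

/-- Given root elements commute when they should. -/
theorem goodComm {i j k l : J} (hij : i ≠ j) (hkl : k ≠ l) (hil : i ≠ l) (hjk : j ≠ k)
    (gij : ¬ Cross c i j) (gkl : ¬ Cross c k l) (t u : F) : Commute (x i j t) (x k l u) := by
  rcases good_cases gij with ⟨hi, hj⟩ | ⟨hi, hj⟩ <;> rcases good_cases gkl with ⟨hk, hl⟩ | ⟨hk, hl⟩
  · exact S.side i j k l hij hkl hil hjk (Or.inl ⟨hi, hj, hk, hl⟩) t u
  · exact S.commAB hij hkl hil hjk hi hj hk hl t u
  · exact (S.commAB hkl hij hjk.symm hil.symm hk hl hi hj u t).symm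
  · exact S.side i j k l hij hkl hil hjk (Or.inr ⟨hi, hj, hk, hl⟩) t u

theorem zero {i j : J} (h : i ≠ j) (g : ¬ Cross c i j) : x i j 0 = 1 := by
  simpa using S.add i j h g 0 0

theorem inv {i j : J} (h : i ≠ j) (g : ¬ Cross c i j) (t : F) : (x i j t)⁻¹ = x i j (-t) :=
  inv_eq_of_mul_eq_one_right (by rw [← S.add i j h g, add_neg_cancel, S.zero h g])

/-- A middle index. -/
theorem mid_ne {i m : J} (hm : c m = 1) (hi : c i ≠ 1) : i ≠ m := fun e => hi (e ▸ hm)

theorem shift {i j m m' : J} (h : Cross c i j) (hm : c m = 1) (hm' : c m' = 1) (hne : m ≠ m')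
    (t u : F) : ⁅x i m t, x m j u⁆ = ⁅x i m' (t * u), x m' j 1⁆ := by
  obtain ⟨hi, hj, hij⟩ := h
  have him := mid_ne S hm hi
  have him' := mid_ne S hm' hi
  have hjm := mid_ne S hm hj
  have hjm' := mid_ne S hm' hj
  have hij' : i ≠ j := fun e => hij (by rw [e])
  have g : ∀ {a b : J}, c a = 1 ∨ c b = 1 → ¬ Cross c a b := not_cross_one
  have eu : x m j u = ⁅x m m' u, x m' j 1⁆ := by
    rw [S.chev m m' j hne hjm'.symm hjm.symm (g (Or.inl hm)) (g (Or.inl hm')) (g (Or.inl hm)),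
      mul_one]
  have hP : Commute (x i m' (t * u)) (x m j u) :=
    S.goodComm him' hjm.symm hij' hne.symm (g (Or.inr hm')) (g (Or.inl hm)) _ _
  rw [eu]
  refine bracket_step (conj_eq_of_bracket
    (S.chev i m m' him hne him' (g (Or.inr hm)) (g (Or.inl hm)) (g (Or.inr hm')) t u)) ?_
    (eu ▸ hP) ?_
  · rw [(S.goodComm him hjm'.symm hij' hne (g (Or.inr hm)) (g (Or.inl hm')) t 1).eq,
      mul_inv_cancel_right]
  · rw [← eu]
    exact bracket_commute hP
      (S.goodComm hjm'.symm hjm.symm hjm'.symm hjm (g (Or.inl hm')) (g (Or.inl hm)) 1 u)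

variable {m₀ : J} (hm₀ : c m₀ = 1)

include hm₀

theorem cross_eq {i j m : J} (h : Cross c i j) (hm : c m = 1) (t u : F) :
    ⁅x i m t, x m j u⁆ = full c m₀ x i j (t * u) := by
  rw [full, if_pos (show c i ≠ 1 ∧ c j ≠ 1 ∧ c i ≠ c j from h)]
  by_cases e : m = m₀
  · obtain ⟨m', hm', hne⟩ := S.other m₀
    rw [e, S.shift h hm₀ hm' hne.symm, S.shift h hm' hm₀ hne, mul_one]
  · exact S.shift h hm hm₀ e t u

omit S hm₀ in
theorem full_good {i j : J} (h : ¬ Cross c i j) (t : F) : full c m₀ x i j t = x i j t := if_neg h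

theorem full_cross {i j m : J} (h : Cross c i j) (hm : c m = 1) (t : F) :
    full c m₀ x i j t = ⁅x i m t, x m j 1⁆ := by
  rw [S.cross_eq hm₀ h hm, mul_one]

theorem cross_good {i j k l : J} (h : Cross c i j) (hkl : k ≠ l) (g : ¬ Cross c k l)
    (hil : i ≠ l) (hjk : j ≠ k) (t u : F) : Commute (full c m₀ x i j t) (x k l u) := by
  have hij : i ≠ j := fun e => h.2.2 (by rw [e])
  have G1 : ∀ {a b : J}, c a = 1 ∨ c b = 1 → ¬ Cross c a b := not_cross_one
  by_cases hM : c k = 1 ∧ c l = 1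
  · obtain ⟨hk, hl⟩ := hM
    have hik := mid_ne S hk h.1
    have hjk' := mid_ne S hk h.2.1
    have hjl := mid_ne S hl h.2.1
    rw [S.full_cross hm₀ h hk]
    set A := x i k t
    set B := x k j 1
    set Z := ⁅A, B⁆
    set g' := x k l u
    have hA : g' * A * g'⁻¹ = x i l (-(t * u)) * A := by
      have e := S.chev i k l hik hkl hil (G1 (Or.inr hk)) (G1 (Or.inl hk)) (G1 (Or.inr hl)) t u
      rw [← S.inv hil (G1 (Or.inr hl)), ← e]
      simp only [g', A, commutatorElement_def]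
      group
    have hB : Commute g' B :=
      S.goodComm hkl hjk'.symm hjk'.symm hkl.symm (G1 (Or.inl hk)) (G1 (Or.inl hk)) u 1
    have hP : Commute (x i l (-(t * u))) B :=
      S.goodComm hil hjk'.symm hij hkl.symm (G1 (Or.inr hl)) (G1 (Or.inl hk)) _ _
    have hPA : Commute (x i l (-(t * u))) A :=
      S.goodComm hil hik hik hil.symm (G1 (Or.inr hl)) (G1 (Or.inr hk)) _ _
    have key : g' * Z * g'⁻¹ = Z := by
      have e1 : g' * Z * g'⁻¹ = ⁅g' * A * g'⁻¹, g' * B * g'⁻¹⁆ := by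
        simp only [Z, commutatorElement_def]; group
      rw [e1, hA, hB.eq, mul_inv_cancel_right]
      have hPZ : Commute (x i l (-(t * u))) Z := (bracket_commute hPA.symm hP.symm).symm
      calc ⁅x i l (-(t * u)) * A, B⁆
          = x i l (-(t * u)) * Z * (x i l (-(t * u)))⁻¹ * ⁅x i l (-(t * u)), B⁆ := by
            simp only [Z, commutatorElement_def]; group
        _ = Z := by
            rw [commutatorElement_eq_one_iff_mul_comm.2 hP.eq, mul_one, hPZ.eq, mul_inv_cancel_right]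
    exact (mul_inv_eq_iff_eq_mul.1 key).symm
  obtain ⟨m, hm, hmk, hml⟩ : ∃ m, c m = 1 ∧ m ≠ k ∧ m ≠ l := by
    by_cases hk : c k = 1
    · obtain ⟨m, hm, hmk⟩ := S.other k
      exact ⟨m, hm, hmk, fun e => hM ⟨hk, e ▸ hm⟩⟩
    · obtain ⟨m, hm, hml⟩ := S.other l
      exact ⟨m, hm, fun e => hk (e ▸ hm), hml⟩
  have him := mid_ne S hm h.1
  have hjm := mid_ne S hm h.2.1
  rw [S.full_cross hm₀ h hm]
  exact bracket_commute (S.goodComm him hkl hil hmk (G1 (Or.inr hm)) g t u)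
    (S.goodComm hjm.symm hkl hml hjk (G1 (Or.inl hm)) g 1 u)

/-- All root elements commute when they should. -/
theorem comm {i j k l : J} (hij : i ≠ j) (hkl : k ≠ l) (hil : i ≠ l) (hjk : j ≠ k) (t u : F) :
    Commute (full c m₀ x i j t) (full c m₀ x k l u) := by
  by_cases h : Cross c i j <;> by_cases h' : Cross c k l
  · obtain ⟨m, hm⟩ : ∃ m, c m = 1 := ⟨m₀, hm₀⟩
    have hkm := mid_ne S hm h'.1
    have hlm := mid_ne S hm h'.2.1
    rw [S.full_cross hm₀ h' hm]
    exact (bracket_commute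
      (S.cross_good hm₀ h hkm (not_cross_one (Or.inr hm)) (mid_ne S hm h.1) hjk t u).symm
      (S.cross_good hm₀ h hlm.symm (not_cross_one (Or.inl hm)) hil (mid_ne S hm h.2.1) t 1).symm).symm
  · rw [full_good h']
    exact S.cross_good hm₀ h hkl h' hil hjk t u
  · rw [full_good h]
    exact (S.cross_good hm₀ h' hij h hjk.symm hil.symm u t).symm
  · rw [full_good h, full_good h']
    exact S.goodComm hij hkl hil hjk h h' t u

theorem full_add {i j : J} (hij : i ≠ j) (t u : F) :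
    full c m₀ x i j (t + u) = full c m₀ x i j t * full c m₀ x i j u := by
  by_cases h : Cross c i j
  · have him := mid_ne S hm₀ h.1
    have g := not_cross_one (c := c) (i := i) (j := m₀) (Or.inr hm₀)
    have h1 : Commute (full c m₀ x i j u) (x i m₀ t) := S.cross_good hm₀ h him g him hij.symm u t
    rw [(S.comm hm₀ hij hij hij hij.symm t u).eq]
    conv_lhs => rw [S.full_cross hm₀ h hm₀, S.add i m₀ him g]
    rw [show ⁅x i m₀ t * x i m₀ u, x m₀ j 1⁆ =
        x i m₀ t * ⁅x i m₀ u, x m₀ j 1⁆ * (x i m₀ t)⁻¹ * ⁅x i m₀ t, x m₀ j 1⁆ by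
        simp only [commutatorElement_def]; group,
      ← S.full_cross hm₀ h hm₀, ← S.full_cross hm₀ h hm₀, h1.symm.eq, mul_inv_cancel_right]
  · rw [full_good h, full_good h, full_good h, S.add i j hij h]

theorem full_inv {i j : J} (hij : i ≠ j) (t : F) :
    (full c m₀ x i j t)⁻¹ = full c m₀ x i j (-t) := by
  have h0 : full c m₀ x i j 0 = 1 := by simpa using S.full_add hm₀ hij 0 0
  exact inv_eq_of_mul_eq_one_right (by rw [← S.full_add hm₀ hij, add_neg_cancel, h0])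

omit hm₀ S in
/-- The commutator formula for a triple. -/
def Chev (c : J → Fin 3) (m₀ : J) (x : J → J → F → G) (i j l : J) : Prop :=
  ∀ t u : F, ⁅full c m₀ x i j t, full c m₀ x j l u⁆ = full c m₀ x i l (t * u)

theorem chev_left {i j l r : J} (hij : i ≠ j) (hjl : j ≠ l) (hil : i ≠ l) (hri : r ≠ i)
    (hrj : r ≠ j) (hrl : r ≠ l) (h1 : Chev c m₀ x j r l) (h2 : Chev c m₀ x i j r)
    (h3 : Chev c m₀ x i r l) : Chev c m₀ x i j l := by
  intro t u
  have eu : full c m₀ x j l u = ⁅full c m₀ x j r u, full c m₀ x r l 1⁆ := by rw [h1, mul_one]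
  rw [eu]
  refine (bracket_step (conj_eq_of_bracket (h2 t u)) ?_ ?_ ?_).trans (by rw [h3, mul_one])
  · rw [(S.comm hm₀ hij hrl hil hrj.symm t 1).eq, mul_inv_cancel_right]
  · rw [← eu]; exact S.comm hm₀ hri.symm hjl hil hrj _ _
  · rw [h3, ← eu]
    exact S.comm hm₀ hil hjl hil hjl.symm _ _

theorem chev_right {i j l r : J} (hij : i ≠ j) (hjl : j ≠ l) (hil : i ≠ l) (hri : r ≠ i)
    (hrj : r ≠ j) (hrl : r ≠ l) (h1 : Chev c m₀ x i r j) (h2 : Chev c m₀ x r j l)
    (h3 : Chev c m₀ x i r l) : Chev c m₀ x i j l := by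
  intro t u
  set A := full c m₀ x j l u
  set W := full c m₀ x i j t
  have eW : ⁅full c m₀ x r j 1, full c m₀ x i r t⁆ = W⁻¹ := by
    rw [← commutatorElement_inv, h1, mul_one]
  have hA : ⁅A, full c m₀ x r j 1⁆ = full c m₀ x r l (-u) := by
    rw [← commutatorElement_inv, h2, one_mul, S.full_inv hm₀ hrl]
  have key : ⁅A, W⁻¹⁆ = full c m₀ x i l (t * u) := by
    rw [← eW]
    refine (bracket_step (conj_eq_of_bracket hA) ?_ ?_ ?_).trans ?_
    · rw [(S.comm hm₀ hjl hri.symm hrj.symm hil.symm u t).eq, mul_inv_cancel_right]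
    · rw [eW]; exact (S.comm hm₀ hrl hij hrj hil.symm _ _).inv_right
    · rw [← commutatorElement_inv, h3, eW]
      exact ((S.comm hm₀ hil hij hij hil.symm _ _).inv_right).inv_left
    · rw [← commutatorElement_inv, h3, S.full_inv hm₀ hil, mul_neg, neg_neg]
  have hW : Commute W (full c m₀ x i l (t * u)) := S.comm hm₀ hij hil hil hij.symm _ _
  calc ⁅W, A⁆ = W * ⁅A, W⁻¹⁆ * W⁻¹ := by simp only [commutatorElement_def]; group
    _ = _ := by rw [key, hW.eq, mul_inv_cancel_right]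

theorem chev_good {i j l : J} (hij : i ≠ j) (hjl : j ≠ l) (hil : i ≠ l) (g1 : ¬ Cross c i j)
    (g2 : ¬ Cross c j l) (g3 : ¬ Cross c i l) : Chev c m₀ x i j l := fun t u => by
  rw [full_good g1, full_good g2, full_good g3]; exact S.chev i j l hij hjl hil g1 g2 g3 t u

theorem chev_mid {i m l : J} (h : Cross c i l) (hm : c m = 1) : Chev c m₀ x i m l := fun t u => by
  rw [full_good (not_cross_one (Or.inr hm)), full_good (not_cross_one (Or.inl hm))]
  exact S.cross_eq hm₀ h hm t u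

/-- The outer pair crosses. -/
theorem chev_outer {i j l : J} (hij : i ≠ j) (hjl : j ≠ l) (h : Cross c i l) :
    Chev c m₀ x i j l := by
  by_cases hj : c j = 1
  · exact S.chev_mid hm₀ h hj
  obtain ⟨hi, hl, hil⟩ := h
  have him := mid_ne S hm₀ hi
  have hlm := mid_ne S hm₀ hl
  have hjm := mid_ne S hm₀ hj
  have hil' : i ≠ l := fun e => hil (by rw [e])
  have G1 : ∀ {a b : J}, c a = 1 ∨ c b = 1 → ¬ Cross c a b := not_cross_one
  have key : ∀ a b d : Fin 3, a ≠ 1 → b ≠ 1 → d ≠ 1 → a ≠ d → b = a ∨ b = d := fun a b d => by omega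
  rcases key _ _ _ hi hj hl hil with e | e
  · exact S.chev_left hm₀ hij hjl hil' him.symm hjm.symm hlm.symm
      (S.chev_mid hm₀ ⟨hj, hl, e ▸ hil⟩ hm₀)
      (S.chev_good hm₀ hij hjm him (fun h => h.2.2 e.symm) (G1 (Or.inr hm₀)) (G1 (Or.inr hm₀)))
      (S.chev_mid hm₀ ⟨hi, hl, hil⟩ hm₀)
  · exact S.chev_right hm₀ hij hjl hil' him.symm hjm.symm hlm.symm
      (S.chev_mid hm₀ ⟨hi, hj, e ▸ hil⟩ hm₀)
      (S.chev_good hm₀ hjm.symm hjl hlm.symm (G1 (Or.inl hm₀)) (fun h => h.2.2 e) (G1 (Or.inl hm₀)))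
      (S.chev_mid hm₀ ⟨hi, hl, hil⟩ hm₀)

/-- One end in the middle. -/
theorem chev_end {i j l : J} (hij : i ≠ j) (hjl : j ≠ l) (hil : i ≠ l) (h : c i = 1 ∨ c l = 1) :
    Chev c m₀ x i j l := by
  have G1 : ∀ {a b : J}, c a = 1 ∨ c b = 1 → ¬ Cross c a b := not_cross_one
  by_cases g1 : Cross c i j
  · have hl : c l = 1 := h.resolve_left g1.1
    obtain ⟨m, hm, hml⟩ := S.other l
    have him := mid_ne S hm g1.1
    have hjm := mid_ne S hm g1.2.1
    exact S.chev_right hm₀ hij hjl hil him.symm hjm.symm hml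
      (S.chev_mid hm₀ g1 hm)
      (S.chev_good hm₀ hjm.symm hjl hml (G1 (Or.inl hm)) (G1 (Or.inr hl)) (G1 (Or.inl hm)))
      (S.chev_good hm₀ him hml hil (G1 (Or.inr hm)) (G1 (Or.inl hm)) (G1 (Or.inr hl)))
  by_cases g2 : Cross c j l
  · have hi : c i = 1 := h.resolve_right g2.2.1
    obtain ⟨m, hm, hmi⟩ := S.other i
    have hjm := mid_ne S hm g2.1
    have hlm := mid_ne S hm g2.2.1
    exact S.chev_left hm₀ hij hjl hil hmi hjm.symm hlm.symm
      (S.chev_mid hm₀ g2 hm)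
      (S.chev_good hm₀ hij hjm hmi.symm g1 (G1 (Or.inr hm)) (G1 (Or.inl hi)))
      (S.chev_good hm₀ hmi.symm hlm.symm hil (G1 (Or.inl hi)) (G1 (Or.inl hm)) (G1 (Or.inl hi)))
  exact S.chev_good hm₀ hij hjl hil g1 g2 (G1 h)

/-- All commutator formulas. -/
theorem chev_all {i j l : J} (hij : i ≠ j) (hjl : j ≠ l) (hil : i ≠ l) : Chev c m₀ x i j l := by
  by_cases g3 : Cross c i l
  · exact S.chev_outer hm₀ hij hjl g3
  by_cases h1 : c i = 1 ∨ c l = 1
  · exact S.chev_end hm₀ hij hjl hil h1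
  push Not at h1
  have e : c i = c l := by_contra fun h => g3 ⟨h1.1, h1.2, h⟩
  by_cases g1 : Cross c i j
  · have g2 : Cross c j l := ⟨g1.2.1, h1.2, fun h => g1.2.2 (by rw [e, h])⟩
    have him := mid_ne S hm₀ h1.1
    have hjm := mid_ne S hm₀ g1.2.1
    have hlm := mid_ne S hm₀ h1.2
    exact S.chev_left hm₀ hij hjl hil him.symm hjm.symm hlm.symm
      (S.chev_mid hm₀ g2 hm₀)
      (S.chev_end hm₀ hij hjm him (Or.inr hm₀))
      (S.chev_good hm₀ him hlm.symm hil (not_cross_one (Or.inr hm₀)) (not_cross_one (Or.inl hm₀)) g3)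
  have g2 : ¬ Cross c j l := fun h => g1 ⟨h1.1, h.1, fun e' => h.2.2 (by rw [← e', e])⟩
  exact S.chev_good hm₀ hij hjl hil g1 g2 g3

/-- The Steinberg relations. -/
theorem strel : StRel (full c m₀ x) where
  add _ _ h t u := S.full_add hm₀ h t u
  comm _ _ _ _ h h' h1 h2 t u := S.comm hm₀ h h' h1 h2 t u
  chev i j l h h' h1 t u := by
    rw [← commutatorElement_def]
    exact S.chev_all hm₀ h h' h1 t u

end Ax

end H40.Amal
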