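import Cfsg.Agent.H40.SL3Pres

/-!
What nine relations between a copy of `SL₃(K)` and one further element give: root groups indexed by
a skew group ring of `K`.
-/

set_option autoImplicit false
set_option linter.unusedSectionVars false

namespace H40.BlockPres

open Matrix H40.SL3
open scoped commutatorElement

variable {K : Type*} [Field K]

/-- A root element of `SL₃`. -/
def T (i j : Fin 3) (a : K) : SpecialLinearGroup (Fin 3) K :=
  if h : i ≠ j then SpecialLinearGroup.transvection h a else 1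

theorem T_strel : StRel (T (K := K)) := H40.transvection_strel

theorem T_of {i j : Fin 3} (h : i ≠ j) (a : K) : T i j a = SpecialLinearGroup.transvection h a :=
  dif_pos h

theorem T_zero (i j : Fin 3) : T i j (0 : K) = 1 := by
  by_cases h : i ≠ j
  · simpa using T_strel.add i j h (0 : K) 0
  · exact dif_neg h

theorem T01 (a : K) : T 0 1 a = xT (.ofAdd a) := T_of (by decide) a

theorem cT_T (i j : Fin 3) (a : K) : cT * T i j a * cT⁻¹ = T (i + 1) (j + 1) a := by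
  by_cases h : i = j
  · subst h; simp [T]
  have h' : i + 1 ≠ j + 1 := fun e => h (add_right_cancel e)
  rw [T_of h, T_of h', mul_inv_eq_iff_eq_mul]
  refine ext3 ?_
  rw [cm3, cm3, coe_cT, SpecialLinearGroup.transvection_coe, SpecialLinearGroup.transvection_coe]
  ext u v
  fin_cases i <;> fin_cases j <;> (try exact absurd rfl h) <;> fin_cases u <;> fin_cases v <;>
    simp [Matrix.mul_apply, Fin.sum_univ_three, Matrix.single_apply, Matrix.one_apply]

theorem tT_T01 (a : K) : tT⁻¹ * T 0 1 a * tT = T 1 0 (-a) := by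
  rw [T_of (by decide), T_of (by decide), mul_assoc, inv_mul_eq_iff_eq_mul]
  refine ext3 ?_
  rw [cm3, cm3, coe_tT, SpecialLinearGroup.transvection_coe, SpecialLinearGroup.transvection_coe]
  ext u v
  fin_cases u <;> fin_cases v <;>
    simp [Matrix.mul_apply, Fin.sum_univ_three, Matrix.single_apply, Matrix.one_apply]

theorem tT_T12 (a : K) : tT⁻¹ * T 1 2 a * tT = T 0 2 (-a) := by
  rw [T_of (by decide), T_of (by decide), mul_assoc, inv_mul_eq_iff_eq_mul]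
  refine ext3 ?_
  rw [cm3, cm3, coe_tT, SpecialLinearGroup.transvection_coe, SpecialLinearGroup.transvection_coe]
  ext u v
  fin_cases u <;> fin_cases v <;>
    simp [Matrix.mul_apply, Fin.sum_univ_three, Matrix.single_apply, Matrix.one_apply]

theorem all_pairs {P : Fin 3 → Fin 3 → Prop} (rot : ∀ i j, i ≠ j → P i j → P (i + 1) (j + 1))
    (h01 : P 0 1) (h10 : P 1 0) {i j : Fin 3} (h : i ≠ j) : P i j := by
  have h12 : P 1 2 := rot 0 1 (by decide) h01
  have h20 : P 2 0 := rot 1 2 (by decide) h12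
  have h21 : P 2 1 := rot 1 0 (by decide) h10
  have h02 : P 0 2 := rot 2 1 (by decide) h21
  fin_cases i <;> fin_cases j <;> first | exact absurd rfl h | assumption

theorem sq_span [Finite K] (S : AddSubgroup K) (h : ∀ a : K, a * a ∈ S) : S = ⊤ := by
  rw [eq_top_iff]
  intro x _
  cases nonempty_fintype K
  by_cases h2 : ringChar K = 2
  · obtain ⟨a, rfl⟩ := FiniteField.isSquare_of_char_two h2 x
    exact h a
  · obtain ⟨a, b, hab⟩ := FiniteField.exists_root_sum_quadratic (f := Polynomial.X ^ 2)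
      (g := Polynomial.X ^ 2 - Polynomial.C x) (Polynomial.degree_X_pow 2)
      (Polynomial.degree_X_pow_sub_C (by decide) _) (FiniteField.odd_card_of_char_ne_two h2)
    simp only [Polynomial.eval_pow, Polynomial.eval_X, Polynomial.eval_sub, Polynomial.eval_C] at hab
    rw [show x = a * a + b * b by linear_combination -hab]
    exact add_mem (h a) (h b)

/-- Two homomorphisms from the additive group agreeing on squares agree. -/
theorem hom_ext_sq [Finite K] {G : Type*} [Group G] (φ φ' : Multiplicative K →* G)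
    (h : ∀ y : Kˣ, φ (.ofAdd ((y : K) * y)) = φ' (.ofAdd ((y : K) * y))) : φ = φ' := by
  let S : AddSubgroup K :=
    { carrier := {a | φ (.ofAdd a) = φ' (.ofAdd a)}
      zero_mem' := by simp
      add_mem' := fun {a b} ha hb => by
        simp only [Set.mem_ofPred_eq, ofAdd_add, map_mul] at *
        rw [ha, hb]
      neg_mem' := fun {a} ha => by
        simp only [Set.mem_ofPred_eq, ofAdd_neg, map_inv] at *
        rw [ha] }
  have hS : S = ⊤ := sq_span S fun a => by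
    by_cases ha : a = 0
    · subst ha; rw [mul_zero]; exact S.zero_mem
    · exact h (Units.mk0 a ha)
  exact MonoidHom.ext fun a => (show Multiplicative.toAdd a ∈ S by rw [hS]; exact AddSubgroup.mem_top _)

variable {G : Type*} [Group G]

/-- The three conjugates of the extra element. -/
def fi (ψ : SpecialLinearGroup (Fin 3) K →* G) (f : G) : Fin 3 → G :=
  ![f, ψ cT * f * (ψ cT)⁻¹, ψ cT * (ψ cT * f * (ψ cT)⁻¹) * (ψ cT)⁻¹]

/-- The relations. -/
structure Rels (m q : ℕ) (σ : K ≃+* K) (ν : K) (ζ : Kˣ) (ψ : SpecialLinearGroup (Fin 3) K →* G)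
    (f : G) : Prop where
  hσ : ∀ a, σ a = a ^ q
  hgen : ∀ y : Kˣ, y ∈ Subgroup.zpowers ζ
  r1 : Commute f (fi ψ f 1)
  r2 : Commute (fi ψ f 2) (ψ (T 0 1 1))
  r3 : Commute (f * fi ψ f 1) (ψ (T 0 1 1))
  r4 : f * fi ψ f 1 * ψ (dT (ζ⁻¹, ζ)) * (f * fi ψ f 1)⁻¹ = ψ (dT (ζ⁻¹, ζ)) ^ q
  r5 : f ^ m * ψ (T 0 1 1) * (f ^ m)⁻¹ = ψ (T 0 1 ν)
  r6 : (ψ tT)⁻¹ * f * ψ tT = fi ψ f 1
  r8 : Commute f (ψ (dT (1, ζ⁻¹)))

namespace Rels

variable [Finite K] {m q : ℕ} {σ : K ≃+* K} {ν : K} {ζ : Kˣ}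
  {ψ : SpecialLinearGroup (Fin 3) K →* G} {f : G} (R : Rels m q σ ν ζ ψ f)

/-- The root groups of the copy of `SL₃`. -/
def τ (ψ : SpecialLinearGroup (Fin 3) K →* G) (i j : Fin 3) : Multiplicative K →* G where
  toFun a := ψ (T i j a.toAdd)
  map_one' := by rw [toAdd_one, T_zero, map_one]
  map_mul' a b := by
    by_cases h : i ≠ j
    · rw [toAdd_mul, T_strel.add i j h, map_mul]
    · simp [T, h]

theorem τ_apply (i j : Fin 3) (a : K) : τ ψ i j (.ofAdd a) = ψ (T i j a) := rfl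

theorem c_τ (i j : Fin 3) (a : K) :
    ψ cT * ψ (T i j a) * (ψ cT)⁻¹ = ψ (T (i + 1) (j + 1) a) := by
  rw [← map_inv, ← map_mul, ← map_mul, cT_T]

theorem t_τ01 (a : K) : (ψ tT)⁻¹ * ψ (T 0 1 a) * ψ tT = ψ (T 1 0 (-a)) := by
  rw [← map_inv, ← map_mul, ← map_mul, tT_T01]

theorem t_τ12 (a : K) : (ψ tT)⁻¹ * ψ (T 1 2 a) * ψ tT = ψ (T 0 2 (-a)) := by
  rw [← map_inv, ← map_mul, ← map_mul, tT_T12]

theorem d_τ01 (u v : Kˣ) (a : K) :
    ψ (dT (u, v)) * ψ (T 0 1 a) * (ψ (dT (u, v)))⁻¹ = ψ (T 0 1 ((u : K) * (v : K)⁻¹ * a)) := by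
  rw [← map_inv, ← map_mul, ← map_mul, T01, dT_xT, T01]

theorem c3 : ψ (cT : SpecialLinearGroup (Fin 3) K) * ψ cT * ψ cT = 1 := by
  rw [← map_mul, ← map_mul, cT3, map_one]

theorem c_fi (i : Fin 3) : ψ cT * fi ψ f i * (ψ cT)⁻¹ = fi ψ f (i + 1) := by
  fin_cases i
  · rfl
  · rfl
  · show ψ cT * (ψ cT * (ψ cT * f * (ψ cT)⁻¹) * (ψ cT)⁻¹) * (ψ cT)⁻¹ = f
    rw [show ψ cT * (ψ cT * (ψ cT * f * (ψ cT)⁻¹) * (ψ cT)⁻¹) * (ψ cT)⁻¹ =
      (ψ cT * ψ cT * ψ cT) * f * (ψ cT * ψ cT * ψ cT)⁻¹ by group, c3, inv_one, one_mul, mul_one]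

theorem commute_conj (g : G) {a b : G} (h : Commute a b) :
    Commute (g * a * g⁻¹) (g * b * g⁻¹) := h.map (MulAut.conj g).toMonoidHom

theorem commute_conj' (g : G) {a b : G} (h : Commute a b) :
    Commute (g⁻¹ * a * g) (g⁻¹ * b * g) := by
  simpa using commute_conj g⁻¹ h

include R

theorem fcomm (i j : Fin 3) : Commute (fi ψ f i) (fi ψ f j) := by
  by_cases h : i = j
  · rw [h]
  refine all_pairs (P := fun i j => Commute (fi ψ f i) (fi ψ f j)) (fun i j _ hij => ?_) R.r1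
    R.r1.symm h
  rw [← c_fi i, ← c_fi j]
  exact commute_conj _ hij

theorem d1_comm (y : Kˣ) : Commute f (ψ (dT (1, y))) := by
  obtain ⟨e, rfl⟩ := Subgroup.mem_zpowers_iff.1 (R.hgen y)
  rw [show ((1 : Kˣ), ζ ^ e) = ((1 : Kˣ), ζ⁻¹) ^ (-e) by simp, map_zpow, map_zpow]
  exact R.r8.zpow_right _

theorem d2_comm (y : Kˣ) : Commute (fi ψ f 2) (ψ (dT (y, y⁻¹))) := by
  have e : ψ cT * (ψ cT * ψ (dT (1, y)) * (ψ cT)⁻¹) * (ψ cT)⁻¹ = ψ (dT (y, y⁻¹)) := by
    simp only [← map_inv, ← map_mul, cT_dT]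
    simp
  rw [← e]
  exact commute_conj _ (commute_conj _ (R.d1_comm y))

theorem fix2 (a : K) : Commute (fi ψ f 2) (ψ (T 0 1 a)) := by
  have h := hom_ext_sq ((MulAut.conj (fi ψ f 2)).toMonoidHom.comp (τ ψ 0 1)) (τ ψ 0 1) fun y => by
    show fi ψ f 2 * ψ (T 0 1 ((y : K) * y)) * (fi ψ f 2)⁻¹ = ψ (T 0 1 ((y : K) * y))
    have e : ψ (T 0 1 ((y : K) * y)) =
        ψ (dT (y, y⁻¹)) * ψ (T 0 1 1) * (ψ (dT (y, y⁻¹)))⁻¹ := by
      rw [d_τ01, Units.val_inv_eq_inv_val, inv_inv, mul_one]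
    have hc : Commute (fi ψ f 2) (ψ (T 0 1 ((y : K) * y))) :=
      e ▸ ((R.d2_comm y).mul_right R.r2).mul_right (R.d2_comm y).inv_right
    rw [hc.eq, mul_inv_cancel_right]
  have := DFunLike.congr_fun h (.ofAdd a)
  exact mul_inv_eq_iff_eq_mul.1 this

/-- The third element fixes each root group. -/
theorem fix {i j k : Fin 3} (hij : i ≠ j) (hki : k ≠ i) (hkj : k ≠ j) (a : K) :
    Commute (fi ψ f k) (ψ (T i j a)) := by
  have rot : ∀ (i j k : Fin 3) (a : K), Commute (fi ψ f k) (ψ (T i j a)) →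
      Commute (fi ψ f (k + 1)) (ψ (T (i + 1) (j + 1) a)) := fun i j k a h => by
    rw [← c_fi k, ← c_τ i j a]; exact commute_conj _ h
  refine all_pairs (P := fun i j => ∀ k, k ≠ i → k ≠ j → ∀ a, Commute (fi ψ f k) (ψ (T i j a)))
    (fun i j _ h k hki hkj a => ?_) (fun k h0 h1 a => ?_) (fun k h1 h0 a => ?_) hij k hki hkj a
  · obtain ⟨k, rfl⟩ : ∃ k', k = k' + 1 := ⟨k - 1, (sub_add_cancel k 1).symm⟩
    exact rot i j k a (h k (fun e => hki (by rw [e])) (fun e => hkj (by rw [e])) a)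
  · have hk : k = 2 := by revert h0 h1; decide +revert
    subst hk; exact R.fix2 a
  · have hk : k = 2 := by revert h0 h1; decide +revert
    subst hk
    have e0 := rot 0 1 2 (-a) (R.fix2 (-a))
    have e1 := commute_conj' (ψ tT) e0
    rw [show (2 + 1 : Fin 3) = 0 from rfl, show (0 + 1 : Fin 3) = 1 from rfl,
      show (1 + 1 : Fin 3) = 2 from rfl] at e1
    rw [show (ψ tT)⁻¹ * fi ψ f 0 * ψ tT = fi ψ f 1 from R.r6, t_τ12, neg_neg] at e1
    exact rot 0 2 1 a e1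

theorem sig01 (a : K) :
    f * fi ψ f 1 * ψ (T 0 1 a) * (f * fi ψ f 1)⁻¹ = ψ (T 0 1 (σ a)) := by
  have hd : ∀ y : Kˣ, f * fi ψ f 1 * ψ (dT (y, y⁻¹)) * (f * fi ψ f 1)⁻¹ =
      ψ (dT (y ^ q, (y ^ q)⁻¹)) := by
    intro y
    obtain ⟨e, rfl⟩ := Subgroup.mem_zpowers_iff.1 (R.hgen y)
    rw [show ((ζ : Kˣ) ^ e, (ζ ^ e)⁻¹) = (ζ⁻¹, ζ) ^ (-e) by simp,
      map_zpow, map_zpow, ← conj_zpow, R.r4, ← zpow_natCast, ← _root_.zpow_mul,
      ← map_zpow ψ, ← map_zpow dT]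
    congr 2
    simp only [Prod.pow_mk, Prod.mk.injEq, _root_.inv_zpow', ← zpow_natCast, ← _root_.zpow_mul, ← _root_.zpow_neg]
    constructor <;> congr 1 <;> ring
  have h := hom_ext_sq ((MulAut.conj (f * fi ψ f 1)).toMonoidHom.comp (τ ψ 0 1))
    ((τ ψ 0 1).comp (AddMonoidHom.toMultiplicative σ.toAddMonoidHom)) fun y => by
    show f * fi ψ f 1 * ψ (T 0 1 ((y : K) * y)) * (f * fi ψ f 1)⁻¹ = ψ (T 0 1 (σ ((y : K) * y)))
    have e : ∀ u : Kˣ, ψ (T 0 1 ((u : K) * u)) =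
        ψ (dT (u, u⁻¹)) * ψ (T 0 1 1) * (ψ (dT (u, u⁻¹)))⁻¹ := fun u => by
      rw [d_τ01, Units.val_inv_eq_inv_val, inv_inv, mul_one]
    rw [R.hσ, mul_pow, ← Units.val_pow_eq_pow_val, e y, e (y ^ q), ← conj_mul, ← conj_mul,
      ← conj_inv, hd y, R.r3.eq, mul_inv_cancel_right]
  exact DFunLike.congr_fun h (.ofAdd a)

/-- The product of the three conjugates acts on every root group as the field automorphism. -/
theorem allSig {i j : Fin 3} (hij : i ≠ j) (a : K) :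
    fi ψ f 0 * fi ψ f 1 * fi ψ f 2 * ψ (T i j a) * (fi ψ f 0 * fi ψ f 1 * fi ψ f 2)⁻¹ =
      ψ (T i j (σ a)) := by
  set D := fi ψ f 0 * fi ψ f 1 * fi ψ f 2 with hD
  have hrot : ψ cT * D * (ψ cT)⁻¹ = D := by
    rw [hD, show ∀ c x y z : G, c * (x * y * z) * c⁻¹ = (c * x * c⁻¹) * (c * y * c⁻¹) * (c * z * c⁻¹) from
      fun c x y z => by group, c_fi, c_fi, c_fi]
    show fi ψ f 1 * fi ψ f 2 * fi ψ f 0 = fi ψ f 0 * fi ψ f 1 * fi ψ f 2
    rw [((R.fcomm 1 0).mul_left (R.fcomm 2 0)).eq, ← mul_assoc]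
  have base : ∀ a, D * ψ (T 0 1 a) * D⁻¹ = ψ (T 0 1 (σ a)) := by
    intro a
    show fi ψ f 0 * fi ψ f 1 * fi ψ f 2 * ψ (T 0 1 a) * (fi ψ f 0 * fi ψ f 1 * fi ψ f 2)⁻¹ = _
    rw [show ∀ x y z : G, x * y * z * (x * y)⁻¹ = x * (y * z * y⁻¹) * x⁻¹ from fun x y z => by group,
      (R.fix2 a).eq, mul_inv_cancel_right]
    exact R.sig01 a
  have step : ∀ i j : Fin 3, (∀ a, D * ψ (T i j a) * D⁻¹ = ψ (T i j (σ a))) →
      ∀ a, D * ψ (T (i + 1) (j + 1) a) * D⁻¹ = ψ (T (i + 1) (j + 1) (σ a)) := by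
    intro i j h a
    have hc : D * ψ cT = ψ cT * D := (mul_inv_eq_iff_eq_mul.1 hrot).symm
    rw [← c_τ i j a, show D * (ψ cT * ψ (T i j a) * (ψ cT)⁻¹) * D⁻¹ =
      (D * ψ cT) * ψ (T i j a) * (D * ψ cT)⁻¹ by group, hc, show ψ cT * D * ψ (T i j a) * (ψ cT * D)⁻¹ =
      ψ cT * (D * ψ (T i j a) * D⁻¹) * (ψ cT)⁻¹ by group, h, c_τ]
  have h12 := step 0 1 base
  have h20 := step 1 2 h12
  have via : ∀ p q r : Fin 3, p ≠ q → q ≠ r → p ≠ r →
      (∀ a, D * ψ (T p q a) * D⁻¹ = ψ (T p q (σ a))) →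
      (∀ a, D * ψ (T q r a) * D⁻¹ = ψ (T q r (σ a))) →
      ∀ a, D * ψ (T p r a) * D⁻¹ = ψ (T p r (σ a)) := by
    intro p q r hpq hqr hpr h1 h2 a
    have h : ∀ a b : K, T p r (a * b) = T p q a * T q r b * (T p q a)⁻¹ * (T q r b)⁻¹ := fun a b =>
      (T_strel.chev p q r hpq hqr hpr a b).symm
    have e : ∀ A B : G, D * (A * B * A⁻¹ * B⁻¹) * D⁻¹ =
        (D * A * D⁻¹) * (D * B * D⁻¹) * (D * A * D⁻¹)⁻¹ * (D * B * D⁻¹)⁻¹ := fun A B => by group
    conv_lhs => rw [← mul_one a, h, map_mul, map_mul, map_mul, map_inv, map_inv, e, h1, h2, map_one]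
    conv_rhs => rw [← mul_one (σ a), h, map_mul, map_mul, map_mul, map_inv, map_inv]
  revert a
  fin_cases i <;> fin_cases j <;> (try exact absurd rfl hij)
  · exact base
  · exact via 0 1 2 (by decide) (by decide) (by decide) base h12
  · exact via 1 2 0 (by decide) (by decide) (by decide) h12 h20
  · exact h12
  · exact h20
  · exact via 2 0 1 (by decide) (by decide) (by decide) h20 base

/-- The Frobenius action. -/
theorem sig {i j : Fin 3} (hij : i ≠ j) (a : K) :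
    fi ψ f i * fi ψ f j * ψ (T i j a) * (fi ψ f i * fi ψ f j)⁻¹ = ψ (T i j (σ a)) := by
  obtain ⟨k, hki, hkj⟩ : ∃ k : Fin 3, k ≠ i ∧ k ≠ j := by
    revert hij; decide +revert
  have e : fi ψ f 0 * fi ψ f 1 * fi ψ f 2 = fi ψ f i * fi ψ f j * fi ψ f k := by
    have c01 := (R.fcomm 1 0).eq
    have c02 := (R.fcomm 2 0).eq
    have c12 := (R.fcomm 2 1).eq
    fin_cases i <;> fin_cases j <;> (try exact absurd rfl hij) <;> fin_cases k <;>
      (try exact absurd rfl hki) <;> (try exact absurd rfl hkj) <;>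
      simp [mul_assoc, c01, c02, c12, ← mul_assoc (fi ψ f 1) (fi ψ f 0), ← mul_assoc (fi ψ f 2) (fi ψ f 0),
        ← mul_assoc (fi ψ f 2) (fi ψ f 1)]
  rw [← R.allSig hij a, e,
    show ∀ x y z : G, x * y * z * (x * y)⁻¹ = x * (y * z * y⁻¹) * x⁻¹ from fun x y z => by group]
  conv_rhs => rw [show ∀ x y z w : G, x * y * z * w * (x * y * z)⁻¹ =
    x * (y * (z * w * z⁻¹) * y⁻¹) * x⁻¹ from fun x y z w => by group, (R.fix hij hki hkj a).eq,
    mul_inv_cancel_right]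

theorem nu01 (a : K) : f ^ m * ψ (T 0 1 a) * (f ^ m)⁻¹ = ψ (T 0 1 (ν * a)) := by
  by_cases ha : a = 0
  · subst ha; rw [mul_zero, T_zero, map_one, mul_one, mul_inv_cancel]
  have e : ∀ b : K, ψ (T 0 1 (b * a)) =
      ψ (dT (1, (Units.mk0 a ha)⁻¹)) * ψ (T 0 1 b) * (ψ (dT (1, (Units.mk0 a ha)⁻¹)))⁻¹ := fun b => by
    rw [d_τ01, Units.val_one, Units.val_inv_eq_inv_val, inv_inv, Units.val_mk0, one_mul, mul_comm]
  conv_lhs => rw [← one_mul a, e]
  rw [e, ← conj_mul, ← conj_mul, ← conj_inv, R.r5,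
    ((R.d1_comm _).pow_left m).eq, mul_inv_cancel_right]

/-- The scalar action. -/
theorem nu {i j : Fin 3} (hij : i ≠ j) (a : K) :
    fi ψ f i ^ m * ψ (T i j a) * (fi ψ f i ^ m)⁻¹ = ψ (T i j (ν * a)) := by
  refine all_pairs (P := fun i j => ∀ a, fi ψ f i ^ m * ψ (T i j a) * (fi ψ f i ^ m)⁻¹ =
      ψ (T i j (ν * a))) (fun i j _ h a => ?_) R.nu01 (fun a => ?_) hij a
  · rw [← c_τ i j a, ← c_τ i j (ν * a), ← h a, ← c_fi i, conj_pow]
    group
  · obtain ⟨b, rfl⟩ : ∃ b, a = -b := ⟨-a, (neg_neg a).symm⟩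
    rw [mul_neg, ← t_τ01, ← t_τ01, ← R.nu01 b, ← R.r6,
      show (ψ tT)⁻¹ * f * ψ tT = (ψ tT)⁻¹ * f * ((ψ tT)⁻¹)⁻¹ by rw [inv_inv], conj_pow]
    group

omit R

/-- The root elements of the big group. -/
def U (ψ : SpecialLinearGroup (Fin 3) K →* G) (f : G) (i j : Fin 3) (l : ℕ) (a : K) : G :=
  fi ψ f i ^ l * ψ (T i j a) * (fi ψ f i ^ l)⁻¹

include R

theorem U_period {i j : Fin 3} (hij : i ≠ j) (l : ℕ) (a : K) :
    U ψ f i j (l + m) a = U ψ f i j l (ν * a) := by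
  rw [U, U, ← R.nu hij a, pow_add]; group

theorem sig_pow {i j : Fin 3} (hij : i ≠ j) (s : ℕ) (a : K) :
    (fi ψ f i * fi ψ f j) ^ s * ψ (T i j a) * ((fi ψ f i * fi ψ f j) ^ s)⁻¹ =
      ψ (T i j (σ^[s] a)) := by
  induction s with
  | zero => simp
  | succ s ih =>
    rw [Function.iterate_succ_apply', ← R.sig hij, ← ih, pow_succ']
    simp only [_root_.mul_inv_rev, mul_assoc]

theorem conj_left {i j : Fin 3} (hij : i ≠ j) (l s : ℕ) (a : K) :
    fi ψ f i ^ (l + s) * fi ψ f j ^ s * ψ (T i j a) * (fi ψ f i ^ (l + s) * fi ψ f j ^ s)⁻¹ =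
      U ψ f i j l (σ^[s] a) := by
  rw [U, ← R.sig_pow hij s a, pow_add, mul_assoc (fi ψ f i ^ l), ← (R.fcomm i j).mul_pow]
  group

theorem chev {i j k : Fin 3} (hij : i ≠ j) (hjk : j ≠ k) (hik : i ≠ k) (l s : ℕ) (a b : K) :
    ⁅U ψ f i j l (σ^[s] a), U ψ f j k s b⁆ = U ψ f i k (l + s) (a * b) := by
  have h := T_strel.chev i j k hij hjk hik a b
  rw [← commutatorElement_def] at h
  set g := fi ψ f i ^ (l + s) * fi ψ f j ^ s with hg
  have e1 := R.conj_left hij l s a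
  rw [← hg] at e1
  have e2 : g * ψ (T j k b) * g⁻¹ = U ψ f j k s b := by
    rw [U, hg, ((R.fcomm i j).pow_pow _ _).eq,
      show ∀ x y z : G, x * y * z * (x * y)⁻¹ = x * (y * z * y⁻¹) * x⁻¹ from fun x y z => by group,
      ((R.fix hjk hij hik b).pow_left _).eq, mul_inv_cancel_right]
  have e3 : g * ψ (T i k (a * b)) * g⁻¹ = U ψ f i k (l + s) (a * b) := by
    rw [U, hg,
      show ∀ x y z : G, x * y * z * (x * y)⁻¹ = x * (y * z * y⁻¹) * x⁻¹ from fun x y z => by group,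
      ((R.fix hik hij.symm hjk (a * b)).pow_left _).eq, mul_inv_cancel_right]
  rw [← e1, ← e2, ← e3, ← h, map_commutatorElement]
  simp only [commutatorElement_def]; group

theorem row {i j k : Fin 3} (hij : i ≠ j) (hjk : j ≠ k) (hik : i ≠ k) (l l' : ℕ) (a b : K) :
    Commute (U ψ f i j l a) (U ψ f i k l' b) := by
  have main : ∀ (j k : Fin 3), i ≠ j → j ≠ k → i ≠ k → ∀ (l e : ℕ) (a b : K),
      Commute (U ψ f i j l a) (U ψ f i k (l + e) b) := by
    intro j k hij hjk hik l e a b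
    obtain ⟨a, rfl⟩ := (σ.bijective.iterate e).surjective a
    rw [← R.conj_left hij l e a, U,
      show fi ψ f i ^ (l + e) * ψ (T i k b) * (fi ψ f i ^ (l + e))⁻¹ =
        fi ψ f i ^ (l + e) * fi ψ f j ^ e * ψ (T i k b) * (fi ψ f i ^ (l + e) * fi ψ f j ^ e)⁻¹ by
        rw [show ∀ x y z : G, x * y * z * (x * y)⁻¹ = x * (y * z * y⁻¹) * x⁻¹ from
            fun x y z => by group,
          ((R.fix hik hij.symm hjk b).pow_left _).eq, mul_inv_cancel_right]]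
    exact commute_conj _ ((T_strel.comm i j i k hij hik hik hij.symm a b).map ψ)
  rcases le_total l l' with h | h
  · obtain ⟨e, rfl⟩ := Nat.exists_eq_add_of_le h
    exact main j k hij hjk hik l e a b
  · obtain ⟨e, rfl⟩ := Nat.exists_eq_add_of_le h
    exact (main k j hik hjk.symm hij l' e b a).symm

theorem col {i j k : Fin 3} (hij : i ≠ j) (hkj : k ≠ j) (hik : i ≠ k) (l l' : ℕ) (a b : K) :
    Commute (U ψ f i j l a) (U ψ f k j l' b) := by
  have e1 : fi ψ f i ^ l * fi ψ f k ^ l' * ψ (T i j a) * (fi ψ f i ^ l * fi ψ f k ^ l')⁻¹ =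
      U ψ f i j l a := by
    rw [U, show ∀ x y z : G, x * y * z * (x * y)⁻¹ = x * (y * z * y⁻¹) * x⁻¹ from
        fun x y z => by group,
      ((R.fix hij hik.symm hkj a).pow_left _).eq, mul_inv_cancel_right]
  have e2 : fi ψ f i ^ l * fi ψ f k ^ l' * ψ (T k j b) * (fi ψ f i ^ l * fi ψ f k ^ l')⁻¹ =
      U ψ f k j l' b := by
    rw [U, ((R.fcomm i k).pow_pow _ _).eq,
      show ∀ x y z : G, x * y * z * (x * y)⁻¹ = x * (y * z * y⁻¹) * x⁻¹ from fun x y z => by group,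
      ((R.fix hkj hik hij b).pow_left _).eq, mul_inv_cancel_right]
  rw [← e1, ← e2]
  exact commute_conj _ ((T_strel.comm i j k j hij hkj hij hkj.symm a b).map ψ)

theorem same {i j : Fin 3} (hij : i ≠ j) (l l' : ℕ) (a b : K) :
    Commute (U ψ f i j l a) (U ψ f i j l' b) := by
  obtain ⟨k, hki, hkj⟩ : ∃ k : Fin 3, k ≠ i ∧ k ≠ j := by
    revert hij; decide +revert
  have h := R.chev hki.symm hkj hij 0 l' b 1
  rw [zero_add, mul_one] at h
  rw [← h, commutatorElement_def]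
  have h1 := R.row hij hkj.symm hki.symm l 0 a (σ^[l'] b)
  have h2 := R.col hij hkj hki.symm l l' a 1
  exact ((h1.mul_right h2).mul_right h1.inv_right).mul_right h2.inv_right

theorem U_add {i j : Fin 3} (hij : i ≠ j) (l : ℕ) (a b : K) :
    U ψ f i j l (a + b) = U ψ f i j l a * U ψ f i j l b := by
  rw [U, U, U, T_strel.add i j hij, map_mul]; group

end Rels

end H40.BlockPres
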