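import Cfsg.Agent.H40.StPair

/-!
The Steinberg relations from those between the root elements that cross the blocks of a partition
of the indices into three parts.
-/

set_option autoImplicit false
set_option linter.unusedSectionVars false

namespace H40.Block

open scoped commutatorElement

variable {ι : Type*} {F : Type*} [Field F] {G : Type*} [Group G]

theorem exists_third (i j : Fin 3) : ∃ k, k ≠ i ∧ k ≠ j := by decide +revert

theorem bracket_commute {a b z : G} (h1 : Commute a z) (h2 : Commute b z) : Commute ⁅a, b⁆ z := by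
  rw [commutatorElement_def]
  exact ((h1.mul_left h2).mul_left h1.inv_left).mul_left h2.inv_left

theorem conj_eq_of_bracket {a b c : G} (h : ⁅a, b⁆ = c) : a * b * a⁻¹ = c * b := by
  rw [← h, commutatorElement_def]; group

/-- Conjugating a commutator. -/
theorem bracket_step {A S T P : G} (hS : A * S * A⁻¹ = P * S) (hT : A * T * A⁻¹ = T)
    (hP : Commute P ⁅S, T⁆) (hPT : Commute ⁅P, T⁆ ⁅S, T⁆) : ⁅A, ⁅S, T⁆⁆ = ⁅P, T⁆ := by
  have h : A * ⁅S, T⁆ * A⁻¹ = P * ⁅S, T⁆ * P⁻¹ * ⁅P, T⁆ := by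
    calc A * ⁅S, T⁆ * A⁻¹ = ⁅A * S * A⁻¹, A * T * A⁻¹⁆ := by
          simp only [commutatorElement_def]; group
      _ = ⁅P * S, T⁆ := by rw [hS, hT]
      _ = _ := by simp only [commutatorElement_def]; group
  rw [commutatorElement_def A, h, hP.eq, mul_inv_cancel_right, hPT.symm.eq, mul_inv_cancel_right]

/-- The relations between the root elements that cross blocks. -/
structure Ax (b : ι → Fin 3) (x : ι → ι → F → G) : Prop where
  ne : ∀ i : Fin 3, ∃ p, b p = i
  room : ∀ p q, p ≠ q → b p = b q → ∀ u v, ∃ r, b r ≠ b p ∧ r ≠ u ∧ r ≠ v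
  add : ∀ p q, b p ≠ b q → ∀ t u, x p q (t + u) = x p q t * x p q u
  comm : ∀ p q u v, b p ≠ b q → b u ≠ b v → p ≠ v → q ≠ u → ¬(b p = b v ∧ b q = b u) →
    ∀ t s, Commute (x p q t) (x u v s)
  chev : ∀ p q u, b p ≠ b q → b q ≠ b u → b p ≠ b u → ∀ t s, ⁅x p q t, x q u s⁆ = x p u (t * s)

namespace Ax

variable {b : ι → Fin 3} {x : ι → ι → F → G} (S : Ax b x)

include S

theorem zero {p q : ι} (h : b p ≠ b q) : x p q 0 = 1 := by
  simpa using S.add p q h 0 0

theorem inv {p q : ι} (h : b p ≠ b q) (t : F) : (x p q t)⁻¹ = x p q (-t) :=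
  inv_eq_of_mul_eq_one_right (by rw [← S.add p q h, add_neg_cancel, S.zero h])

theorem exists_other (i j : Fin 3) : ∃ s, b s ≠ i ∧ b s ≠ j := by
  obtain ⟨k, hk⟩ := exists_third i j
  obtain ⟨s, rfl⟩ := S.ne k
  exact ⟨s, hk⟩

/-- An index in another block. -/
noncomputable def rep (p : ι) : ι := (S.exists_other (b p) (b p)).choose

theorem rep_spec (p : ι) : b (S.rep p) ≠ b p := (S.exists_other (b p) (b p)).choose_spec.1

/-- A root element inside a block. -/
noncomputable def g (p q : ι) (t : F) : G := ⁅x p (S.rep p) t, x (S.rep p) q 1⁆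

/-- All crossing root elements that should commute do. -/
theorem comm' {p q u v : ι} (hpq : b p ≠ b q) (huv : b u ≠ b v) (hpv : p ≠ v) (hqu : q ≠ u)
    (t s : F) : Commute (x p q t) (x u v s) := by
  by_cases hop : b p = b v ∧ b q = b u
  · obtain ⟨z, hz1, hz2⟩ := S.exists_other (b p) (b q)
    obtain ⟨h1, h2⟩ := hop
    have e : x u v s = ⁅x u z s, x z v 1⁆ := by
      rw [S.chev u z v (by rw [← h2]; exact hz2.symm) (by rw [← h1]; exact hz1) huv, mul_one]
    rw [e]
    refine (bracket_commute (Commute.symm ?_) (Commute.symm ?_)).symm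
    · exact S.comm p q u z hpq (by rw [← h2]; exact hz2.symm) (fun e => hz1 (by rw [e])) hqu
        (fun e => hz1 e.1.symm) _ _
    · exact S.comm p q z v hpq (by rw [← h1]; exact hz1) hpv (fun e => hz2 (by rw [e]))
        (fun e => hz2 e.2.symm) _ _
  · exact S.comm p q u v hpq huv hpv hqu hop t s

theorem shift {p q r s : ι} (hpq : p ≠ q) (h : b p = b q) (hr : b r ≠ b p) (hs : b s ≠ b p)
    (hrs : b r ≠ b s) (a c : F) : ⁅x p r a, x r q c⁆ = ⁅x p s (a * c), x s q 1⁆ := by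
  have hsq : b s ≠ b q := h ▸ hs
  have hrq : b r ≠ b q := h ▸ hr
  have e : ⁅x r s c, x s q 1⁆ = x r q c := by rw [S.chev r s q hrs hsq hrq, mul_one]
  rw [← e]
  refine bracket_step (conj_eq_of_bracket (S.chev p r s hr.symm hrs hs.symm a c)) ?_ ?_ ?_
  · rw [(S.comm' hr.symm hsq hpq (fun e => hrs (by rw [e])) a 1).eq, mul_inv_cancel_right]
  · rw [e]; exact S.comm' hs.symm hrq hpq (fun e => hrs (by rw [e])) _ _
  · rw [e]
    exact bracket_commute (S.comm' hs.symm hrq hpq (fun e => hrs (by rw [e])) _ _)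
      (S.comm' hsq hrq (fun e => hsq (by rw [e])) (fun e => hrq (by rw [e])) _ _)

theorem g_eq {p q r : ι} (hpq : p ≠ q) (h : b p = b q) (hr : b r ≠ b p) (a c : F) :
    ⁅x p r a, x r q c⁆ = S.g p q (a * c) := by
  unfold g
  by_cases hr0 : b r = b (S.rep p)
  · obtain ⟨s, hs1, hs2⟩ := S.exists_other (b p) (b r)
    rw [S.shift hpq h hr hs1 hs2.symm, S.shift hpq h (S.rep_spec p) hs1 (hr0 ▸ hs2.symm), mul_one]
  · exact S.shift hpq h hr (S.rep_spec p) hr0 a c

theorem g_eq_one {p q r : ι} (hpq : p ≠ q) (h : b p = b q) (hr : b r ≠ b p) (a : F) :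
    S.g p q a = ⁅x p r a, x r q 1⁆ := by
  rw [S.g_eq hpq h hr, mul_one]

theorem gx_comm {p q u v : ι} (hpq : p ≠ q) (h : b p = b q) (huv : b u ≠ b v) (hpv : p ≠ v)
    (hqu : q ≠ u) (a c : F) : Commute (S.g p q a) (x u v c) := by
  obtain ⟨r, hr, hru, hrv⟩ := S.room p q hpq h u v
  rw [S.g_eq_one hpq h hr]
  exact bracket_commute (S.comm' hr.symm huv hpv hru _ _)
    (S.comm' (h ▸ hr) huv hrv hqu _ _)

theorem gg_comm {p q u v : ι} (hpq : p ≠ q) (h : b p = b q) (huv : u ≠ v) (h' : b u = b v)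
    (hpv : p ≠ v) (hqu : q ≠ u) (a c : F) : Commute (S.g p q a) (S.g u v c) := by
  obtain ⟨s, hs, hsp, hsq⟩ := S.room u v huv h' p q
  rw [S.g_eq_one huv h' hs]
  exact (bracket_commute (S.gx_comm hpq h hs.symm hsp.symm hqu _ _).symm
    (S.gx_comm hpq h (h' ▸ hs) hpv hsq.symm _ _).symm).symm

theorem g_add {p q : ι} (hpq : p ≠ q) (h : b p = b q) (a c : F) :
    S.g p q (a + c) = S.g p q a * S.g p q c := by
  have hr := S.rep_spec p
  have h1 : Commute (S.g p q c) (x p (S.rep p) a) :=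
    S.gx_comm hpq h hr.symm (fun e => hr (by rw [← e])) hpq.symm c a
  rw [(S.gg_comm hpq h hpq h hpq hpq.symm a c).eq]
  show ⁅x p (S.rep p) (a + c), x (S.rep p) q 1⁆ = S.g p q c * ⁅x p (S.rep p) a, x (S.rep p) q 1⁆
  rw [S.add p _ hr.symm,
    show ⁅x p (S.rep p) a * x p (S.rep p) c, x (S.rep p) q 1⁆ =
      x p (S.rep p) a * S.g p q c * (x p (S.rep p) a)⁻¹ * ⁅x p (S.rep p) a, x (S.rep p) q 1⁆ by
      simp only [g, commutatorElement_def]; group,
    h1.symm.eq, mul_inv_cancel_right]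

theorem g_zero {p q : ι} (hpq : p ≠ q) (h : b p = b q) : S.g p q 0 = 1 := by
  simpa using S.g_add hpq h 0 0

theorem g_inv {p q : ι} (hpq : p ≠ q) (h : b p = b q) (t : F) : (S.g p q t)⁻¹ = S.g p q (-t) :=
  inv_eq_of_mul_eq_one_right (by rw [← S.g_add hpq h, add_neg_cancel, S.g_zero hpq h])

theorem chev_g_x {p q u : ι} (hpq : p ≠ q) (h : b p = b q) (hqu : b q ≠ b u) (a c : F) :
    ⁅S.g p q a, x q u c⁆ = x p u (a * c) := by
  obtain ⟨s, hs1, hs2⟩ := S.exists_other (b p) (b u)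
  have hpu : b p ≠ b u := h ▸ hqu
  have hsq : b s ≠ b q := h ▸ hs1
  set g := S.g p q a
  set B := x q u c
  have hgs : g = ⁅x p s a, x s q 1⁆ := S.g_eq_one hpq h hs1 a
  have c1 : B * x p s a * B⁻¹ = x p s a := by
    rw [(S.comm' hqu hs1.symm (fun e => hsq (by rw [e])) (fun e => hpu (by rw [e])) c a).eq,
      mul_inv_cancel_right]
  have c2 : B * x s q 1 * B⁻¹ = x s u (-c) * x s q 1 := by
    refine conj_eq_of_bracket ?_
    rw [← commutatorElement_inv, S.chev s q u hsq hqu hs2, one_mul, S.inv hs2]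
  have c3 : Commute (x s u (-c)) g :=
    (S.gx_comm hpq h hs2 (fun e => hpu (by rw [e])) (fun e => hsq (by rw [e])) a (-c)).symm
  have key : B * g * B⁻¹ = x p u (-(a * c)) * g := by
    have e1 : B * g * B⁻¹ = ⁅B * x p s a * B⁻¹, B * x s q 1 * B⁻¹⁆ := by
      rw [hgs]; simp only [commutatorElement_def]; group
    have e2 : ∀ S' P T : G, ⁅S', P * T⁆ = ⁅S', P⁆ * (P * ⁅S', T⁆ * P⁻¹) := fun S' P T => by
      simp only [commutatorElement_def]; group
    rw [e1, c1, c2, e2, ← hgs, c3.eq, mul_inv_cancel_right, S.chev p s u hs1.symm hs2 hpu,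
      mul_neg]
  have key' : B * g⁻¹ * B⁻¹ = g⁻¹ * x p u (a * c) := by
    rw [show B * g⁻¹ * B⁻¹ = (B * g * B⁻¹)⁻¹ by group, key, _root_.mul_inv_rev, S.inv hpu, neg_neg]
  rw [commutatorElement_def, show g * B * g⁻¹ * B⁻¹ = g * (B * g⁻¹ * B⁻¹) by group, key',
    mul_inv_cancel_left]

theorem chev_x_g {p q u : ι} (hpq : b p ≠ b q) (hqu : q ≠ u) (h : b q = b u) (a c : F) :
    ⁅x p q a, S.g q u c⁆ = x p u (a * c) := by
  obtain ⟨s, hs1, hs2⟩ := S.exists_other (b p) (b q)
  have hsu : b s ≠ b u := h ▸ hs2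
  have hpu : b p ≠ b u := h ▸ hpq
  have hgs : S.g q u c = ⁅x q s c, x s u 1⁆ := S.g_eq_one hqu h hs2 c
  have hP : Commute (x p s (a * c)) (S.g q u c) :=
    (S.gx_comm hqu h hs1.symm (fun e => hs2 (by rw [e])) (fun e => hpu (by rw [e])) _ _).symm
  rw [hgs]
  refine (bracket_step (conj_eq_of_bracket (S.chev p q s hpq hs2.symm hs1.symm a c)) ?_
    (hgs ▸ hP) ?_).trans (by rw [S.chev p s u hs1.symm hsu hpu, mul_one])
  · rw [(S.comm' hpq hsu (fun e => hpu (by rw [e])) (fun e => hs2 (by rw [e])) a 1).eq,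
      mul_inv_cancel_right]
  · rw [S.chev p s u hs1.symm hsu hpu, ← hgs]
    exact (S.gx_comm hqu h hpu hqu (fun e => hpu (by rw [e])) _ _).symm

theorem chev_g_g {p q u : ι} (hpq : p ≠ q) (h : b p = b q) (hqu : q ≠ u) (h' : b q = b u)
    (hpu : p ≠ u) (a c : F) : ⁅S.g p q a, S.g q u c⁆ = S.g p u (a * c) := by
  obtain ⟨s, hs, -⟩ := S.exists_other (b p) (b p)
  have hsq : b s ≠ b q := h ▸ hs
  have hsu : b s ≠ b u := h' ▸ hsq
  have hgs : S.g q u c = ⁅x q s c, x s u 1⁆ := S.g_eq_one hqu h' hsq c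
  have hP : Commute (x p s (a * c)) (S.g q u c) :=
    (S.gx_comm hqu h' hs.symm (fun e => hsq (by rw [e])) hpu.symm _ _).symm
  rw [hgs]
  refine (bracket_step (conj_eq_of_bracket (S.chev_g_x hpq h hsq.symm a c)) ?_
    (hgs ▸ hP) ?_).trans (by rw [S.g_eq hpu (h.trans h') hs, mul_one])
  · rw [(S.gx_comm hpq h hsu hpu (fun e => hsq (by rw [e])) a 1).eq, mul_inv_cancel_right]
  · rw [S.g_eq hpu (h.trans h') hs, ← hgs]
    exact S.gg_comm hpu (h.trans h') hqu h' hpu hqu.symm _ _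

/-- The full family of root elements. -/
noncomputable def y (p q : ι) (t : F) : G := if b p = b q then S.g p q t else x p q t

theorem strel : StRel S.y where
  add p q hpq t u := by
    unfold y
    split_ifs with h
    · exact S.g_add hpq h t u
    · exact S.add p q h t u
  comm p q u v hpq huv hpv hqu t s := by
    unfold y
    split_ifs with h h'
    · exact S.gg_comm hpq h huv h' hpv hqu t s
    · exact S.gx_comm hpq h h' hpv hqu t s
    · exact (S.gx_comm huv ‹_› h hqu.symm hpv.symm s t).symm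
    · exact S.comm' h ‹_› hpv hqu t s
  chev p q u hpq hqu hpu t s := by
    rw [← commutatorElement_def]
    unfold y
    by_cases h : b p = b q
    · by_cases h' : b q = b u
      · rw [if_pos h, if_pos h', if_pos (h.trans h')]
        exact S.chev_g_g hpq h hqu h' hpu t s
      · rw [if_pos h, if_neg h', if_neg (h ▸ h')]
        exact S.chev_g_x hpq h h' t s
    · by_cases h' : b q = b u
      · rw [if_neg h, if_pos h', if_neg (h' ▸ h)]
        exact S.chev_x_g h hqu h' t s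
      · by_cases h'' : b p = b u
        · rw [if_neg h, if_neg h', if_pos h'']
          exact S.g_eq hpu h'' (Ne.symm h) t s
        · rw [if_neg h, if_neg h', if_neg h'']
          exact S.chev p q u h h' h'' t s

theorem y_eq {p q : ι} (h : b p ≠ b q) (t : F) : S.y p q t = x p q t := if_neg h

end Ax

end H40.Block
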