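import Cfsg.Agent.H40.CRWModule

/-!
The commutation lemma of Campbell, Robertson and Williams and the additive group of a field
inside a group with two generators.
-/

set_option autoImplicit false
set_option linter.style.haveILetI false
set_option linter.unusedSectionVars false

namespace H40.CRW

open Polynomial

/-! ### Words -/

section Words

variable {G : Type*} [Group G]

/-- `∏_{k<n} g^k u^{c k} g^{-k}`. -/
def wordN (g u : G) (c : ℕ → ℕ) : ℕ → G
  | 0 => 1
  | k + 1 => wordN g u c k * (g ^ k * u ^ c k * (g ^ k)⁻¹)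

theorem map_wordN {H : Type*} [Group H] (φ : G →* H) (g u : G) (c : ℕ → ℕ) (n : ℕ) :
    φ (wordN g u c n) = wordN (φ g) (φ u) c n := by
  induction n with
  | zero => simp [wordN]
  | succ n ih => simp [wordN, ih, map_pow]

variable {p : ℕ}

/-- The word realising a polynomial. -/
noncomputable def polyWord (g u : G) (P : (ZMod p)[X]) : G :=
  wordN g u (fun k => (P.coeff k).val) (P.natDegree + 1)

theorem map_polyWord {H : Type*} [Group H] (φ : G →* H) (g u : G) (P : (ZMod p)[X]) :
    φ (polyWord g u P) = polyWord (φ g) (φ u) P :=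
  map_wordN φ g u _ _

theorem wordN_mem {g u : G} {U : Subgroup G} (hU : ∀ k : ℕ, g ^ k * u * (g ^ k)⁻¹ ∈ U)
    (c : ℕ → ℕ) (n : ℕ) : wordN g u c n ∈ U := by
  induction n with
  | zero => exact one_mem _
  | succ n ih =>
    refine mul_mem ih ?_
    have h : g ^ n * u ^ c n * (g ^ n)⁻¹ = (g ^ n * u * (g ^ n)⁻¹) ^ c n :=
      (map_pow (MulAut.conj (g ^ n)).toMonoidHom u (c n))
    rw [h]
    exact pow_mem (hU n) _

theorem conj_pow_mem {g u : G} {U : Subgroup G} (hU : ∀ x ∈ U, g * x * g⁻¹ ∈ U) (hu : u ∈ U)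
    (k : ℕ) : g ^ k * u * (g ^ k)⁻¹ ∈ U := by
  induction k with
  | zero => simpa using hu
  | succ k ih =>
    have := hU _ ih
    rwa [pow_succ', mul_inv_rev, show g * g ^ k * u * ((g ^ k)⁻¹ * g⁻¹) =
      g * (g ^ k * u * (g ^ k)⁻¹) * g⁻¹ by group]

/-! ### The action on an invariant elementary abelian subgroup, as an endomorphism -/

variable [Fact p.Prime] {V : Type*} [AddCommGroup V] [Module (ZMod p) V]

theorem act_pow (emb : Multiplicative V →* G) (H : Module.End (ZMod p) V) (g : G)
    (hH : ∀ v, emb (.ofAdd (H v)) = g * emb (.ofAdd v) * g⁻¹) (k : ℕ) (v : V) :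
    emb (.ofAdd ((H ^ k) v)) = g ^ k * emb (.ofAdd v) * (g ^ k)⁻¹ := by
  induction k with
  | zero => simp
  | succ k ih => rw [pow_succ', Module.End.mul_apply, hH, ih, pow_succ', mul_inv_rev]; group

theorem act_polyWord (emb : Multiplicative V →* G) (H : Module.End (ZMod p) V) (g : G)
    (hH : ∀ v, emb (.ofAdd (H v)) = g * emb (.ofAdd v) * g⁻¹) (v : V) (P : (ZMod p)[X]) :
    emb (.ofAdd (aeval H P v)) = polyWord g (emb (.ofAdd v)) P := by
  have h : ∀ n, emb (.ofAdd (∑ k ∈ Finset.range n, P.coeff k • (H ^ k) v)) =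
      wordN g (emb (.ofAdd v)) (fun k => (P.coeff k).val) n := by
    intro n
    induction n with
    | zero => simp [wordN]
    | succ n ih =>
      rw [Finset.sum_range_succ, ofAdd_add, map_mul, ih, wordN]
      congr 1
      have hc : P.coeff n • (H ^ n) v = (H ^ n) ((P.coeff n).val • v) := by
        rw [map_nsmul]
        conv_lhs => rw [← ZMod.natCast_zmod_val (P.coeff n)]
        rw [Nat.cast_smul_eq_nsmul]
      rw [hc, act_pow emb H g hH, ofAdd_nsmul, map_pow]
  rw [polyWord, ← h]
  congr 2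
  rw [aeval_eq_sum_range]
  simp [LinearMap.sum_apply]

/-- From a polynomial relation to an equivariant homomorphism of the field. -/
theorem exists_xhom_of_end {F : Type*} [Field F] [Algebra (ZMod p) F]
    (emb : Multiplicative V →* G) (H : Module.End (ZMod p) V) (h : G)
    (hH : ∀ v, emb (.ofAdd (H v)) = h * emb (.ofAdd v) * h⁻¹) (v₀ : V) (ω : F)
    (hsurj : ∀ z : F, ∃ P : (ZMod p)[X], aeval ω P = z)
    (hM : aeval H (minpoly (ZMod p) ω) v₀ = 0) :
    ∃ x : Multiplicative F →* G, x (.ofAdd 1) = emb (.ofAdd v₀) ∧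
      ∀ z : F, h * x (.ofAdd z) * h⁻¹ = x (.ofAdd (ω * z)) := by
  choose P hP using hsurj
  have wd : ∀ (z : F) (R : (ZMod p)[X]), aeval ω R = z → aeval H (P z) v₀ = aeval H R v₀ := by
    intro z R hR
    obtain ⟨c, hc⟩ := minpoly.dvd (ZMod p) ω (show aeval ω (P z - R) = 0 by
      rw [map_sub, hP, hR, sub_self])
    rw [← sub_eq_zero, ← LinearMap.sub_apply, ← map_sub, hc, mul_comm, map_mul,
      Module.End.mul_apply, hM, map_zero]
  let f : F →+ V := AddMonoidHom.mk' (fun z => aeval H (P z) v₀) fun a b => by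
    rw [wd (a + b) (P a + P b) (by rw [map_add, hP, hP]), map_add, LinearMap.add_apply]
  refine ⟨emb.comp (AddMonoidHom.toMultiplicative f), ?_, fun z => ?_⟩
  · show emb (.ofAdd (aeval H (P 1) v₀)) = _
    rw [wd 1 1 (map_one _), map_one, Module.End.one_apply]
  · show h * emb (.ofAdd (aeval H (P z) v₀)) * h⁻¹ = emb (.ofAdd (aeval H (P (ω * z)) v₀))
    rw [← hH, wd (ω * z) (X * P z) (by rw [map_mul, aeval_X, hP]), map_mul, aeval_X,
      Module.End.mul_apply]

end Words

/-! ### Turning an invariant elementary abelian subgroup into a module -/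

section Sub

variable {G : Type} [Group G] {p : ℕ} [Fact p.Prime]

theorem exists_end (U : Subgroup G) (hcomm : ∀ x ∈ U, ∀ y ∈ U, x * y = y * x)
    (hexp : ∀ x ∈ U, x ^ p = 1) (h : G) (hU : ∀ x ∈ U, h * x * h⁻¹ ∈ U) :
    ∃ (V : Type) (_ : AddCommGroup V) (_ : Module (ZMod p) V) (emb : Multiplicative V →* G)
      (H : Module.End (ZMod p) V), Function.Injective emb ∧ emb.range = U ∧
        ∀ v, emb (.ofAdd (H v)) = h * emb (.ofAdd v) * h⁻¹ := by
  letI : CommGroup U :=
    { (inferInstance : Group U) with mul_comm := fun a b => Subtype.ext (hcomm _ a.2 _ b.2) }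
  letI : Module (ZMod p) (Additive U) := AddCommGroup.zmodModule fun v =>
    Additive.toMul.injective (Subtype.ext (hexp _ v.toMul.2))
  let c : U →* U := ((MulAut.conj h).toMonoidHom.comp U.subtype).codRestrict U fun x => hU _ x.2
  exact ⟨Additive U, inferInstance, inferInstance,
    U.subtype.comp (MulEquiv.multiplicativeAdditive U).toMonoidHom,
    (MonoidHom.toAdditive c).toZModLinearMap p,
    U.subtype_injective.comp (MulEquiv.multiplicativeAdditive U).injective,
    by rw [MonoidHom.range_comp, MonoidHom.range_eq_top.2 (MulEquiv.surjective _),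
      ← MonoidHom.range_eq_map, Subgroup.range_subtype],
    fun _ => rfl⟩

variable {F : Type*} [Field F] [Algebra (ZMod p) F]

theorem exists_xhom (U : Subgroup G) (hcomm : ∀ x ∈ U, ∀ y ∈ U, x * y = y * x)
    (hexp : ∀ x ∈ U, x ^ p = 1) (h u : G) (hU : ∀ x ∈ U, h * x * h⁻¹ ∈ U) (hu : u ∈ U) (ω : F)
    (hsurj : ∀ z : F, ∃ P : (ZMod p)[X], aeval ω P = z)
    (hM : polyWord h u (minpoly (ZMod p) ω) = 1) :
    ∃ x : Multiplicative F →* G, x (.ofAdd 1) = u ∧
      ∀ z : F, h * x (.ofAdd z) * h⁻¹ = x (.ofAdd (ω * z)) := by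
  obtain ⟨V, _, _, emb, H, hinj, hrange, hH⟩ := exists_end (p := p) U hcomm hexp h hU
  obtain ⟨v, hv⟩ : ∃ v, emb v = u := (hrange ▸ hu : u ∈ emb.range)
  obtain ⟨x, hx1, hx2⟩ := exists_xhom_of_end emb H h hH v.toAdd ω hsurj (by
    apply Multiplicative.ofAdd.injective
    apply hinj
    rw [act_polyWord emb H h hH, ofAdd_zero, map_one, ofAdd_toAdd, hv, hM])
  exact ⟨x, hx1.trans (by rw [ofAdd_toAdd, hv]), hx2⟩

/-! ### The lattice of conjugates -/

/-- The conjugates of `u` under a lattice. -/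
def lat (a b u : G) (x y : ℤ) : G := (a ^ x * b ^ y) * u * (a ^ x * b ^ y)⁻¹

theorem lat_conj {a b : G} (hab : Commute a b) (u : G) (x y x' y' : ℤ) :
    (a ^ x * b ^ y) * lat a b u x' y' * (a ^ x * b ^ y)⁻¹ = lat a b u (x + x') (y + y') := by
  have e : a ^ x * b ^ y * (a ^ x' * b ^ y') = a ^ (x + x') * b ^ (y + y') := by
    rw [zpow_add, zpow_add, mul_assoc, ← mul_assoc (b ^ y), ← (hab.zpow_zpow x' y).eq]
    group
  simp only [lat]
  rw [← e]
  group

theorem lat_step {a b u : G} (hab : Commute a b) (h1 : a * u * a⁻¹ = u * (b * u * b⁻¹)) (x y : ℤ) :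
    lat a b u (x + 1) y = lat a b u x y * lat a b u x (y + 1) := by
  have e1 : lat a b u 1 0 = lat a b u 0 0 * lat a b u 0 1 := by simpa [lat] using h1
  have := congrArg (fun g => (a ^ x * b ^ y) * g * (a ^ x * b ^ y)⁻¹) e1
  have e2 : ∀ g k : G, (a ^ x * b ^ y) * (g * k) * (a ^ x * b ^ y)⁻¹ =
      ((a ^ x * b ^ y) * g * (a ^ x * b ^ y)⁻¹) * ((a ^ x * b ^ y) * k * (a ^ x * b ^ y)⁻¹) :=
    fun g k => by group
  rw [e2, lat_conj hab u x y 1 0, lat_conj hab u x y 0 0, lat_conj hab u x y 0 1] at this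
  simpa only [add_zero] using this

theorem lat_comm {a b u : G} (hab : Commute a b) (h1 : a * u * a⁻¹ = u * (b * u * b⁻¹))
    (h2 : Commute u (b * u * b⁻¹)) (x y : ℤ) : Commute u (lat a b u x y) := by
  set c := lat a b u
  set P : ℤ → ℤ → Prop := fun x y => Commute u (c x y)
  have h00 : c 0 0 = u := by simp [c, lat]
  have tA : ∀ x y, P x y → P x (y + 1) → P (x + 1) y := fun x y p q => by
    show Commute u (lat a b u (x + 1) y)
    rw [lat_step hab h1]; exact p.mul_right q
  have tB : ∀ x y, P (x + 1) y → P x (y + 1) → P x y := fun x y p q => by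
    show Commute u (lat a b u x y)
    rw [eq_mul_inv_of_mul_eq (lat_step hab h1 x y).symm]; exact p.mul_right q.inv_right
  have tC : ∀ x y, P (x + 1) y → P x y → P x (y + 1) := fun x y p q => by
    show Commute u (lat a b u x (y + 1))
    rw [eq_inv_mul_of_mul_eq (lat_step hab h1 x y).symm]; exact q.inv_right.mul_right p
  have sym : ∀ x y, P x y → P (-x) (-y) := fun x y p => by
    have := (p.map (MulAut.conj (a ^ (-x) * b ^ (-y))).toMonoidHom).symm
    simp only [MulEquiv.coe_toMonoidHom, MulAut.conj_apply] at this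
    change Commute ((a ^ (-x) * b ^ (-y)) * lat a b u x y * (a ^ (-x) * b ^ (-y))⁻¹)
      (lat a b u (-x) (-y)) at this
    rw [lat_conj hab, neg_add_cancel, neg_add_cancel] at this
    change Commute (c 0 0) _ at this
    rwa [h00] at this
  -- the reflected triangle
  have sA : ∀ x y, P x y → P x (y - 1) → P (x - 1) y := fun x y p q => by
    have := sym _ _ (tA (-x) (-y) (sym _ _ p) (by
      have := sym _ _ q; rwa [show -(y - 1) = -y + 1 by ring] at this))
    rwa [show -(-x + 1) = x - 1 by ring, neg_neg] at this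
  have sB : ∀ x y, P (x - 1) y → P x (y - 1) → P x y := fun x y p q => by
    have := sym _ _ (tB (-x) (-y) (by have := sym _ _ p; rwa [show -(x - 1) = -x + 1 by ring] at this)
      (by have := sym _ _ q; rwa [show -(y - 1) = -y + 1 by ring] at this))
    rwa [neg_neg, neg_neg] at this
  have sC : ∀ x y, P (x - 1) y → P x y → P x (y - 1) := fun x y p q => by
    have := sym _ _ (tC (-x) (-y) (by have := sym _ _ p; rwa [show -(x - 1) = -x + 1 by ring] at this)
      (sym _ _ q))
    rwa [show -(-y + 1) = y - 1 by ring, neg_neg] at this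
  set Q : ℤ → ℤ → Prop := fun x y => P x y ∧ P (x + 1) y ∧ P x (y + 1)
  have Q0 : Q 0 0 := by
    have p0 : P 0 0 := by show Commute u (c 0 0); rw [h00]
    have p1 : P 0 (0 + 1) := by simpa [P, c, lat] using h2
    exact ⟨p0, tA 0 0 p0 p1, p1⟩
  have corner : ∀ x y, Q x y → P (x + 1) (y + 1) := fun x y ⟨_, p, q⟩ =>
    sB (x + 1) (y + 1) (by rw [add_sub_cancel_right]; exact q) (by rw [add_sub_cancel_right]; exact p)
  have Qxp : ∀ x y, Q x y → Q (x + 1) y := fun x y hQ =>
    ⟨hQ.2.1, tA (x + 1) y hQ.2.1 (corner x y hQ), corner x y hQ⟩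
  have Qyp : ∀ x y, Q x y → Q x (y + 1) := fun x y hQ =>
    ⟨hQ.2.2, corner x y hQ, tC x (y + 1) (corner x y hQ) hQ.2.2⟩
  have Qxm : ∀ x y, Q x y → Q (x - 1) y := fun x y ⟨p, _, q⟩ => by
    have e : P (x - 1) (y + 1) := sA x (y + 1) q (by rw [add_sub_cancel_right]; exact p)
    have p' : P (x - 1 + 1) y := by rw [sub_add_cancel]; exact p
    exact ⟨tB (x - 1) y p' e, p', e⟩
  have Qym : ∀ x y, Q x y → Q x (y - 1) := fun x y ⟨p, q, _⟩ => by
    have e : P (x + 1) (y - 1) := sC (x + 1) y (by rw [add_sub_cancel_right]; exact p) q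
    have p' : P x (y - 1 + 1) := by rw [sub_add_cancel]; exact p
    exact ⟨tB x (y - 1) e p', e, p'⟩
  have main : ∀ x y, Q x y := fun x y => by
    have hx : Q x 0 := by
      induction x using Int.inductionOn' (b := 0) with
      | zero => exact Q0
      | succ k _ ih => exact Qxp k 0 ih
      | pred k _ ih => exact Qxm k 0 ih
    induction y using Int.inductionOn' (b := 0) with
    | zero => exact hx
    | succ k _ ih => exact Qyp x k ih
    | pred k _ ih => exact Qym x k ih
  exact (main x y).1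

/-- The subgroup generated by the lattice of conjugates. -/
def latGroup (a b u : G) : Subgroup G := Subgroup.closure {g | ∃ x y, g = lat a b u x y}

theorem lat_mem (a b u : G) (x y : ℤ) : lat a b u x y ∈ latGroup a b u :=
  Subgroup.subset_closure ⟨x, y, rfl⟩

theorem self_mem (a b u : G) : u ∈ latGroup a b u := by
  have := lat_mem a b u 0 0
  simpa [lat] using this

theorem latGroup_comm {a b u : G} (hab : Commute a b) (h1 : a * u * a⁻¹ = u * (b * u * b⁻¹))
    (h2 : Commute u (b * u * b⁻¹)) :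
    ∀ g ∈ latGroup a b u, ∀ k ∈ latGroup a b u, g * k = k * g := by
  intro g hg k hk
  haveI : IsMulCommutative (latGroup a b u) := Subgroup.isMulCommutative_closure (by
    rintro _ ⟨x, y, rfl⟩ _ ⟨x', y', rfl⟩
    have := (lat_comm hab h1 h2 (x' - x) (y' - y)).map (MulAut.conj (a ^ x * b ^ y)).toMonoidHom
    simp only [MulEquiv.coe_toMonoidHom, MulAut.conj_apply] at this
    rw [lat_conj hab] at this
    simp only [add_sub_cancel] at this
    exact this.eq)
  exact congrArg Subtype.val (IsMulCommutative.is_comm.comm (⟨g, hg⟩ : latGroup a b u) ⟨k, hk⟩)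

theorem latGroup_pow {a b u : G} (hab : Commute a b) (h1 : a * u * a⁻¹ = u * (b * u * b⁻¹))
    (h2 : Commute u (b * u * b⁻¹)) (hp : u ^ p = 1) : ∀ g ∈ latGroup a b u, g ^ p = 1 := by
  intro g hg
  induction hg using Subgroup.closure_induction with
  | mem g hg =>
    obtain ⟨x, y, rfl⟩ := hg
    exact ((map_pow (MulAut.conj (a ^ x * b ^ y)).toMonoidHom u p).symm.trans (by rw [hp, map_one]) :)
  | one => exact one_pow _
  | mul g k hg hk ihg ihk =>
    rw [(show Commute g k from latGroup_comm hab h1 h2 g hg k hk).mul_pow, ihg, ihk, one_mul]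
  | inv g _ ih => rw [inv_pow, ih, inv_one]

theorem latGroup_stable {a b u h : G} (hha : Commute h a) (hhb : Commute h b)
    (hab : Commute a b) (hu : h * u * h⁻¹ ∈ latGroup a b u) :
    ∀ g ∈ latGroup a b u, h * g * h⁻¹ ∈ latGroup a b u := by
  have hconj : ∀ x y : ℤ, ∀ g ∈ latGroup a b u,
      (a ^ x * b ^ y) * g * (a ^ x * b ^ y)⁻¹ ∈ latGroup a b u := by
    intro x y g hg
    have hle : latGroup a b u ≤
        (latGroup a b u).comap (MulAut.conj (a ^ x * b ^ y)).toMonoidHom := by
      rw [latGroup, Subgroup.closure_le]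
      rintro _ ⟨x', y', rfl⟩
      show (a ^ x * b ^ y) * lat a b u x' y' * (a ^ x * b ^ y)⁻¹ ∈ latGroup a b u
      rw [lat_conj hab]
      exact lat_mem _ _ _ _ _
    exact hle hg
  intro g hg
  have hle : latGroup a b u ≤ (latGroup a b u).comap (MulAut.conj h).toMonoidHom := by
    rw [latGroup, Subgroup.closure_le]
    rintro _ ⟨x, y, rfl⟩
    show h * lat a b u x y * h⁻¹ ∈ latGroup a b u
    have := hconj x y _ hu
    have e : Commute h (a ^ x * b ^ y) := (hha.zpow_right x).mul_right (hhb.zpow_right y)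
    rwa [show h * lat a b u x y * h⁻¹ = (a ^ x * b ^ y) * (h * u * h⁻¹) * (a ^ x * b ^ y)⁻¹ by
      simp only [lat]
      rw [← mul_assoc h, ← mul_assoc h, e.eq, mul_assoc _ _ h⁻¹,
        ← (e.inv_left.inv_right).eq]
      group]
  exact hle hg

/-- The case with two squares differing by one, the torus generator acting polynomially. -/
theorem exists_xhom_lattice (h u : G) (ω : F) (i j : ℕ) (P : (ZMod p)[X])
    (hsurj : ∀ z : F, ∃ R : (ZMod p)[X], aeval ω R = z)
    (hPω : aeval (ω ^ i) P = ω)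
    (hP : ∀ {R : Type} [Ring R] [Algebra (ZMod p) R] (A : R), (∀ z, A * z = 0 → z = 0) →
      (aeval A P) ^ i = A → (aeval A P) ^ j + 1 = A → aeval A (minpoly (ZMod p) (ω ^ i)) = 0)
    (hp : u ^ p = 1) (h1 : h ^ i * u * (h ^ i)⁻¹ = u * (h ^ j * u * (h ^ j)⁻¹))
    (h2 : Commute u (h ^ j * u * (h ^ j)⁻¹)) (hw : h * u * h⁻¹ = polyWord (h ^ i) u P) :
    ∃ x : Multiplicative F →* G, x (.ofAdd 1) = u ∧
      ∀ z : F, h * x (.ofAdd z) * h⁻¹ = x (.ofAdd (ω * z)) := by
  set a := h ^ i with ha
  set b := h ^ j with hb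
  have hab : Commute a b := (Commute.refl h).pow_pow i j
  set U := latGroup a b u with hUdef
  have hcomm := latGroup_comm hab h1 h2
  have hexp := latGroup_pow (p := p) hab h1 h2 hp
  have huU : u ∈ U := self_mem a b u
  have haU : ∀ g ∈ U, a * g * a⁻¹ ∈ U := latGroup_stable (Commute.refl a) hab hab (by
    have := lat_mem a b u 1 0; simpa [lat] using this)
  have hU : ∀ g ∈ U, h * g * h⁻¹ ∈ U := latGroup_stable ((Commute.refl h).pow_right i)
    ((Commute.refl h).pow_right j) hab (by rw [hw]; exact wordN_mem (conj_pow_mem haU huU) _ _)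
  obtain ⟨V, _, _, emb, H, hinj, hrange, hH⟩ := exists_end (p := p) U hcomm hexp h hU
  obtain ⟨v', hv⟩ : ∃ v, emb v = u := (hrange ▸ huU : u ∈ emb.range)
  obtain ⟨v, rfl⟩ := Multiplicative.ofAdd.surjective v'
  have hinj' : Function.Injective (fun w => emb (Multiplicative.ofAdd w)) :=
    hinj.comp Multiplicative.ofAdd.injective
  have hA : ∀ w, emb (.ofAdd ((H ^ i) w)) = a * emb (.ofAdd w) * a⁻¹ := act_pow emb H h hH i
  have hB : ∀ w, emb (.ofAdd ((H ^ j) w)) = b * emb (.ofAdd w) * b⁻¹ := act_pow emb H h hH j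
  -- an endomorphism commuting with `H` and killing `v` vanishes
  have gen : ∀ T : Module.End (ZMod p) V, Commute T H → T v = 0 → T = 0 := by
    intro T hT hTv
    have hle : U ≤ (emb.range : Subgroup G) ⊓ Subgroup.map emb
        (AddSubgroup.toSubgroup (LinearMap.ker T).toAddSubgroup) := by
      rw [hUdef, latGroup, Subgroup.closure_le]
      rintro _ ⟨x, y, rfl⟩
      suffices key : ∃ w, T w = 0 ∧ emb (.ofAdd w) = lat a b u x y by
        obtain ⟨w, hw1, hw2⟩ := key
        exact ⟨⟨_, hw2⟩, ⟨_, hw1, hw2⟩⟩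
      have stepA : ∀ x y, (∃ w, T w = 0 ∧ emb (.ofAdd w) = lat a b u x y) →
          ∃ w, T w = 0 ∧ emb (.ofAdd w) = lat a b u (1 + x) (0 + y) := by
        rintro x y ⟨w, hw1, hw2⟩
        refine ⟨(H ^ i) w, ?_, ?_⟩
        · rw [← Module.End.mul_apply, (hT.pow_right i).eq, Module.End.mul_apply, hw1, map_zero]
        · rw [hA, hw2, ← lat_conj hab u 1 0 x y, zpow_one, zpow_zero, mul_one]
      have stepB : ∀ x y, (∃ w, T w = 0 ∧ emb (.ofAdd w) = lat a b u x y) →
          ∃ w, T w = 0 ∧ emb (.ofAdd w) = lat a b u (0 + x) (1 + y) := by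
        rintro x y ⟨w, hw1, hw2⟩
        refine ⟨(H ^ j) w, ?_, ?_⟩
        · rw [← Module.End.mul_apply, (hT.pow_right j).eq, Module.End.mul_apply, hw1, map_zero]
        · rw [hB, hw2, ← lat_conj hab u 0 1 x y, zpow_one, zpow_zero, one_mul]
      have hmem : ∀ x y, ∃ w, emb (.ofAdd w) = lat a b u x y := by
        intro x y
        obtain ⟨w, hw⟩ : lat a b u x y ∈ emb.range := by rw [hrange]; exact lat_mem a b u x y
        exact ⟨w.toAdd, hw⟩
      have backA : ∀ x y, (∃ w, T w = 0 ∧ emb (.ofAdd w) = lat a b u (1 + x) (0 + y)) →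
          ∃ w, T w = 0 ∧ emb (.ofAdd w) = lat a b u x y := by
        rintro x y ⟨w, hw1, hw2⟩
        obtain ⟨w', hw'⟩ := hmem x y
        refine ⟨w', ?_, hw'⟩
        have e : (H ^ i) w' = w := hinj' (by
          show emb _ = emb _
          rw [hA, hw', hw2, ← lat_conj hab u 1 0 x y, zpow_one, zpow_zero, mul_one])
        apply hinj'
        show emb _ = emb _
        have h0 : (H ^ i) (T w') = 0 := by
          rw [← Module.End.mul_apply, ← (hT.pow_right i).eq, Module.End.mul_apply, e, hw1]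
        have := hA (T w')
        rw [h0, ofAdd_zero, map_one] at this
        rw [ofAdd_zero, map_one]
        exact conj_eq_one_iff.1 this.symm
      have backB : ∀ x y, (∃ w, T w = 0 ∧ emb (.ofAdd w) = lat a b u (0 + x) (1 + y)) →
          ∃ w, T w = 0 ∧ emb (.ofAdd w) = lat a b u x y := by
        rintro x y ⟨w, hw1, hw2⟩
        obtain ⟨w', hw'⟩ := hmem x y
        refine ⟨w', ?_, hw'⟩
        have e : (H ^ j) w' = w := hinj' (by
          show emb _ = emb _
          rw [hB, hw', hw2, ← lat_conj hab u 0 1 x y, zpow_one, zpow_zero, one_mul])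
        apply hinj'
        show emb _ = emb _
        have h0 : (H ^ j) (T w') = 0 := by
          rw [← Module.End.mul_apply, ← (hT.pow_right j).eq, Module.End.mul_apply, e, hw1]
        have := hB (T w')
        rw [h0, ofAdd_zero, map_one] at this
        rw [ofAdd_zero, map_one]
        exact conj_eq_one_iff.1 this.symm
      have h00 : ∃ w, T w = 0 ∧ emb (.ofAdd w) = lat a b u 0 0 := ⟨v, hTv, by simp [lat, hv]⟩
      have hx : ∃ w, T w = 0 ∧ emb (.ofAdd w) = lat a b u x 0 := by
        induction x using Int.inductionOn' (b := 0) with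
        | zero => exact h00
        | succ k _ ih => have := stepA k 0 ih; rwa [add_comm, zero_add] at this
        | pred k _ ih =>
          exact backA (k - 1) 0 (by rwa [show (1 : ℤ) + (k - 1) = k by ring, zero_add])
      induction y using Int.inductionOn' (b := 0) with
      | zero => exact hx
      | succ k _ ih => have := stepB x k ih; rwa [zero_add, add_comm] at this
      | pred k _ ih =>
        exact backB x (k - 1) (by rwa [show (1 : ℤ) + (k - 1) = k by ring, zero_add])
    apply LinearMap.ext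
    intro w
    obtain ⟨w', hw', hww'⟩ := (hle (show emb (Multiplicative.ofAdd w) ∈ U by
      rw [← hrange]; exact ⟨_, rfl⟩)).2
    rw [hinj hww'] at hw'
    exact hw'
  have e1 : aeval (H ^ i) P = H := by
    refine sub_eq_zero.1 (gen _ ?_ ?_)
    · refine Commute.sub_left ?_ (Commute.refl H)
      exact (Algebra.commute_of_mem_adjoin_singleton_of_commute
        (aeval_mem_adjoin_singleton _ _) (Commute.self_pow H i)).symm
    · rw [LinearMap.sub_apply, sub_eq_zero]
      apply hinj'
      show emb _ = emb _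
      rw [act_polyWord emb (H ^ i) a hA, hH, hv, hw]
  have e2 : H ^ j + 1 = H ^ i := by
    refine (sub_eq_zero.1 (gen _ ?_ ?_)).symm
    · exact Commute.sub_left (Commute.pow_self H i)
        (Commute.add_left (Commute.pow_self H j) (Commute.one_left H))
    · rw [LinearMap.sub_apply, sub_eq_zero, LinearMap.add_apply, Module.End.one_apply]
      apply hinj'
      show emb _ = emb _
      rw [ofAdd_add, map_mul, hA, hB, hv, h1, h2.eq]
  have hm := hP (R := Module.End (ZMod p) V) (H ^ i) (fun T hT => LinearMap.ext fun w => by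
      apply hinj'
      show emb _ = emb _
      have h0 : (H ^ i) (T w) = 0 := LinearMap.congr_fun hT w
      have := hA (T w)
      rw [h0, ofAdd_zero, map_one] at this
      rw [LinearMap.zero_apply, ofAdd_zero, map_one]
      exact conj_eq_one_iff.1 this.symm) (by rw [e1]) (by rw [e1, e2])
  obtain ⟨x, hx1, hx2⟩ := exists_xhom_of_end emb H h hH v ω hsurj (by
    obtain ⟨c, hc⟩ := minpoly.dvd (ZMod p) (ω ^ i)
      (show aeval (ω ^ i) ((minpoly (ZMod p) ω).comp P) = 0 by rw [aeval_comp, hPω, minpoly.aeval])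
    have := congrArg (aeval (H ^ i)) hc
    rw [aeval_comp, e1, map_mul, hm, zero_mul] at this
    rw [this, LinearMap.zero_apply])
  exact ⟨x, hx1.trans hv, hx2⟩

end Sub

end H40.CRW
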