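import Cfsg.Agent.H40.CRWBorel

/-!
At most four relators presenting the Borel subgroup part (`U` with its torus action) of `SL₂(q)`.
-/

set_option autoImplicit false
set_option linter.style.haveILetI false
set_option linter.unusedSectionVars false

namespace H40.CRW

open Polynomial

variable {p : ℕ} [Fact p.Prime] {F : Type*} [Field F] [Algebra (ZMod p) F]

/-- The three generators. -/
abbrev uW : FreeGroup (Fin 3) := FreeGroup.of 0

/-- The torus generator. -/
abbrev hW : FreeGroup (Fin 3) := FreeGroup.of 1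

/-- The Weyl generator. -/
abbrev tW : FreeGroup (Fin 3) := FreeGroup.of 2

/-- A word in the first two generators realising a polynomial. -/
noncomputable abbrev pW (P : (ZMod p)[X]) : FreeGroup (Fin 3) := polyWord hW uW P

variable {Q : Type*} [Group Q]

theorem x_conj_pow {x : Multiplicative F →* Q} {h : Q} {ω : F}
    (hh : ∀ z : F, h * x (.ofAdd z) * h⁻¹ = x (.ofAdd (ω * z))) (k : ℕ) (z : F) :
    h ^ k * x (.ofAdd z) * (h ^ k)⁻¹ = x (.ofAdd (ω ^ k * z)) := by
  induction k with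
  | zero => simp
  | succ k ih => rw [pow_succ' ω, mul_assoc ω, ← hh, ← ih, pow_succ', mul_inv_rev]; group

theorem x_conj_pow_neg {x : Multiplicative F →* Q} {h : Q} {ω : F} (hω : ω ≠ 0)
    (hh : ∀ z : F, h * x (.ofAdd z) * h⁻¹ = x (.ofAdd (ω * z))) (k : ℕ) (z : F) :
    (h ^ k)⁻¹ * x (.ofAdd z) * h ^ k = x (.ofAdd ((ω ^ k)⁻¹ * z)) := by
  have := x_conj_pow hh k ((ω ^ k)⁻¹ * z)
  rw [mul_inv_cancel_left₀ (pow_ne_zero k hω)] at this
  rw [← this]; group

/-- Evaluation of a polynomial word. -/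
theorem polyWord_eval {x : Multiplicative F →* Q} {h : Q} {ω : F}
    (hh : ∀ z : F, h * x (.ofAdd z) * h⁻¹ = x (.ofAdd (ω * z))) (P : (ZMod p)[X]) :
    polyWord h (x (.ofAdd 1)) P = x (.ofAdd (aeval ω P)) := by
  have e := act_polyWord x (Algebra.lmul (ZMod p) F ω) h (fun z => (hh z).symm) 1 P
  rw [← e]
  congr 2
  rw [aeval_algHom_apply]
  simp

theorem x_pow_char [CharP F p] {x : Multiplicative F →* Q} (z : F) : x (.ofAdd z) ^ p = 1 := by
  rw [← map_pow, ← ofAdd_nsmul, nsmul_eq_mul, CharP.cast_eq_zero, zero_mul, ofAdd_zero, map_one]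

theorem x_comm {x : Multiplicative F →* Q} (y z : F) : Commute (x (.ofAdd y)) (x (.ofAdd z)) :=
  (Commute.all _ _).map x

/-- Relators forcing an equivariant copy of the additive group of `F`. -/
def IsBorelData.{v, w} {F : Type w} [Field F] (ω : F) (L : Finset (FreeGroup (Fin 3))) : Prop :=
  (∀ {Q : Type v} [Group Q] (f : FreeGroup (Fin 3) →* Q) (x : Multiplicative F →* Q),
      x (.ofAdd 1) = f uW → (∀ z : F, f hW * x (.ofAdd z) * (f hW)⁻¹ = x (.ofAdd (ω * z))) →
      ∀ r ∈ L, f r = 1) ∧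
  ∀ {G : Type} [Group G] (f : FreeGroup (Fin 3) →* G), (∀ r ∈ L, f r = 1) →
    ∃ x : Multiplicative F →* G, x (.ofAdd 1) = f uW ∧
      ∀ z : F, f hW * x (.ofAdd z) * (f hW)⁻¹ = x (.ofAdd (ω * z))

universe v

/-- Degree at most two: `u ^ p`, `[u, u ^ h]` and the minimal polynomial. -/
theorem exists_data_small [Fintype F] [CharP F p] (ω : F)
    (hdeg : (minpoly (ZMod p) ω).natDegree ≤ 2)
    (hsurj : ∀ z : F, ∃ P : (ZMod p)[X], aeval ω P = z) :
    ∃ L : Finset (FreeGroup (Fin 3)), L.card ≤ 3 ∧ IsBorelData.{v} ω L := by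
  classical
  set M := minpoly (ZMod p) ω with hM
  refine ⟨{uW ^ p, uW * (hW * uW * hW⁻¹) * uW⁻¹ * (hW * uW * hW⁻¹)⁻¹, pW M}, Finset.card_le_three,
    ?_, ?_⟩
  · intro Q _ f x hx hh r hr
    simp only [Finset.mem_insert, Finset.mem_singleton] at hr
    rcases hr with rfl | rfl | rfl
    · rw [map_pow, ← hx, x_pow_char]
    · simp only [map_mul, map_inv]
      rw [← hx, hh, (x_comm (x := x) _ _).eq]
      group
    · rw [pW, map_polyWord, ← hx, polyWord_eval hh, hM, minpoly.aeval, ofAdd_zero, map_one]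
  · intro G _ f hf
    simp only [Finset.mem_insert, Finset.mem_singleton, forall_eq_or_imp, forall_eq, map_pow,
      map_mul, map_inv, pW, map_polyWord] at hf
    obtain ⟨hp, hc, hw⟩ := hf
    set u := f uW
    set h := f hW
    set u' := h * u * h⁻¹ with hu'
    have hc' : Commute u u' := by
      show u * u' = u' * u
      rwa [mul_inv_eq_one, mul_inv_eq_iff_eq_mul] at hc
    set U := Subgroup.closure ({u, u'} : Set G) with hUdef
    have huU : u ∈ U := Subgroup.subset_closure (by simp)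
    have hu'U : u' ∈ U := Subgroup.subset_closure (by simp)
    haveI : IsMulCommutative U := Subgroup.isMulCommutative_closure (by
      simp only [Set.mem_insert_iff, Set.mem_singleton_iff]
      rintro a (rfl | rfl) b (rfl | rfl) <;> first | rfl | exact hc'.eq | exact hc'.eq.symm)
    have hcomm : ∀ a ∈ U, ∀ b ∈ U, a * b = b * a := fun a ha b hb =>
      congrArg Subtype.val (IsMulCommutative.is_comm.comm (⟨a, ha⟩ : U) ⟨b, hb⟩)
    have hexp : ∀ a ∈ U, a ^ p = 1 := by
      intro a ha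
      induction ha using Subgroup.closure_induction with
      | mem g hg =>
        simp only [Set.mem_insert_iff, Set.mem_singleton_iff] at hg
        rcases hg with rfl | rfl
        · exact hp
        · rw [hu']
          exact ((map_pow (MulAut.conj h).toMonoidHom u p).symm.trans (by rw [hp, map_one]) :)
      | one => exact one_pow _
      | mul a b ha hb iha ihb =>
        rw [(show Commute a b from hcomm a ha b hb).mul_pow, iha, ihb, one_mul]
      | inv a _ ih => rw [inv_pow, ih, inv_one]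
    have hmon : M.coeff M.natDegree = 1 := minpoly.monic (IsIntegral.of_finite _ _)
    have hpos : 0 < M.natDegree := minpoly.natDegree_pos (IsIntegral.of_finite _ _)
    have hv : (1 : ZMod p).val = 1 := ZMod.val_one p
    have h2 : h * u' * h⁻¹ ∈ U := by
      have hw' : wordN h u (fun k => (M.coeff k).val) (M.natDegree + 1) = 1 := hw
      rcases (show M.natDegree = 1 ∨ M.natDegree = 2 by omega) with hd | hd <;> rw [hd] at hw' hmon
      · simp only [wordN, pow_zero, inv_one, one_mul, mul_one, hmon, hv, pow_one] at hw'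
        have e : u' = (u ^ (M.coeff 0).val)⁻¹ := eq_inv_of_mul_eq_one_right hw'
        rw [show h * u' * h⁻¹ = h * (u ^ (M.coeff 0).val)⁻¹ * h⁻¹ by rw [e],
          show h * (u ^ (M.coeff 0).val)⁻¹ * h⁻¹ = (u' ^ (M.coeff 0).val)⁻¹ by
            rw [hu']; exact (map_inv (MulAut.conj h).toMonoidHom _).trans
              (congrArg Inv.inv (map_pow (MulAut.conj h).toMonoidHom u _))]
        exact inv_mem (pow_mem hu'U _)
      · simp only [wordN, pow_zero, inv_one, one_mul, mul_one, hmon, hv, pow_one] at hw'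
        have e := eq_inv_of_mul_eq_one_right hw'
        have e' : h * u' * h⁻¹ = h ^ 2 * u * (h ^ 2)⁻¹ := by
          rw [hu', pow_two, mul_inv_rev]; group
        rw [e', e]
        refine inv_mem (mul_mem (pow_mem huU _) ?_)
        rw [show h * u ^ (M.coeff 1).val * h⁻¹ = u' ^ (M.coeff 1).val from
          map_pow (MulAut.conj h).toMonoidHom u _]
        exact pow_mem hu'U _
    have hU : ∀ a ∈ U, h * a * h⁻¹ ∈ U := by
      have hle : U ≤ U.comap (MulAut.conj h).toMonoidHom := by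
        refine (Subgroup.closure_le (U.comap (MulAut.conj h).toMonoidHom)).2 ?_
        rintro g hg
        simp only [Set.mem_insert_iff, Set.mem_singleton_iff] at hg
        rcases hg with rfl | rfl
        · exact hu'U
        · exact h2
      exact hle
    exact exists_xhom U hcomm hexp h u hU huU ω hsurj hw

theorem exists_pow_eq_sq [Fintype F] {ζ : Fˣ} (hζ : ∀ y : Fˣ, y ∈ Subgroup.zpowers ζ) {y : F}
    (hy : y ≠ 0) : ∃ k : ℕ, 1 ≤ k ∧ ((ζ : F) ^ 2) ^ k = y ^ 2 := by
  obtain ⟨k, hk⟩ := mem_powers_iff_mem_zpowers.2 (hζ (Units.mk0 y hy))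
  refine ⟨k + orderOf ζ, by have := orderOf_pos ζ; omega, ?_⟩
  have hk' : (ζ : F) ^ k = y := by
    have := congrArg Units.val hk
    simpa using this
  have h1 : (ζ : F) ^ orderOf ζ = 1 := by
    rw [← Units.val_pow_eq_pow_val, pow_orderOf_eq_one, Units.val_one]
  rw [← pow_mul, mul_comm, pow_mul, pow_add, hk', h1, mul_one]

/-- The general odd case: four relators. -/
theorem exists_data_odd [Fintype F] [CharP F p] (ω : F) (i j : ℕ) (hi : 1 ≤ i) (hj : 1 ≤ j)
    (hab : ω ^ i = 1 + ω ^ j) (hsurj : ∀ z : F, ∃ P : (ZMod p)[X], aeval ω P = z)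
    (hsurjα : ∀ z : F, ∃ P : (ZMod p)[X], aeval (ω ^ i) P = z) :
    ∃ L : Finset (FreeGroup (Fin 3)), L.card ≤ 4 ∧ IsBorelData.{v} ω L := by
  classical
  obtain ⟨P, hPω, hP⟩ := exists_poly (p := p) ω i j hi hj hsurjα
  refine ⟨{uW ^ p, hW ^ i * uW * (hW ^ i)⁻¹ * (uW * (hW ^ j * uW * (hW ^ j)⁻¹))⁻¹,
    uW * (hW ^ j * uW * (hW ^ j)⁻¹) * uW⁻¹ * (hW ^ j * uW * (hW ^ j)⁻¹)⁻¹,
    hW * uW * hW⁻¹ * (polyWord (hW ^ i) uW P)⁻¹}, Finset.card_le_four, ?_, ?_⟩
  · intro Q _ f x hx hh r hr
    simp only [Finset.mem_insert, Finset.mem_singleton] at hr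
    rcases hr with rfl | rfl | rfl | rfl
    · rw [map_pow, ← hx, x_pow_char]
    · simp only [map_mul, map_inv, map_pow]
      rw [← hx, x_conj_pow hh, x_conj_pow hh, ← map_mul, ← ofAdd_add, mul_one, mul_one, hab,
        mul_inv_cancel]
    · simp only [map_mul, map_inv, map_pow]
      rw [← hx, x_conj_pow hh, (x_comm (x := x) _ _).eq]
      group
    · simp only [map_mul, map_inv, map_polyWord, map_pow]
      rw [← hx, hh, mul_one, polyWord_eval (ω := ω ^ i) (fun z => x_conj_pow hh i z), hPω,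
        mul_inv_cancel]
  · intro G _ f hf
    simp only [Finset.mem_insert, Finset.mem_singleton, forall_eq_or_imp, forall_eq, map_pow,
      map_mul, map_inv, map_polyWord] at hf
    obtain ⟨hp, h1, h2, hw⟩ := hf
    exact exists_xhom_lattice (f hW) (f uW) ω i j P hsurj hPω hP hp (mul_inv_eq_one.1 h1)
      (by rwa [mul_inv_eq_one, mul_inv_eq_iff_eq_mul] at h2) (mul_inv_eq_one.1 hw)

/-- The characteristic two case: three relators. -/
theorem exists_data_two [Fintype F] [CharP F 2] [Algebra (ZMod 2) F] (ω : F) (j : ℕ)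
    (hab : ω = 1 + ω ^ j) (hsurj : ∀ z : F, ∃ P : (ZMod 2)[X], aeval ω P = z) :
    ∃ L : Finset (FreeGroup (Fin 3)), L.card ≤ 3 ∧ IsBorelData.{v} ω L := by
  classical
  refine ⟨{uW ^ 2, hW * uW * hW⁻¹ * (uW * (hW ^ j * uW * (hW ^ j)⁻¹))⁻¹,
    pW (minpoly (ZMod 2) ω)}, Finset.card_le_three, ?_, ?_⟩
  · intro Q _ f x hx hh r hr
    simp only [Finset.mem_insert, Finset.mem_singleton] at hr
    rcases hr with rfl | rfl | rfl
    · rw [map_pow, ← hx, x_pow_char (p := 2)]
    · simp only [map_mul, map_inv, map_pow]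
      rw [← hx, hh, x_conj_pow hh, ← map_mul, ← ofAdd_add, mul_one, mul_one, ← hab,
        mul_inv_cancel]
    · rw [pW, map_polyWord, ← hx, polyWord_eval hh, minpoly.aeval, ofAdd_zero, map_one]
  · intro G _ f hf
    simp only [Finset.mem_insert, Finset.mem_singleton, forall_eq_or_imp, forall_eq, map_pow,
      map_mul, map_inv, pW, map_polyWord] at hf
    obtain ⟨hp, h1, hw⟩ := hf
    rw [mul_inv_eq_one] at h1
    set u := f uW
    set h := f hW
    set b := h ^ j
    have hb : (b * u * b⁻¹) ^ 2 = 1 :=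
      (map_pow (MulAut.conj b).toMonoidHom u 2).symm.trans (by rw [hp, map_one])
    have hh2 : (h * u * h⁻¹) ^ 2 = 1 :=
      (map_pow (MulAut.conj h).toMonoidHom u 2).symm.trans (by rw [hp, map_one])
    have h2 : Commute u (b * u * b⁻¹) := by
      show u * _ = _ * u
      rw [h1, sq] at hh2
      rw [sq] at hp hb
      rw [← inv_eq_iff_mul_eq_one.2 hh2, mul_inv_rev, inv_eq_of_mul_eq_one_right hp,
        inv_eq_of_mul_eq_one_right hb]
    have hab' : Commute h b := (Commute.refl h).pow_right j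
    exact exists_xhom (latGroup h b u) (latGroup_comm hab' h1 h2) (latGroup_pow hab' h1 h2 hp) h u
      (latGroup_stable (Commute.refl h) hab' hab' (by
        have := lat_mem h b u 1 0
        simpa [lat] using this)) (self_mem h b u) ω hsurj hw

/-- Borel relators for `ω = ζ ^ 2`: at most four, and at most three in characteristic two. -/
theorem exists_data [Fintype F] [CharP F p] {f : ℕ} (hcard : Fintype.card F = p ^ f) (ζ : Fˣ)
    (hζ : ∀ y : Fˣ, y ∈ Subgroup.zpowers ζ) :
    (∀ z : F, ∃ P : (ZMod p)[X], aeval ((ζ : F) ^ 2) P = z) ∧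
    ∃ L : Finset (FreeGroup (Fin 3)), L.card ≤ 4 ∧ (p = 2 → L.card ≤ 3) ∧
      IsBorelData.{v} ((ζ : F) ^ 2) L := by
  classical
  have hp2 : 2 ≤ p := (Fact.out : p.Prime).two_le
  have hord : orderOf ζ = p ^ f - 1 := by
    rw [orderOf_eq_card_of_forall_mem_zpowers hζ, Nat.card_eq_fintype_card, Fintype.card_units,
      hcard]
  have hdvd : ∀ n : ℕ, ((ζ : F) ^ 2) ^ n = 1 → p ^ f - 1 ∣ 2 * n := by
    intro n hn
    rw [← hord, orderOf_dvd_iff_pow_eq_one, Units.ext_iff, Units.val_pow_eq_pow_val, Units.val_one,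
      pow_mul]
    exact hn
  have hz0 : (ζ : F) ≠ 0 := ζ.ne_zero
  have fixω : ∀ d, 1 ≤ d → d < f → ((ζ : F) ^ 2) ^ p ^ d ≠ (ζ : F) ^ 2 := by
    intro d hd hdf h
    have hP : 2 ≤ p ^ d := le_trans hp2 (Nat.le_self_pow (by omega) p)
    have h1 : ((ζ : F) ^ 2) ^ (p ^ d - 1) = 1 := by
      refine mul_right_cancel₀ (pow_ne_zero 2 hz0) ?_
      rw [one_mul, ← pow_succ, Nat.sub_add_cancel (by omega), h]
    have h2 := hdvd _ h1
    have hlt : p ^ d * p ≤ p ^ f := by
      rw [← pow_succ]; exact Nat.pow_le_pow_right (by omega) hdf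
    rcases (Fact.out : p.Prime).eq_two_or_odd' with rfl | hodd
    · have hodd' : Odd (2 ^ f - 1) := by
        refine Nat.Even.sub_odd (Nat.one_le_two_pow) ?_ odd_one
        exact (even_two.pow_of_ne_zero (by omega))
      have h3 := Nat.le_of_dvd (by omega)
        ((Nat.Coprime.dvd_of_dvd_mul_left ((Nat.coprime_two_right).2 hodd')) h2)
      omega
    · have h3 := Nat.le_of_dvd (by omega) h2
      have hp3 : 3 ≤ p := by obtain ⟨k, rfl⟩ := hodd; omega
      have : 3 * p ^ d ≤ p ^ d * p := by rw [mul_comm]; exact Nat.mul_le_mul_left _ hp3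
      omega
  have hsurj := aeval_surjective (p := p) hcard _ fixω
  refine ⟨hsurj, ?_⟩
  by_cases hf2 : f ≤ 2
  · have hdeg : (minpoly (ZMod p) ((ζ : F) ^ 2)).natDegree ≤ 2 := by
      refine le_trans (minpoly.natDegree_le _) ?_
      have h := Module.card_eq_pow_finrank (K := ZMod p) (V := F)
      rw [hcard, ZMod.card] at h
      rw [← Nat.pow_right_injective hp2 h]
      exact hf2
    obtain ⟨L, hL, hd⟩ := exists_data_small.{v} _ hdeg hsurj
    exact ⟨L, by omega, fun _ => hL, hd⟩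
  rw [not_le] at hf2
  have hq : 8 ≤ p ^ f := le_trans (Nat.pow_le_pow_right two_pos hf2) (Nat.pow_le_pow_left hp2 f)
  rcases (Fact.out : p.Prime).eq_two_or_odd' with rfl | hodd
  · obtain ⟨y, hy⟩ := Finite.injective_iff_surjective.1 (frobenius_inj F 2) (1 + (ζ : F) ^ 2)
    have hy' : y ^ 2 = 1 + (ζ : F) ^ 2 := hy
    have hne : y ≠ 0 := by
      rintro rfl
      rw [zero_pow two_ne_zero, eq_comm, add_comm, ← CharTwo.sub_eq_add, sub_eq_zero] at hy'
      have := Nat.le_of_dvd two_pos (by simpa using hdvd 1 (by rw [pow_one]; exact hy'))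
      omega
    obtain ⟨j, -, hj⟩ := exists_pow_eq_sq hζ hne
    obtain ⟨L, hL, hd⟩ := exists_data_two.{v} ((ζ : F) ^ 2) j
      (by rw [hj, hy', ← add_assoc, CharTwo.add_self_eq_zero, zero_add]) hsurj
    exact ⟨L, by omega, fun _ => hL, hd⟩
  · have hp3 : 3 ≤ p := by obtain ⟨k, rfl⟩ := hodd; omega
    have htwo : (2 : F) ≠ 0 := Ring.two_ne_zero (by rw [ringChar.eq F p]; omega)
    have hy : ((ζ : F) + (ζ : F)⁻¹) / 2 ≠ 0 := by
      intro h0
      have h1 : (ζ : F) ^ 2 = -1 := by
        have h0' : (ζ : F) + (ζ : F)⁻¹ = 0 := (div_eq_zero_iff.1 h0).resolve_right htwo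
        field_simp at h0'
        linear_combination h0'
      have := Nat.le_of_dvd (by norm_num) (hdvd 2 (by rw [h1]; ring))
      omega
    have hy2 : ((ζ : F) - (ζ : F)⁻¹) / 2 ≠ 0 := by
      intro h0
      have h1 : (ζ : F) ^ 2 = 1 := by
        have h0' : (ζ : F) - (ζ : F)⁻¹ = 0 := (div_eq_zero_iff.1 h0).resolve_right htwo
        field_simp at h0'
        linear_combination h0'
      have := Nat.le_of_dvd (by norm_num) (hdvd 1 (by rw [pow_one, h1]))
      omega
    obtain ⟨i, hi, hi2⟩ := exists_pow_eq_sq hζ hy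
    obtain ⟨j, hj, hj2⟩ := exists_pow_eq_sq hζ hy2
    have hab : ((ζ : F) ^ 2) ^ i = 1 + ((ζ : F) ^ 2) ^ j := by
      rw [hi2, hj2]; field_simp; ring
    have hsurjα : ∀ z : F, ∃ P : (ZMod p)[X], aeval (((ζ : F) ^ 2) ^ i) P = z := by
      refine aeval_surjective (p := p) hcard _ fun d hd hdf h => ?_
      have hφ : iterateFrobenius F p d (((ζ : F) ^ 2) + ((ζ : F) ^ 2)⁻¹) =
          ((ζ : F) ^ 2) + ((ζ : F) ^ 2)⁻¹ := by
        have e : ((ζ : F) ^ 2) + ((ζ : F) ^ 2)⁻¹ = 4 * ((ζ : F) ^ 2) ^ i - 2 := by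
          rw [hi2]; field_simp; ring
        rw [e, map_sub, map_mul, map_ofNat, map_ofNat, iterateFrobenius_def, h]
      rw [map_add, map_inv₀, iterateFrobenius_def] at hφ
      set w := (ζ : F) ^ 2 with hw
      have hw0 : w ≠ 0 := pow_ne_zero 2 hz0
      have hy0 : w ^ p ^ d ≠ 0 := pow_ne_zero _ hw0
      have key : (w ^ p ^ d - w) * (w ^ p ^ d * w - 1) = 0 := by
        generalize w ^ p ^ d = y at hφ hy0 ⊢
        field_simp at hφ
        linear_combination hφ
      rcases mul_eq_zero.1 key with h' | h'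
      · exact fixω d hd hdf (sub_eq_zero.1 h')
      · have h1 : ((ζ : F) ^ 2) ^ (p ^ d + 1) = 1 := by rw [pow_succ]; exact sub_eq_zero.1 h'
        have h2 := Nat.le_of_dvd (by omega) (hdvd _ h1)
        have hlt : p ^ d * p ≤ p ^ f := by
          rw [← pow_succ]; exact Nat.pow_le_pow_right (by omega) hdf
        have : 3 * p ^ d ≤ p ^ d * p := by rw [mul_comm]; exact Nat.mul_le_mul_left _ hp3
        have : 3 ≤ p ^ d := le_trans hp3 (Nat.le_self_pow (by omega) p)
        have : 3 ^ 3 ≤ p ^ f := le_trans (Nat.pow_le_pow_left hp3 3)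
          (Nat.pow_le_pow_right (by omega) hf2)
        omega
    obtain ⟨L, hL, hd⟩ := exists_data_odd.{v} _ i j hi hj hab hsurj hsurjα
    exact ⟨L, hL, by omega, hd⟩

end H40.CRW
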