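import Mathlib

/-!
Polynomial lemmas behind the short presentations of the Borel subgroup of `SL₂(q)`.
-/

set_option autoImplicit false
set_option linter.style.haveILetI false

namespace H40.CRW

open Polynomial

variable {p : ℕ} [Fact p.Prime] {F : Type*} [Field F] [Algebra (ZMod p) F]

/-- An element outside every proper subfield generates. -/
theorem aeval_surjective [Fintype F] {f : ℕ} (hf : Fintype.card F = p ^ f) (x : F)
    (hx : ∀ d, 1 ≤ d → d < f → x ^ p ^ d ≠ x) (z : F) : ∃ P : (ZMod p)[X], aeval x P = z := by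
  have hint : IsIntegral (ZMod p) x := IsIntegral.of_finite _ _
  set K := IntermediateField.adjoin (ZMod p) ({x} : Set F)
  haveI : Fintype K := Fintype.ofFinite _
  set d := Module.finrank (ZMod p) K
  have hK : Fintype.card K = p ^ d := by
    rw [Module.card_eq_pow_finrank (K := ZMod p) (V := K), ZMod.card]
  have hp : 1 < p := (Fact.out : p.Prime).one_lt
  have hle : d ≤ f := by
    refine (Nat.pow_le_pow_iff_right hp).1 ?_
    rw [← hK, ← hf]
    exact Fintype.card_le_of_injective _ Subtype.val_injective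
  rcases hle.lt_or_eq with hlt | heq
  · exfalso
    apply hx d Module.finrank_pos hlt
    have h := FiniteField.pow_card (⟨x, IntermediateField.mem_adjoin_simple_self _ x⟩ : K)
    rw [hK] at h
    simpa using congrArg Subtype.val h
  · have hbij : Function.Bijective (Subtype.val : K → F) := by
      rw [Fintype.bijective_iff_injective_and_card]
      exact ⟨Subtype.val_injective, by rw [hK, hf, heq]⟩
    obtain ⟨⟨w, hw⟩, rfl⟩ := hbij.2 z
    change w ∈ K.toSubalgebra at hw
    rw [IntermediateField.adjoin_simple_toSubalgebra_of_isAlgebraic hint.isAlgebraic,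
      Algebra.adjoin_singleton_eq_range_aeval] at hw
    exact hw

/-- The correction of the polynomial giving the torus action as a polynomial in `α = ω ^ i`:
it forces the module relations `P(A) ^ i = A`, `P(A) ^ j + 1 = A` to imply `m(A) = 0`. -/
theorem exists_poly [Finite F] [CharP F p] (ω : F) (i j : ℕ) (hi : 1 ≤ i) (hj : 1 ≤ j)
    (hsurj : ∀ z : F, ∃ P : (ZMod p)[X], aeval (ω ^ i) P = z) :
    ∃ P : (ZMod p)[X], aeval (ω ^ i) P = ω ∧
      ∀ {R : Type} [Ring R] [Algebra (ZMod p) R] (A : R), (∀ z, A * z = 0 → z = 0) →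
        (aeval A P) ^ i = A → (aeval A P) ^ j + 1 = A → aeval A (minpoly (ZMod p) (ω ^ i)) = 0 := by
  classical
  set α := ω ^ i with hα
  set m := minpoly (ZMod p) α
  have hint : IsIntegral (ZMod p) α := IsIntegral.of_finite _ _
  have hirr : Irreducible m := minpoly.irreducible hint
  set Q : (ZMod p)[X] := X ^ i - X ^ j - 1 with hQdef
  have hQ : Q ≠ 0 := by
    intro h
    have := congrArg (eval 0) h
    simp [hQdef, zero_pow (show i ≠ 0 by omega), zero_pow (show j ≠ 0 by omega)] at this
  haveI : Module.Finite (ZMod p) (AdjoinRoot Q) := (AdjoinRoot.powerBasis hQ).finite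
  have hb : IsIntegral (ZMod p) ((AdjoinRoot.root Q) ^ i) := IsIntegral.of_finite _ _
  set T := minpoly (ZMod p) ((AdjoinRoot.root Q) ^ i)
  have hT : T ≠ 0 := minpoly.ne_zero hb
  have hQT : Q ∣ T.comp (X ^ i) := by
    rw [← AdjoinRoot.mk_eq_zero, ← AdjoinRoot.aeval_eq, aeval_comp, map_pow, aeval_X]
    exact minpoly.aeval _ _
  have hfm : FiniteMultiplicity m T :=
    finiteMultiplicity_of_degree_pos_of_monic (minpoly.degree_pos hint) (minpoly.monic hint) hT
  obtain ⟨S, hTS, hmS⟩ := hfm.exists_eq_pow_mul_and_not_dvd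
  have hSα : aeval α S ≠ 0 := fun h => hmS (minpoly.dvd _ _ h)
  obtain ⟨ω', hω'⟩ := (Finite.injective_iff_surjective.1 (frobenius_inj F p)) ω
  obtain ⟨K, hK⟩ := hsurj (ω' / aeval α S)
  refine ⟨(S * K) ^ p, ?_, ?_⟩
  · rw [map_pow, map_mul, hK, mul_div_cancel₀ _ hSα]
    exact hω'
  intro R _ _ A hA h1 h2
  have hQA : aeval (aeval A ((S * K) ^ p)) Q = 0 := by
    simp only [hQdef, map_sub, map_pow, aeval_X, map_one]
    rw [map_pow] at h1 h2
    rw [h1]
    nth_rewrite 1 [← h2]
    abel
  have hTA : aeval A T = 0 := by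
    obtain ⟨W, hW⟩ := hQT
    have := congrArg (aeval (aeval A ((S * K) ^ p))) hW
    rw [aeval_comp, map_pow (aeval (aeval A ((S * K) ^ p))), aeval_X, h1, map_mul, hQA,
      zero_mul] at this
    exact this
  set e := multiplicity m T
  have hme : aeval A (m ^ e) = 0 := by
    apply hA
    conv_lhs => arg 1; rw [← h1, ← map_pow]
    rw [← map_mul]
    obtain ⟨c, hc⟩ : S ∣ ((S * K) ^ p) ^ i := by
      refine dvd_trans (dvd_mul_right S K) ?_
      rw [← pow_mul]
      exact dvd_pow_self _ (Nat.mul_ne_zero (Fact.out : p.Prime).ne_zero (by omega))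
    rw [hc, show S * c * m ^ e = c * (m ^ e * S) by ring, map_mul, ← hTS, hTA, mul_zero]
  set E : (ZMod p)[X] := ((S * K) ^ p) ^ i - X with hE
  have hEA : aeval A E = 0 := by rw [hE, map_sub, map_pow, h1, aeval_X, sub_self]
  have hEα : aeval α E = 0 := by
    rw [hE, map_sub, map_pow, map_pow, map_mul, hK, mul_div_cancel₀ _ hSα, aeval_X,
      show ω' ^ p = ω from hω', sub_self]
  obtain ⟨W, hW⟩ := minpoly.dvd _ _ hEα
  have hder : derivative E = -1 := by
    rw [hE, derivative_sub, derivative_pow _ i, derivative_pow _ p, CharP.cast_eq_zero (ZMod p) p, map_zero, zero_mul,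
      zero_mul, mul_zero, derivative_X, zero_sub]
  have hsep : E.Separable := by
    rw [separable_def, hder]
    exact ⟨0, -1, by ring⟩
  have hmW : ¬ m ∣ W := by
    rintro ⟨V, rfl⟩
    exact hirr.not_isUnit (hsep.squarefree m ⟨V, by rw [hW]; ring⟩)
  obtain ⟨a, b, hab'⟩ := (IsCoprime.pow_left (m := e) ((Irreducible.coprime_iff_not_dvd hirr).2 hmW))
  have := congrArg (fun Z => aeval A (Z * m)) hab'
  simp only [one_mul] at this
  rw [show (a * m ^ e + b * W) * m = a * m * m ^ e + b * (m * W) by ring, ← hW, map_add, map_mul,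
    hme, mul_zero, map_mul, hEA, mul_zero, add_zero] at this
  exact this.symm

end H40.CRW
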