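import Mathlib

/-!
# The trace of a product of two conjugacy classes of `SL_d`, `d ≥ 3`, takes every value.
-/

set_option autoImplicit false

namespace H40

open Matrix

variable {F : Type*} [Field F]

theorem exists_matrix_of_indep {d : ℕ} (f : Fin 3 → (Fin d → F)) (hf : LinearIndependent F f) (h3 : 3 ≤ d) :
    ∃ P : Matrix (Fin d) (Fin d) F, IsUnit P ∧ ∀ k : Fin 3, P *ᵥ Pi.single (Fin.castLE h3 k) 1 = f k := by
  classical
  let b := Module.Basis.sumExtend hf
  have : Finite (Fin 3 ⊕ Module.Basis.sumExtendIndex hf) := Module.Finite.finite_basis b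
  have : Finite (Module.Basis.sumExtendIndex hf) :=
    Finite.of_injective (Sum.inr (α := Fin 3) (β := Module.Basis.sumExtendIndex hf)) Sum.inr_injective
  have := Fintype.ofFinite (Module.Basis.sumExtendIndex hf)
  have hcard : Fintype.card (Fin 3 ⊕ Module.Basis.sumExtendIndex hf) = d := by
    rw [← Module.finrank_eq_card_basis b, Module.finrank_fin_fun]
  obtain ⟨e, he⟩ : ∃ e : (Fin 3 ⊕ Module.Basis.sumExtendIndex hf) ≃ Fin d, ∀ k, e (Sum.inl k) = Fin.castLE h3 k := by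
    have hc : Fintype.card (Module.Basis.sumExtendIndex hf) = d - 3 := by
      simp only [Fintype.card_sum, Fintype.card_fin] at hcard; omega
    exact ⟨((Equiv.refl (Fin 3)).sumCongr (Fintype.equivFinOfCardEq hc)).trans
      (finSumFinEquiv.trans (finCongr (by omega))), fun k => Fin.ext (by simp)⟩
  let P : Matrix (Fin d) (Fin d) F := Matrix.of fun i j => b (e.symm j) i
  refine ⟨P, ?_, fun k => ?_⟩
  · rw [← Matrix.linearIndependent_cols_iff_isUnit]
    exact b.linearIndependent.comp e.symm e.symm.injective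
  · rw [Matrix.mulVec_single_one]
    funext i
    show b (e.symm (Fin.castLE h3 k)) i = f k i
    rw [← he, Equiv.symm_apply_apply]
    simp [b, Module.Basis.sumExtend]
    rfl

variable {d : ℕ}

theorem exists_indep_pair (A : Matrix.SpecialLinearGroup (Fin d) F)
    (hA : A ∉ Subgroup.center (Matrix.SpecialLinearGroup (Fin d) F)) :
    ∃ v : Fin d → F, LinearIndependent F ![v, (A : Matrix (Fin d) (Fin d) F) *ᵥ v] := by
  by_contra! h
  apply hA
  obtain ⟨a, ha⟩ := (Matrix.toLin' (A : Matrix (Fin d) (Fin d) F)).exists_eq_smul_id_of_forall_notLinearIndependent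
    (fun v => by simpa [Matrix.toLin'_apply] using h v)
  have hs : (A : Matrix (Fin d) (Fin d) F) = Matrix.scalar (Fin d) a := by
    apply Matrix.toLin'.injective
    rw [ha]
    refine LinearMap.ext fun v => funext fun i => ?_
    simp [Matrix.toLin'_apply, Matrix.mulVec_diagonal]
  rw [Subgroup.mem_center_iff]
  intro g
  apply Subtype.ext
  rw [Matrix.SpecialLinearGroup.coe_mul, Matrix.SpecialLinearGroup.coe_mul, hs]
  exact ((Matrix.scalar_commute a (fun r => mul_comm a r) (g : Matrix (Fin d) (Fin d) F)).eq).symm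

/-- For noncentral `A, B` some conjugate of `B` moves a vector out of the plane of `u, A u`. -/
theorem exists_conj_out (hd : 3 ≤ d) (A B : Matrix.SpecialLinearGroup (Fin d) F)
    (hA : A ∉ Subgroup.center (Matrix.SpecialLinearGroup (Fin d) F))
    (hB : B ∉ Subgroup.center (Matrix.SpecialLinearGroup (Fin d) F)) :
    ∃ (g : Matrix.SpecialLinearGroup (Fin d) F) (u : Fin d → F),
      ((g * B * g⁻¹ : Matrix.SpecialLinearGroup (Fin d) F) : Matrix (Fin d) (Fin d) F) *ᵥ ((A : Matrix (Fin d) (Fin d) F) *ᵥ u) -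
        (A : Matrix (Fin d) (Fin d) F) *ᵥ (((g * B * g⁻¹ : Matrix.SpecialLinearGroup (Fin d) F) : Matrix (Fin d) (Fin d) F) *ᵥ u) ∉
        Submodule.span F (Set.range ![u, (A : Matrix (Fin d) (Fin d) F) *ᵥ u]) := by
  classical
  set a := (A : Matrix (Fin d) (Fin d) F)
  set b := (B : Matrix (Fin d) (Fin d) F)
  obtain ⟨u, hu⟩ : ∃ z, LinearIndependent F ![z, a *ᵥ z] := exists_indep_pair A hA
  obtain ⟨v, hv⟩ : ∃ z, LinearIndependent F ![z, b *ᵥ z] := exists_indep_pair B hB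
  set L := Submodule.span F (Set.range ![u, a *ᵥ u]) with hL
  have hproper : ∀ (x : Fin 2 → Fin d → F), Submodule.span F (Set.range x) ≠ ⊤ := by
    intro x h
    have h1 : Module.finrank F (Submodule.span F (Set.range x)) ≤ 2 := by
      simpa [Set.finrank] using finrank_range_le_card x
    rw [h, finrank_top, Module.finrank_fin_fun] at h1
    omega
  obtain ⟨w, hw⟩ : ∃ w, w ∉ L := by
    by_contra! h; exact hproper _ (eq_top_iff.2 fun z _ => h z)
  obtain ⟨v2, hv2⟩ : ∃ z, z ∉ Submodule.span F (Set.range ![v, b *ᵥ v]) := by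
    by_contra! h; exact hproper _ (eq_top_iff.2 fun z _ => h z)
  have hind : ∀ (x y z : Fin d → F), LinearIndependent F ![x, y] → z ∉ Submodule.span F (Set.range ![x, y]) →
      LinearIndependent F ![z, x, y] := fun x y z h1 h2 => linearIndependent_finCons.2 ⟨h1, h2⟩
  obtain ⟨P, hP, hPk⟩ := exists_matrix_of_indep _ (hind v (b *ᵥ v) v2 hv hv2) hd
  obtain ⟨Q, hQ, hQk⟩ := exists_matrix_of_indep _ (hind u w (a *ᵥ u) (by
      rw [LinearIndependent.pair_iff] at hu ⊢
      intro s t hst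
      by_cases ht : t = 0
      · subst ht; exact hu s 0 (by simpa using hst)
      · refine absurd ?_ hw
        have : w = (-(t⁻¹ * s)) • u := by
          rw [add_comm, add_eq_zero_iff_eq_neg, ← neg_smul] at hst
          rw [← one_smul F w, ← inv_mul_cancel₀ ht, mul_smul, hst, smul_smul, mul_neg]
        rw [this]
        exact Submodule.smul_mem _ _ (Submodule.subset_span ⟨0, rfl⟩)) (by
      intro hmem
      rw [Submodule.mem_span_range_iff_exists_fun] at hmem
      obtain ⟨c, hc⟩ := hmem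
      simp [Fin.sum_univ_two] at hc
      by_cases hc1 : c 1 = 0
      · rw [hc1, zero_smul, add_zero] at hc
        rw [LinearIndependent.pair_iff] at hu
        have := (hu (c 0) (-1) (by rw [hc]; simp)).2
        simp at this
      · apply hw
        have : w = (c 1)⁻¹ • (a *ᵥ u) - ((c 1)⁻¹ * c 0) • u := by
          rw [← hc, smul_add, smul_smul, smul_smul, inv_mul_cancel₀ hc1, one_smul, add_sub_cancel_left]
        rw [this]
        exact Submodule.sub_mem _ (Submodule.smul_mem _ _ (Submodule.subset_span ⟨1, rfl⟩))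
          (Submodule.smul_mem _ _ (Submodule.subset_span ⟨0, rfl⟩)))) hd
  set i0 := Fin.castLE hd 0
  set i1 := Fin.castLE hd 1
  set i2 := Fin.castLE hd 2
  have h01 : i0 ≠ i1 := by simp [i0, i1, Fin.ext_iff]
  have h02 : i0 ≠ i2 := by simp [i0, i2, Fin.ext_iff]
  have h12 : i1 ≠ i2 := by simp [i1, i2, Fin.ext_iff]
  have P0 : P *ᵥ Pi.single i0 1 = v2 := hPk 0
  have P1 : P *ᵥ Pi.single i1 1 = v := hPk 1
  have P2 : P *ᵥ Pi.single i2 1 = b *ᵥ v := hPk 2
  have Q0 : Q *ᵥ Pi.single i0 1 = a *ᵥ u := hQk 0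
  have Q1 : Q *ᵥ Pi.single i1 1 = u := hQk 1
  have Q2 : Q *ᵥ Pi.single i2 1 = w := hQk 2
  have hPd := (Matrix.isUnit_iff_isUnit_det _).1 hP
  have hQd := (Matrix.isUnit_iff_isUnit_det _).1 hQ
  set c : F := P.det * Q.det⁻¹
  have hc0 : c ≠ 0 := mul_ne_zero hPd.ne_zero (inv_ne_zero hQd.ne_zero)
  set D : Matrix (Fin d) (Fin d) F := Matrix.diagonal fun i => if i = i2 then c else 1
  have hdet : ∀ t : F, (Q * D * (1 + Matrix.single i1 i0 t) * P⁻¹).det = 1 := by
    intro t
    rw [Matrix.det_mul, Matrix.det_mul, Matrix.det_mul, Matrix.det_nonsing_inv, Ring.inverse_eq_inv,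
      Matrix.det_diagonal, show (1 + Matrix.single i1 i0 t).det = 1 from Matrix.det_transvection_of_ne i1 i0 h01.symm t]
    simp [c]
    field_simp [hPd.ne_zero, hQd.ne_zero]
  let g : F → Matrix.SpecialLinearGroup (Fin d) F := fun t => ⟨Q * D * (1 + Matrix.single i1 i0 t) * P⁻¹, hdet t⟩
  have hg : ∀ t z, (g t : Matrix (Fin d) (Fin d) F) *ᵥ (P *ᵥ z) =
      Q *ᵥ (D *ᵥ (z + Pi.single i1 (t * z i0))) := by
    intro t z
    show (Q * D * (1 + Matrix.single i1 i0 t) * P⁻¹) *ᵥ (P *ᵥ z) = _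
    rw [Matrix.mulVec_mulVec, mul_assoc _ P⁻¹ P, Matrix.nonsing_inv_mul _ hPd, mul_one,
      ← Matrix.mulVec_mulVec, ← Matrix.mulVec_mulVec, Matrix.add_mulVec, Matrix.one_mulVec, Matrix.single_mulVec]
    rfl
  have hDsingle : ∀ k, D *ᵥ Pi.single k 1 = Pi.single k (if k = i2 then c else 1) := by
    intro k
    rw [Matrix.diagonal_mulVec_single, mul_one]
  have gv : ∀ t, (g t : Matrix (Fin d) (Fin d) F) *ᵥ v = u := by
    intro t
    rw [← P1, hg]; simp [h01, hDsingle, h12, Q1]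
  have gbv : ∀ t, (g t : Matrix (Fin d) (Fin d) F) *ᵥ (b *ᵥ v) = c • w := by
    intro t
    rw [← P2, hg]
    simp only [Pi.single_eq_of_ne h02, mul_zero, Pi.single_zero, add_zero, hDsingle, if_true]
    rw [show (Pi.single i2 c : Fin d → F) = c • Pi.single i2 1 by rw [← Pi.single_smul, smul_eq_mul, mul_one],
      Matrix.mulVec_smul, Q2]
  have gv2 : ∀ t, (g t : Matrix (Fin d) (Fin d) F) *ᵥ (v2 - t • v) = a *ᵥ u := by
    intro t
    rw [Matrix.mulVec_sub, Matrix.mulVec_smul, gv, ← P0, hg, Matrix.mulVec_add, Matrix.mulVec_add, hDsingle,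
      if_neg h02, Q0, Pi.single_eq_same, mul_one, show (Pi.single i1 t : Fin d → F) = t • Pi.single i1 1 by
        rw [← Pi.single_smul, smul_eq_mul, mul_one], Matrix.mulVec_smul, hDsingle, if_neg h12,
      Matrix.mulVec_smul, Q1]
    simp
  have hconj : ∀ t z, ((g t * B * (g t)⁻¹ : Matrix.SpecialLinearGroup (Fin d) F) : Matrix (Fin d) (Fin d) F) *ᵥ
      ((g t : Matrix (Fin d) (Fin d) F) *ᵥ z) = (g t : Matrix (Fin d) (Fin d) F) *ᵥ (b *ᵥ z) := by
    intro t z
    rw [Matrix.mulVec_mulVec, ← Matrix.SpecialLinearGroup.coe_mul, inv_mul_cancel_right,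
      Matrix.SpecialLinearGroup.coe_mul, Matrix.mulVec_mulVec]
  obtain ⟨β, hβ⟩ : ∃ β : F, ∀ t, (g t : Matrix (Fin d) (Fin d) F) *ᵥ (b *ᵥ v2) =
      (g 0 : Matrix (Fin d) (Fin d) F) *ᵥ (b *ᵥ v2) + (t * β) • u := by
    refine ⟨(P⁻¹ *ᵥ (b *ᵥ v2)) i0, fun t => ?_⟩
    have e : b *ᵥ v2 = P *ᵥ (P⁻¹ *ᵥ (b *ᵥ v2)) := by
      rw [Matrix.mulVec_mulVec _ P P⁻¹, Matrix.mul_nonsing_inv _ hPd, Matrix.one_mulVec]
    generalize hz : P⁻¹ *ᵥ (b *ᵥ v2) = z at e ⊢
    rw [e, hg, hg, zero_mul, Pi.single_zero, add_zero, Matrix.mulVec_add, Matrix.mulVec_add,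
      show (Pi.single i1 (t * z i0) : Fin d → F) = (t * z i0) • Pi.single i1 1 by
        rw [← Pi.single_smul, smul_eq_mul, mul_one], Matrix.mulVec_smul, hDsingle, if_neg h12,
      Matrix.mulVec_smul, Q1]
  by_contra! hall
  have key : ∀ t, ((g t * B * (g t)⁻¹ : Matrix.SpecialLinearGroup (Fin d) F) : Matrix (Fin d) (Fin d) F) *ᵥ (a *ᵥ u) -
      a *ᵥ (((g t * B * (g t)⁻¹ : Matrix.SpecialLinearGroup (Fin d) F) : Matrix (Fin d) (Fin d) F) *ᵥ u) ∈ L :=
    fun t => hall (g t) u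
  have e0 := key 0
  have e1 := key 1
  have he : ∀ t, ((g t * B * (g t)⁻¹ : Matrix.SpecialLinearGroup (Fin d) F) : Matrix (Fin d) (Fin d) F) *ᵥ (a *ᵥ u) -
      a *ᵥ (((g t * B * (g t)⁻¹ : Matrix.SpecialLinearGroup (Fin d) F) : Matrix (Fin d) (Fin d) F) *ᵥ u) =
      (g 0 : Matrix (Fin d) (Fin d) F) *ᵥ (b *ᵥ v2) + (t * β) • u - t • (c • w) - a *ᵥ (c • w) := by
    intro t
    conv_lhs => rw [← gv2 t, hconj, Matrix.mulVec_sub, Matrix.mulVec_smul, Matrix.mulVec_sub, Matrix.mulVec_smul, gbv, hβ]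
    rw [← gv t, hconj, gbv, gv]
  rw [he] at e0 e1
  apply hw
  have hu' : u ∈ L := Submodule.subset_span ⟨0, rfl⟩
  have := Submodule.sub_mem _ e0 (Submodule.sub_mem _ e1 (Submodule.smul_mem _ β hu'))
  rw [show (g 0 : Matrix (Fin d) (Fin d) F) *ᵥ (b *ᵥ v2) + ((0 : F) * β) • u - (0 : F) • (c • w) - a *ᵥ (c • w) -
    ((g 0 : Matrix (Fin d) (Fin d) F) *ᵥ (b *ᵥ v2) + ((1 : F) * β) • u - (1 : F) • (c • w) - a *ᵥ (c • w) - β • u) = c • w by
      simp
      abel] at this
  exact (Submodule.smul_mem_iff _ hc0).1 this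

/-- The traces of the products of two noncentral classes take every value. -/
theorem exists_trace_eq (hd : 3 ≤ d) (A B : Matrix.SpecialLinearGroup (Fin d) F)
    (hA : A ∉ Subgroup.center (Matrix.SpecialLinearGroup (Fin d) F))
    (hB : B ∉ Subgroup.center (Matrix.SpecialLinearGroup (Fin d) F)) (s : F) :
    ∃ g : Matrix.SpecialLinearGroup (Fin d) F,
      Matrix.trace ((A * (g * B * g⁻¹) : Matrix.SpecialLinearGroup (Fin d) F) : Matrix (Fin d) (Fin d) F) = s := by
  classical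
  obtain ⟨g, u, hgu⟩ := exists_conj_out hd A B hA hB
  set a := (A : Matrix (Fin d) (Fin d) F) with ha
  set b := ((g * B * g⁻¹ : Matrix.SpecialLinearGroup (Fin d) F) : Matrix (Fin d) (Fin d) F) with hb
  set L := Submodule.span F (Set.range ![u, a *ᵥ u]) with hL
  obtain ⟨φ, hφz, hφ⟩ := L.exists_dual_map_eq_bot_of_notMem hgu inferInstance
  set f : Fin d → F := fun i => φ (Pi.single i 1) with hf
  have hfv : ∀ z, f ⬝ᵥ z = φ z := by
    intro z
    conv_rhs => rw [← Finset.univ_sum_single z, map_sum]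
    refine Finset.sum_congr rfl fun i _ => ?_
    rw [show (Pi.single i (z i) : Fin d → F) = z i • Pi.single i 1 by rw [← Pi.single_smul, smul_eq_mul, mul_one],
      map_smul, smul_eq_mul, mul_comm]
  have hzero : ∀ z ∈ L, f ⬝ᵥ z = 0 := fun z hz => by
    rw [hfv]
    exact (Submodule.mem_bot F).1 (hφ ▸ Submodule.mem_map_of_mem hz)
  have hfu : f ⬝ᵥ u = 0 := hzero u (Submodule.subset_span ⟨0, rfl⟩)
  have hfau : f ⬝ᵥ (a *ᵥ u) = 0 := hzero _ (Submodule.subset_span ⟨1, rfl⟩)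
  set P := Matrix.vecMulVec u f with hP
  have hP2 : P * P = 0 := by rw [hP, Matrix.vecMulVec_mul_vecMulVec, hfu]; simp
  have hdetP : ∀ t : F, (1 + t • P).det = 1 := by
    intro t
    rw [hP, ← Matrix.smul_vecMulVec, Matrix.vecMulVec_eq Unit, Matrix.det_one_add_replicateCol_mul_replicateRow,
      dotProduct_smul, hfu]
    simp
  let x : F → Matrix.SpecialLinearGroup (Fin d) F := fun t => ⟨1 + t • P, hdetP t⟩
  have hx : ∀ t, (x t)⁻¹ = x (-t) := by
    intro t
    apply inv_eq_of_mul_eq_one_right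
    apply Subtype.ext
    show (1 + t • P) * (1 + -t • P) = 1
    rw [mul_add, mul_one, add_mul, one_mul, Matrix.smul_mul, Matrix.mul_smul, hP2]
    simp
  set κ := φ (b *ᵥ (a *ᵥ u) - a *ᵥ (b *ᵥ u)) with hκ
  have hlin : ∀ t, Matrix.trace ((A * (x t * (g * B * g⁻¹) * (x t)⁻¹) : Matrix.SpecialLinearGroup (Fin d) F) : Matrix (Fin d) (Fin d) F) =
      Matrix.trace (a * b) + t * κ := by
    intro t
    rw [hx, Matrix.SpecialLinearGroup.coe_mul, Matrix.SpecialLinearGroup.coe_mul, Matrix.SpecialLinearGroup.coe_mul, ← ha, ← hb]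
    show Matrix.trace (a * ((1 + t • P) * b * (1 + -t • P))) = _
    have e1 : Matrix.trace (a * P * b) = φ (b *ᵥ (a *ᵥ u)) := by
      rw [Matrix.trace_mul_comm, hP, Matrix.mul_vecMulVec, Matrix.mul_vecMulVec, Matrix.trace_vecMulVec,
        dotProduct_comm, hfv]
    have e2 : Matrix.trace (a * b * P) = φ (a *ᵥ (b *ᵥ u)) := by
      rw [hP, Matrix.mul_vecMulVec, Matrix.trace_vecMulVec, dotProduct_comm, hfv, Matrix.mulVec_mulVec]
    have e3 : Matrix.trace (a * P * b * P) = 0 := by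
      rw [hP, Matrix.mul_vecMulVec, Matrix.trace_vecMulVec, dotProduct_comm, ← Matrix.mulVec_mulVec,
        ← Matrix.mulVec_mulVec, Matrix.vecMulVec_mulVec]
      simp [Matrix.mulVec_smul, hfau]
    rw [mul_add, mul_one, add_mul, one_mul, Matrix.smul_mul, mul_add, Matrix.mul_add, Matrix.mul_smul,
      Matrix.mul_smul, Matrix.mul_smul, add_mul, Matrix.smul_mul, mul_add, Matrix.mul_smul]
    simp only [Matrix.trace_add, Matrix.trace_smul, smul_eq_mul, ← mul_assoc]
    rw [e1, e2, e3, hκ, map_sub]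
    ring
  refine ⟨x ((s - Matrix.trace (a * b)) / κ) * g, ?_⟩
  have e := hlin ((s - Matrix.trace (a * b)) / κ)
  rw [div_mul_cancel₀ _ hφz, add_sub_cancel] at e
  refine Eq.trans ?_ e
  rw [_root_.mul_inv_rev]
  simp only [mul_assoc]

end H40
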