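import Cfsg.Agent.H40.SLShort

/-!
Generators of `SL₂` of coprime orders, and pairs of generators of a product with `SL_m`.
-/

set_option autoImplicit false
set_option linter.unusedSectionVars false
set_option linter.style.haveILetI false

namespace H40.CoprimeGens

open Matrix
open H40.CRW (xS hS tS)

variable {F : Type*} [Field F]

local notation "SL2" => SpecialLinearGroup (Fin 2) F

theorem cmul (g h : SL2) : (g * h).1 = g.1 * h.1 := rfl

theorem cone : (1 : SL2).1 = 1 := rfl

theorem sq_eq (g : SL2) : g.1 * g.1 = (g.1 0 0 + g.1 1 1) • g.1 - 1 := by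
  have hd : g.1 0 0 * g.1 1 1 - g.1 0 1 * g.1 1 0 = 1 := by rw [← det_fin_two]; exact g.2
  ext i j
  fin_cases i <;> fin_cases j <;> simp [Matrix.mul_apply, Fin.sum_univ_two] <;>
    first | ring1 | linear_combination hd | linear_combination -hd

/-- An element with given trace. -/
def bT (τ : F) : SL2 := xS (.ofAdd τ) * tS

theorem coe_bT (τ : F) : (bT τ).1 = !![-τ, 1; -1, 0] := by
  rw [bT, cmul, H40.CRW.coe_xS, H40.CRW.coe_tS, mul_fin_two]
  simp

theorem pow_coeff (g g' : SL2) (h : g.1 0 0 + g.1 1 1 = g'.1 0 0 + g'.1 1 1) (m : ℕ) :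
    ∃ α β : F, (g ^ m).1 = α • g.1 + β • 1 ∧ (g' ^ m).1 = α • g'.1 + β • 1 := by
  induction m with
  | zero => exact ⟨0, 1, by rw [pow_zero, cone]; simp, by rw [pow_zero, cone]; simp⟩
  | succ m ih =>
    obtain ⟨α, β, e, e'⟩ := ih
    refine ⟨α * (g.1 0 0 + g.1 1 1) + β, -α, ?_, ?_⟩
    · rw [pow_succ, cmul, e, add_mul, smul_mul_assoc, smul_mul_assoc, one_mul, sq_eq]
      module
    · rw [pow_succ, cmul, e', add_mul, smul_mul_assoc, smul_mul_assoc, one_mul, sq_eq, h]
      module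

theorem closure_hS_bT [Fintype F] {ζ : Fˣ} (hgen : ∀ y : Fˣ, y ∈ Subgroup.zpowers ζ)
    (h4 : 4 ≤ Fintype.card F) {τ : F} (hτ : τ ≠ 0) :
    Subgroup.closure {hS ζ, bT τ} = ⊤ := by
  classical
  set H := Subgroup.closure {hS ζ, bT τ}
  have hh : hS ζ ∈ H := Subgroup.subset_closure (Or.inl rfl)
  have hb : bT τ ∈ H := Subgroup.subset_closure (Or.inr rfl)
  have hc : ((ζ : F) ^ 2 - 1) * τ ≠ 0 := by
    refine mul_ne_zero (fun e => ?_) hτ
    have h2 : orderOf ζ ∣ 2 :=
      orderOf_dvd_of_pow_eq_one (Units.ext (by simpa [sub_eq_zero] using e))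
    rw [orderOf_eq_card_of_forall_mem_zpowers hgen, Nat.card_eq_fintype_card, Fintype.card_units] at h2
    have := Nat.le_of_dvd (by norm_num) h2
    omega
  have hx : xS (.ofAdd (((ζ : F) ^ 2 - 1) * τ)) ∈ H := by
    have e : hS ζ * (bT τ * hS ζ * (bT τ)⁻¹) = xS (.ofAdd (((ζ : F) ^ 2 - 1) * τ)) := by
      have e1 : bT τ * hS ζ * (bT τ)⁻¹ = xS (.ofAdd τ) * (hS ζ)⁻¹ * (xS (.ofAdd τ))⁻¹ := by
        rw [← H40.CRW.tS_hS ζ, bT]; group
      calc hS ζ * (bT τ * hS ζ * (bT τ)⁻¹) =
            (hS ζ * xS (.ofAdd τ) * (hS ζ)⁻¹) * (xS (.ofAdd τ))⁻¹ := by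
            rw [e1]; group
        _ = _ := by
            rw [H40.CRW.hS_xS, ← map_inv, ← map_mul, ← ofAdd_neg, ← ofAdd_add]
            congr 2; ring
    exact e ▸ mul_mem hh (mul_mem (mul_mem hb hh) (inv_mem hb))
  have hall := H40.PSLPres.root_all hgen hh hc hx
  refine H40.PSLPres.eq_top_of_root hall ?_
  have e : (tS : SL2) = (xS (.ofAdd τ))⁻¹ * bT τ := by simp [bT]
  rw [e]
  exact mul_mem (inv_mem (hall τ)) hb

theorem hS_pow (ζ : Fˣ) (m : ℕ) (h : ζ ^ m = 1) : (hS ζ : SL2) ^ m = 1 := by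
  refine H40.CRW.slExt ?_
  rw [H40.CRW.coe_hS_pow, cone, ← Units.val_pow_eq_pow_val, h]
  simp [one_fin_two]

theorem card_SL2 [Fintype F] :
    Nat.card SL2 = Fintype.card F * (Fintype.card F - 1) * (Fintype.card F + 1) := by
  have h := H37.card_SL_fin (F := F) 2 (by norm_num)
  simp only [Fin.prod_univ_two, Fin.val_zero, Fin.val_one, pow_zero, pow_one,
    Nat.card_eq_fintype_card (α := F)] at h
  have h1 := Fintype.one_lt_card (α := F)
  obtain ⟨a, ha⟩ : ∃ a, Fintype.card F = a + 1 := ⟨Fintype.card F - 1, by omega⟩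
  rw [ha] at h ⊢
  simp only [Nat.add_sub_cancel] at h ⊢
  have e1 : (a + 1) ^ 2 - 1 = a * (a + 2) := Nat.sub_eq_of_eq_add (by ring)
  have e2 : (a + 1) ^ 2 - (a + 1) = (a + 1) * a := Nat.sub_eq_of_eq_add (by ring)
  rw [e1, e2] at h
  refine Nat.eq_of_mul_eq_mul_left (show 0 < a by omega) (h.trans ?_)
  ring

theorem coprime_of_pow {a b : SL2} {m k : ℕ} (ha : a ^ m = 1) (hb : b ^ k = 1)
    (h : Nat.Coprime m k) : Nat.Coprime (orderOf a) (orderOf b) :=
  Nat.Coprime.coprime_dvd_left (orderOf_dvd_of_pow_eq_one ha)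
    (Nat.Coprime.coprime_dvd_right (orderOf_dvd_of_pow_eq_one hb) h)

/-- `SL₂` has two generators of coprime orders. -/
theorem exists_gens [Fintype F] :
    ∃ a b : SL2, Subgroup.closure {a, b} = ⊤ ∧ Nat.Coprime (orderOf a) (orderOf b) := by
  classical
  obtain ⟨p, hp⟩ := CharP.exists F
  haveI : Fact p.Prime := ⟨CharP.char_is_prime F p⟩
  obtain ⟨f, -, hf⟩ := FiniteField.card F p
  have hpp : p.Prime := Fact.out
  obtain ⟨ζ, hgen⟩ := IsCyclic.exists_generator (α := Fˣ)
  have hζ : ζ ^ (Fintype.card F - 1) = 1 := by rw [← Fintype.card_units, pow_card_eq_one]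
  have hq1 := Fintype.one_lt_card (α := F)
  by_cases h4 : 4 ≤ Fintype.card F
  · by_cases h2 : p = 2
    · subst h2
      have hpos : 2 < Fintype.card F + 1 := by omega
      set l := (Fintype.card F + 1).minFac
      have hl : l.Prime := Nat.minFac_prime (by omega)
      have hld : l ∣ Fintype.card F + 1 := Nat.minFac_dvd _
      have heven : 2 ∣ Fintype.card F := by rw [hf]; exact dvd_pow_self _ f.pos.ne'
      have hl2 : l ≠ 2 := fun e => by rw [e] at hld; omega
      haveI : Fact l.Prime := ⟨hl⟩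
      obtain ⟨g, hg⟩ := exists_prime_orderOf_dvd_card' (G := SL2) l
        (by rw [card_SL2]; exact dvd_mul_of_dvd_right hld _)
      have hgl : g ^ l = 1 := hg ▸ pow_orderOf_eq_one g
      have hg2 : g ^ 2 ≠ 1 := fun e => by
        have := (Nat.prime_dvd_prime_iff_eq hl Nat.prime_two).1 (hg ▸ orderOf_dvd_of_pow_eq_one e)
        exact hl2 this
      set τ := g.1 0 0 + g.1 1 1 with hτdef
      have hneg : ∀ x : F, -x = x := CharTwo.neg_eq
      have hτ : τ ≠ 0 := by
        intro e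
        apply hg2
        refine H40.CRW.slExt ?_
        rw [sq g, cmul, sq_eq, ← hτdef, e, zero_smul, zero_sub, cone]
        ext i j; simp [hneg]
      refine ⟨hS ζ, bT τ, closure_hS_bT hgen h4 hτ, coprime_of_pow (hS_pow ζ _ hζ) (k := l) ?_ ?_⟩
      · have htr : g.1 0 0 + g.1 1 1 = (bT τ).1 0 0 + (bT τ).1 1 1 := by
          rw [coe_bT]; simp [hneg, ← hτdef]
        obtain ⟨α, β, e, e'⟩ := pow_coeff g (bT τ) htr l
        rw [hgl, cone] at e
        have h01 := congrFun (congrFun e 0) 1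
        have h10 := congrFun (congrFun e 1) 0
        have h00 := congrFun (congrFun e 0) 0
        have h11 := congrFun (congrFun e 1) 1
        simp at h01 h10 h00 h11
        have hα : α = 0 := by
          by_contra hα
          have b0 : g.1 0 1 = 0 := (h01.resolve_left hα)
          have c0 : g.1 1 0 = 0 := (h10.resolve_left hα)
          have hd : g.1 0 0 * g.1 1 1 - g.1 0 1 * g.1 1 0 = 1 := by rw [← det_fin_two]; exact g.2
          have hd' : g.1 0 0 = g.1 1 1 := mul_left_cancel₀ hα (by linear_combination h11 - h00)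
          exact hτ (by rw [hτdef, ← hd']; nth_rw 1 [← hneg (g.1 0 0)]; exact neg_add_cancel _)
        refine H40.CRW.slExt ?_
        rw [e', hα, cone]
        have hβ : β = 1 := by rw [hα] at h00; simpa [eq_comm] using h00
        simp [hβ]
      · rw [Nat.coprime_comm, Nat.Prime.coprime_iff_not_dvd hl]
        intro hd
        have h3 := Nat.dvd_sub hld hd
        rw [show Fintype.card F + 1 - (Fintype.card F - 1) = 2 by omega] at h3
        exact hl2 ((Nat.prime_dvd_prime_iff_eq hl Nat.prime_two).1 h3)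
    · have h20 : (2 : F) ≠ 0 := by
        intro e
        have : p ∣ 2 := (CharP.cast_eq_zero_iff F p 2).1 (by exact_mod_cast e)
        exact h2 ((Nat.prime_dvd_prime_iff_eq hpp Nat.prime_two).1 this)
      refine ⟨hS ζ, bT (-2), closure_hS_bT hgen h4 (neg_ne_zero.2 h20),
        coprime_of_pow (hS_pow ζ _ hζ) (k := p) ?_ ?_⟩
      · have key : ∀ m : ℕ, (bT (-2 : F) ^ m).1 = 1 + (m : F) • ((bT (-2 : F)).1 - 1) := by
          intro m
          induction m with
          | zero => rw [pow_zero, cone]; simp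
          | succ m ih =>
            rw [pow_succ, cmul, ih, coe_bT, one_fin_two]
            ext i j
            fin_cases i <;> fin_cases j <;> simp [Matrix.mul_apply, Fin.sum_univ_two] <;> ring
        refine H40.CRW.slExt ?_
        rw [key, CharP.cast_eq_zero, zero_smul, add_zero, cone]
      · rw [Nat.coprime_comm, Nat.Prime.coprime_iff_not_dvd hpp]
        intro hd
        have hq : p ∣ Fintype.card F := by rw [hf]; exact dvd_pow_self _ f.pos.ne'
        have h3 := Nat.dvd_sub hq hd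
        rw [show Fintype.card F - (Fintype.card F - 1) = 1 by omega] at h3
        exact hpp.one_lt.ne' (Nat.dvd_one.1 h3)
  · haveI : Fact (Nat.card F).Prime := ⟨by
      rw [Nat.card_eq_fintype_card]
      interval_cases h : Fintype.card F <;> norm_num⟩
    have hall : ∀ H : Subgroup SL2, xS (.ofAdd (1 : F)) ∈ H → ∀ z : F, xS (.ofAdd z) ∈ H := by
      intro H h z
      obtain ⟨n, hn⟩ := AddSubgroup.mem_zmultiples_iff.1
        (mem_zmultiples_of_prime_card (G := F) rfl one_ne_zero (g' := z))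
      rw [← hn, ofAdd_zsmul, map_zpow]
      exact zpow_mem h n
    have hxq : (xS (.ofAdd (1 : F)) : SL2) ^ Fintype.card F = 1 := by
      rw [← map_pow, ← ofAdd_nsmul, nsmul_eq_mul, FiniteField.cast_card_eq_zero, zero_mul,
        ofAdd_zero, map_one]
    rcases (show Fintype.card F = 2 ∨ Fintype.card F = 3 by omega) with hq | hq
    · refine ⟨xS (.ofAdd 1), bT 1, ?_, coprime_of_pow hxq (k := 3) ?_ (by rw [hq]; norm_num)⟩
      · refine H40.PSLPres.eq_top_of_root (hall _ (Subgroup.subset_closure (Or.inl rfl))) ?_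
        rw [show (tS : SL2) = (xS (.ofAdd (1 : F)))⁻¹ * bT 1 by simp [bT]]
        exact mul_mem (inv_mem (Subgroup.subset_closure (Or.inl rfl)))
          (Subgroup.subset_closure (Or.inr rfl))
      · refine H40.CRW.slExt ?_
        rw [pow_succ, sq, cmul, cmul, coe_bT, cone, mul_fin_two, mul_fin_two, one_fin_two]
        simp
    · refine ⟨xS (.ofAdd 1), tS, ?_, coprime_of_pow hxq (k := 4) ?_ (by rw [hq]; norm_num)⟩
      · exact H40.PSLPres.eq_top_of_root (hall _ (Subgroup.subset_closure (Or.inl rfl)))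
          (Subgroup.subset_closure (Or.inr rfl))
      · refine H40.CRW.slExt ?_
        rw [pow_succ, pow_succ, sq, cmul, cmul, cmul, H40.CRW.coe_tS, cone, mul_fin_two, mul_fin_two,
          mul_fin_two, one_fin_two]
        simp

/-! ### Generators of a product -/

/-- Paired generators generate the product when no large quotient is shared. -/
theorem closure_pairs {A B : Type*} [Group A] [Group B] [Finite A] [Finite B] {a₁ a₂ : A} {b₁ b₂ : B}
    (ha : Subgroup.closure {a₁, a₂} = ⊤) (hb : Subgroup.closure {b₁, b₂} = ⊤)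
    (hN : ∀ N : Subgroup A, N.Normal → N ≠ ⊤ → ¬ Nat.card A ∣ Nat.card N * Nat.card B) :
    Subgroup.closure {(a₁, b₁), (a₂, b₂)} = (⊤ : Subgroup (A × B)) := by
  set H := Subgroup.closure {(a₁, b₁), (a₂, b₂)}
  have sA : H.map (MonoidHom.fst A B) = ⊤ := by
    rw [MonoidHom.map_closure, Set.image_pair]; exact ha
  have sB : H.map (MonoidHom.snd A B) = ⊤ := by
    rw [MonoidHom.map_closure, Set.image_pair]; exact hb
  set N := H.comap (MonoidHom.inl A B) with hNdef
  have hn : N.Normal := ⟨fun n hn g => by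
    obtain ⟨⟨g', h⟩, hg, rfl⟩ := (sA.symm ▸ Subgroup.mem_top g : g ∈ H.map (MonoidHom.fst A B))
    have := mul_mem (mul_mem hg hn) (inv_mem hg)
    simpa [hNdef] using this⟩
  by_cases hT : N = ⊤
  · rw [eq_top_iff]
    rintro ⟨a, b⟩ -
    obtain ⟨⟨a', b'⟩, hab, rfl⟩ := (sB.symm ▸ Subgroup.mem_top b : b ∈ H.map (MonoidHom.snd A B))
    have h1 : (a * a'⁻¹) ∈ N := hT ▸ Subgroup.mem_top _
    have h2 : ((a * a'⁻¹, 1) : A × B) * (a', b') ∈ H := mul_mem h1 hab
    simpa using h2
  exfalso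
  refine hN N hn hT ?_
  let f : H →* A := (MonoidHom.fst A B).comp H.subtype
  let g : H →* B := (MonoidHom.snd A B).comp H.subtype
  have hg : Function.Surjective g := fun b => by
    obtain ⟨x, hx, rfl⟩ := (sB.symm ▸ Subgroup.mem_top b : b ∈ H.map (MonoidHom.snd A B))
    exact ⟨⟨x, hx⟩, rfl⟩
  have hf : Function.Surjective f := fun a => by
    obtain ⟨x, hx, rfl⟩ := (sA.symm ▸ Subgroup.mem_top a : a ∈ H.map (MonoidHom.fst A B))
    exact ⟨⟨x, hx⟩, rfl⟩
  have e : Nat.card H = Nat.card N * Nat.card B := by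
    rw [Subgroup.card_eq_card_quotient_mul_card_subgroup g.ker,
      Nat.card_congr (QuotientGroup.quotientKerEquivOfSurjective g hg).toEquiv, mul_comm]
    congr 1
    refine Nat.card_congr
      { toFun := fun x => ⟨x.1.1.1, ?_⟩
        invFun := fun n => ⟨⟨(n.1, 1), n.2⟩, rfl⟩
        left_inv := fun x => Subtype.ext (Subtype.ext (Prod.ext rfl (Eq.symm x.2)))
        right_inv := fun n => rfl }
    have hx : x.1.1.2 = 1 := x.2
    have := x.1.2
    show (x.1.1.1, (1 : B)) ∈ H
    rw [← hx]; exact this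
  rw [← e]
  exact Subgroup.card_dvd_of_surjective f hf

/-- A proper normal subgroup of `SL_m`, `m ≥ 3`, is small. -/
theorem normal_small [Fintype F] {k : ℕ} (hk : 3 ≤ k) (N : Subgroup (SpecialLinearGroup (Fin k) F))
    (hn : N.Normal) (hT : N ≠ ⊤) :
    ¬ Nat.card (SpecialLinearGroup (Fin k) F) ∣ Nat.card N * Nat.card SL2 := by
  classical
  haveI : Finite F := Finite.of_fintype F
  haveI : NeZero k := ⟨by omega⟩
  haveI := H37.isSimpleGroup_PSL (F := F) (ι := Fin k) (by rw [Fintype.card_fin]; exact hk)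
  set Z := Subgroup.center (SpecialLinearGroup (Fin k) F)
  have hperf := H37.commutator_SL_eq_top (F := F) (ι := Fin k) (by rw [Fintype.card_fin]; exact hk)
  have hle : N ≤ Z := by
    rcases (hn.map (QuotientGroup.mk' Z) (QuotientGroup.mk'_surjective Z)).eq_bot_or_eq_top with h | h
    · rw [Subgroup.map_eq_bot_iff, QuotientGroup.ker_mk'] at h; exact h
    · exfalso
      refine hT (eq_top_iff.2 (hperf ▸ ?_))
      rw [commutator_def, Subgroup.commutator_le]
      intro a _ b _
      have hs : ∀ x, ∃ n ∈ N, ∃ z ∈ Z, x = n * z := fun x => by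
        obtain ⟨n, hn', e⟩ := (h.symm ▸ Subgroup.mem_top _ :
          QuotientGroup.mk' Z x ∈ N.map (QuotientGroup.mk' Z))
        exact ⟨n, hn', n⁻¹ * x, QuotientGroup.eq.1 e, by group⟩
      obtain ⟨n₁, hn₁, z₁, hz₁, rfl⟩ := hs a
      obtain ⟨n₂, hn₂, z₂, hz₂, rfl⟩ := hs b
      have c1 := Subgroup.mem_center_iff.1 hz₁
      have c2 := Subgroup.mem_center_iff.1 hz₂
      rw [commutatorElement_def, show n₁ * z₁ * (n₂ * z₂) * (n₁ * z₁)⁻¹ * (n₂ * z₂)⁻¹ =
          n₁ * n₂ * n₁⁻¹ * n₂⁻¹ by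
        calc n₁ * z₁ * (n₂ * z₂) * (n₁ * z₁)⁻¹ * (n₂ * z₂)⁻¹
            = n₁ * (z₁ * n₂) * (z₂ * z₁⁻¹) * n₁⁻¹ * z₂⁻¹ * n₂⁻¹ := by group
          _ = n₁ * (n₂ * z₁) * (z₁⁻¹ * z₂) * n₁⁻¹ * z₂⁻¹ * n₂⁻¹ := by
              rw [← c1 n₂, ← (Subgroup.mem_center_iff.1 (inv_mem hz₁) z₂)]
          _ = n₁ * n₂ * (z₂ * n₁⁻¹) * z₂⁻¹ * n₂⁻¹ := by group
          _ = _ := by rw [← c2]; group]
      exact mul_mem (mul_mem (mul_mem hn₁ hn₂) (inv_mem hn₁)) (inv_mem hn₂)
  have hZ : Nat.card N ∣ Fintype.card F - 1 := by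
    refine (Subgroup.card_dvd_of_le hle).trans ?_
    rw [Nat.card_congr (SpecialLinearGroup.center_equiv_rootsOfUnity (n := Fin k) (R := F)).toEquiv,
      ← Nat.card_eq_fintype_card (α := F), ← Nat.card_units]
    exact Subgroup.card_subgroup_dvd_card (rootsOfUnity (max (Fintype.card (Fin k)) 1) F)
  intro hd
  obtain ⟨i0, i1, i2, h01, h02, h12⟩ :
      ∃ i0 i1 i2 : Fin k, i0 ≠ i1 ∧ i0 ≠ i2 ∧ i1 ≠ i2 :=
    ⟨⟨0, by omega⟩, ⟨1, by omega⟩, ⟨2, by omega⟩, by simp, by simp, by simp⟩
  let u1 := fun t : F => H40.Glue.tv i0 i1 t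
  let u2 := fun t : F => H40.Glue.tv i0 i2 t
  have hadd : ∀ a b c d : F, u1 (a + c) * u2 (b + d) = u1 a * u2 b * (u1 c * u2 d) := by
    intro a b c d
    simp only [u1, u2]
    rw [H40.Glue.tv_strel.add _ _ h01, H40.Glue.tv_strel.add _ _ h02]
    exact Commute.mul_mul_mul_comm (H40.Glue.tv_strel.comm _ _ _ _ h01 h02 h02 h01.symm c b) _ _
  let U : Multiplicative (F × F) →* SpecialLinearGroup (Fin k) F :=
    MonoidHom.mk' (fun v => u1 v.toAdd.1 * u2 v.toAdd.2) fun v w => hadd _ _ _ _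
  have hU : Function.Injective U := by
    intro v w e
    have e' : (U v).1 = (U w).1 := congrArg Subtype.val e
    have c : ∀ v : Multiplicative (F × F), (U v).1 =
        1 + Matrix.single i0 i1 v.toAdd.1 + Matrix.single i0 i2 v.toAdd.2 := fun v => by
      show (H40.Glue.tv _ _ _).1 * (H40.Glue.tv _ _ _).1 = _
      rw [H40.Glue.coe_tv h01, H40.Glue.coe_tv h02, mul_add, mul_one, add_mul, one_mul,
        Matrix.single_mul_single_of_ne _ _ _ _ h01.symm]
      abel
    rw [c, c] at e'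
    have a1 := congrFun (congrFun e' i0) i1
    have a2 := congrFun (congrFun e' i0) i2
    simp [h01, h02, h12, h12.symm] at a1 a2
    exact Multiplicative.toAdd.injective (Prod.ext a1 a2)
  have hq2 : Fintype.card F * Fintype.card F ∣ Nat.card N * Nat.card SL2 := by
    refine (?_ : _ ∣ Nat.card (SpecialLinearGroup (Fin k) F)).trans hd
    have := Subgroup.card_dvd_of_injective U hU
    rwa [Nat.card_eq_fintype_card (α := Multiplicative (F × F)), Fintype.card_multiplicative,
      Fintype.card_prod] at this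
  obtain ⟨r, hr⟩ := hZ
  rw [card_SL2] at hq2
  have h2 : Fintype.card F * Fintype.card F ∣
      Fintype.card F * ((Fintype.card F - 1) * ((Fintype.card F - 1) * (Fintype.card F + 1))) := by
    refine hq2.trans ⟨r, ?_⟩
    nth_rw 1 [hr]
    ring
  have h3 := Nat.dvd_of_mul_dvd_mul_left Fintype.card_pos h2
  have hco : Nat.Coprime (Fintype.card F) (Fintype.card F - 1) := by
    rw [Nat.coprime_self_sub_right (Fintype.card_pos)]
    exact Nat.coprime_one_right _
  have hco' : Nat.Coprime (Fintype.card F) (Fintype.card F + 1) := by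
    rw [Nat.coprime_self_add_right]; exact Nat.coprime_one_right _
  have := Nat.Coprime.eq_one_of_dvd ((hco.mul_right (hco.mul_right hco'))) h3
  have h1 := Fintype.one_lt_card (α := F)
  omega

end H40.CoprimeGens
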