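import Cfsg.Agent.H40.PresBlock
import Cfsg.Agent.H40.StPresentation

/-!
Transvections, block embeddings and monomial elements of a special linear group on any index type.
-/

set_option autoImplicit false
set_option linter.unusedSectionVars false

namespace H40.Glue

open Matrix
open scoped commutatorElement

variable {ι : Type*} [Fintype ι] [DecidableEq ι] {F : Type*} [Field F]

/-- A transvection, or `1` on the diagonal. -/
def tv (i j : ι) (t : F) : SpecialLinearGroup ι F :=
  if h : i ≠ j then SpecialLinearGroup.transvection h t else 1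

theorem tv_of {i j : ι} (h : i ≠ j) (t : F) : tv i j t = SpecialLinearGroup.transvection h t :=
  dif_pos h

theorem coe_tv {i j : ι} (h : i ≠ j) (t : F) :
    (tv i j t).1 = 1 + Matrix.single i j t := by
  rw [tv_of h]; rfl

theorem tv_strel : StRel (tv (ι := ι) (F := F)) where
  add i j h t u := by
    rw [tv_of h, tv_of h, tv_of h, ← SpecialLinearGroup.transvection_add]
  comm i j k l hij hkl hil hjk t u := by
    apply Subtype.ext
    show (tv i j t).1 * (tv k l u).1 = (tv k l u).1 * (tv i j t).1
    simp only [coe_tv hij, coe_tv hkl, mul_add, add_mul, one_mul, mul_one,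
      Matrix.single_mul_single_of_ne _ _ _ _ hjk, Matrix.single_mul_single_of_ne _ _ _ _ hil.symm,
      add_zero]
    abel
  chev i j l hij hjl hil t u := by
    rw [tv_of hij, tv_of hjl, tv_of hil, ← commutatorElement_def]
    exact H37.commutator_transvection hij hjl hil t u

theorem tv_chev {i j l : ι} (hij : i ≠ j) (hjl : j ≠ l) (hil : i ≠ l) (t u : F) :
    ⁅tv i j t, tv j l u⁆ = tv i l (t * u) := by
  rw [commutatorElement_def]; exact tv_strel.chev i j l hij hjl hil t u

theorem closure_tv : Subgroup.closure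
    (Set.range fun x : ι × ι × F => tv x.1 x.2.1 x.2.2) = ⊤ :=
  H37.eq_top_of_transvection_mem _ fun i j h c => Subgroup.subset_closure ⟨(i, j, c), tv_of h c⟩

theorem hom_mem {G : Type*} [Group G] (f : SpecialLinearGroup ι F →* G) (H : Subgroup G)
    (h : ∀ i j, i ≠ j → ∀ c, f (tv i j c) ∈ H) (g : SpecialLinearGroup ι F) : f g ∈ H := by
  induction g using H37.SL_transvection_induction with
  | h1 => rw [map_one]; exact one_mem _
  | htransvec i j hij c => exact tv_of hij c ▸ h i j hij c
  | hmul A B hA hB => rw [map_mul]; exact mul_mem hA hB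

variable {κ κ' : Type*} [Fintype κ] [DecidableEq κ] [Fintype κ'] [DecidableEq κ']

/-- A special linear group as a diagonal block. -/
def embL (e : κ ⊕ κ' ≃ ι) : SpecialLinearGroup κ F →* SpecialLinearGroup ι F :=
  (H40.BlockPres.reidx e).toMonoidHom.comp (MonoidHom.mk'
    (fun g => (⟨fromBlocks g.1 0 0 (1 : Matrix κ' κ' F), by
      rw [det_fromBlocks_zero₂₁, g.2, det_one, mul_one]⟩ : SpecialLinearGroup (κ ⊕ κ') F))
    fun g h => Subtype.ext (by
      show fromBlocks (g * h : SpecialLinearGroup κ F).1 0 0 1 = _ * _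
      rw [fromBlocks_multiply]
      simp))

theorem coe_embL (e : κ ⊕ κ' ≃ ι) (g : SpecialLinearGroup κ F) :
    (embL e g).1 = Matrix.reindex e e (fromBlocks g.1 0 0 (1 : Matrix κ' κ' F)) := rfl

theorem embL_tv (e : κ ⊕ κ' ≃ ι) {p q : κ} (h : p ≠ q) (t : F) :
    embL e (tv p q t) = tv (e (.inl p)) (e (.inl q)) t := by
  have h' : e (.inl p) ≠ e (.inl q) := fun E => h (Sum.inl.inj (e.injective E))
  apply Subtype.ext
  rw [coe_embL, coe_tv h, coe_tv h']
  ext a b
  obtain ⟨a, rfl⟩ := e.surjective a
  obtain ⟨b, rfl⟩ := e.surjective b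
  simp only [reindex_apply, submatrix_apply, Equiv.symm_apply_apply, Matrix.add_apply,
    Matrix.single_apply, Matrix.one_apply, e.injective.eq_iff]
  rcases a with a | a <;> rcases b with b | b <;>
    simp [Matrix.one_apply, Matrix.single_apply]

/-- Conjugating by a monomial element. -/
theorem mono_tv (A : SpecialLinearGroup ι F) (π : Equiv.Perm ι) (d : ι → F)
    (hA : A.1 = (diagonal d).submatrix π.symm id) (hd : ∀ p, d p ≠ 0) {p q : ι} (hpq : p ≠ q) (t : F) :
    A * tv p q t = tv (π p) (π q) (d p * t * (d q)⁻¹) * A := by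
  have hpq' : π p ≠ π q := π.injective.ne hpq
  apply Subtype.ext
  show A.1 * (tv p q t).1 = (tv (π p) (π q) (d p * t * (d q)⁻¹)).1 * A.1
  rw [hA, coe_tv hpq, coe_tv hpq', mul_add, add_mul, mul_one, one_mul]
  congr 1
  ext k l
  obtain ⟨k, rfl⟩ := π.surjective k
  rw [Matrix.mul_apply, Matrix.mul_apply,
    Finset.sum_eq_single p (fun b _ hb => by simp [Ne.symm hb]) (by simp),
    Finset.sum_eq_single (π q) (fun b _ hb => by simp [Ne.symm hb]) (by simp)]
  simp only [Matrix.single_apply, submatrix_apply, id, Equiv.symm_apply_apply, diagonal_apply,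
    π.injective.eq_iff]
  by_cases h1 : k = p
  · subst h1
    by_cases h2 : q = l
    · subst h2; simp [mul_assoc, hd]
    · simp [h2]
  · simp [h1, Ne.symm h1]

/-- A monomial element with all entries but one equal to `1`. -/
theorem exists_mono (π : Equiv.Perm ι) (x : ι) :
    ∃ (A : SpecialLinearGroup ι F) (d : ι → F), (∀ p, p ≠ x → d p = 1) ∧ (∀ p, d p ≠ 0) ∧
      A.1 = (diagonal d).submatrix π.symm id := by
  classical
  set e : F := ((Equiv.Perm.sign π.symm : ℤ) : F)
  have he : e * e = 1 := by
    rcases Int.units_eq_one_or (Equiv.Perm.sign π.symm) with h | h <;> simp [e, h]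
  have he0 : e ≠ 0 := left_ne_zero_of_mul_eq_one he
  set d : ι → F := Function.update 1 x e
  have hd : ∀ p, d p ≠ 0 := fun p => by
    by_cases h : p = x
    · simp [d, h, he0]
    · simp [d, h]
  have hprod : ∏ p, d p = e := by
    rw [Finset.prod_eq_single x (fun p _ hp => by simp [d, hp]) (by simp)]
    simp [d]
  refine ⟨⟨(diagonal d).submatrix π.symm id, ?_⟩, d, fun p hp => by simp [d, hp], hd, rfl⟩
  rw [det_permute, det_diagonal, hprod]; exact he

/-- A monomial element inside a block. -/
theorem exists_mono_block (e : κ ⊕ κ' ≃ ι) (π₀ : Equiv.Perm κ) (x : κ) :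
    ∃ (g : SpecialLinearGroup κ F) (π : Equiv.Perm ι) (d : ι → F),
      (∀ a, π (e (.inl a)) = e (.inl (π₀ a))) ∧ (∀ a, π (e (.inr a)) = e (.inr a)) ∧
      (∀ a, d (e (.inr a)) = 1) ∧ (∀ a, a ≠ x → d (e (.inl a)) = 1) ∧ (∀ p, d p ≠ 0) ∧
      (embL e g).1 = (diagonal d).submatrix π.symm id := by
  obtain ⟨g, d₀, hd1, hd, hg⟩ := exists_mono (F := F) π₀ x
  refine ⟨g, e.permCongr (Equiv.sumCongr π₀ (Equiv.refl κ')),
    fun p => Sum.elim d₀ (fun _ => 1) (e.symm p), fun a => by simp [Equiv.permCongr_apply],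
    fun a => by simp [Equiv.permCongr_apply], fun a => by simp, fun a ha => by simp [hd1 a ha],
    fun p => ?_, ?_⟩
  · obtain ⟨p, rfl⟩ := e.surjective p
    rcases p with p | p <;> simp [hd]
  rw [coe_embL, hg]
  ext a b
  obtain ⟨a, rfl⟩ := e.surjective a
  obtain ⟨b, rfl⟩ := e.surjective b
  rcases a with a | a <;> rcases b with b | b <;>
    simp [Equiv.permCongr_def, diagonal_apply, Matrix.one_apply]

end H40.Glue
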