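import Cfsg.Agent.H40.Amal
import Cfsg.Agent.H40.GlueTools

/-!
A second copy of a special linear group overlapping the first in all but a few coordinates.
-/

set_option autoImplicit false
set_option linter.unusedSectionVars false

namespace H40.Glue

open Matrix
open scoped commutatorElement
open H40.Amal (Cross full)

variable {T M : Type*} [Fintype T] [DecidableEq T] [Fintype M] [DecidableEq M]
  {F : Type*} [Field F] {G : Type*} [Group G]

/-- The classes of the indices. -/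
def cl : (T ⊕ M) ⊕ T → Fin 3 := Sum.elim (Sum.elim (fun _ => 0) fun _ => 1) fun _ => 2

/-- The index of the copy an index comes from. -/
def back : (T ⊕ M) ⊕ T → T ⊕ M := Sum.elim id Sum.inl

/-- The root elements of the two copies. -/
def xg (ψ : SpecialLinearGroup (T ⊕ M) F →* G) (a : G) : (T ⊕ M) ⊕ T → (T ⊕ M) ⊕ T → F → G
  | .inl p, .inl q => fun t => ψ (tv p q t)
  | .inl p, .inr q => fun t => a * ψ (tv p (.inl q) t) * a⁻¹
  | .inr p, j => fun t => a * ψ (tv (.inl p) (back j) t) * a⁻¹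

/-- The new element centralises the overlap. -/
def Fix (ψ : SpecialLinearGroup (T ⊕ M) F →* G) (a : G) : Prop :=
  ∀ m m' : M, m ≠ m' → ∀ s, Commute a (ψ (tv (.inr m) (.inr m') s))

/-- Root elements with disjoint middle parts commute. -/
def Disj (ψ : SpecialLinearGroup (T ⊕ M) F →* G) (a : G) : Prop :=
  ∀ i j k l : T ⊕ M, i ≠ j → k ≠ l →
    (∀ m, i = .inr m ∨ j = .inr m → k ≠ .inr m ∧ l ≠ .inr m) →
    ∀ s u, Commute (ψ (tv i j s)) (a * ψ (tv k l u) * a⁻¹)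

variable {ψ : SpecialLinearGroup (T ⊕ M) F →* G} {a : G}

theorem conj_bracket (a b c : G) : ⁅a * b * a⁻¹, a * c * a⁻¹⁆ = a * ⁅b, c⁆ * a⁻¹ := by
  simp only [commutatorElement_def]; group

theorem commute_conj_iff (a : G) {b c : G} : Commute (a * b * a⁻¹) (a * c * a⁻¹) ↔ Commute b c := by
  constructor
  · intro h
    have := (Commute.map h (MulAut.conj a⁻¹).toMonoidHom)
    simpa [mul_assoc] using this
  · intro h
    simpa using Commute.map h (MulAut.conj a).toMonoidHom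

theorem xg_right (hF : Fix ψ a) {i j : (T ⊕ M) ⊕ T} (h : i ≠ j) (hi : cl i ≠ 0) (hj : cl j ≠ 0)
    (t : F) : xg ψ a i j t = a * ψ (tv (back i) (back j) t) * a⁻¹ := by
  rcases i with (i | i) | i <;> rcases j with (j | j) | j <;>
    simp only [cl, Sum.elim_inl, Sum.elim_inr, ne_eq, not_true_eq_false] at hi hj <;>
    try rfl
  have hij : i ≠ j := fun e => h (by rw [e])
  show ψ (tv (.inr i) (.inr j) t) = a * ψ (tv (.inr i) (.inr j) t) * a⁻¹
  rw [(hF i j hij t).eq, mul_inv_cancel_right]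

theorem xg_left {i j : (T ⊕ M) ⊕ T} (hi : cl i ≠ 2) (hj : cl j ≠ 2) (t : F) :
    xg ψ a i j t = ψ (tv (back i) (back j) t) := by
  rcases i with i | i <;> rcases j with j | j <;>
    simp only [cl, Sum.elim_inl, Sum.elim_inr, ne_eq, not_true_eq_false] at hi hj <;> rfl

theorem back_ne {i j : (T ⊕ M) ⊕ T} (h : i ≠ j)
    (hs : (cl i ≠ 2 ∧ cl j ≠ 2) ∨ (cl i ≠ 0 ∧ cl j ≠ 0)) : back i ≠ back j := by
  rcases i with (i | i) | i <;> rcases j with (j | j) | j <;>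
    simp [cl, back] at h hs ⊢ <;> exact h

theorem ax (hM : ∀ m : M, ∃ m', m' ≠ m) [Nonempty M] (hF : Fix ψ a) (hD : Disj ψ a) :
    Amal.Ax cl (xg ψ a) where
  other u := by
    obtain ⟨m⟩ := (inferInstance : Nonempty M)
    by_cases h : u = .inl (.inr m)
    · obtain ⟨m', hm'⟩ := hM m
      exact ⟨.inl (.inr m'), rfl, fun e => hm' (by simpa [h] using e)⟩
    · exact ⟨.inl (.inr m), rfl, fun e => h e.symm⟩
  add i j h g t u := by
    rcases Amal.Ax.good_cases g with ⟨hi, hj⟩ | ⟨hi, hj⟩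
    · simp only [xg_left hi hj]
      rw [← map_mul, ← tv_strel.add _ _ (back_ne h (Or.inl ⟨hi, hj⟩))]
    · simp only [xg_right hF h hi hj]
      rw [tv_strel.add _ _ (back_ne h (Or.inr ⟨hi, hj⟩)), map_mul]
      group
  chev i j l hij hjl hil g1 g2 g3 t u := by
    have key : (cl i ≠ 2 ∧ cl j ≠ 2 ∧ cl l ≠ 2) ∨ (cl i ≠ 0 ∧ cl j ≠ 0 ∧ cl l ≠ 0) := by
      have : ∀ p q r : Fin 3, ¬ (p ≠ 1 ∧ q ≠ 1 ∧ p ≠ q) → ¬ (q ≠ 1 ∧ r ≠ 1 ∧ q ≠ r) →
          ¬ (p ≠ 1 ∧ r ≠ 1 ∧ p ≠ r) →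
          (p ≠ 2 ∧ q ≠ 2 ∧ r ≠ 2) ∨ (p ≠ 0 ∧ q ≠ 0 ∧ r ≠ 0) := fun p q r => by omega
      exact this _ _ _ g1 g2 g3
    rcases key with ⟨hi, hj, hl⟩ | ⟨hi, hj, hl⟩
    · rw [xg_left hi hj, xg_left hj hl, xg_left hi hl, ← map_commutatorElement,
        tv_chev (back_ne hij (Or.inl ⟨hi, hj⟩)) (back_ne hjl (Or.inl ⟨hj, hl⟩))
          (back_ne hil (Or.inl ⟨hi, hl⟩))]
    · rw [xg_right hF hij hi hj, xg_right hF hjl hj hl, xg_right hF hil hi hl, conj_bracket,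
        ← map_commutatorElement, tv_chev (back_ne hij (Or.inr ⟨hi, hj⟩))
          (back_ne hjl (Or.inr ⟨hj, hl⟩)) (back_ne hil (Or.inr ⟨hi, hl⟩))]
  side i j k l hij hkl hil hjk hs t u := by
    rcases hs with ⟨hi, hj, hk, hl⟩ | ⟨hi, hj, hk, hl⟩
    · rw [xg_left hi hj, xg_left hk hl]
      exact (tv_strel.comm _ _ _ _ (back_ne hij (Or.inl ⟨hi, hj⟩)) (back_ne hkl (Or.inl ⟨hk, hl⟩))
        (back_ne hil (Or.inl ⟨hi, hl⟩)) (back_ne hjk (Or.inl ⟨hj, hk⟩)) t u).map ψ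
    · rw [xg_right hF hij hi hj, xg_right hF hkl hk hl, commute_conj_iff]
      exact (tv_strel.comm _ _ _ _ (back_ne hij (Or.inr ⟨hi, hj⟩)) (back_ne hkl (Or.inr ⟨hk, hl⟩))
        (back_ne hil (Or.inr ⟨hi, hl⟩)) (back_ne hjk (Or.inr ⟨hj, hk⟩)) t u).map ψ
  disj i j k l hij hkl hil hjk hik hjl hi hj hk hl t u := by
    rw [xg_left hi hj, xg_right hF hkl hk hl]
    refine hD _ _ _ _ (back_ne hij (Or.inl ⟨hi, hj⟩)) (back_ne hkl (Or.inr ⟨hk, hl⟩)) ?_ t u
    have key : ∀ (p q : (T ⊕ M) ⊕ T) (m : M), cl p ≠ 2 → cl q ≠ 0 → back p = .inr m →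
        back q = .inr m → p = q := by
      intro p q m hp hq e1 e2
      rcases p with (p | p) | p <;> rcases q with (q | q) | q <;> simp [cl, back] at hp hq e1 e2 ⊢
      rw [e1, e2]
    rintro m (e | e)
    · exact ⟨fun e' => hik (key _ _ m hi hk e e'), fun e' => hil (key _ _ m hi hl e e')⟩
    · exact ⟨fun e' => hjk (key _ _ m hj hk e e'), fun e' => hjl (key _ _ m hj hl e e')⟩

/-! ### Few relations suffice -/

/-- A monomial element moving one middle index through all the new ones. -/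
structure Mover (m : M) (A : SpecialLinearGroup (T ⊕ M) F) (σ : Equiv.Perm (T ⊕ M)) : Prop where
  fixed : ∀ q : M, q ≠ m → σ (.inr q) = .inr q
  orbit : ∀ O : Set (T ⊕ M), (Sum.inr m : T ⊕ M) ∈ O → (∀ p ∈ O, σ p ∈ O) → ∀ t, Sum.inl t ∈ O
  move : ∀ p q, p ≠ q → ∀ s, ∃ s', A * tv p q s' * A⁻¹ = tv (σ p) (σ q) s
  comm : ∀ p q : M, p ≠ q → p ≠ m → q ≠ m → ∀ s, Commute A (tv (.inr p) (.inr q) s)

theorem exists_mover (m : M) {κ κ' : Type*} [Fintype κ] [DecidableEq κ] [Fintype κ']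
    [DecidableEq κ'] (e : κ ⊕ κ' ≃ T ⊕ M) (σ₀ : Equiv.Perm κ) (x : κ) (hx : e (.inl x) = .inr m)
    (hin : ∀ t, ∃ y, e (.inl y) = .inl t)
    (hout : ∀ q : M, q ≠ m → ∃ y, e (.inr y) = .inr q)
    (horb : ∀ O : Set κ, x ∈ O → (∀ p ∈ O, σ₀ p ∈ O) → ∀ y, y ∈ O) :
    ∃ (g : SpecialLinearGroup κ F) (σ : Equiv.Perm (T ⊕ M)), Mover m (embL e g) σ := by
  obtain ⟨g, σ, d, h1, h2, hd1, -, hd, hg⟩ := exists_mono_block (F := F) e σ₀ x
  have hfix : ∀ q : M, q ≠ m → σ (.inr q) = .inr q := fun q hq => by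
    obtain ⟨y, hy⟩ := hout q hq
    rw [← hy, h2]
  refine ⟨g, σ, hfix, fun O hO hcl t => ?_, fun p q h s => ⟨(d p)⁻¹ * s * d q, ?_⟩,
    fun p q h hp hq s => ?_⟩
  · obtain ⟨y, hy⟩ := hin t
    rw [← hy]
    exact horb {z | e (.inl z) ∈ O} (by rw [Set.mem_setOf, hx]; exact hO)
      (fun z hz => by rw [Set.mem_setOf, ← h1]; exact hcl _ hz) y
  · rw [mul_inv_eq_iff_eq_mul, mono_tv _ σ d hg hd h]
    congr 2
    have := hd p
    have := hd q
    field_simp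
  · obtain ⟨y, hy⟩ := hout p hp
    obtain ⟨z, hz⟩ := hout q hq
    have e' := mono_tv _ σ d hg hd (show (Sum.inr p : T ⊕ M) ≠ .inr q from fun E => h (Sum.inr.inj E)) s
    rw [hfix p hp, hfix q hq, show d (.inr p) = 1 from hy ▸ hd1 y, show d (.inr q) = 1 from hz ▸ hd1 z,
      inv_one, one_mul, mul_one] at e'
    exact e'

theorem spread {m m' : M} (hne : m ≠ m') (h3 : ∀ a b : M, ∃ c, c ≠ a ∧ c ≠ b)
    {A : SpecialLinearGroup (T ⊕ M) F} {σ : Equiv.Perm (T ⊕ M)} (hA : Mover m A σ)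
    (C : Subgroup (SpecialLinearGroup (T ⊕ M) F)) (hAC : A ∈ C)
    (hM : ∀ p q : M, p ≠ q → p ≠ m' → q ≠ m' → ∀ s, tv (.inr p) (.inr q) s ∈ C)
    {i j : T ⊕ M} (hij : i ≠ j) (hi : i ≠ .inr m') (hj : j ≠ .inr m') (s : F) : tv i j s ∈ C := by
  have comm_mem : ∀ {x y}, x ∈ C → y ∈ C → ⁅x, y⁆ ∈ C := fun hx hy => by
    rw [commutatorElement_def]
    exact mul_mem (mul_mem (mul_mem hx hy) (inv_mem hx)) (inv_mem hy)
  have bridge : ∀ {p r q : T ⊕ M}, p ≠ r → r ≠ q → p ≠ q → (∀ s, tv p r s ∈ C) →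
      (∀ s, tv r q s ∈ C) → ∀ s, tv p q s ∈ C := fun h1 h2 h3' a1 a2 s => by
    rw [← mul_one s, ← tv_chev h1 h2 h3']
    exact comm_mem (a1 s) (a2 1)
  have hO : ∀ t : T, ∀ q : M, q ≠ m → q ≠ m' →
      ∀ s, tv (.inl t) (.inr q) s ∈ C ∧ tv (.inr q) (.inl t) s ∈ C := by
    intro t q hq hq'
    have := hA.orbit {p | p ≠ .inr m' ∧ p ≠ .inr q ∧
      ∀ s, tv p (.inr q) s ∈ C ∧ tv (.inr q) p s ∈ C} ?_ ?_ t
    · exact this.2.2
    · exact ⟨fun e => hne (Sum.inr.inj e), fun e => hq (Sum.inr.inj e).symm,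
        fun s => ⟨hM m q hq.symm hne hq' s, hM q m hq hq' hne s⟩⟩
    rintro p ⟨hp', hpq, hp⟩
    refine ⟨fun e => hp' (σ.injective (by rw [e, hA.fixed m' hne.symm])),
      fun e => hpq (σ.injective (by rw [e, hA.fixed q hq])), fun s => ?_⟩
    obtain ⟨s1, e1⟩ := hA.move p (.inr q) hpq s
    obtain ⟨s2, e2⟩ := hA.move (.inr q) p hpq.symm s
    rw [hA.fixed q hq] at e1 e2
    exact ⟨e1 ▸ mul_mem (mul_mem hAC (hp s1).1) (inv_mem hAC),
      e2 ▸ mul_mem (mul_mem hAC (hp s2).2) (inv_mem hAC)⟩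
  obtain ⟨q, hq, hq'⟩ := h3 m m'
  have qm : (Sum.inr q : T ⊕ M) ≠ .inr m := fun e => hq (Sum.inr.inj e)
  have top : ∀ (t : T) (r : M), r ≠ m' →
      ∀ s, tv (.inl t) (.inr r) s ∈ C ∧ tv (.inr r) (.inl t) s ∈ C := by
    intro t r hr s
    by_cases hrm : r = m
    · subst hrm
      exact ⟨bridge (by simp) qm (by simp) (fun s => (hO t q hq hq' s).1) (hM q _ hq hq' hne) s,
        bridge qm.symm (by simp) (by simp) (hM _ q hq.symm hne hq') (fun s => (hO t q hq hq' s).2) s⟩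
    · exact hO t r hrm hr s
  rcases i with i | i <;> rcases j with j | j
  · exact bridge (r := Sum.inr q) (by simp) (by simp) hij (fun s => (hO i q hq hq' s).1)
      (fun s => (hO j q hq hq' s).2) s
  · exact (top i j (fun e => hj (by rw [e])) s).1
  · exact (top j i (fun e => hi (by rw [e])) s).2
  · exact hM i j (fun e => hij (by rw [e])) (fun e => hi (by rw [e])) (fun e => hj (by rw [e])) s

/-- One relation gives all. -/
theorem disj_of_one (h3 : ∀ a b : M, ∃ c, c ≠ a ∧ c ≠ b) (hF : Fix ψ a) {m₁ m₂ : M}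
    (h12 : m₁ ≠ m₂) {A₁ A₂ : SpecialLinearGroup (T ⊕ M) F} {σ₁ σ₂ : Equiv.Perm (T ⊕ M)}
    (h1 : Mover m₁ A₁ σ₁) (h2 : Mover m₂ A₂ σ₂) (hr : Commute (ψ A₁) (a * ψ A₂ * a⁻¹)) :
    Disj ψ a := by
  set cj : SpecialLinearGroup (T ⊕ M) F →* G := (MulAut.conj a).toMonoidHom.comp ψ
  have cj_eq : ∀ g, cj g = a * ψ g * a⁻¹ := fun g => rfl
  have fixed : ∀ p q : M, p ≠ q → ∀ s, cj (tv (.inr p) (.inr q) s) = ψ (tv (.inr p) (.inr q) s) :=
    fun p q h s => by rw [cj_eq, (hF p q h s).eq, mul_inv_cancel_right]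
  have inH : ∀ {i j k l : T ⊕ M}, i ≠ j → k ≠ l → i ≠ l → j ≠ k → ∀ s u,
      Commute (ψ (tv i j s)) (ψ (tv k l u)) := fun h h' h1' h2' s u =>
    (tv_strel.comm _ _ _ _ h h' h1' h2' s u).map ψ
  -- the element `A₂` of the second copy
  have step1 : ∀ {i j : T ⊕ M}, i ≠ j → i ≠ .inr m₂ → j ≠ .inr m₂ → ∀ s,
      Commute (ψ (tv i j s)) (cj A₂) := by
    intro i j hij hi hj s
    refine Subgroup.mem_centralizer_singleton_iff.1 (spread h12 h3 h1
      ((Subgroup.centralizer {cj A₂}).comap ψ) (Subgroup.mem_centralizer_singleton_iff.2 hr.eq) ?_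
      hij hi hj s)
    intro p q hpq hp hq s
    rw [Subgroup.mem_comap, Subgroup.mem_centralizer_singleton_iff, ← fixed p q hpq s]
    exact (((h2.comm p q hpq hp hq s).symm).map cj).eq
  -- the middle pairs in the second copy
  have midR : ∀ {i j : T ⊕ M} (p q : M), i ≠ j → p ≠ q →
      (∀ m, i = .inr m ∨ j = .inr m → p ≠ m ∧ q ≠ m) → ∀ s u,
      Commute (ψ (tv i j s)) (cj (tv (.inr p) (.inr q) u)) := by
    intro i j p q hij hpq h s u
    rw [fixed p q hpq]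
    exact inH hij (fun e => hpq (Sum.inr.inj e)) (fun e => (h q (Or.inl e)).2 rfl)
      (fun e => (h p (Or.inr e)).1 rfl) s u
  -- first copy avoiding `m₂`
  have step2 : ∀ {i j k l : T ⊕ M}, i ≠ j → k ≠ l → i ≠ .inr m₂ → j ≠ .inr m₂ →
      ∀ m' : M, m' ≠ m₂ → (∀ m, i = .inr m ∨ j = .inr m → m = m') →
      k ≠ .inr m' → l ≠ .inr m' → ∀ s u, Commute (ψ (tv i j s)) (cj (tv k l u)) := by
    intro i j k l hij hkl hi hj m' hm' honly hk hl s u
    refine (Subgroup.mem_centralizer_singleton_iff.1 (spread hm'.symm h3 h2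
      ((Subgroup.centralizer {ψ (tv i j s)}).comap cj)
      (Subgroup.mem_centralizer_singleton_iff.2 (step1 hij hi hj s).eq.symm) ?_ hkl hk hl u) :
        Commute (cj (tv k l u)) (ψ (tv i j s))).symm
    intro p q hpq hp hq u
    rw [Subgroup.mem_comap, Subgroup.mem_centralizer_singleton_iff]
    exact (midR p q hij hpq (fun m e => by rw [honly m e]; exact ⟨hp, hq⟩) s u).eq.symm
  intro i j k l hij hkl hcond s u
  rw [← cj_eq]
  -- both in the middle
  have caseM : ∀ {i j k l : T ⊕ M}, i ≠ j → k ≠ l →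
      (∀ m, i = .inr m ∨ j = .inr m → k ≠ .inr m ∧ l ≠ .inr m) →
      (∃ p q : M, i = .inr p ∧ j = .inr q) ∨ (∃ p q : M, k = .inr p ∧ l = .inr q) →
      ∀ s u, Commute (ψ (tv i j s)) (cj (tv k l u)) := by
    rintro i j k l hij hkl hcond (⟨p, q, rfl, rfl⟩ | ⟨p, q, rfl, rfl⟩) s u
    · rw [← fixed p q (fun e => hij (by rw [e])), cj_eq, cj_eq, commute_conj_iff]
      exact inH hij hkl (hcond p (Or.inl rfl)).2.symm (hcond q (Or.inr rfl)).1.symm s u
    · exact midR p q hij (fun e => hkl (by rw [e]))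
        (fun m e => ⟨fun e' => (hcond m e).1 (by rw [e']), fun e' => (hcond m e).2 (by rw [e'])⟩) s u
  by_cases hMM : (∃ p q : M, i = .inr p ∧ j = .inr q) ∨ (∃ p q : M, k = .inr p ∧ l = .inr q)
  · exact caseM hij hkl hcond hMM s u
  push Not at hMM
  obtain ⟨hijM, hklM⟩ := hMM
  have uniq : ∀ {i j : T ⊕ M}, (∀ p q : M, i = .inr p → j ≠ .inr q) →
      ∀ m m', i = .inr m ∨ j = .inr m → i = .inr m' ∨ j = .inr m' → m = m' := by
    rintro i j h m m' (e | e) (e' | e')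
    · exact Sum.inr.inj (e.symm.trans e')
    · exact absurd e' (h m m' e)
    · exact absurd e (h m' m e')
    · exact Sum.inr.inj (e.symm.trans e')
  -- a middle index of the second pair, if any
  obtain ⟨r, hr'⟩ : ∃ r : M, ∀ m, k = .inr m ∨ l = .inr m → m = r := by
    by_cases h : ∃ m, k = .inr m ∨ l = .inr m
    · obtain ⟨r, hr'⟩ := h
      exact ⟨r, fun m hm => uniq hklM m r hm hr'⟩
    · exact ⟨m₁, fun m hm => absurd ⟨m, hm⟩ h⟩
  by_cases h2' : i = .inr m₂ ∨ j = .inr m₂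
  · obtain ⟨m, hm, hmr⟩ := h3 m₂ r
    have hk : k ≠ .inr m ∧ l ≠ .inr m :=
      ⟨fun e => hmr (hr' m (Or.inl e)), fun e => hmr (hr' m (Or.inr e))⟩
    have hk2 : k ≠ .inr m₂ ∧ l ≠ .inr m₂ := hcond m₂ h2'
    have mm : (Sum.inr m : T ⊕ M) ≠ .inr m₂ := fun e => hm (Sum.inr.inj e)
    have both : ∀ {i' j' : T ⊕ M}, i' ≠ j' →
        (∀ n, i' = .inr n ∨ j' = .inr n → n = m ∨ n = m₂) →
        (∃ p q : M, i' = .inr p ∧ j' = .inr q) → ∀ s, Commute (ψ (tv i' j' s)) (cj (tv k l u)) :=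
      fun h hn hpq s => caseM h hkl (fun n e => by
        rcases hn n e with rfl | rfl
        · exact hk
        · exact hk2) (Or.inl hpq) s u
    rcases h2' with rfl | rfl
    · obtain ⟨t, rfl⟩ : ∃ t, j = .inl t := by
        rcases j with t | q
        · exact ⟨t, rfl⟩
        · exact absurd rfl (hijM m₂ q rfl)
      rw [← one_mul s, ← tv_chev mm.symm (by simp : (Sum.inr m : T ⊕ M) ≠ .inl t) hij,
        map_commutatorElement]
      refine H40.Block.bracket_commute (both mm.symm ?_ ⟨_, _, rfl, rfl⟩ 1)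
        (step2 (by simp) hkl mm (by simp) m hm ?_ hk.1 hk.2 s u)
      · rintro n (e | e) <;> simp [Sum.inr.inj e]
      · rintro n (e | e)
        · exact (Sum.inr.inj e).symm
        · exact absurd e (by simp)
    · obtain ⟨t, rfl⟩ : ∃ t, i = .inl t := by
        rcases i with t | q
        · exact ⟨t, rfl⟩
        · exact absurd rfl (hijM q m₂ rfl)
      rw [← mul_one s, ← tv_chev (by simp : (Sum.inl t : T ⊕ M) ≠ .inr m) mm hij,
        map_commutatorElement]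
      refine H40.Block.bracket_commute (step2 (by simp) hkl (by simp) mm m hm ?_ hk.1 hk.2 s u)
        (both mm ?_ ⟨_, _, rfl, rfl⟩ 1)
      · rintro n (e | e)
        · exact absurd e (by simp)
        · exact (Sum.inr.inj e).symm
      · rintro n (e | e) <;> simp [Sum.inr.inj e]
  · push Not at h2'
    by_cases h : ∃ m, i = .inr m ∨ j = .inr m
    · obtain ⟨m, hm⟩ := h
      have hm2 : m ≠ m₂ := by
        rintro rfl; exact hm.elim h2'.1 h2'.2
      exact step2 hij hkl h2'.1 h2'.2 m hm2 (fun n hn => uniq hijM n m hn hm)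
        (hcond m hm).1 (hcond m hm).2 s u
    · obtain ⟨m, hm, hmr⟩ := h3 m₂ r
      exact step2 hij hkl h2'.1 h2'.2 m hm (fun n hn => absurd ⟨n, hn⟩ h)
        (fun e => hmr (hr' m (Or.inl e))) (fun e => hmr (hr' m (Or.inr e))) s u

/-- Relations from generators of the two-element subgroups suffice. -/
theorem disj_of_sub {κ : Type*} [Fintype κ] [DecidableEq κ] {κ' : M → Type*}
    [∀ m, Fintype (κ' m)] [∀ m, DecidableEq (κ' m)] (e : ∀ m : M, κ ⊕ κ' m ≃ T ⊕ M)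
    (he : ∀ (m : M) (p : T ⊕ M), (∃ x, e m (.inl x) = p) ↔ (∀ m', p = .inr m' → m' = m))
    (hF : Fix ψ a) (S : Set (SpecialLinearGroup κ F)) (hS : Subgroup.closure S = ⊤)
    (hr : ∀ m m', m ≠ m' → ∀ g ∈ S, ∀ h ∈ S,
      Commute (ψ (embL (F := F) (e m) g)) (a * ψ (embL (F := F) (e m') h) * a⁻¹))
    (h3 : ∀ m : M, ∃ c, c ≠ m) [Nonempty M] : Disj ψ a := by
  set cj : SpecialLinearGroup (T ⊕ M) F →* G := (MulAut.conj a).toMonoidHom.comp ψ
  have cj_eq : ∀ g, cj g = a * ψ g * a⁻¹ := fun g => rfl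
  have all : ∀ m m', m ≠ m' → ∀ g h,
      Commute (ψ (embL (F := F) (e m) g)) (cj (embL (F := F) (e m') h)) := by
    intro m m' hne
    have h1 : ∀ g ∈ S, ∀ h, Commute (ψ (embL (F := F) (e m) g)) (cj (embL (F := F) (e m') h)) := by
      intro g hg h
      have := (Subgroup.closure_le ((Subgroup.centralizer {ψ (embL (F := F) (e m) g)}).comap
        (cj.comp (embL (F := F) (e m'))))).2 (fun h hh => Subgroup.mem_centralizer_singleton_iff.2
          (hr m m' hne g hg h hh).eq.symm) (hS ▸ Subgroup.mem_top h)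
      exact (Subgroup.mem_centralizer_singleton_iff.1 this).symm
    intro g h
    have := (Subgroup.closure_le ((Subgroup.centralizer {cj (embL (F := F) (e m') h)}).comap
      (ψ.comp (embL (F := F) (e m))))).2 (fun g hg => Subgroup.mem_centralizer_singleton_iff.2
        (h1 g hg h).eq) (hS ▸ Subgroup.mem_top g)
    exact Subgroup.mem_centralizer_singleton_iff.1 this
  intro i j k l hij hkl hcond s u
  have inH : ∀ {i j k l : T ⊕ M}, i ≠ j → k ≠ l → i ≠ l → j ≠ k → ∀ s u,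
      Commute (ψ (tv i j s)) (ψ (tv k l u)) := fun h h' h1' h2' s u =>
    (tv_strel.comm _ _ _ _ h h' h1' h2' s u).map ψ
  rcases (em (∃ p q : M, i = .inr p ∧ j = .inr q)) with ⟨p, q, rfl, rfl⟩ | hijM
  · have hpq : p ≠ q := fun E => hij (by rw [E])
    have e1 : ψ (tv (.inr p) (.inr q) s) = a * ψ (tv (.inr p) (.inr q) s) * a⁻¹ := by
      rw [(hF p q hpq s).eq, mul_inv_cancel_right]
    rw [e1, commute_conj_iff]
    exact inH hij hkl (hcond p (Or.inl rfl)).2.symm (hcond q (Or.inr rfl)).1.symm s u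
  rcases (em (∃ p q : M, k = .inr p ∧ l = .inr q)) with ⟨p, q, rfl, rfl⟩ | hklM
  · have hpq : p ≠ q := fun E => hkl (by rw [E])
    have e1 : a * ψ (tv (.inr p) (.inr q) u) * a⁻¹ = ψ (tv (.inr p) (.inr q) u) := by
      rw [(hF p q hpq u).eq, mul_inv_cancel_right]
    rw [e1]
    exact inH hij hkl (fun E => (hcond q (Or.inl E)).2 rfl) (fun E => (hcond p (Or.inr E)).1 rfl) s u
  have pick : ∀ {i j : T ⊕ M}, (¬ ∃ p q : M, i = .inr p ∧ j = .inr q) →
      ∀ m, (∀ n, i = .inr n ∨ j = .inr n → n = m) → i ≠ j → ∀ s, ∃ g, embL (F := F) (e m) g = tv i j s := by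
    intro i j _ m hm hij s
    obtain ⟨x, hx⟩ := (he m i).2 (fun n hn => hm n (Or.inl hn))
    obtain ⟨y, hy⟩ := (he m j).2 (fun n hn => hm n (Or.inr hn))
    refine ⟨tv x y s, ?_⟩
    rw [embL_tv (e m) (fun E => hij (by rw [← hx, ← hy, E])), hx, hy]
  have idx : ∀ {i j : T ⊕ M}, (¬ ∃ p q : M, i = .inr p ∧ j = .inr q) →
      ∀ n n', i = .inr n ∨ j = .inr n → i = .inr n' ∨ j = .inr n' → n = n' := by
    rintro i j h n n' (e1 | e1) (e2 | e2)
    · exact Sum.inr.inj (e1.symm.trans e2)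
    · exact absurd ⟨_, _, e1, e2⟩ h
    · exact absurd ⟨_, _, e2, e1⟩ h
    · exact Sum.inr.inj (e1.symm.trans e2)
  obtain ⟨m, m', hne, hm, hm'⟩ : ∃ m m' : M, m ≠ m' ∧ (∀ n, i = .inr n ∨ j = .inr n → n = m) ∧
      (∀ n, k = .inr n ∨ l = .inr n → n = m') := by
    by_cases h1 : ∃ n, i = .inr n ∨ j = .inr n
    · obtain ⟨m, hm⟩ := h1
      by_cases h2 : ∃ n, k = .inr n ∨ l = .inr n
      · obtain ⟨m', hm'⟩ := h2
        exact ⟨m, m', fun E => by
          subst E; exact hm'.elim (hcond m hm).1 (hcond m hm).2,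
          fun n hn => idx hijM n m hn hm, fun n hn => idx hklM n m' hn hm'⟩
      · obtain ⟨c, hc⟩ := h3 m
        exact ⟨m, c, hc.symm, fun n hn => idx hijM n m hn hm, fun n hn => absurd ⟨n, hn⟩ h2⟩
    · by_cases h2 : ∃ n, k = .inr n ∨ l = .inr n
      · obtain ⟨m', hm'⟩ := h2
        obtain ⟨c, hc⟩ := h3 m'
        exact ⟨c, m', hc, fun n hn => absurd ⟨n, hn⟩ h1, fun n hn => idx hklM n m' hn hm'⟩
      · obtain ⟨m⟩ := (inferInstance : Nonempty M)
        obtain ⟨c, hc⟩ := h3 m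
        exact ⟨m, c, hc.symm, fun n hn => absurd ⟨n, hn⟩ h1, fun n hn => absurd ⟨n, hn⟩ h2⟩
  obtain ⟨g, hg⟩ := pick hijM m hm hij s
  obtain ⟨h, hh⟩ := pick hklM m' hm' hkl u
  rw [← hg, ← hh, ← cj_eq]
  exact all m m' hne g h

end H40.Glue
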