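import Cfsg.Agent.H40.PresTools

/-!
Bookkeeping for presentations with a given number of generators and few relations.
-/

set_option autoImplicit false
set_option linter.style.haveILetI false
set_option linter.unusedSectionVars false

namespace H40.PresN

open H40.Pres

universe u v

/-- A presentation on `n` generators with at most `R` relations. -/
def HasPresN (Q : Type u) [Group Q] (n R : ℕ) : Prop :=
  ∃ rels : Finset (FreeGroup (Fin n)), rels.card ≤ R ∧
    Nonempty (PresentedGroup (↑rels : Set (FreeGroup (Fin n))) ≃* Q)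

theorem HasPresN.mono {Q : Type u} [Group Q] {n R R' : ℕ} (h : HasPresN Q n R) (hR : R ≤ R') :
    HasPresN Q n R' := by
  obtain ⟨rels, hc, he⟩ := h
  exact ⟨rels, hc.trans hR, he⟩

theorem HasPresN.of_equiv {Q : Type u} [Group Q] {Q' : Type v} [Group Q'] {n R : ℕ}
    (h : HasPresN Q n R) (e : Q ≃* Q') : HasPresN Q' n R := by
  obtain ⟨rels, hc, ⟨f⟩⟩ := h
  exact ⟨rels, hc, ⟨f.trans e⟩⟩

theorem HasPresN.hasPres {Q : Type u} [Group Q] {n R : ℕ} (h : HasPresN Q n R) : HasPres Q R :=
  ⟨n, h⟩

/-- Adjoining generators `q` and relators `E` written in the elements of a presented group `H`. -/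
theorem HasPresN.extend {H : Type u} [Group H] {Q : Type v} [Group Q] [Finite Q] {n R : ℕ}
    (hH : HasPresN H n R) (ι : H →* Q) {k : ℕ} (q : Fin k → Q) (E : Finset (FreeGroup (H ⊕ Fin k)))
    (hE : ∀ r ∈ E, FreeGroup.lift (Sum.elim ι q) r = 1)
    (hgen : Subgroup.closure (Set.range ι ∪ Set.range q) = ⊤)
    (huniv : ∀ {G : Type} [Group G] (ψ : H →* G) (a : Fin k → G),
      (∀ r ∈ E, FreeGroup.lift (Sum.elim ψ a) r = 1) →
      Subgroup.closure (Set.range ψ ∪ Set.range a) = ⊤ → ∃ Φ : Q →* G, Function.Surjective Φ) :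
    HasPresN Q (n + k) (R + E.card) := by
  classical
  obtain ⟨rels, hc, ⟨e⟩⟩ := hH
  -- a word for each element of `H`
  let π : FreeGroup (Fin n) →* H :=
    e.toMonoidHom.comp (PresentedGroup.mk (↑rels : Set (FreeGroup (Fin n))))
  have hπ : Function.Surjective π := e.surjective.comp (PresentedGroup.mk_surjective _)
  choose w hw using hπ
  let inc : FreeGroup (Fin n) →* FreeGroup (Fin (n + k)) :=
    FreeGroup.lift fun i => FreeGroup.of (Fin.castAdd k i)
  let sub : FreeGroup (H ⊕ Fin k) →* FreeGroup (Fin (n + k)) :=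
    FreeGroup.lift (Sum.elim (fun h => inc (w h)) fun i => FreeGroup.of (Fin.natAdd n i))
  let rels' : Finset (FreeGroup (Fin (n + k))) := rels.image inc ∪ E.image sub
  refine ⟨rels', (Finset.card_union_le _ _).trans
    (add_le_add (Finset.card_image_le.trans hc) Finset.card_image_le), ?_⟩
  let val : Fin (n + k) → Q := Fin.append (fun i => ι (π (FreeGroup.of i))) q
  have hinc : (FreeGroup.lift val).comp inc = ι.comp π := FreeGroup.ext_hom _ _ fun i => by
    simp [inc, val]
  have hsub : (FreeGroup.lift val).comp sub = FreeGroup.lift (Sum.elim ι q) :=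
    FreeGroup.ext_hom _ _ fun x => by
      rcases x with h | i
      · simp only [MonoidHom.comp_apply, sub, FreeGroup.lift_apply_of, Sum.elim_inl]
        rw [← MonoidHom.comp_apply, hinc, MonoidHom.comp_apply, hw]
      · simp [sub, val]
  have hrel : ∀ r ∈ (↑rels' : Set (FreeGroup (Fin (n + k)))), FreeGroup.lift val r = 1 := by
    intro r hr
    rcases Finset.mem_union.1 (Finset.mem_coe.1 hr) with hr | hr
    · obtain ⟨r₀, hr₀, rfl⟩ := Finset.mem_image.1 hr
      rw [← MonoidHom.comp_apply, hinc, MonoidHom.comp_apply, show π r₀ = 1 by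
        simp only [π, MonoidHom.comp_apply]
        rw [PresentedGroup.one_of_mem (Finset.mem_coe.2 hr₀), map_one], map_one]
    · obtain ⟨r₀, hr₀, rfl⟩ := Finset.mem_image.1 hr
      rw [← MonoidHom.comp_apply, hsub]
      exact hE r₀ hr₀
  let φ : PresentedGroup (↑rels' : Set (FreeGroup (Fin (n + k)))) →* Q :=
    PresentedGroup.toGroup hrel
  have hφ : φ.comp (PresentedGroup.mk _) = FreeGroup.lift val := FreeGroup.ext_hom _ _ fun i => by
    simp only [MonoidHom.comp_apply, FreeGroup.lift_apply_of]
    exact PresentedGroup.toGroup.of hrel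
  have hφs : Function.Surjective φ := by
    rw [← MonoidHom.range_eq_top, eq_top_iff, ← hgen, Subgroup.closure_le]
    rintro x (⟨h, rfl⟩ | ⟨i, rfl⟩)
    · refine ⟨PresentedGroup.mk _ (inc (w h)), ?_⟩
      rw [← MonoidHom.comp_apply φ, hφ, ← MonoidHom.comp_apply, hinc, MonoidHom.comp_apply, hw]
    · refine ⟨PresentedGroup.mk _ (FreeGroup.of (Fin.natAdd n i)), ?_⟩
      rw [← MonoidHom.comp_apply φ, hφ]
      simp [val]
  -- the universal property applied to the presented group
  set G := PresentedGroup (↑rels' : Set (FreeGroup (Fin (n + k))))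
  let mk' := PresentedGroup.mk (↑rels' : Set (FreeGroup (Fin (n + k))))
  have h0 : ∀ r ∈ (↑rels : Set (FreeGroup (Fin n))),
      FreeGroup.lift (fun i => mk' (FreeGroup.of (Fin.castAdd k i))) r = 1 := by
    intro r hr
    have e' : FreeGroup.lift (fun i => mk' (FreeGroup.of (Fin.castAdd k i))) = mk'.comp inc :=
      FreeGroup.ext_hom _ _ fun i => by simp [inc]
    rw [e', MonoidHom.comp_apply]
    exact PresentedGroup.one_of_mem (Finset.mem_coe.2
      (Finset.mem_union_left _ (Finset.mem_image_of_mem _ (Finset.mem_coe.1 hr))))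
  let ψ : H →* G := (PresentedGroup.toGroup h0).comp e.symm.toMonoidHom
  let a : Fin k → G := fun i => mk' (FreeGroup.of (Fin.natAdd n i))
  have hψπ : ∀ z, ψ (π z) = mk' (inc z) := by
    intro z
    have h1 : ψ.comp π = mk'.comp inc := FreeGroup.ext_hom _ _ fun i => by
      simp only [ψ, π, inc, MonoidHom.comp_apply, MulEquiv.coe_toMonoidHom,
        MulEquiv.symm_apply_apply, FreeGroup.lift_apply_of]
      exact PresentedGroup.toGroup.of h0
    exact DFunLike.congr_fun h1 z
  have hsub' : FreeGroup.lift (Sum.elim ψ a) = mk'.comp sub := FreeGroup.ext_hom _ _ fun x => by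
    rcases x with h | i
    · simp only [FreeGroup.lift_apply_of, Sum.elim_inl, MonoidHom.comp_apply, sub]
      rw [← hψπ, hw]
    · simp [sub, a]
  obtain ⟨Φ, hΦ⟩ := huniv ψ a (fun r hr => by
      rw [hsub']
      exact PresentedGroup.one_of_mem (Finset.mem_coe.2
        (Finset.mem_union_right _ (Finset.mem_image_of_mem _ hr)))) (by
    rw [eq_top_iff, ← PresentedGroup.closure_range_of (↑rels' : Set (FreeGroup (Fin (n + k)))),
      Subgroup.closure_le]
    rintro _ ⟨i, rfl⟩
    refine Fin.addCases (fun i => ?_) (fun i => ?_) i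
    · exact Subgroup.subset_closure (Or.inl ⟨π (FreeGroup.of i),
        (hψπ _).trans (by simp [inc, mk']; rfl)⟩)
    · exact Subgroup.subset_closure (Or.inr ⟨i, rfl⟩))
  haveI : Finite G := Finite.of_surjective _ hΦ
  exact ⟨MulEquiv.ofBijective φ ((Nat.bijective_iff_surjective_and_card φ).2
    ⟨hφs, le_antisymm (Nat.card_le_card_of_surjective _ hΦ) (Nat.card_le_card_of_surjective _ hφs)⟩)⟩

/-- Killing the normal closure of one element. -/
theorem HasPresN.quotient_one {H : Type u} [Group H] [Finite H] {n R : ℕ} (hH : HasPresN H n R)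
    (N : Subgroup H) [N.Normal] (z : H) (hz : N = Subgroup.normalClosure {z}) :
    HasPresN (H ⧸ N) n (R + 1) := by
  have h := HasPresN.extend (k := 0) hH (QuotientGroup.mk' N) (fun i => i.elim0)
    {FreeGroup.of (Sum.inl z)} (by
      intro r hr
      rw [Finset.mem_singleton] at hr
      subst hr
      simp only [FreeGroup.lift_apply_of, Sum.elim_inl, QuotientGroup.mk'_apply]
      rw [QuotientGroup.eq_one_iff, hz]
      exact Subgroup.subset_normalClosure rfl) (by
      rw [eq_top_iff]
      intro x _
      obtain ⟨y, rfl⟩ := QuotientGroup.mk'_surjective N x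
      exact Subgroup.subset_closure (Or.inl ⟨y, rfl⟩)) (by
      intro G _ ψ a hr htop
      have hker : N ≤ ψ.ker := by
        rw [hz]
        refine Subgroup.normalClosure_le_normal (Set.singleton_subset_iff.2 ?_)
        exact MonoidHom.mem_ker.2 (by simpa using hr _ (Finset.mem_singleton_self _))
      refine ⟨QuotientGroup.lift N ψ hker, ?_⟩
      rw [← MonoidHom.range_eq_top, eq_top_iff, ← htop, Subgroup.closure_le]
      rintro x (⟨h, rfl⟩ | ⟨i, -⟩)
      · exact ⟨QuotientGroup.mk h, by simp⟩
      · exact i.elim0)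
  exact h.mono (by simp)

end H40.PresN
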