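import Cfsg.Agent.H40.Glue
import Cfsg.Agent.H40.PresN

/-!
Presentations of a larger special linear group from a smaller one with one further generator.
-/

set_option autoImplicit false
set_option linter.unusedSectionVars false
set_option linter.style.haveILetI false

namespace H40.Glue

open Matrix
open scoped commutatorElement
open H40.Amal (Cross full)
open H40.PresN (HasPresN)

variable {T M : Type*} [Fintype T] [DecidableEq T] [Fintype M] [DecidableEq M]
  {F : Type*} [Field F]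

/-- The first copy. -/
def emb : SpecialLinearGroup (T ⊕ M) F →* SpecialLinearGroup ((T ⊕ M) ⊕ T) F :=
  embL (Equiv.refl _)

theorem emb_tv {p q : T ⊕ M} (h : p ≠ q) (t : F) : emb (tv p q t) = tv (.inl p) (.inl q) t :=
  embL_tv _ h t

/-- Exchanging the new indices with the old top ones. -/
def swapI : Equiv.Perm ((T ⊕ M) ⊕ T) where
  toFun := Sum.elim (Sum.elim Sum.inr fun m => .inl (.inr m)) fun t => .inl (.inl t)
  invFun := Sum.elim (Sum.elim Sum.inr fun m => .inl (.inr m)) fun t => .inl (.inl t)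
  left_inv := by rintro ((i | i) | i) <;> rfl
  right_inv := by rintro ((i | i) | i) <;> rfl

/-- An element carrying the first copy to the second. -/
def Carry (c : SpecialLinearGroup ((T ⊕ M) ⊕ T) F) : Prop :=
  ∀ p q : T ⊕ M, p ≠ q → ∀ t, c * emb (tv p q t) * c⁻¹ = tv (swapI (.inl p)) (swapI (.inl q)) t

theorem exists_carry [Nonempty T] : ∃ c : SpecialLinearGroup ((T ⊕ M) ⊕ T) F, Carry c := by
  obtain ⟨t₀⟩ := (inferInstance : Nonempty T)
  obtain ⟨A, d, hd1, hd, hA⟩ := exists_mono (F := F) (swapI (T := T) (M := M)) (Sum.inr t₀)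
  refine ⟨A, fun p q h t => ?_⟩
  rw [emb_tv h, mul_inv_eq_iff_eq_mul, mono_tv A _ d hA hd (fun e => h (Sum.inl.inj e)),
    hd1 _ Sum.inl_ne_inr, hd1 _ Sum.inl_ne_inr, inv_one, one_mul, mul_one]

variable {c : SpecialLinearGroup ((T ⊕ M) ⊕ T) F}

theorem fix_target (hc : Carry c) : Fix emb c := fun m m' h s => by
  have h' : (Sum.inr m : T ⊕ M) ≠ .inr m' := fun e => h (Sum.inr.inj e)
  have e := hc _ _ h' s
  rw [emb_tv h'] at e
  exact mul_inv_eq_iff_eq_mul.1 (by rw [emb_tv h']; exact e)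

theorem disj_target (hc : Carry c) : Disj emb c := by
  intro i j k l hij hkl h s u
  rw [emb_tv hij, hc _ _ hkl]
  have hkl' : swapI (.inl k) ≠ swapI (.inl l) :=
    fun e => hkl (Sum.inl.inj ((swapI (T := T) (M := M)).injective e))
  refine tv_strel.comm _ _ _ _ (fun e => hij (Sum.inl.inj e)) hkl' ?_ ?_ s u
  · intro e
    rcases l with l | l <;> simp [swapI] at e
    exact (h l (Or.inl e)).2 rfl
  · intro e
    rcases k with k | k <;> simp [swapI] at e
    exact (h k (Or.inr e)).1 rfl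

theorem xg_target (hc : Carry c) {i j : (T ⊕ M) ⊕ T} (h : i ≠ j) (g : ¬ Cross cl i j) (t : F) :
    xg emb c i j t = tv i j t := by
  rcases i with i | i <;> rcases j with j | j
  · exact emb_tv (fun e => h (by rw [e])) t
  · rcases i with i | i
    · exact absurd (show Cross cl (Sum.inl (Sum.inl i) : (T ⊕ M) ⊕ T) (Sum.inr j) from
        ⟨by simp [cl], by simp [cl], by simp [cl]⟩) g
    · exact hc (.inr i) (.inl j) (by simp) t
  · rcases j with j | j
    · exact absurd (show Cross cl (Sum.inr i : (T ⊕ M) ⊕ T) (Sum.inl (Sum.inl j)) from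
        ⟨by simp [cl], by simp [cl], by simp [cl]⟩) g
    · exact hc (.inl i) (.inr j) (by simp) t
  · exact hc (.inl i) (.inl j) (fun e => h (by rw [Sum.inl.inj e])) t

theorem full_target (hc : Carry c) (m₀ : M) {i j : (T ⊕ M) ⊕ T} (h : i ≠ j) (t : F) :
    full cl (.inl (.inr m₀)) (xg emb c) i j t = tv i j t := by
  unfold full
  split_ifs with g
  · have h1 : i ≠ .inl (.inr m₀) := fun e => g.1 (by rw [e]; rfl)
    have h2 : j ≠ .inl (.inr m₀) := fun e => g.2.1 (by rw [e]; rfl)
    rw [xg_target hc h1 (fun e => e.2.1 rfl), xg_target hc h2.symm (fun e => e.1 rfl),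
      tv_chev h1 h2.symm h, mul_one]
  · exact xg_target hc h g t

/-- The root elements in letters. -/
def xw : (T ⊕ M) ⊕ T → (T ⊕ M) ⊕ T → F → FreeGroup (SpecialLinearGroup (T ⊕ M) F ⊕ Fin 1)
  | .inl p, .inl q => fun t => FreeGroup.of (.inl (tv p q t))
  | .inl p, .inr q => fun t =>
      FreeGroup.of (.inr 0) * FreeGroup.of (.inl (tv p (.inl q) t)) * (FreeGroup.of (.inr 0))⁻¹
  | .inr p, j => fun t =>
      FreeGroup.of (.inr 0) * FreeGroup.of (.inl (tv (.inl p) (back j) t)) * (FreeGroup.of (.inr 0))⁻¹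

/-- All root elements in letters. -/
def yw (m₀ : M) (x : ((T ⊕ M) ⊕ T) × ((T ⊕ M) ⊕ T) × F) :
    FreeGroup (SpecialLinearGroup (T ⊕ M) F ⊕ Fin 1) :=
  full cl (.inl (.inr m₀)) xw x.1 x.2.1 x.2.2

theorem lift_xw {G : Type*} [Group G] (ψ : SpecialLinearGroup (T ⊕ M) F →* G) (a : Fin 1 → G)
    (i j : (T ⊕ M) ⊕ T) (t : F) :
    FreeGroup.lift (Sum.elim ψ a) (xw i j t) = xg ψ (a 0) i j t := by
  rcases i with i | i <;> rcases j with j | j <;> simp [xw, xg]

theorem lift_yw {G : Type*} [Group G] (ψ : SpecialLinearGroup (T ⊕ M) F →* G) (a : Fin 1 → G)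
    (m₀ : M) (w : FreeGroup (((T ⊕ M) ⊕ T) × ((T ⊕ M) ⊕ T) × F)) :
    FreeGroup.lift (Sum.elim ψ a) (FreeGroup.lift (yw m₀) w) =
      FreeGroup.lift (fun x : ((T ⊕ M) ⊕ T) × ((T ⊕ M) ⊕ T) × F =>
        full cl (.inl (.inr m₀)) (xg ψ (a 0)) x.1 x.2.1 x.2.2) w := by
  rw [← MonoidHom.comp_apply]
  congr 1
  refine FreeGroup.ext_hom _ _ fun x => ?_
  simp only [MonoidHom.comp_apply, FreeGroup.lift_apply_of, yw, Amal.map_full, lift_xw]

/-- The middle block. -/
def embM : SpecialLinearGroup M F →* SpecialLinearGroup (T ⊕ M) F :=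
  embL (Equiv.sumComm M T)

theorem embM_tv {p q : M} (h : p ≠ q) (t : F) :
    (embM (tv p q t) : SpecialLinearGroup (T ⊕ M) F) = tv (.inr p) (.inr q) t :=
  embL_tv _ h t

theorem fix_of_gens {G : Type*} [Group G] (ψ : SpecialLinearGroup (T ⊕ M) F →* G) (a : G)
    (S : Set (SpecialLinearGroup M F)) (hS : Subgroup.closure S = ⊤)
    (h : ∀ s ∈ S, Commute a (ψ (embM s))) : Fix ψ a := by
  intro m m' hne s
  rw [← embM_tv hne]
  have := (Subgroup.closure_le ((Subgroup.centralizer {a}).comap (ψ.comp embM))).2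
    (fun g hg => Subgroup.mem_centralizer_singleton_iff.2 (h g hg).eq.symm)
    (hS ▸ Subgroup.mem_top (tv m m' s))
  exact (Subgroup.mem_centralizer_singleton_iff.1 this).symm

/-- The new letter. -/
def cW : FreeGroup (SpecialLinearGroup (T ⊕ M) F ⊕ Fin 1) := FreeGroup.of (Sum.inr 0)

/-- An old letter. -/
def oW (g : SpecialLinearGroup (T ⊕ M) F) : FreeGroup (SpecialLinearGroup (T ⊕ M) F ⊕ Fin 1) :=
  FreeGroup.of (Sum.inl g)

open Classical in
/-- The relators. -/
noncomputable def glueRels (m₀ : M) (SM : Finset (SpecialLinearGroup M F))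
    (D : Finset (SpecialLinearGroup (T ⊕ M) F × SpecialLinearGroup (T ⊕ M) F))
    (w : FreeGroup (((T ⊕ M) ⊕ T) × ((T ⊕ M) ⊕ T) × F)) :
    Finset (FreeGroup (SpecialLinearGroup (T ⊕ M) F ⊕ Fin 1)) :=
  SM.image (fun s => ⁅cW (T := T) (M := M) (F := F), oW (embM (T := T) (M := M) (F := F) s)⁆) ∪
    D.image (fun p => ⁅oW (T := T) (M := M) (F := F) p.1,
      cW (T := T) (M := M) (F := F) * oW p.2 * (cW (T := T) (M := M) (F := F))⁻¹⁆) ∪
    {cW (T := T) (M := M) (F := F) * (FreeGroup.lift (yw m₀) w)⁻¹}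

theorem card_glueRels (m₀ : M) (SM : Finset (SpecialLinearGroup M F))
    (D : Finset (SpecialLinearGroup (T ⊕ M) F × SpecialLinearGroup (T ⊕ M) F))
    (w : FreeGroup (((T ⊕ M) ⊕ T) × ((T ⊕ M) ⊕ T) × F)) :
    (glueRels m₀ SM D w).card ≤ SM.card + D.card + 1 := by
  classical
  exact (Finset.card_union_le _ _).trans (add_le_add ((Finset.card_union_le _ _).trans
    (add_le_add Finset.card_image_le Finset.card_image_le)) (by simp))

theorem glueRels_iff (m₀ : M) (SM : Finset (SpecialLinearGroup M F))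
    (D : Finset (SpecialLinearGroup (T ⊕ M) F × SpecialLinearGroup (T ⊕ M) F))
    (w : FreeGroup (((T ⊕ M) ⊕ T) × ((T ⊕ M) ⊕ T) × F)) {G : Type*} [Group G]
    (ψ : SpecialLinearGroup (T ⊕ M) F →* G) (a : Fin 1 → G) :
    (∀ r ∈ glueRels m₀ SM D w, FreeGroup.lift (Sum.elim ψ a) r = 1) ↔
      (∀ s ∈ SM, Commute (a 0) (ψ (embM (T := T) s))) ∧
      (∀ p ∈ D, Commute (ψ p.1) (a 0 * ψ p.2 * (a 0)⁻¹)) ∧
      FreeGroup.lift (fun x : ((T ⊕ M) ⊕ T) × ((T ⊕ M) ⊕ T) × F =>
        full cl (.inl (.inr m₀)) (xg ψ (a 0)) x.1 x.2.1 x.2.2) w = a 0 := by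
  classical
  simp only [glueRels, cW, oW, Finset.mem_union, Finset.mem_image, Finset.mem_singleton, or_imp,
    forall_and, forall_exists_index, and_imp, forall_apply_eq_imp_iff₂, forall_eq,
    map_commutatorElement, map_mul, map_inv, lift_yw, FreeGroup.lift_apply_of, Sum.elim_inl,
    Sum.elim_inr, commutatorElement_eq_one_iff_mul_comm, mul_inv_eq_one, and_assoc]
  exact and_congr Iff.rfl (and_congr Iff.rfl eq_comm)

/-- Gluing on two copies: one more generator. -/
theorem hasPresN_glue [Fintype F] [Nonempty T] [Nonempty M] {n R : ℕ}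
    (h : HasPresN (SpecialLinearGroup (T ⊕ M) F) n R) (hM : ∀ m : M, ∃ m', m' ≠ m)
    {N : ℕ} (e : (T ⊕ M) ⊕ T ≃ Fin N) (hN : 3 ≤ N)
    (SM : Finset (SpecialLinearGroup M F))
    (hSM : Subgroup.closure (SM : Set (SpecialLinearGroup M F)) = ⊤)
    (D : Finset (SpecialLinearGroup (T ⊕ M) F × SpecialLinearGroup (T ⊕ M) F))
    (hD : ∀ c : SpecialLinearGroup ((T ⊕ M) ⊕ T) F, Carry c →
      ∀ p ∈ D, Commute (emb p.1) (c * emb p.2 * c⁻¹))
    (hD' : ∀ {G : Type} [Group G] (ψ : SpecialLinearGroup (T ⊕ M) F →* G) (a : G), Fix ψ a →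
      (∀ p ∈ D, Commute (ψ p.1) (a * ψ p.2 * a⁻¹)) → Disj ψ a) :
    HasPresN (SpecialLinearGroup (Fin N) F) (n + 1) (R + (SM.card + D.card + 1)) := by
  classical
  obtain ⟨m₀⟩ := (inferInstance : Nonempty M)
  obtain ⟨c, hc⟩ := exists_carry (T := T) (M := M) (F := F)
  set J := (T ⊕ M) ⊕ T
  have hfull : ∀ x : J × J × F, x.1 ≠ x.2.1 →
      full cl (.inl (.inr m₀)) (xg emb c) x.1 x.2.1 x.2.2 = tv x.1 x.2.1 x.2.2 :=
    fun x hx => full_target hc m₀ hx x.2.2
  obtain ⟨w, hw⟩ : c ∈ (FreeGroup.lift fun x : J × J × F =>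
      full cl (.inl (.inr m₀)) (xg emb c) x.1 x.2.1 x.2.2).range := by
    rw [FreeGroup.range_lift_eq_closure]
    refine (?_ : (⊤ : Subgroup (SpecialLinearGroup J F)) ≤ _) (Subgroup.mem_top c)
    rw [← closure_tv (ι := J) (F := F), Subgroup.closure_le]
    rintro _ ⟨x, rfl⟩
    by_cases hx : x.1 ≠ x.2.1
    · exact Subgroup.subset_closure ⟨x, hfull x hx⟩
    · show tv x.1 x.2.1 x.2.2 ∈ _
      rw [tv, dif_neg hx]; exact one_mem _
  set E := glueRels m₀ SM D w with hE
  have hp := HasPresN.extend (k := 1) h emb ![c] E (by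
    refine (glueRels_iff m₀ SM D w emb ![c]).2 ⟨fun s _ => ?_, fun p hp => hD c hc p hp, hw⟩
    have := hom_mem (embM (T := T) (M := M) (F := F)) ((Subgroup.centralizer {c}).comap emb)
      (fun i j hij t => Subgroup.mem_centralizer_singleton_iff.2
        (by rw [embM_tv hij]; exact ((fix_target hc) i j hij t).eq.symm)) s
    exact (Subgroup.mem_centralizer_singleton_iff.1 this).symm) (by
    rw [eq_top_iff, ← closure_tv (ι := J) (F := F), Subgroup.closure_le]
    rintro _ ⟨x, rfl⟩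
    by_cases hx : x.1 ≠ x.2.1
    · show tv x.1 x.2.1 x.2.2 ∈ _
      rw [← hfull x hx]
      have hc' : c ∈ Subgroup.closure (Set.range emb ∪ Set.range ![c]) :=
        Subgroup.subset_closure (Or.inr ⟨0, rfl⟩)
      have hi : ∀ g, emb g ∈ Subgroup.closure (Set.range emb ∪ Set.range ![c]) :=
        fun g => Subgroup.subset_closure (Or.inl ⟨g, rfl⟩)
      have hx' : ∀ i j t, xg emb c i j t ∈ Subgroup.closure (Set.range emb ∪ Set.range ![c]) := by
        intro i j t
        rcases i with i | i <;> rcases j with j | j <;> first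
          | exact hi _
          | exact mul_mem (mul_mem hc' (hi _)) (inv_mem hc')
      unfold full
      split_ifs
      · rw [commutatorElement_def]
        exact mul_mem (mul_mem (mul_mem (hx' _ _ _) (hx' _ _ _)) (inv_mem (hx' _ _ _)))
          (inv_mem (hx' _ _ _))
      · exact hx' _ _ _
    · show tv x.1 x.2.1 x.2.2 ∈ _
      rw [tv, dif_neg hx]; exact one_mem _) ?_
  · exact (hp.mono (Nat.add_le_add_left (card_glueRels m₀ SM D w) R)).of_equiv (H40.BlockPres.reidx e)
  intro G _ ψ a hr htop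
  obtain ⟨hS, hDp, hwG⟩ := (glueRels_iff m₀ SM D w ψ a).1 hr
  have hF : Fix ψ (a 0) := fix_of_gens ψ (a 0) _ hSM hS
  have A := (ax hM hF (hD' ψ (a 0) hF hDp)).strel (m₀ := .inl (.inr m₀)) rfl
  have S' : StRel fun u v t => full cl (.inl (.inr m₀)) (xg ψ (a 0)) (e.symm u) (e.symm v) t :=
    { add := fun u v h => A.add _ _ (e.symm.injective.ne h)
      comm := fun u v r s h1 h2 h3 h4 => A.comm _ _ _ _ (e.symm.injective.ne h1)
        (e.symm.injective.ne h2) (e.symm.injective.ne h3) (e.symm.injective.ne h4)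
      chev := fun u v r h1 h2 h3 => A.chev _ _ _ (e.symm.injective.ne h1)
        (e.symm.injective.ne h2) (e.symm.injective.ne h3) }
  haveI : Finite F := Finite.of_fintype F
  let st := MulEquiv.ofBijective (H40.stHom N F) (H40.stHom_bijective hN)
  let Φ : SpecialLinearGroup J F →* G :=
    (PresentedGroup.toGroup (H40.lift_stRels S')).comp
      (st.symm.toMonoidHom.comp (H40.BlockPres.reidx e).toMonoidHom)
  refine ⟨Φ, ?_⟩
  have hx : ∀ (i j : J) (t : F), i ≠ j →
      full cl (.inl (.inr m₀)) (xg ψ (a 0)) i j t ∈ Φ.range := by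
    intro i j t hij
    refine ⟨(H40.BlockPres.reidx e).symm (st (PresentedGroup.of (⟨(e i, e j), e.injective.ne hij⟩, t))), ?_⟩
    simp only [Φ, MonoidHom.comp_apply, MulEquiv.coe_toMonoidHom, MulEquiv.apply_symm_apply,
      MulEquiv.symm_apply_apply]
    refine (PresentedGroup.toGroup.of (H40.lift_stRels S')).trans ?_
    show full cl (.inl (.inr m₀)) (xg ψ (a 0)) (e.symm (e i)) (e.symm (e j)) t = _
    rw [e.symm_apply_apply, e.symm_apply_apply]
  have hdiag : ∀ (i : J) (t : F), full cl (.inl (.inr m₀)) (xg ψ (a 0)) i i t = 1 := by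
    intro i t
    rw [full, if_neg (fun h => h.2.2 rfl)]
    rcases i with i | i <;> simp [xg, tv, back]
  have hall : ∀ x : J × J × F,
      full cl (.inl (.inr m₀)) (xg ψ (a 0)) x.1 x.2.1 x.2.2 ∈ Φ.range := fun x => by
    by_cases h : x.1 = x.2.1
    · rw [h, hdiag]; exact one_mem _
    · exact hx _ _ _ h
  rw [← MonoidHom.range_eq_top, eq_top_iff, ← htop, Subgroup.closure_le]
  rintro g (⟨g, rfl⟩ | ⟨i, rfl⟩)
  · refine hom_mem ψ Φ.range (fun p q h t => ?_) g
    have := hall (.inl p, .inl q, t)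
    rwa [full, if_neg (fun h' => by rcases p with p | p <;> rcases q with q | q <;> simp [cl] at h')] at this
  · rw [Subsingleton.elim i 0, ← hwG]
    have : (FreeGroup.lift fun x : J × J × F =>
        full cl (.inl (.inr m₀)) (xg ψ (a 0)) x.1 x.2.1 x.2.2).range ≤ Φ.range := by
      rw [FreeGroup.range_lift_eq_closure, Subgroup.closure_le]
      rintro _ ⟨x, rfl⟩
      exact hall x
    exact this ⟨w, rfl⟩

/-- The block on the top indices and one middle one. -/
def blockE (m : M) : (T ⊕ Unit) ⊕ {x : M // x ≠ m} ≃ T ⊕ M :=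
  (Equiv.sumAssoc T Unit _).trans (Equiv.sumCongr (Equiv.refl T)
    { toFun := Sum.elim (fun _ => m) Subtype.val
      invFun := fun x => if h : x = m then .inl () else .inr ⟨x, h⟩
      left_inv := by rintro (⟨⟩ | ⟨x, hx⟩) <;> simp [*]
      right_inv := fun x => by by_cases h : x = m <;> simp [h] })

theorem blockE_inl (m : M) (y : T ⊕ Unit) :
    blockE m (.inl y) = Sum.elim Sum.inl (fun _ => Sum.inr m) y := by
  rcases y with y | y <;> rfl

theorem blockE_inr (m : M) (x : {x : M // x ≠ m}) :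
    (blockE m (.inr x) : T ⊕ M) = .inr x.1 := rfl

theorem target_block (hc : Carry c) {m m' : M} (h : m ≠ m')
    (g k : SpecialLinearGroup (T ⊕ Unit) F) :
    Commute (emb (embL (blockE m) g)) (c * emb (embL (blockE m') k) * c⁻¹) := by
  have h1 : ∀ i j : T ⊕ Unit, i ≠ j → ∀ s, Commute (emb (embL (blockE m) (tv i j s)))
      (c * emb (embL (blockE m') k) * c⁻¹) := by
    intro i j hij s
    have := hom_mem (embL (blockE m') (F := F)) ((Subgroup.centralizer
      {emb (embL (blockE m) (tv i j s))}).comap ((MulAut.conj c).toMonoidHom.comp emb)) (fun p q hpq u => by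
      rw [Subgroup.mem_comap, Subgroup.mem_centralizer_singleton_iff, embL_tv _ hij, embL_tv _ hpq]
      exact (disj_target hc _ _ _ _
        (fun e => hij (Sum.inl.inj ((blockE m).injective e)))
        (fun e => hpq (Sum.inl.inj ((blockE m').injective e))) (fun n hn => by
          rw [blockE_inl, blockE_inl] at hn ⊢
          rcases i with i | i <;> rcases j with j | j <;> simp at hn <;> subst hn <;>
            rcases p with p | p <;> rcases q with q | q <;> simp [Ne.symm h, h]) s u).eq.symm) k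
    exact (Subgroup.mem_centralizer_singleton_iff.1 this).symm
  have := hom_mem (embL (blockE m) (F := F)) ((Subgroup.centralizer
    {c * emb (embL (blockE m') k) * c⁻¹}).comap emb)
    (fun i j hij s => Subgroup.mem_centralizer_singleton_iff.2 (h1 i j hij s).eq) g
  exact Subgroup.mem_centralizer_singleton_iff.1 this

/-- Few relations when three middle indices are left. -/
theorem hasPresN_glue_one [Fintype F] [Nonempty T] {n R : ℕ}
    (h : HasPresN (SpecialLinearGroup (T ⊕ M) F) n R) (h3 : ∀ a b : M, ∃ c, c ≠ a ∧ c ≠ b)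
    [Nonempty M] {N : ℕ} (e : (T ⊕ M) ⊕ T ≃ Fin N) (hN : 3 ≤ N)
    (SM : Finset (SpecialLinearGroup M F))
    (hSM : Subgroup.closure (SM : Set (SpecialLinearGroup M F)) = ⊤)
    (σ₀ : Equiv.Perm (T ⊕ Unit))
    (horb : ∀ O : Set (T ⊕ Unit), Sum.inr () ∈ O → (∀ p ∈ O, σ₀ p ∈ O) → ∀ y, y ∈ O) :
    HasPresN (SpecialLinearGroup (Fin N) F) (n + 1) (R + (SM.card + 2)) := by
  classical
  obtain ⟨m₁⟩ := (inferInstance : Nonempty M)
  obtain ⟨m₂, h12, -⟩ := h3 m₁ m₁
  have mk : ∀ m : M, ∃ (g : SpecialLinearGroup (T ⊕ Unit) F) (σ : Equiv.Perm (T ⊕ M)),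
      Mover m (embL (blockE m) g) σ := fun m =>
    exists_mover m (blockE m) σ₀ (Sum.inr ()) rfl (fun t => ⟨.inl t, rfl⟩)
      (fun q hq => ⟨⟨q, hq⟩, rfl⟩) horb
  obtain ⟨g₁, σ₁, H1⟩ := mk m₁
  obtain ⟨g₂, σ₂, H2⟩ := mk m₂
  refine (hasPresN_glue h (fun m => (h3 m m).imp fun _ hc => hc.1) e hN SM hSM
    {(embL (blockE m₁) g₁, embL (blockE m₂) g₂)} ?_ ?_).mono (by simp)
  · intro c hc p hp
    rw [Finset.mem_singleton] at hp
    subst hp
    exact target_block hc h12.symm g₁ g₂
  · intro G _ ψ a hF hp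
    exact disj_of_one h3 hF h12.symm H1 H2 (hp _ (Finset.mem_singleton_self _))

/-- Few relations when two middle indices are left. -/
theorem hasPresN_glue_gens [Fintype F] [Nonempty T] {n R : ℕ}
    (h : HasPresN (SpecialLinearGroup (T ⊕ M) F) n R) (h2 : ∀ m : M, ∃ c, c ≠ m)
    [Nonempty M] {N : ℕ} (e : (T ⊕ M) ⊕ T ≃ Fin N) (hN : 3 ≤ N)
    (SM : Finset (SpecialLinearGroup M F))
    (hSM : Subgroup.closure (SM : Set (SpecialLinearGroup M F)) = ⊤)
    (S : Finset (SpecialLinearGroup (T ⊕ Unit) F))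
    (hS : Subgroup.closure (S : Set (SpecialLinearGroup (T ⊕ Unit) F)) = ⊤) :
    HasPresN (SpecialLinearGroup (Fin N) F) (n + 1)
      (R + (SM.card + (Fintype.card M * Fintype.card M - Fintype.card M) * (S.card * S.card) + 1)) := by
  letI : DecidableEq (SpecialLinearGroup (T ⊕ M) F × SpecialLinearGroup (T ⊕ M) F) := Classical.decEq _
  set D := ((Finset.univ : Finset M).offDiag ×ˢ (S ×ˢ S)).image
    fun x => (embL (F := F) (blockE x.1.1) x.2.1, embL (F := F) (blockE x.1.2) x.2.2) with hD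
  have hDc : D.card ≤ (Fintype.card M * Fintype.card M - Fintype.card M) * (S.card * S.card) :=
    Finset.card_image_le.trans (by
      rw [Finset.card_product, Finset.card_product, Finset.offDiag_card, Finset.card_univ])
  refine (hasPresN_glue h h2 e hN SM hSM D ?_ ?_).mono (by omega)
  · intro c hc p hp
    obtain ⟨⟨⟨m, m'⟩, g, k⟩, hmem, rfl⟩ := Finset.mem_image.1 hp
    simp only [Finset.mem_product, Finset.mem_offDiag] at hmem
    exact target_block hc hmem.1.2.2 g k
  · intro G _ ψ a hF hp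
    have hr : ∀ m m' : M, m ≠ m' → ∀ g ∈ (S : Set (SpecialLinearGroup (T ⊕ Unit) F)),
        ∀ k ∈ (S : Set (SpecialLinearGroup (T ⊕ Unit) F)),
        Commute (ψ (embL (blockE m) g)) (a * ψ (embL (blockE m') k) * a⁻¹) := by
      intro m m' hne g hg k hk
      have hmem : (embL (F := F) (blockE m) g, embL (F := F) (blockE m') k) ∈ D := by
        rw [hD, Finset.mem_image]
        exact ⟨((m, m'), (g, k)), Finset.mem_product.2 ⟨Finset.mem_offDiag.2
          ⟨Finset.mem_univ _, Finset.mem_univ _, hne⟩, Finset.mem_product.2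
          ⟨Finset.mem_coe.1 hg, Finset.mem_coe.1 hk⟩⟩, rfl⟩
      exact hp (embL (F := F) (blockE m) g, embL (F := F) (blockE m') k) hmem
    refine disj_of_sub (κ' := fun m => {x : M // x ≠ m}) (fun m => blockE m) (fun m p => ?_) hF
      (S : Set (SpecialLinearGroup (T ⊕ Unit) F)) hS ?_ h2
    rotate_left
    · intro m m' hne g hg k hk
      exact hr m m' hne g hg k hk
    constructor
    · rintro ⟨x, rfl⟩ m' e'
      rcases x with x | x
      · exact absurd e' (by simp [blockE_inl])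
      · simpa [blockE_inl, eq_comm] using e'
    · intro hp'
      rcases p with t | q
      · exact ⟨.inl t, rfl⟩
      · exact ⟨.inr (), by rw [blockE_inl, hp' q rfl]; rfl⟩

end H40.Glue
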