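import Cfsg.Agent.H40.SLShort

/-!
`SL₄(q)` with few relations: the overlap of two copies of `SL₃` is two-dimensional and its torus
helps to spread the commutation relations.
-/

set_option autoImplicit false
set_option linter.unusedSectionVars false
set_option linter.style.haveILetI false

namespace H40.GlueSmall

open Matrix
open H40.Glue
open H40.PresN (HasPresN)
open H40.CRW (xS hS tS)

variable {F : Type*} [Field F]

local notation "SL2" => SpecialLinearGroup (Fin 2) F

theorem reidx_tv {ι κ : Type*} [Fintype ι] [DecidableEq ι] [Fintype κ] [DecidableEq κ] (e : ι ≃ κ)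
    {i j : ι} (h : i ≠ j) (t : F) :
    H40.BlockPres.reidx e (tv i j t) = tv (e i) (e j) t := by
  apply Subtype.ext
  show Matrix.reindex e e (tv i j t).1 = _
  rw [coe_tv h, coe_tv (e.injective.ne h)]
  ext a b
  simp [Matrix.one_apply, Matrix.single_apply, Equiv.eq_symm_apply]

/-- The index of the small block. -/
def e0 : Fin 2 ≃ Fin 1 ⊕ Unit where
  toFun i := if i = 0 then .inl 0 else .inr ()
  invFun := Sum.elim (fun _ => 0) fun _ => 1
  left_inv i := by fin_cases i <;> rfl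
  right_inv := by
    rintro (i | ⟨⟩)
    · rw [Subsingleton.elim i 0]; rfl
    · rfl

/-- The two small blocks. -/
def blk (m : Fin 2) :
    SpecialLinearGroup (Fin 2) F →* SpecialLinearGroup (Fin 1 ⊕ Fin 2) F :=
  (embL (blockE (T := Fin 1) m)).comp (H40.BlockPres.reidx e0).toMonoidHom

theorem blk_tv (m : Fin 2) {i j : Fin 2} (h : i ≠ j) (t : F) :
    blk m (tv i j t) = tv (blockE (T := Fin 1) m (.inl (e0 i))) (blockE (T := Fin 1) m (.inl (e0 j))) t := by
  show embL _ (H40.BlockPres.reidx e0 (tv i j t)) = _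
  rw [reidx_tv e0 h, embL_tv _ (e0.injective.ne h)]

theorem blk_tv01 (m : Fin 2) (t : F) : blk m (tv 0 1 t) = tv (.inl 0) (.inr m) t :=
  blk_tv m (by decide) t

theorem blk_tv10 (m : Fin 2) (t : F) : blk m (tv 1 0 t) = tv (.inr m) (.inl 0) t :=
  blk_tv m (by decide) t

/-- Conjugation by `diag(1, ξ)`. -/
def delta (ξ : Fˣ) : SpecialLinearGroup (Fin 2) F →* SpecialLinearGroup (Fin 2) F where
  toFun g := ⟨!![g.1 0 0, g.1 0 1 * ((ξ⁻¹ : Fˣ) : F); g.1 1 0 * (ξ : F), g.1 1 1], by
    have this_det := g.2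
    rw [det_fin_two] at this_det
    rw [det_fin_two_of]
    have := ξ.ne_zero
    rw [Units.val_inv_eq_inv_val]
    field_simp
    linear_combination this_det⟩
  map_one' := H40.CRW.slExt (by
    show !![_, _; _, _] = (1 : Matrix (Fin 2) (Fin 2) F)
    rw [one_fin_two]; simp)
  map_mul' g h := H40.CRW.slExt (by
    show !![_, _; _, _] = (!![_, _; _, _] : Matrix (Fin 2) (Fin 2) F) * !![_, _; _, _]
    rw [mul_fin_two]
    have e : (g * h).1 = g.1 * h.1 := rfl
    have := ξ.ne_zero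
    ext i j
    fin_cases i <;> fin_cases j <;>
      simp [e, Matrix.mul_apply, Fin.sum_univ_two, Units.val_inv_eq_inv_val] <;> field_simp)

theorem coe_delta (ξ : Fˣ) (g : SL2) : (delta ξ g).1 =
    !![g.1 0 0, g.1 0 1 * ((ξ⁻¹ : Fˣ) : F); g.1 1 0 * (ξ : F), g.1 1 1] := rfl

theorem delta_tv01 (ξ : Fˣ) (t : F) : delta ξ (tv 0 1 t) = tv 0 1 (t * ((ξ⁻¹ : Fˣ) : F)) := by
  apply H40.CRW.slExt
  show !![_, _; _, _] = _
  rw [coe_tv (by decide), coe_tv (by decide)]
  ext i j
  fin_cases i <;> fin_cases j <;> simp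

theorem delta_tv10 (ξ : Fˣ) (t : F) : delta ξ (tv 1 0 t) = tv 1 0 (t * (ξ : F)) := by
  apply H40.CRW.slExt
  show !![_, _; _, _] = _
  rw [coe_tv (by decide), coe_tv (by decide)]
  ext i j
  fin_cases i <;> fin_cases j <;> simp

theorem delta_delta (ξ η : Fˣ) (g : SL2) : delta ξ (delta η g) = delta (ξ * η) g := by
  apply H40.CRW.slExt
  simp only [coe_delta]
  ext i j
  fin_cases i <;> fin_cases j <;> simp <;> ring

theorem delta_one (g : SL2) : delta 1 g = g := by
  apply H40.CRW.slExt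
  show !![_, _; _, _] = _
  ext i j
  fin_cases i <;> fin_cases j <;> simp

theorem delta_hS (ξ ζ : Fˣ) : delta ξ (hS ζ) = hS ζ := by
  apply H40.CRW.slExt
  show !![_, _; _, _] = _
  rw [H40.CRW.coe_hS]
  ext i j
  fin_cases i <;> fin_cases j <;> simp

theorem hom_ext_tv {G : Type*} [Group G] (f g : SL2 →* G)
    (h1 : ∀ t, f (tv 0 1 t) = g (tv 0 1 t)) (h2 : ∀ t, f (tv 1 0 t) = g (tv 1 0 t)) : f = g := by
  refine MonoidHom.ext fun x => ?_
  induction x using H37.SL_transvection_induction with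
  | h1 => rw [map_one, map_one]
  | htransvec i j hij t =>
    rw [← tv_of hij]
    fin_cases i <;> fin_cases j <;> first
      | exact absurd rfl hij
      | exact h1 t
      | exact h2 t
  | hmul A B hA hB => rw [map_mul, map_mul, hA, hB]

/-- The torus of the middle. -/
def dM (ζ : Fˣ) : SpecialLinearGroup (Fin 1 ⊕ Fin 2) F := embM (hS ζ)

theorem dM_tv (ζ : Fˣ) (m : Fin 2) (t : F) :
    dM ζ * tv (.inl 0) (.inr m) t * (dM ζ)⁻¹ = tv (.inl 0) (.inr m)
      (t * (((![ζ, ζ⁻¹] m)⁻¹ : Fˣ) : F)) ∧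
    dM ζ * tv (.inr m) (.inl 0) t * (dM ζ)⁻¹ = tv (.inr m) (.inl 0) (t * ((![ζ, ζ⁻¹] m : Fˣ) : F)) := by
  set d : Fin 1 ⊕ Fin 2 → F := Sum.elim (fun _ => 1) fun k => ((![ζ, ζ⁻¹] k : Fˣ) : F)
  have hd : ∀ p, d p ≠ 0 := by
    rintro (p | p)
    · exact one_ne_zero
    · exact Units.ne_zero _
  have hA : (dM ζ).1 = (diagonal d).submatrix (Equiv.refl (Fin 1 ⊕ Fin 2)).symm id := by
    rw [dM, embM, coe_embL, H40.CRW.coe_hS]
    ext a b
    rcases a with a | a <;> rcases b with b | b <;> fin_cases a <;> fin_cases b <;>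
      simp [d]
  constructor
  · rw [mul_inv_eq_iff_eq_mul, mono_tv _ _ d hA hd (by simp)]
    simp [d]
  · rw [mul_inv_eq_iff_eq_mul, mono_tv _ _ d hA hd (by simp)]
    simp [d, mul_comm]

theorem dM_blk (ζ : Fˣ) (m : Fin 2) (g : SL2) :
    dM ζ * blk m g * (dM ζ)⁻¹ = blk m (delta (![ζ, ζ⁻¹] m) g) := by
  refine DFunLike.congr_fun (hom_ext_tv ((MulAut.conj (dM ζ)).toMonoidHom.comp (blk m))
    ((blk m).comp (delta (![ζ, ζ⁻¹] m))) (fun t => ?_) fun t => ?_) g
  · show dM ζ * blk m (tv 0 1 t) * (dM ζ)⁻¹ = blk m (delta _ (tv 0 1 t))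
    rw [delta_tv01, blk_tv01, blk_tv01, (dM_tv ζ m t).1]
  · show dM ζ * blk m (tv 1 0 t) * (dM ζ)⁻¹ = blk m (delta _ (tv 1 0 t))
    rw [delta_tv10, blk_tv10, blk_tv10, (dM_tv ζ m t).2]

/-- The exchange of the middle. -/
def wM : SpecialLinearGroup (Fin 1 ⊕ Fin 2) F := embM tS

theorem wM_tv (t : F) :
    wM * tv (.inl 0) (.inr 0) t * (wM (F := F))⁻¹ = tv (.inl 0) (.inr 1) (-t) ∧
    wM * tv (.inr 0) (.inl 0) t * (wM (F := F))⁻¹ = tv (.inr 1) (.inl 0) (-t) ∧
    wM * tv (.inl 0) (.inr 1) t * (wM (F := F))⁻¹ = tv (.inl 0) (.inr 0) t ∧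
    wM * tv (.inr 1) (.inl 0) t * (wM (F := F))⁻¹ = tv (.inr 0) (.inl 0) t := by
  set d : Fin 1 ⊕ Fin 2 → F := Sum.elim (fun _ => 1) ![-1, 1]
  set π : Equiv.Perm (Fin 1 ⊕ Fin 2) := Equiv.swap (.inr 0) (.inr 1)
  have hd : ∀ p, d p ≠ 0 := by
    rintro (p | p) <;> fin_cases p <;> simp [d]
  have hA : (wM (F := F)).1 = (diagonal d).submatrix π.symm id := by
    rw [wM, embM, coe_embL, H40.CRW.coe_tS]
    ext a b
    rcases a with a | a <;> rcases b with b | b <;> fin_cases a <;> fin_cases b <;>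
      simp [d, π, Equiv.swap_apply_def]
  refine ⟨?_, ?_, ?_, ?_⟩ <;>
    (rw [mul_inv_eq_iff_eq_mul, mono_tv _ _ d hA hd (by simp)]; simp [d, π, Equiv.swap_apply_def])

theorem wM_blk (g : SL2) :
    wM * blk 0 g * wM⁻¹ = blk 1 (delta (-1) g) ∧ wM * blk 1 g * wM⁻¹ = blk 0 g := by
  constructor
  · refine DFunLike.congr_fun (hom_ext_tv ((MulAut.conj (wM (F := F))).toMonoidHom.comp (blk 0))
      ((blk 1).comp (delta (-1))) (fun t => ?_) fun t => ?_) g
    · show wM * blk 0 (tv 0 1 t) * wM⁻¹ = blk 1 (delta _ (tv 0 1 t))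
      rw [delta_tv01, blk_tv01, blk_tv01, (wM_tv t).1]; simp
    · show wM * blk 0 (tv 1 0 t) * wM⁻¹ = blk 1 (delta _ (tv 1 0 t))
      rw [delta_tv10, blk_tv10, blk_tv10, (wM_tv t).2.1]; simp
  · refine DFunLike.congr_fun (hom_ext_tv ((MulAut.conj (wM (F := F))).toMonoidHom.comp (blk 1))
      (blk 0) (fun t => ?_) fun t => ?_) g
    · show wM * blk 1 (tv 0 1 t) * wM⁻¹ = blk 0 (tv 0 1 t)
      rw [blk_tv01, blk_tv01, (wM_tv t).2.2.1]
    · show wM * blk 1 (tv 1 0 t) * wM⁻¹ = blk 0 (tv 1 0 t)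
      rw [blk_tv10, blk_tv10, (wM_tv t).2.2.2]

/-- The element `x(1) t`. -/
def bb : SpecialLinearGroup (Fin 2) F := xS (.ofAdd 1) * tS

/-- A subgroup containing `x(1) t` and stable under a primitive diagonal twist is everything. -/
theorem eq_top_of_stable [Fintype F] {ξ : Fˣ} (hgen : ∀ u : Fˣ, u ∈ Subgroup.zpowers ξ)
    (hξ : (ξ : F) ≠ 1) (H : Subgroup SL2) (hb : (bb : SL2) ∈ H) (hst : ∀ g ∈ H, delta ξ g ∈ H) :
    H = ⊤ := by
  have hx0 := ξ.ne_zero
  set e : F := ((ξ⁻¹ : Fˣ) : F)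
  -- a diagonal times unipotent element
  set g : SL2 := delta ξ bb * bb⁻¹
  have hg : g ∈ H := mul_mem (hst _ hb) (inv_mem hb)
  have gval : g.1 = !![e, 1 - e; 0, (ξ : F)] := by
    have eb : (bb : SL2).1 = !![-1, 1; -1, 0] := by
      rw [bb, H40.CRW.cm, H40.CRW.coe_xS, H40.CRW.coe_tS, mul_fin_two]; simp
    have hgb : g * bb = delta ξ bb := by simp [g]
    have h := congrArg Subtype.val hgb
    rw [H40.CRW.cm, eb] at h
    have hd : (delta ξ (bb : SL2)).1 = !![-1, e; -(ξ : F), 0] := by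
      show !![_, _; _, _] = _
      rw [eb]; simp [e]
    rw [hd] at h
    have h00 := congrFun (congrFun h 0) 0
    have h01 := congrFun (congrFun h 0) 1
    have h10 := congrFun (congrFun h 1) 0
    have h11 := congrFun (congrFun h 1) 1
    simp [Matrix.mul_apply, Fin.sum_univ_two] at h00 h01 h10 h11
    ext i j
    fin_cases i <;> fin_cases j <;> simp
    · exact h01
    · linear_combination -h00 - h01
    · exact h11
    · linear_combination -h10 - h11
  set c : F := (ξ : F) * ((1 - e) * e) + -(1 - e) * (ξ : F)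
  have hc : c ≠ 0 := by
    have : c = (1 - e) * (1 - (ξ : F)) := by
      simp only [c, e, Units.val_inv_eq_inv_val]; field_simp; ring
    rw [this]
    refine mul_ne_zero (sub_ne_zero.2 fun h => hξ ?_) (sub_ne_zero.2 fun h => hξ h.symm)
    have h' := congrArg (fun z : F => z * (ξ : F)) h
    simpa [e, Units.val_inv_eq_inv_val, hx0] using h'
  have hx : xS (.ofAdd c) ∈ H := by
    have : g⁻¹ * delta ξ g = xS (.ofAdd c) := by
      rw [inv_mul_eq_iff_eq_mul]
      apply H40.CRW.slExt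
      rw [H40.CRW.cm, H40.CRW.coe_xS, gval]
      show !![_, _; _, _] = _
      rw [gval, mul_fin_two]
      ext i j
      fin_cases i <;> fin_cases j <;> simp [c, e, Units.val_inv_eq_inv_val]
      field_simp
      ring
    exact this ▸ mul_mem (inv_mem hg) (hst _ hg)
  have hpow : ∀ (k : ℕ), ∀ a ∈ H, delta (ξ ^ k) a ∈ H := by
    intro k
    induction k with
    | zero => intro a ha; rwa [pow_zero, delta_one]
    | succ k ih => intro a ha; rw [pow_succ', ← delta_delta]; exact hst _ (ih a ha)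
  have hall : ∀ z : F, xS (.ofAdd z) ∈ H := by
    intro z
    by_cases hz : z = 0
    · subst hz; simp
    haveI : Finite F := Finite.of_fintype F
    obtain ⟨k, hk⟩ := mem_powers_iff_mem_zpowers.2 (hgen (Units.mk0 (c * z⁻¹) (mul_ne_zero hc (inv_ne_zero hz))))
    have : delta (ξ ^ k) (xS (.ofAdd c)) = xS (.ofAdd z) := by
      rw [show ξ ^ k = _ from hk]
      apply H40.CRW.slExt
      rw [H40.CRW.coe_xS]
      show !![_, _; _, _] = _
      rw [H40.CRW.coe_xS]
      ext i j
      fin_cases i <;> fin_cases j <;> simp [Units.val_inv_eq_inv_val]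
      field_simp
    exact this ▸ hpow k _ hx
  refine H40.PSLPres.eq_top_of_root hall ?_
  have : (tS : SL2) = (xS (.ofAdd 1))⁻¹ * bb := by simp [bb]
  rw [this]
  exact mul_mem (inv_mem (hall 1)) hb

/-! ### The relations -/

/-- A subgroup of the small block from a centraliser. -/
theorem commute_all {G : Type*} [Group G] {f : SL2 →* G} {y : G} (S : Set SL2)
    (hS : Subgroup.closure S = ⊤) (h : ∀ g ∈ S, Commute (f g) y) (g : SL2) : Commute (f g) y :=
  Subgroup.mem_centralizer_singleton_iff.1 ((Subgroup.closure_le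
    ((Subgroup.centralizer {y}).comap f)).2
      (fun g hg => Subgroup.mem_centralizer_singleton_iff.2 (h g hg).eq) (hS ▸ Subgroup.mem_top g))

variable {G : Type*} [Group G] {ψ : SpecialLinearGroup (Fin 1 ⊕ Fin 2) F →* G} {a : G}

theorem fix_comm (hF : Fix ψ a) (g : SpecialLinearGroup (Fin 2) F) : Commute a (ψ (embM g)) :=
  (Subgroup.mem_centralizer_singleton_iff.1 (hom_mem (embM (T := Fin 1) (F := F))
    ((Subgroup.centralizer {a}).comap ψ) (fun i j hij t => Subgroup.mem_centralizer_singleton_iff.2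
      (by rw [embM_tv hij]; exact (hF i j hij t).eq.symm)) g)).symm

theorem cj_conj (hF : Fix ψ a) (g : SpecialLinearGroup (Fin 2) F)
    (x : SpecialLinearGroup (Fin 1 ⊕ Fin 2) F) :
    ψ (embM g) * (a * ψ x * a⁻¹) * (ψ (embM g))⁻¹ = a * ψ (embM g * x * (embM g)⁻¹) * a⁻¹ := by
  have h := (fix_comm hF g).eq
  rw [map_mul, map_mul, map_inv]
  calc ψ (embM g) * (a * ψ x * a⁻¹) * (ψ (embM g))⁻¹
      = (ψ (embM g) * a) * ψ x * (ψ (embM g) * a)⁻¹ := by group
    _ = _ := by rw [← h]; group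

/-- The torus moves a relation. -/
theorem move_torus (hF : Fix ψ a) (ζ : Fˣ) {g h : SL2}
    (hc : Commute (ψ (blk 0 g)) (a * ψ (blk 1 h) * a⁻¹)) :
    Commute (ψ (blk 0 (delta ζ g))) (a * ψ (blk 1 (delta ζ⁻¹ h)) * a⁻¹) := by
  have := hc.map (MulAut.conj (ψ (dM ζ))).toMonoidHom
  simp only [MulEquiv.coe_toMonoidHom, MulAut.conj_apply] at this
  rw [← map_inv, ← map_mul, ← map_mul, dM_blk, map_inv] at this
  rw [dM, cj_conj hF, ← dM, dM_blk] at this
  exact this

/-- Generators of the block suffice. -/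
theorem disj_small (hF : Fix ψ a) (S : Set SL2) (hS : Subgroup.closure S = ⊤)
    (hr : ∀ g ∈ S, ∀ h ∈ S, Commute (ψ (blk 0 g)) (a * ψ (blk 1 h) * a⁻¹)) : Disj ψ a := by
  have h01 : ∀ g h : SL2, Commute (ψ (blk 0 g)) (a * ψ (blk 1 h) * a⁻¹) := by
    have h1 : ∀ g ∈ S, ∀ h, Commute (ψ (blk 0 g)) (a * ψ (blk 1 h) * a⁻¹) := fun g hg h =>
      (commute_all (f := (MulAut.conj a).toMonoidHom.comp (ψ.comp (blk 1))) S hS
        (fun h hh => (hr g hg h hh).symm) h).symm
    exact fun g h => commute_all (f := ψ.comp (blk 0)) S hS (fun g hg => h1 g hg h) g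
  have h10 : ∀ g h : SL2, Commute (ψ (blk 1 g)) (a * ψ (blk 0 h) * a⁻¹) := by
    intro g h
    have := (h01 (delta (-1) g) h).map (MulAut.conj (ψ (wM (F := F)))).toMonoidHom
    simp only [MulEquiv.coe_toMonoidHom, MulAut.conj_apply] at this
    rw [← map_inv, ← map_mul, ← map_mul, (wM_blk _).1, map_inv, delta_delta,
      show (-1 : Fˣ) * -1 = 1 by simp, delta_one, wM, cj_conj hF, ← wM, (wM_blk _).2] at this
    exact this
  refine disj_of_sub (κ' := fun m : Fin 2 => {x : Fin 2 // x ≠ m}) (fun m => blockE (T := Fin 1) m)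
    (fun m p => ?_) hF (Set.univ : Set (SpecialLinearGroup (Fin 1 ⊕ Unit) F)) (by simp) ?_
    (fun m => exists_ne m)
  · constructor
    · rintro ⟨x, rfl⟩ m' e'
      rcases x with x | x
      · exact absurd e' (by simp [blockE_inl])
      · simpa [blockE_inl, eq_comm] using e'
    · intro hp'
      rcases p with t | q
      · exact ⟨.inl t, rfl⟩
      · exact ⟨.inr (), by rw [blockE_inl, hp' q rfl]; rfl⟩
  · intro m m' hne g _ h _
    obtain ⟨g, rfl⟩ := (H40.BlockPres.reidx (F := F) e0).surjective g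
    obtain ⟨h, rfl⟩ := (H40.BlockPres.reidx (F := F) e0).surjective h
    fin_cases m <;> fin_cases m' <;> first
      | exact absurd rfl hne
      | exact h01 g h
      | exact h10 g h

theorem target_blk {c : SpecialLinearGroup ((Fin 1 ⊕ Fin 2) ⊕ Fin 1) F} (hc : Carry c) (g h : SL2) :
    Commute (emb (blk 0 g)) (c * emb (blk 1 h) * c⁻¹) :=
  target_block hc (by decide) _ _

/-- `SL₄` from relations on the block. -/
theorem four_of [Fintype F] {R : ℕ} (h3 : HasPresN (SpecialLinearGroup (Fin 3) F) 4 R)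
    (S : Set SL2) (hS : Subgroup.closure S = ⊤) (P : Finset (SL2 × SL2))
    (hP : ∀ {G : Type} [Group G] (ψ : SpecialLinearGroup (Fin 1 ⊕ Fin 2) F →* G) (a : G), Fix ψ a →
      (∀ p ∈ P, Commute (ψ (blk 0 p.1)) (a * ψ (blk 1 p.2) * a⁻¹)) →
      ∀ g ∈ S, ∀ h ∈ S, Commute (ψ (blk 0 g)) (a * ψ (blk 1 h) * a⁻¹)) :
    HasPresN (SpecialLinearGroup (Fin 4) F) 5 (R + (2 + P.card + 1)) := by
  classical
  obtain ⟨SM, hc, hSM⟩ := H40.SLShort.gens_of_two (F := F) (Equiv.refl (Fin 2)) H40.SpPres.two_gen_any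
  set D := P.image fun p => ((blk 0 p.1 : SpecialLinearGroup (Fin 1 ⊕ Fin 2) F),
    (blk 1 p.2 : SpecialLinearGroup (Fin 1 ⊕ Fin 2) F))
  have hD : D.card ≤ P.card := Finset.card_image_le
  refine (hasPresN_glue (T := Fin 1) (M := Fin 2)
    (h3.of_equiv (H40.BlockPres.reidx (finSumFinEquiv (m := 1) (n := 2))).symm)
    (fun m => exists_ne m) (H40.SLShort.sumE (N := 4) rfl) (by norm_num) SM hSM D ?_ ?_).mono
    (by omega)
  · intro c hc p hp
    obtain ⟨q, -, rfl⟩ := Finset.mem_image.1 hp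
    exact target_blk hc _ _
  · intro G _ ψ a hF hp
    exact disj_small hF S hS (hP ψ a hF fun p hp' => hp _ (Finset.mem_image_of_mem _ hp'))

/-- `SL₄` on five generators and eighteen relations. -/
theorem hasPresN_four_short [Fintype F] : HasPresN (SpecialLinearGroup (Fin 4) F) 5 18 := by
  classical
  obtain ⟨rels, h12, h11, he⟩ := H40.SL3.exists_pres_short (F := F)
  have h3 : HasPresN (SpecialLinearGroup (Fin 3) F) 4 rels.card := ⟨rels, le_rfl, he⟩
  obtain ⟨ζ, hgen⟩ := IsCyclic.exists_generator (α := Fˣ)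
  have hgen' : ∀ u : Fˣ, u ∈ Subgroup.zpowers ζ⁻¹ := fun u => by
    rw [Subgroup.zpowers_inv]; exact hgen u
  have hord : orderOf ζ = Fintype.card F - 1 := by
    rw [orderOf_eq_card_of_forall_mem_zpowers hgen, Nat.card_eq_fintype_card, Fintype.card_units]
  have h1F := Fintype.one_lt_card (α := F)
  rcases (show Fintype.card F = 2 ∨ Fintype.card F = 3 ∨ 4 ≤ Fintype.card F by omega) with hq | hq | hq
  · haveI : CharP F 2 := by
      haveI : Fact (Nat.Prime 2) := ⟨Nat.prime_two⟩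
      exact charP_of_card_eq_prime_pow (f := 1) (by simpa using hq)
    obtain ⟨x, y, hxy⟩ := H40.SpPres.two_gen_any (F := F)
    refine (four_of h3 {x, y} hxy {(x, x), (x, y), (y, x), (y, y)} ?_).mono ?_
    · intro G _ ψ a _ hp g hg h hh
      refine hp (g, h) ?_
      rcases hg with rfl | rfl <;> rcases hh with rfl | rfl <;> simp
    · have h4 := Finset.card_le_four (a := (x, x)) (b := (x, y)) (c := (y, x)) (d := (y, y))
      have := h11 inferInstance
      omega
  all_goals
    have hξ : (ζ : F) ≠ 1 := by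
      intro h
      have := orderOf_eq_one_iff.2 (Units.ext (h.trans Units.val_one.symm) : ζ = 1)
      omega
    have hξ' : ((ζ⁻¹ : Fˣ) : F) ≠ 1 := by
      rw [Units.val_inv_eq_inv_val]; exact fun h => hξ (inv_eq_one.1 h)
  · have hsq : ζ⁻¹ = ζ := inv_eq_of_mul_eq_one_right (by rw [← pow_two, ← show orderOf ζ = 2 by omega, pow_orderOf_eq_one])
    have hmul : ζ * ζ = 1 := by
      calc ζ * ζ = ζ⁻¹ * ζ := by rw [hsq]
        _ = 1 := inv_mul_cancel ζ
    refine (four_of h3 {bb, delta ζ bb} ?_ {(bb, bb), (bb, delta ζ bb)} ?_).mono ?_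
    · refine eq_top_of_stable hgen hξ _ (Subgroup.subset_closure (Or.inl rfl)) fun g hg => ?_
      have hle : Subgroup.closure {(bb : SL2), delta ζ bb} ≤
          (Subgroup.closure {(bb : SL2), delta ζ bb}).comap (delta ζ) := by
        rw [Subgroup.closure_le]
        rintro g (rfl | rfl)
        · exact Subgroup.subset_closure (Or.inr rfl)
        · show delta ζ (delta ζ bb) ∈ Subgroup.closure {(bb : SL2), delta ζ bb}
          rw [delta_delta, hmul, delta_one]
          exact Subgroup.subset_closure (Or.inl rfl)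
      exact hle hg
    · intro G _ ψ a hF hp g hg h hh
      have p1 := hp (bb, bb) (by simp)
      have p2 := hp (bb, delta ζ bb) (by simp)
      have p3 := move_torus hF ζ p1
      have p4 := move_torus hF ζ p2
      rw [hsq] at p3 p4
      rw [delta_delta, hmul, delta_one] at p4
      rcases hg with rfl | rfl <;> rcases hh with rfl | rfl <;> assumption
    · have h2 := Finset.card_le_two (a := ((bb : SL2), (bb : SL2))) (b := ((bb : SL2), delta ζ bb))
      omega
  · refine (four_of h3 {hS ζ, bb} ?_ {(bb, bb), (bb, hS ζ), (hS ζ, bb)} ?_).mono ?_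
    · set H := Subgroup.closure {hS ζ, (bb : SL2)}
      have hh : hS ζ ∈ H := Subgroup.subset_closure (Or.inl rfl)
      have hb : (bb : SL2) ∈ H := Subgroup.subset_closure (Or.inr rfl)
      set b := xS (.ofAdd (1 : F)) * tS
      have hc : (ζ : F) ^ 2 - 1 ≠ 0 := by
        intro e
        have h2 : orderOf ζ ∣ 2 :=
          orderOf_dvd_of_pow_eq_one (Units.ext (by simpa [sub_eq_zero] using e))
        have := Nat.le_of_dvd (by norm_num) h2
        omega
      have hx : xS (.ofAdd ((ζ : F) ^ 2 - 1)) ∈ H := by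
        have e : hS ζ * (bb * hS ζ * bb⁻¹) = xS (.ofAdd ((ζ : F) ^ 2 - 1)) := by
          have e1 : bb * hS ζ * bb⁻¹ = xS (.ofAdd (1 : F)) * (hS ζ)⁻¹ * (xS (.ofAdd (1 : F)))⁻¹ := by
            rw [← H40.CRW.tS_hS ζ]; simp only [bb]; group
          calc hS ζ * (bb * hS ζ * bb⁻¹) =
                (hS ζ * xS (.ofAdd (1 : F)) * (hS ζ)⁻¹) * (xS (.ofAdd (1 : F)))⁻¹ := by
                rw [e1]; group
            _ = _ := by
                rw [H40.CRW.hS_xS, mul_one, ← map_inv, ← map_mul, ← ofAdd_neg, ← ofAdd_add,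
                  ← sub_eq_add_neg]
        exact e ▸ mul_mem hh (mul_mem (mul_mem hb hh) (inv_mem hb))
      have hall := H40.PSLPres.root_all hgen hh hc hx
      refine H40.PSLPres.eq_top_of_root hall ?_
      rw [show (tS : SL2) = (xS (.ofAdd (1 : F)))⁻¹ * bb by simp [bb]]
      exact mul_mem (inv_mem (hall 1)) hb
    · intro G _ ψ a hF hp g hg h hh
      have p1 := hp (bb, bb) (by simp)
      have p2 := hp (bb, hS ζ) (by simp)
      have p3 := hp (hS ζ, bb) (by simp)
      have p4 : Commute (ψ (blk 0 (hS ζ))) (a * ψ (blk 1 (hS ζ)) * a⁻¹) := by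
        set H : Subgroup SL2 :=
          (Subgroup.centralizer {a * ψ (blk 1 (hS ζ)) * a⁻¹}).comap (ψ.comp (blk 0)) with hH
        have hHtop : H = ⊤ := by
          refine eq_top_of_stable hgen hξ H (Subgroup.mem_centralizer_singleton_iff.2 p2.eq) fun g hg => ?_
          have hg' : Commute (ψ (blk 0 g)) (a * ψ (blk 1 (hS ζ)) * a⁻¹) :=
            Subgroup.mem_centralizer_singleton_iff.1 hg
          have := move_torus hF ζ hg'
          rw [delta_hS] at this
          exact Subgroup.mem_centralizer_singleton_iff.2 this.eq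
        exact Subgroup.mem_centralizer_singleton_iff.1
          (show hS ζ ∈ H by rw [hHtop]; exact Subgroup.mem_top _)
      rcases hg with rfl | rfl <;> rcases hh with rfl | rfl <;> assumption
    · have h3' := Finset.card_le_three (a := ((bb : SL2), (bb : SL2))) (b := ((bb : SL2), hS ζ))
        (c := (hS ζ, (bb : SL2)))
      omega

end H40.GlueSmall
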