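import Mathlib

/-!
# The Möbius function of the lattice of submodules of a semisimple `F[X]`-module.
-/

set_option autoImplicit false

namespace H40

open Polynomial UniqueFactorizationMonoid

section Lattice

variable {α : Type*} [Lattice α] [OrderBot α] [Finite α]

open scoped Classical in
/-- The Möbius function `μ(⊥, w)`. -/
noncomputable def moebBot : α → ℤ :=
  IsWellFounded.fix (α := α) (· < ·) fun w rec =>
    if w = ⊥ then 1
    else -∑ u ∈ (Set.toFinite (Set.Iio w)).toFinset.attach, rec u.1 ((Set.Finite.mem_toFinset (Set.toFinite (Set.Iio w))).1 u.2)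

theorem sum_Iic_moebBot (w : α) [Decidable (w = ⊥)] :
    ∑ u ∈ (Set.toFinite (Set.Iic w)).toFinset, moebBot u = if w = ⊥ then 1 else 0 := by
  classical
  have e : (Set.toFinite (Set.Iic w)).toFinset = insert w (Set.toFinite (Set.Iio w)).toFinset := by
    ext u; simp [le_iff_lt_or_eq, or_comm]
  rw [e, Finset.sum_insert (by simp)]
  conv_lhs => arg 1; rw [moebBot, IsWellFounded.fix_eq, ← moebBot]
  rw [Finset.sum_attach (Set.toFinite (Set.Iio w)).toFinset (fun u => moebBot u)]
  split_ifs with h
  · rw [Finset.sum_eq_zero, add_zero]
    intro u hu; simp [h] at hu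
  · exact neg_add_cancel _

/-- Weisner's theorem. -/
theorem sum_sup_eq_moebBot {a : α} (ha : a ≠ ⊥) (w : α) (haw : a ≤ w) :
    ∑ h ∈ (Set.toFinite {h : α | h ⊔ a = w}).toFinset, moebBot h = 0 := by
  classical
  induction w using (wellFounded_lt (α := α)).induction with
  | h w ih =>
    have hw : w ≠ ⊥ := fun e => ha (le_bot_iff.1 (e ▸ haw))
    have h1 := sum_Iic_moebBot w
    rw [if_neg hw, ← Finset.sum_fiberwise_of_maps_to (g := fun h => h ⊔ a)
      (t := (Set.toFinite (Set.Icc a w)).toFinset) (by intro h hh; simp at hh ⊢; exact ⟨hh, haw⟩)] at h1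
    have key : ∀ z ∈ (Set.toFinite (Set.Icc a w)).toFinset,
        (Set.toFinite (Set.Iic w)).toFinset.filter (fun h => h ⊔ a = z) =
          (Set.toFinite {h : α | h ⊔ a = z}).toFinset := by
      intro z hz
      simp at hz
      ext h
      simp only [Finset.mem_filter, Set.Finite.mem_toFinset, Set.mem_Iic, Set.mem_ofPred_eq,
        and_iff_right_iff_imp]
      rintro rfl
      exact le_sup_left.trans hz.2
    rw [Finset.sum_congr rfl (fun z hz => by rw [key z hz]), Finset.sum_eq_single w] at h1
    · exact h1
    · intro z hz hne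
      simp at hz
      exact ih z (lt_of_le_of_ne hz.2 hne) hz.1
    · intro hnot; simp [haw] at hnot

end Lattice

variable {F : Type*} [Field F] {M : Type*} [AddCommGroup M] [Module F[X] M] [Module F M]
  [IsScalarTower F F[X] M]

/-- Multiplication by `X` on a submodule. -/
noncomputable def xMap (F : Type*) [Field F] (N : Type*) [AddCommGroup N] [Module F[X] N] [Module F N]
    [IsScalarTower F F[X] N] : Module.End F N :=
  Algebra.lsmul F F N (X : F[X])

theorem xMap_apply (N : Type*) [AddCommGroup N] [Module F[X] N] [Module F N] [IsScalarTower F F[X] N]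
    (v : N) : xMap F N v = (X : F[X]) • v := rfl

theorem aeval_xMap (N : Type*) [AddCommGroup N] [Module F[X] N] [Module F N] [IsScalarTower F F[X] N]
    (p : F[X]) (v : N) : aeval (xMap F N) p v = p • v := by
  rw [xMap, Polynomial.aeval_algHom_apply, aeval_X_left_apply]
  rfl

theorem charpoly_xMap_congr {N N' : Type*} [AddCommGroup N] [Module F[X] N] [Module F N]
    [IsScalarTower F F[X] N] [AddCommGroup N'] [Module F[X] N'] [Module F N'] [IsScalarTower F F[X] N']
    [Module.Finite F N] [Module.Finite F N'] (e : N ≃ₗ[F[X]] N') :
    (xMap F N').charpoly = (xMap F N).charpoly := by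
  rw [← LinearEquiv.charpoly_conj (e.restrictScalars F) (xMap F N)]
  congr 1
  ext v
  simp [LinearEquiv.conj_apply, xMap_apply]

theorem charpoly_xMap_prod {N N' : Type*} [AddCommGroup N] [Module F[X] N] [Module F N]
    [IsScalarTower F F[X] N] [AddCommGroup N'] [Module F[X] N'] [Module F N'] [IsScalarTower F F[X] N']
    [Module.Finite F N] [Module.Finite F N'] :
    (xMap F (N × N')).charpoly = (xMap F N).charpoly * (xMap F N').charpoly := by
  rw [← LinearMap.charpoly_prodMap]
  congr 1

/-- The factors of the characteristic polynomial of `X` on `N`. -/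
noncomputable def facs (F : Type*) [Field F] (N : Type*) [AddCommGroup N] [Module F[X] N] [Module F N]
    [IsScalarTower F F[X] N] [Module.Finite F N] : Multiset F[X] := by
  classical exact normalizedFactors (xMap F N).charpoly

open scoped Classical in
/-- The predicted value of the Möbius function. -/
noncomputable def facValue (q : ℕ) (s : Multiset F[X]) : ℤ :=
  ∏ f ∈ s.toFinset, (-1 : ℤ) ^ s.count f * (q : ℤ) ^ (f.natDegree * (s.count f).choose 2)

open scoped Classical in
theorem facValue_cons (q : ℕ) (s : Multiset F[X]) (f : F[X]) :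
    facValue q (f ::ₘ s) = -((q : ℤ) ^ (f.natDegree * s.count f)) * facValue q s := by
  have e : ∀ (t : Multiset F[X]) (S : Finset F[X]), t.toFinset ⊆ S → facValue q t =
      ∏ g ∈ S, (-1 : ℤ) ^ t.count g * (q : ℤ) ^ (g.natDegree * (t.count g).choose 2) := by
    intro t S hS
    refine Finset.prod_subset hS fun g _ hg => ?_
    rw [Multiset.count_eq_zero.2 fun h => hg (Multiset.mem_toFinset.2 h)]
    simp
  rw [e (f ::ₘ s) (insert f s.toFinset) (by simp), e s (insert f s.toFinset) (Finset.subset_insert _ _),
    ← Finset.mul_prod_erase _ _ (Finset.mem_insert_self f s.toFinset),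
    ← Finset.mul_prod_erase _ _ (Finset.mem_insert_self f s.toFinset),
    Finset.prod_congr rfl (fun g hg => by rw [Multiset.count_cons_of_ne (Finset.ne_of_mem_erase hg)]),
    Multiset.count_cons_self, Nat.choose_succ_succ', Nat.choose_one_right, mul_add, pow_add, pow_succ]
  ring

variable [Fintype F] [Finite M]

omit [Fintype F] in
theorem exists_irreducible_of_simple {A : Submodule F[X] M} [IsSimpleModule F[X] A] :
    ∃ f : F[X], f.Monic ∧ Irreducible f ∧ (∀ a : A, f • a = 0) ∧ Module.finrank F A = f.natDegree ∧
      (xMap F A).charpoly = f := by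
  have hmin := minpoly.monic (Algebra.IsIntegral.isIntegral (R := F) (xMap F A))
  obtain ⟨f, hfm, hfi, hfd⟩ : ∃ f : F[X], f.Monic ∧ Irreducible f ∧ ∀ a : A, f • a = 0 := by
    obtain ⟨m, hm, ⟨e⟩⟩ := (isSimpleModule_iff_quot_maximal (R := F[X]) (M := A)).1 inferInstance
    obtain ⟨g, rfl⟩ := IsPrincipalIdealRing.principal m
    have hg0 : g ≠ 0 := by
      intro h
      refine Polynomial.not_isField F ?_
      rw [Ring.isField_iff_maximal_bot]
      · simpa [h] using hm
    have hirr : Irreducible g := ((Ideal.span_singleton_prime hg0).1 hm.isPrime).irreducible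
    classical
    refine ⟨normalize g, Polynomial.monic_normalize hg0, (normalize_associated g).symm.irreducible hirr, fun a => ?_⟩
    apply e.injective
    rw [map_smul, map_zero]
    obtain ⟨r, hr⟩ := Submodule.Quotient.mk_surjective _ (e a)
    rw [← hr, ← Submodule.Quotient.mk_smul, Submodule.Quotient.mk_eq_zero, smul_eq_mul]
    exact Ideal.mem_span_singleton.2 ((normalize_associated g).symm.dvd.mul_right r)
  have hA : Nontrivial A := IsSimpleModule.nontrivial F[X] A
  have hmp : minpoly F (xMap F A) = f := by
    refine (minpoly.eq_of_irreducible_of_monic hfi ?_ hfm).symm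
    exact LinearMap.ext fun a => by rw [aeval_xMap]; exact hfd a
  obtain ⟨v, hv⟩ := exists_ne (0 : A)
  have hsurj := IsSimpleModule.toSpanSingleton_surjective F[X] hv
  have hle : Module.finrank F A ≤ f.natDegree := by
    have hker : Ideal.span {f} ≤ LinearMap.ker (LinearMap.toSpanSingleton F[X] A v) := by
      rw [Ideal.span_singleton_le_iff_mem, LinearMap.mem_ker, LinearMap.toSpanSingleton_apply]
      exact hfd v
    let ψ : (F[X] ⧸ Ideal.span {f}) →ₗ[F[X]] A := Submodule.liftQ _ (LinearMap.toSpanSingleton F[X] A v) hker
    have hψ : Function.Surjective (ψ.restrictScalars F) := fun a => by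
      obtain ⟨r, hr⟩ := hsurj a
      exact ⟨Submodule.Quotient.mk r, hr⟩
    have : Module.Finite F (F[X] ⧸ Ideal.span {f}) := (AdjoinRoot.powerBasis hfm.ne_zero).finite
    have := LinearMap.finrank_le_finrank_of_surjective hψ
    have e : Module.finrank F (F[X] ⧸ Ideal.span {f}) = f.natDegree :=
      ((AdjoinRoot.powerBasis hfm.ne_zero).finrank).trans (AdjoinRoot.powerBasis_dim _)
    rwa [e] at this
  have hdvd := LinearMap.minpoly_dvd_charpoly (xMap F A)
  rw [hmp] at hdvd
  have hdeg := Polynomial.natDegree_le_of_dvd hdvd (LinearMap.charpoly_monic _).ne_zero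
  rw [LinearMap.charpoly_natDegree] at hdeg
  refine ⟨f, hfm, hfi, hfd, le_antisymm hle hdeg, ?_⟩
  exact (Polynomial.eq_of_monic_of_dvd_of_natDegree_le hfm (LinearMap.charpoly_monic _) hdvd
    (by rw [LinearMap.charpoly_natDegree]; exact hle))

theorem card_hom_simple {A B : Submodule F[X] M} [IsSimpleModule F[X] A] [IsSimpleModule F[X] B]
    {f g : F[X]} (hfm : f.Monic) (hf : Irreducible f) (hfA : ∀ a : A, f • a = 0) (hgm : g.Monic)
    (hg : Irreducible g) (hgB : ∀ b : B, g • b = 0) (hcA : Module.finrank F A = f.natDegree) [Decidable (f = g)] :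
    Nat.card (B →ₗ[F[X]] A) = if f = g then Fintype.card F ^ f.natDegree else 1 := by
  split_ifs with h
  · subst h
    have hB : Nontrivial B := IsSimpleModule.nontrivial F[X] B
    obtain ⟨v, hv⟩ := exists_ne (0 : B)
    have hsurj := IsSimpleModule.toSpanSingleton_surjective F[X] hv
    have hker : Ideal.span {f} ≤ LinearMap.ker (LinearMap.toSpanSingleton F[X] B v) := by
      rw [Ideal.span_singleton_le_iff_mem, LinearMap.mem_ker, LinearMap.toSpanSingleton_apply]
      exact hgB v
    have heq : Ideal.span {f} = LinearMap.ker (LinearMap.toSpanSingleton F[X] B v) :=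
      (PrincipalIdealRing.isMaximal_of_irreducible hf).eq_of_le (fun htop => hv (by
        have h1 : (1 : F[X]) ∈ LinearMap.ker (LinearMap.toSpanSingleton F[X] B v) := by rw [htop]; trivial
        simpa using h1)) hker
    have hbij : Function.Bijective (fun φ : B →ₗ[F[X]] A => φ v) := by
      constructor
      · intro φ ψ hφψ
        refine LinearMap.ext fun b => ?_
        obtain ⟨r, rfl⟩ := hsurj b
        simp only [LinearMap.toSpanSingleton_apply, map_smul]
        exact congrArg (r • ·) hφψ
      · intro w
        refine ⟨(Submodule.liftQ (Ideal.span {f}) (LinearMap.toSpanSingleton F[X] A w) (by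
          rw [Ideal.span_singleton_le_iff_mem, LinearMap.mem_ker, LinearMap.toSpanSingleton_apply]
          exact hfA w)).comp ((Submodule.quotEquivOfEq _ _ heq).trans
            (LinearMap.quotKerEquivOfSurjective _ hsurj)).symm.toLinearMap, ?_⟩
        have : ((Submodule.quotEquivOfEq _ _ heq).trans
            (LinearMap.quotKerEquivOfSurjective _ hsurj)).symm v = Submodule.Quotient.mk 1 := by
          rw [LinearEquiv.symm_apply_eq, LinearEquiv.trans_apply, Submodule.quotEquivOfEq_mk,
            LinearMap.quotKerEquivOfSurjective_apply_mk, LinearMap.toSpanSingleton_apply, one_smul]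
        simp only [LinearMap.comp_apply, LinearEquiv.coe_coe]
        rw [this, Submodule.liftQ_apply, LinearMap.toSpanSingleton_apply, one_smul]
    rw [Nat.card_eq_of_bijective _ hbij, Module.natCard_eq_pow_finrank (K := F), hcA, Nat.card_eq_fintype_card]
  · have hcop : IsCoprime f g := hf.coprime_iff_not_dvd.2 fun hd => h (Polynomial.eq_of_monic_of_associated hfm hgm
      (hf.associated_of_dvd hg hd))
    obtain ⟨a, b, hab⟩ := hcop
    have : Subsingleton (B →ₗ[F[X]] A) := ⟨fun φ ψ => by
      refine LinearMap.ext fun v => ?_
      have key : ∀ χ : B →ₗ[F[X]] A, χ v = 0 := fun χ => by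
        rw [← one_smul F[X] (χ v), ← hab, add_smul, mul_smul, mul_smul, hfA, smul_zero, zero_add,
          ← map_smul χ, hgB, map_zero, smul_zero]
      rw [key φ, key ψ]⟩
    exact Nat.card_unique

omit [Fintype F] in
/-- Complements of a submodule inside `W` correspond to homomorphisms from one complement. -/
theorem card_isCompl {N : Type*} [AddCommGroup N] [Module F[X] N] {A H : Submodule F[X] N} (h : IsCompl A H) :
    Nat.card {q : Submodule F[X] N // IsCompl A q} = Nat.card (H →ₗ[F[X]] A) := by
  rw [Nat.card_congr A.isComplEquivProj]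
  refine Nat.card_congr
    { toFun := fun f => f.1.comp H.subtype
      invFun := fun φ => ⟨LinearMap.ofIsCompl h LinearMap.id φ, fun x => LinearMap.ofIsCompl_apply_left h x⟩
      left_inv := fun f => Subtype.ext (LinearMap.ofIsCompl_eq h (fun u => (f.2 u).symm) (fun u => rfl))
      right_inv := fun φ => LinearMap.ext fun u => LinearMap.ofIsCompl_apply_right h u }

open scoped Classical in
/-- The Möbius function of a semisimple `F[X]`-module and the homomorphism counts into simple submodules. -/
theorem moebBot_eq_facValue [IsSemisimpleModule F[X] M] (W : Submodule F[X] M) :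
    moebBot W = facValue (Fintype.card F) (facs F W) ∧
      ∀ A : Submodule F[X] M, IsAtom A → ∀ f : F[X], f.Monic → Irreducible f → (∀ a : A, f • a = 0) →
        Nat.card (W →ₗ[F[X]] A) = Fintype.card F ^ (f.natDegree * (facs F W).count f) := by
  induction W using (wellFounded_lt (α := Submodule F[X] M)).induction with
  | h W ih =>
    by_cases hW : W = ⊥
    · subst hW
      have h1 : (xMap F (⊥ : Submodule F[X] M)).charpoly = 1 := by
        refine (LinearMap.charpoly_monic _).natDegree_eq_zero.1 ?_
        rw [LinearMap.charpoly_natDegree, Module.finrank_zero_of_subsingleton]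
      have h2 : facs F (⊥ : Submodule F[X] M) = 0 := by rw [facs, h1, normalizedFactors_one]
      refine ⟨?_, fun A _ f _ _ _ => ?_⟩
      · rw [h2, moebBot, IsWellFounded.fix_eq, if_pos rfl]; simp [facValue]
      · rw [h2, Multiset.count_zero, mul_zero, pow_zero, Nat.card_unique]
    obtain ⟨A, hA, hAW⟩ := (eq_bot_or_exists_atom_le W).resolve_left hW
    have : IsSimpleModule F[X] A := isSimpleModule_iff_isAtom.2 hA
    obtain ⟨f, hfm, hfi, hfA, hdim, hcp⟩ := exists_irreducible_of_simple (F := F) (A := A)
    -- submodules of `W`
    let e := Submodule.mapIic W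
    set A' : Submodule F[X] W := A.comap W.subtype
    obtain ⟨H₀, hH₀⟩ := exists_isCompl A'
    have hA'map : A'.map W.subtype = A := by
      rw [Submodule.map_comap_subtype]; exact inf_eq_right.2 hAW
    have hcompl : ∀ q : Submodule F[X] W, IsCompl A' q ↔
        A ⊓ q.map W.subtype = ⊥ ∧ A ⊔ q.map W.subtype = W := by
      intro q
      rw [isCompl_iff, disjoint_iff, codisjoint_iff]
      constructor
      · rintro ⟨h1, h2⟩
        rw [← hA'map, ← Submodule.map_inf W.subtype W.subtype_injective, h1, Submodule.map_bot,
          ← Submodule.map_sup, h2, Submodule.map_subtype_top]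
        exact ⟨rfl, rfl⟩
      · rintro ⟨h1, h2⟩
        constructor
        · apply Submodule.map_injective_of_injective W.subtype_injective
          rw [Submodule.map_inf W.subtype W.subtype_injective, hA'map, h1, Submodule.map_bot]
        · apply Submodule.map_injective_of_injective W.subtype_injective
          rw [Submodule.map_sup, hA'map, h2, Submodule.map_subtype_top]
    -- data of a complement
    have hdata : ∀ q : Submodule F[X] W, IsCompl A' q → q.map W.subtype < W ∧
        facs F W = f ::ₘ facs F (q.map W.subtype) := by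
      intro q hq
      obtain ⟨h1, h2⟩ := (hcompl q).1 hq
      have hlt : q.map W.subtype < W := lt_of_le_of_ne (Submodule.map_subtype_le _ _) fun he => by
        rw [he, inf_eq_left.2 hAW] at h1; exact hA.1 h1
      refine ⟨hlt, ?_⟩
      have E : (A × (q.map W.subtype : Submodule F[X] M)) ≃ₗ[F[X]] W :=
        (((LinearEquiv.ofEq _ _ hA'map.symm).trans (Submodule.equivMapOfInjective _ W.subtype_injective A').symm).prodCongr
          (Submodule.equivMapOfInjective _ W.subtype_injective q).symm).trans
          (Submodule.prodEquivOfIsCompl A' q hq)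
      rw [facs, facs, charpoly_xMap_congr E, charpoly_xMap_prod, hcp,
        normalizedFactors_mul hfm.ne_zero (LinearMap.charpoly_monic _).ne_zero,
        normalizedFactors_irreducible hfi, hfm.normalize_eq_self]
      rfl
    obtain ⟨hlt0, hfac0⟩ := hdata H₀ hH₀
    set H := H₀.map W.subtype with hH
    have hcardH : ∀ B : Submodule F[X] M, Nat.card (H₀ →ₗ[F[X]] B) = Nat.card (H →ₗ[F[X]] B) := fun B =>
      Nat.card_congr
        { toFun := fun φ => φ.comp (Submodule.equivMapOfInjective _ W.subtype_injective H₀).symm.toLinearMap
          invFun := fun φ => φ.comp (Submodule.equivMapOfInjective _ W.subtype_injective H₀).toLinearMap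
          left_inv := fun φ => LinearMap.ext fun x => by simp
          right_inv := fun φ => LinearMap.ext fun x => by simp }
    refine ⟨?_, fun B hB g hgm hgi hgB => ?_⟩
    · -- Weisner
      have hsum := sum_sup_eq_moebBot (a := A) hA.1 W hAW
      have hset : (Set.toFinite {h : Submodule F[X] M | h ⊔ A = W}).toFinset =
          insert W (((Set.toFinite {q : Submodule F[X] W | IsCompl A' q}).toFinset).map
            ⟨fun q => q.map W.subtype, Submodule.map_injective_of_injective W.subtype_injective⟩) := by
        ext h
        simp only [Set.Finite.mem_toFinset, Set.mem_ofPred_eq, Finset.mem_insert, Finset.mem_map,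
          Function.Embedding.coeFn_mk]
        constructor
        · intro hh
          have hle : h ≤ W := hh ▸ le_sup_left
          rcases hA.le_iff.1 (inf_le_left : A ⊓ h ≤ A) with h0 | h0
          · refine Or.inr ⟨h.comap W.subtype, ?_, by rw [Submodule.map_comap_subtype, inf_eq_right.2 hle]⟩
            rw [hcompl, Submodule.map_comap_subtype, inf_eq_right.2 hle]
            exact ⟨h0, by rw [sup_comm, hh]⟩
          · exact Or.inl (by rw [← hh, sup_eq_left.2 (inf_eq_left.1 h0)])
        · rintro (rfl | ⟨q, hq, rfl⟩)
          · exact sup_eq_left.2 hAW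
          · rw [sup_comm]; exact ((hcompl q).1 hq).2
      rw [hset, Finset.sum_insert, Finset.sum_map,
        Finset.sum_congr rfl (g := fun _ => facValue (Fintype.card F) (facs F H)), Finset.sum_const,
        ← Nat.card_eq_card_finite_toFinset,
        show Nat.card ↑{q : Submodule F[X] W | IsCompl A' q} = Nat.card {q : Submodule F[X] W // IsCompl A' q} from rfl,
        card_isCompl hH₀, nsmul_eq_mul] at hsum
      · have hA'' : Nat.card (H₀ →ₗ[F[X]] A') = Nat.card (H →ₗ[F[X]] A) :=
          (Nat.card_congr
          { toFun := fun φ => ((Submodule.comapSubtypeEquivOfLe hAW).toLinearMap).comp φ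
            invFun := fun φ => ((Submodule.comapSubtypeEquivOfLe hAW).symm.toLinearMap).comp φ
            left_inv := fun φ => LinearMap.ext fun x => by simp [A']
            right_inv := fun φ => LinearMap.ext fun x => by simp [A'] }).trans (hcardH A)
        rw [hfac0, facValue_cons, eq_neg_of_add_eq_zero_left hsum, neg_mul]
        have hnum : Nat.card (H →ₗ[F[X]] A) = Fintype.card F ^ (f.natDegree * (facs F H).count f) :=
          (ih H hlt0).2 A hA f hfm hfi hfA
        simp only [hnum, hA''] at *
        push_cast
        ring
      · intro q hq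
        simp only [Set.Finite.mem_toFinset, Set.mem_ofPred_eq] at hq
        obtain ⟨hlt, hfac⟩ := hdata q hq
        rw [hfac0, Multiset.cons_inj_right] at hfac
        show moebBot (q.map W.subtype) = _
        rw [(ih _ hlt).1, ← hfac]
      · simp only [Finset.mem_map, Set.Finite.mem_toFinset, Set.mem_ofPred_eq, Function.Embedding.coeFn_mk,
          not_exists, not_and]
        intro q hq he
        exact (hdata q hq).1.ne he
    · have : IsSimpleModule F[X] B := isSimpleModule_iff_isAtom.2 hB
      obtain ⟨g', hgm', hgi', hgB', hdimB, hcpB⟩ := exists_irreducible_of_simple (F := F) (A := B)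
      obtain rfl : g = g' := by
        by_contra hne
        obtain ⟨a, b, hab⟩ := hgi.coprime_iff_not_dvd.2 fun hd => hne
          (Polynomial.eq_of_monic_of_associated hgm hgm' (hgi.associated_of_dvd hgi' hd))
        have : Nontrivial B := IsSimpleModule.nontrivial F[X] B
        obtain ⟨v, hv⟩ := exists_ne (0 : B)
        apply hv
        rw [← one_smul F[X] v, ← hab, add_smul, mul_smul, mul_smul, hgB, hgB', smul_zero, smul_zero, add_zero]
      have E : (A × H) ≃ₗ[F[X]] W :=
        (((LinearEquiv.ofEq _ _ hA'map.symm).trans (Submodule.equivMapOfInjective _ W.subtype_injective A').symm).prodCongr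
          (Submodule.equivMapOfInjective _ W.subtype_injective H₀).symm).trans
          (Submodule.prodEquivOfIsCompl A' H₀ hH₀)
      have e1 : Nat.card (W →ₗ[F[X]] B) = Nat.card (A →ₗ[F[X]] B) * Nat.card (H →ₗ[F[X]] B) := by
        rw [← Nat.card_prod]
        exact Nat.card_congr
          { toFun := fun φ => (φ.comp (E.toLinearMap.comp (LinearMap.inl _ _ _)),
              φ.comp (E.toLinearMap.comp (LinearMap.inr _ _ _)))
            invFun := fun p => (LinearMap.coprod p.1 p.2).comp E.symm.toLinearMap
            left_inv := fun φ => LinearMap.ext fun x => by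
              simp only [LinearMap.comp_apply, LinearEquiv.coe_coe, LinearMap.coprod_apply]
              rw [← map_add φ, ← map_add E]
              simp
            right_inv := fun p => Prod.ext (LinearMap.ext fun x => by simp) (LinearMap.ext fun x => by simp) }
      rw [e1, card_hom_simple hgm hgi hgB hfm hfi hfA hdimB, (ih H hlt0).2 B hB g hgm hgi hgB, hfac0]
      split_ifs with h
      · subst h; rw [Multiset.count_cons_self, ← pow_add]; congr 1; ring
      · rw [Multiset.count_cons_of_ne h, one_mul]

end H40
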