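import Cfsg.Agent.H40.StarStep
import Cfsg.Agent.H13.AbelianDegree

/-!
# The smallest degree of a non-trivial irreducible representation of SL_n
-/

set_option autoImplicit false
set_option linter.unusedSectionVars false

open Matrix Module

namespace H40.MinDeg

universe v

variable {F : Type*} [Field F] [Fintype F] [DecidableEq F]
variable {V : Type v} [AddCommGroup V] [Module ℂ V] [FiniteDimensional ℂ V]

/-- the pairs `(n, q)` left out -/
def Exceptional (F : Type*) [Fintype F] (n : ℕ) : Prop :=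
  (n = 3 ∧ (Fintype.card F = 2 ∨ Fintype.card F = 4)) ∨
    (n = 4 ∧ (Fintype.card F = 2 ∨ Fintype.card F = 3))

omit [Field F] [DecidableEq F] in
theorem good_of_not_exceptional {l : ℕ} (h : ¬ Exceptional F (l + 2)) : Good F l := by
  unfold Exceptional at h
  push Not at h
  exact ⟨fun hl => h.1 (by omega), fun hl => h.2 (by omega)⟩

theorem mult₁_pos {m : ℕ} [NeZero m] (hm : 2 ≤ m)
    (ρ : Representation ℂ (SpecialLinearGroup (Fin (m + 1)) F) V) [ρ.IsIrreducible]
    (hd : 2 ≤ finrank ℂ V) : 1 ≤ mult₁ ρ := by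
  by_contra h0
  have h1 := eq_one_of_mult₁_eq_zero ρ hm (by omega)
  have : Nontrivial V := Module.nontrivial_of_finrank_pos (R := ℂ) (by omega)
  obtain ⟨v, hv⟩ := exists_ne (0 : V)
  have htop := H13.eq_top_of_irreducible ρ (Submodule.span ℂ {v})
    (fun g x hx => by rw [h1 g]; exact hx)
    (by simpa [Submodule.span_singleton_eq_bot] using hv)
  have h2 := finrank_span_singleton (K := ℂ) hv
  rw [htop, finrank_top] at h2
  omega

theorem irreducible_of_mult₁_eq_one {m : ℕ} [NeZero m] (hm : 2 ≤ m)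
    (σ : Representation ℂ (SpecialLinearGroup (Fin (m + 1)) F) V) (h1 : mult₁ σ = 1)
    (hno : ∀ v : V, (∀ g, σ g v = v) → v = 0) : σ.IsIrreducible := by
  classical
  have hd := finrank_eq σ (constOnTransl σ hm)
  have hq := Nat.one_lt_pow (n := m) (by omega) (Fintype.one_lt_card (α := F))
  rw [h1, mul_one] at hd
  have : Nontrivial V := Module.nontrivial_of_finrank_pos (R := ℂ) (by omega)
  by_contra hirr
  obtain ⟨a, b, hab, ha, hb⟩ := H12.exists_proper_decomp σ hirr
  have hsum := Submodule.finrank_add_eq_of_isCompl hab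
  have hchar := H12.character_eq_add_of_isCompl σ a b hab
  have h0 := mult_mul_card σ (constOnTransl σ hm) (Pi.single 0 1)
  have ha0 := mult_mul_card a.toRepresentation (constOnTransl _ hm) (Pi.single 0 1)
  have hb0 := mult_mul_card b.toRepresentation (constOnTransl _ hm) (Pi.single 0 1)
  rw [if_neg (by simp)] at h0 ha0 hb0
  have htv : tval σ = tval a.toRepresentation + tval b.toRepresentation := by
    simp only [tval, hchar, Pi.add_apply]
  have hadd : mult₁ σ = mult₁ a.toRepresentation + mult₁ b.toRepresentation := by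
    have : ((mult₁ σ : ℕ) : ℂ) =
        ((mult₁ a.toRepresentation + mult₁ b.toRepresentation : ℕ) : ℂ) := by
      apply mul_right_cancel₀ (card_pow_ne_zero (F := F) (m := m))
      push_cast
      unfold mult₁
      rw [add_mul, h0, ha0, hb0, htv, ← hsum]
      push_cast
      ring
    exact_mod_cast this
  have key : ∀ c : Subrepresentation σ, finrank ℂ c.toSubmodule ≠ 0 →
      mult₁ c.toRepresentation ≠ 0 := by
    intro c hc h
    have htriv := eq_one_of_mult₁_eq_zero c.toRepresentation hm h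
    have : c.toSubmodule = ⊥ := by
      refine (Submodule.eq_bot_iff _).2 fun v hv => hno v fun g => ?_
      exact congrArg Subtype.val (LinearMap.congr_fun (htriv g) ⟨v, hv⟩)
    exact hc (by rw [this, finrank_bot])
  have := key a (by omega)
  have := key b (by omega)
  omega

/-- integrality of the central character at a transvection -/
theorem degree_dvd {m : ℕ} [NeZero m] (hm : 2 ≤ m)
    (ρ : Representation ℂ (SpecialLinearGroup (Fin (m + 1)) F) V) [ρ.IsIrreducible]
    (h1 : mult₁ ρ = 1) (hc : 1 ≤ cdim ρ) :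
    ∃ N : ℕ, (Fintype.card F - 1) * N =
        (Fintype.card F ^ (m + 1) - 1) * (Fintype.card F ^ m - 1) ∧
      cdim ρ + (Fintype.card F ^ m - 1) ∣ N * (cdim ρ - 1) := by
  have hconst := constOnTransl ρ hm
  have hd := finrank_eq ρ hconst
  rw [h1, mul_one] at hd
  refine ⟨(Subgroup.centralizer ({translSL (Pi.single 0 1)} :
    Set (SpecialLinearGroup (Fin (m + 1)) F))).index, ?_, ?_⟩
  · rw [translSL_eq_tvec]
    exact card_class_tvec (n := m + 1) (by omega) _ (fun h => by simpa using congrFun h 0)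
      (cons_ne_zero (by simp))
  · have h := H12.isIntegral_classSize_mul_char_div ρ (translSL (Pi.single (0 : Fin m) (1 : F)))
    rw [show ρ.character (translSL (Pi.single 0 1)) = tval ρ from rfl, tval_eq ρ hconst, h1,
      hd, ← Nat.cast_sub hc, ← Nat.cast_mul] at h
    exact H12.nat_dvd_of_isIntegral_div (by omega) h

/-- a vector fixed by the translations and the Levi complement gives the bound -/
theorem bound_of_fixed {m : ℕ} [NeZero m] (hm : 2 ≤ m)
    (ρ : Representation ℂ (SpecialLinearGroup (Fin (m + 1)) F) V) [ρ.IsIrreducible]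
    (hd : 2 ≤ finrank ℂ V) {v : V} (hv : v ≠ 0) (hvC : proj ρ 0 v = v)
    (hvL : ∀ A, ρ (leviSL A) v = v) :
    Fintype.card F ^ (m + 1) - Fintype.card F ≤ (Fintype.card F - 1) * finrank ℂ V := by
  have hq := Fintype.one_lt_card (α := F)
  have h := degree_of_stab_fixed hm ρ hd hv fun g hg => ?_
  · rcases h with h | h <;> omega
  set M : Matrix (Fin (m + 1)) (Fin (m + 1)) F := (g : Matrix (Fin (m + 1)) (Fin (m + 1)) F) with hM
  have hcol : ∀ i, M i 0 = (Fin.cons 1 0 : Fin (m + 1) → F) i := fun i => by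
    have := congrFun hg i
    simpa [mulVec, dotProduct, Fin.sum_univ_succ] using this
  have hdet : (M.submatrix Fin.succ Fin.succ).det = 1 := by
    have h1 : M.det = 1 := g.2
    rw [det_succ_column_zero, Fin.sum_univ_succ] at h1
    simp only [hcol, Fin.cons_zero, Fin.cons_succ, Pi.zero_apply, mul_zero, zero_mul,
      Finset.sum_const_zero, add_zero, Fin.val_zero, pow_zero, one_mul, Fin.succAbove_zero] at h1
    exact h1
  let A : SpecialLinearGroup (Fin m) F := ⟨M.submatrix Fin.succ Fin.succ, hdet⟩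
  have hgA : g = leviSL A * translSL (fun j => M 0 j.succ) := by
    apply Subtype.ext
    show M = levi (M.submatrix Fin.succ Fin.succ) * transl _
    ext i j
    refine Fin.cases ?_ (fun i => ?_) i <;> refine Fin.cases ?_ (fun j => ?_) j <;>
      simp [levi, transl, Matrix.mul_apply, Fin.sum_univ_succ, hcol, Matrix.one_apply]
  rw [hgA, map_mul, Module.End.mul_apply]
  conv_lhs => rw [← hvC]
  rw [← Module.End.mul_apply (ρ (translSL fun j => M 0 j.succ)), transl_mul_proj, dotProduct_zero,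
    AddChar.map_zero_eq_one, one_smul, hvC, hvL]

section arith

theorem arith_five {q : ℕ} (hq : 2 ≤ q) {l : ℕ} (hl : 3 ≤ l) (M : ℤ)
    (hM : M ∣ 2 * ((q : ℤ) - 1) ^ 3 * (2 * q - 1)) (hMq : M = (q : ℤ) ^ (l + 2) - 2 * q + 1) :
    False := by
  have h2 : (2 : ℤ) ≤ q := by exact_mod_cast hq
  have hpow : (q : ℤ) ^ 5 ≤ (q : ℤ) ^ (l + 2) := pow_le_pow_right₀ (by omega) (by omega)
  have hpos : 0 < 2 * ((q : ℤ) - 1) ^ 3 * (2 * q - 1) := by
    have : 0 < (q : ℤ) - 1 := by omega
    have : 0 < 2 * (q : ℤ) - 1 := by omega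
    positivity
  have hle := Int.le_of_dvd hpos hM
  by_cases h4 : 4 ≤ q
  · have h4' : (4 : ℤ) ≤ q := by exact_mod_cast h4
    nlinarith [mul_le_mul_of_nonneg_left h4' (pow_nonneg (by omega : (0 : ℤ) ≤ q) 4),
      mul_nonneg (pow_nonneg (by omega : (0 : ℤ) ≤ q) 3) (by omega : (0 : ℤ) ≤ (q : ℤ) - 2),
      sq_nonneg ((q : ℤ) - 1), sq_nonneg (q : ℤ)]
  · rw [hMq] at hle
    interval_cases q <;> simp only [Nat.cast_ofNat] at hle hpow <;> norm_num at hle hpow <;> omega

theorem arith_four {q : ℕ} (hq : 4 ≤ q) (M : ℤ)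
    (hM : M ∣ 2 * ((q : ℤ) - 1) ^ 3 * (2 * q - 1)) (hMq : M = (q : ℤ) ^ 4 - 2 * q + 1) :
    False := by
  have hq' : (4 : ℤ) ≤ q := by exact_mod_cast hq
  have hfac : M = ((q : ℤ) - 1) * ((q : ℤ) ^ 3 + q ^ 2 + q - 1) := by rw [hMq]; ring
  rw [hfac, show (2 * ((q : ℤ) - 1) ^ 3 * (2 * q - 1)) =
    ((q : ℤ) - 1) * (2 * ((q : ℤ) - 1) ^ 2 * (2 * q - 1)) by ring] at hM
  have h2 := (mul_dvd_mul_iff_left (by omega : (q : ℤ) - 1 ≠ 0)).1 hM
  have h3 : (q : ℤ) ^ 3 + q ^ 2 + q - 1 ∣ 14 * (q : ℤ) ^ 2 - 4 * q - 2 := by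
    have h4 : 14 * (q : ℤ) ^ 2 - 4 * q - 2 = 4 * ((q : ℤ) ^ 3 + q ^ 2 + q - 1) -
        2 * ((q : ℤ) - 1) ^ 2 * (2 * q - 1) := by ring
    rw [h4]
    exact dvd_sub (dvd_mul_left _ _) h2
  by_cases h14 : 14 ≤ q
  · have h14' : (14 : ℤ) ≤ q := by exact_mod_cast h14
    have := Int.le_of_dvd (by nlinarith) h3
    nlinarith [mul_le_mul_of_nonneg_left h14' (sq_nonneg (q : ℤ))]
  · interval_cases q <;> norm_num at h3

/-- the degree `(q^m - q)/(q - 1)` of the Levi complement is impossible -/
theorem arith_top {q l c N : ℕ} (hq : 2 ≤ q) (hl : 2 ≤ l) (hl2 : l = 2 → 4 ≤ q)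
    (hc : (q - 1) * c = q ^ (l + 1) - q)
    (hN : (q - 1) * N = (q ^ (l + 2) - 1) * (q ^ (l + 1) - 1))
    (hdvd : c + (q ^ (l + 1) - 1) ∣ N * (c - 1)) : False := by
  have hc1 : 1 ≤ c := by
    have h1 : q < q ^ (l + 1) := by
      calc q = q ^ 1 := (pow_one q).symm
        _ < q ^ (l + 1) := Nat.pow_lt_pow_right hq (by omega)
    rcases Nat.eq_zero_or_pos c with h | h
    · subst h; omega
    · exact h
  zify [hc1, show 1 ≤ q by omega, Nat.one_le_pow (l + 1) q (by omega),
    Nat.one_le_pow (l + 2) q (by omega), Nat.le_self_pow (show l + 1 ≠ 0 by omega) q]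
    at hc hN hdvd
  obtain ⟨k, hk⟩ := hdvd
  have hdvd' : (q : ℤ) ^ (l + 2) - 2 * q + 1 ∣ 2 * ((q : ℤ) - 1) ^ 3 * (2 * q - 1) := by
    set X : ℤ := (q : ℤ) ^ (l + 1)
    have hX : (q : ℤ) ^ (l + 2) = q * X := by rw [pow_succ' (q : ℤ) (l + 1)]
    rw [hX] at hN ⊢
    have h1 : ((q : ℤ) - 1) * ((c : ℤ) + (X - 1)) = q * X - 2 * q + 1 := by linear_combination hc
    have h2 : (q : ℤ) ^ 2 * ((q * X - 1) * (X - 1) * (X - 2 * q + 1)) =
        ((q : ℤ) - 1) * q ^ 2 * k * (q * X - 2 * q + 1) := by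
      linear_combination -((q : ℤ) ^ 2 * (X - 2 * q + 1)) * hN -
        (q : ℤ) ^ 2 * ((q : ℤ) - 1) * N * hc + (q : ℤ) ^ 2 * ((q : ℤ) - 1) ^ 2 * hk +
        (q : ℤ) ^ 2 * ((q : ℤ) - 1) * k * h1
    refine ⟨(q * X - 2 * q + 1) ^ 2 + (q * X - 2 * q + 1) * ((2 * q - 2) + (q - 1) +
      (-2 * (q : ℤ) ^ 2 + 3 * q - 1)) + ((2 * q - 2) * (q - 1) + (2 * q - 2) *
      (-2 * (q : ℤ) ^ 2 + 3 * q - 1) + (q - 1) * (-2 * (q : ℤ) ^ 2 + 3 * q - 1)) -
      ((q : ℤ) - 1) * q ^ 2 * k, ?_⟩
    linear_combination -h2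
  rcases Nat.lt_or_ge l 3 with h | h
  · obtain rfl : l = 2 := by omega
    exact arith_four (hl2 rfl) _ hdvd' rfl
  · exact arith_five hq h _ hdvd' rfl

theorem arith_base {q c N : ℕ} (hq : 2 ≤ q) (h2 : q ≠ 2) (h4 : q ≠ 4) (h10 : q ≠ 10)
    (hc : c = q - 1 ∨ c = q) (hN : (q - 1) * N = (q ^ 3 - 1) * (q ^ 2 - 1))
    (hdvd : c + (q ^ 2 - 1) ∣ N * (c - 1)) : False := by
  have hq' : (3 : ℤ) ≤ q := by exact_mod_cast (by omega : 3 ≤ q)
  zify [show 1 ≤ c by omega, show 1 ≤ q by omega, Nat.one_le_pow 3 q (by omega),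
    Nat.one_le_pow 2 q (by omega)] at hN hdvd
  have hN' : (N : ℤ) = ((q : ℤ) ^ 2 + q + 1) * (q ^ 2 - 1) := by
    apply mul_left_cancel₀ (show (q : ℤ) - 1 ≠ 0 by omega)
    linear_combination hN
  rw [hN'] at hdvd
  rcases hc with hc' | hc' <;> subst c
  · push_cast [show 1 ≤ q by omega] at hdvd
    rw [show (q : ℤ) - 1 + ((q : ℤ) ^ 2 - 1) = ((q : ℤ) - 1) * (q + 2) by ring,
      show ((q : ℤ) ^ 2 + q + 1) * (q ^ 2 - 1) * ((q : ℤ) - 1 - 1) =
        ((q : ℤ) - 1) * ((q + 2) * (q ^ 3 - 2 * q ^ 2 + 2 * q - 7) + 12) by ring] at hdvd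
    have h := (mul_dvd_mul_iff_left (by omega : (q : ℤ) - 1 ≠ 0)).1 hdvd
    have h12 : (q : ℤ) + 2 ∣ 12 := (dvd_add_right (dvd_mul_right _ _)).1 h
    have h12' : (q + 2) ∣ 12 := by exact_mod_cast h12
    have := Nat.le_of_dvd (by norm_num) h12'
    have : q ≤ 10 := by omega
    interval_cases q <;> omega
  · rw [show ((q : ℤ) ^ 2 + q + 1) * (q ^ 2 - 1) * ((q : ℤ) - 1) =
      ((q : ℤ) + (q ^ 2 - 1)) * ((q + (q ^ 2 - 1) + 2 - q) * (q - 1) - 2) + (4 * q - 2) by ring]
      at hdvd
    have h := Int.le_of_dvd (by omega) ((dvd_add_right (dvd_mul_right _ _)).1 hdvd)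
    nlinarith

end arith

/-- the smallest non-trivial degree of `SL_{l+2}` -/
theorem min_degree : ∀ (l : ℕ), 1 ≤ l → ¬ Exceptional F (l + 2) →
    ∀ (V : Type v) [AddCommGroup V] [Module ℂ V] [FiniteDimensional ℂ V]
      (ρ : Representation ℂ (SpecialLinearGroup (Fin (l + 1 + 1)) F) V) [ρ.IsIrreducible],
      2 ≤ finrank ℂ V →
      Fintype.card F ^ (l + 2) - Fintype.card F ≤ (Fintype.card F - 1) * finrank ℂ V := by
  intro l
  induction l with
  | zero => intro h; omega
  | succ l ih =>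
  intro _ hex V _ _ _ ρ _ hd
  have hq := Fintype.one_lt_card (α := F)
  have hgood := good_of_not_exceptional hex
  have hconst := constOnTransl ρ (by omega)
  have hdim := finrank_eq ρ hconst
  have hpow : ∀ k, 1 ≤ Fintype.card F ^ k := fun k => Nat.one_le_pow _ _ (by omega)
  have hsucc : Fintype.card F ^ (l + 1 + 2) = Fintype.card F * Fintype.card F ^ (l + 2) := by ring
  have hpos := mult₁_pos (by omega) ρ hd
  by_cases hm1 : mult₁ ρ = 1
  swap
  · have h2 : 2 ≤ mult₁ ρ := by omega
    rw [hdim]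
    have := hpow (l + 1 + 1)
    have h3 : (Fintype.card F ^ (l + 2) - 1) * 2 ≤ (Fintype.card F ^ (l + 1 + 1) - 1) * mult₁ ρ :=
      Nat.mul_le_mul le_rfl h2
    rw [hsucc]
    zify [show 1 ≤ Fintype.card F by omega, hpow (l + 2), this,
      Nat.le_mul_of_pos_right (Fintype.card F) (hpow (l + 2))] at h3 ⊢
    nlinarith
  rw [hm1, mul_one] at hdim
  by_cases hfix : ∃ v : LinearMap.range (proj ρ 0), v ≠ 0 ∧ ∀ A, levRep ρ A v = v
  · obtain ⟨⟨v, y, rfl⟩, hv, hvA⟩ := hfix
    refine bound_of_fixed (m := l + 1 + 1) (by omega) ρ hd (fun h => hv (Subtype.ext h)) ?_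
      fun A => congrArg Subtype.val (hvA A)
    show proj ρ 0 (proj ρ 0 y) = proj ρ 0 y
    rw [← Module.End.mul_apply, proj_mul_proj, if_pos rfl]
  push Not at hfix
  obtain ⟨hconst', hm1', hc⟩ := levRep_spec ρ hgood hm1
  -- the goal in terms of the fixed space
  suffices key : Fintype.card F ^ (l + 2) - 1 ≤ (Fintype.card F - 1) * cdim ρ by
    rw [hdim, hsucc]
    zify [show 1 ≤ Fintype.card F by omega, hpow (l + 1 + 1), hpow (l + 2),
      Nat.le_mul_of_pos_right (Fintype.card F) (hpow (l + 2))] at key ⊢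
    linear_combination key
  have hc1 : 1 ≤ cdim ρ := by
    have := Nat.one_lt_pow (n := l + 1) (by omega) hq
    omega
  obtain ⟨N, hN, hdvd⟩ := degree_dvd (m := l + 1 + 1) (by omega) ρ hm1 hc1
  rcases Nat.eq_zero_or_pos l with rfl | hl
  · -- SL₃
    simp only [zero_add, pow_one] at *
    by_contra hlt
    have h2 := hgood.1 rfl
    have h10 : Fintype.card F ≠ 10 := by
      intro h
      have := FiniteField.isPrimePow_card (K := F)
      rw [h] at this
      obtain ⟨p, k, hp, hk, hpk⟩ := this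
      have hp' := Nat.prime_iff.2 hp
      have h5 : 5 ∣ p ^ k := by rw [hpk]; norm_num
      have h2' : 2 ∣ p ^ k := by rw [hpk]; norm_num
      have := (Nat.prime_dvd_prime_iff_eq (by norm_num) hp').1 ((by norm_num : Nat.Prime 5).dvd_of_dvd_pow h5)
      have := (Nat.prime_dvd_prime_iff_eq (by norm_num) hp').1 ((by norm_num : Nat.Prime 2).dvd_of_dvd_pow h2')
      omega
    refine arith_base (by omega) h2.1 h2.2 h10 ?_ hN hdvd
    have h3 : Fintype.card F ^ 2 - 1 = (Fintype.card F - 1) * (Fintype.card F + 1) := by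
      zify [show 1 ≤ Fintype.card F by omega, hpow 2]; ring
    rw [h3] at hlt
    have : cdim ρ < Fintype.card F + 1 := Nat.lt_of_mul_lt_mul_left (not_le.1 hlt)
    omega
  have hirr : (levRep ρ).IsIrreducible := irreducible_of_mult₁_eq_one (by omega) _ hm1'
    fun v hv => by_contra fun h => (hfix v h).elim fun A hA => hA (hv A)
  have hdC : finrank ℂ (LinearMap.range (proj ρ 0)) = cdim ρ := rfl
  have hge : 2 ≤ cdim ρ := by
    have : 4 ≤ Fintype.card F ^ (l + 1) :=
      le_trans (show 4 ≤ Fintype.card F ^ 2 by nlinarith) (Nat.pow_le_pow_right (by omega) (by omega))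
    omega
  by_cases hex' : Exceptional F (l + 2)
  · -- the Levi complement is exceptional
    by_contra hlt
    push Not at hlt
    have hd' : 2 ≤ finrank ℂ (LinearMap.range (proj ρ 0)) := by omega
    rcases hex' with ⟨hl', hq'⟩ | ⟨hl', hq'⟩
    · -- SL₄(4)
      obtain rfl : l = 1 := by omega
      have hq4 : Fintype.card F = 4 := hq'.resolve_left (hgood.2 rfl).1
      obtain ⟨N', hN', hdvd'⟩ : ∃ N : ℕ, (Fintype.card F - 1) * N =
          (Fintype.card F ^ (1 + 1 + 1) - 1) * (Fintype.card F ^ (1 + 1) - 1) ∧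
          cdim (levRep ρ) = 0 ∨ ((Fintype.card F - 1) * N =
          (Fintype.card F ^ (1 + 1 + 1) - 1) * (Fintype.card F ^ (1 + 1) - 1) ∧
          cdim (levRep ρ) + (Fintype.card F ^ (1 + 1) - 1) ∣ N * (cdim (levRep ρ) - 1)) := by
        by_cases h0 : cdim (levRep ρ) = 0
        · exact ⟨315, Or.inl ⟨by rw [hq4]; norm_num, h0⟩⟩
        · obtain ⟨N', h1, h2⟩ := degree_dvd (m := 1 + 1) (by omega) (levRep ρ) hm1' (by omega)
          exact ⟨N', Or.inr ⟨h1, h2⟩⟩
      · rw [hq4] at hN hdvd hc hlt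
        norm_num at hN hdvd hc hlt
        have hN' : N = 5355 := by omega
        subst hN'
        rw [hdvd'] at hc
        rw [hc] at hdvd
        norm_num at hdvd
      · rename_i h
        obtain ⟨hN', hdvd'⟩ := h
        rw [hq4] at hN hdvd hc hlt hN' hdvd'
        norm_num at hN hdvd hc hlt hN' hdvd'
        have hNv : N = 5355 := by omega
        have hNv' : N' = 315 := by omega
        subst hNv hNv'
        generalize cdim (levRep ρ) = e at *
        generalize cdim ρ = c at *
        subst hc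
        have : e ≤ 5 := by omega
        interval_cases e <;> omega
    · -- SL₅(2), SL₅(3)
      obtain rfl : l = 2 := by omega
      have hfix2 : cdim (levRep ρ) = 0 ∨ Fintype.card F ^ 2 - 1 ≤ cdim (levRep ρ) := by
        by_contra hh
        push Not at hh
        have hc2 : finrank ℂ (LinearMap.range (proj (levRep ρ) 0)) = cdim (levRep ρ) := rfl
        have hd2 := finrank_eq (levRep (levRep ρ)) (constOnTransl _ (by omega))
        rw [hc2] at hd2
        have h0 : mult₁ (levRep (levRep ρ)) = 0 := by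
          by_contra hne
          have : 1 ≤ mult₁ (levRep (levRep ρ)) := by omega
          have := Nat.le_mul_of_pos_right (Fintype.card F ^ 2 - 1) this
          omega
        have htriv := eq_one_of_mult₁_eq_zero (levRep (levRep ρ)) (by omega) h0
        have : Nontrivial (LinearMap.range (proj (levRep ρ) 0)) :=
          Module.nontrivial_of_finrank_pos (R := ℂ) (by omega)
        obtain ⟨⟨v, y, hy⟩, hv⟩ := exists_ne (0 : LinearMap.range (proj (levRep ρ) 0))
        have hb := bound_of_fixed (m := 2 + 1) (by omega) (levRep ρ) hd' (v := v)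
          (fun h => hv (Subtype.ext h))
          (by rw [← hy, ← Module.End.mul_apply, proj_mul_proj, if_pos rfl])
          fun A => congrArg Subtype.val (LinearMap.congr_fun (htriv A) ⟨v, y, hy⟩)
        rw [hdC] at hb
        rcases hq' with hq2 | hq2 <;> rw [hq2] at hb hlt hc hh <;> norm_num at hb hlt hc hh <;> omega
      rcases hq' with hq2 | hq2
      · rw [hq2] at hN hdvd hc hlt hfix2
        norm_num at hN hdvd hc hlt hfix2
        subst hN
        generalize cdim (levRep ρ) = e at *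
        generalize cdim ρ = c at *
        subst hc
        have : e ≤ 7 := by omega
        interval_cases e <;> omega
      · rw [hq2] at hN hdvd hc hlt hfix2
        norm_num at hN hdvd hc hlt hfix2
        have hNv : N = 9680 := by omega
        subst hNv
        generalize cdim (levRep ρ) = e at *
        generalize cdim ρ = c at *
        subst hc
        have : e ≤ 13 := by omega
        interval_cases e <;> omega
  · have hb := ih (by omega) hex' _ (levRep ρ) (by omega)
    rw [hdC] at hb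
    by_contra hlt
    have heq : (Fintype.card F - 1) * cdim ρ = Fintype.card F ^ (l + 1 + 1) - Fintype.card F := by
      -- the only multiple of q - 1 in the range
      have h1 : Fintype.card F ^ (l + 2) - 1 =
          Fintype.card F ^ (l + 2) - Fintype.card F + (Fintype.card F - 1) := by
        have := Nat.le_self_pow (show l + 2 ≠ 0 by omega) (Fintype.card F)
        omega
      obtain ⟨k, hk⟩ : Fintype.card F - 1 ∣ Fintype.card F ^ (l + 2) - Fintype.card F := by
        have h2 := Nat.sub_dvd_pow_sub_pow (Fintype.card F) 1 (l + 1)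
        rw [one_pow] at h2
        have h3 : Fintype.card F ^ (l + 2) - Fintype.card F =
            Fintype.card F * (Fintype.card F ^ (l + 1) - 1) := by
          rw [Nat.mul_sub_one, pow_succ']
        rw [h3]
        exact h2.mul_left _
      rw [h1, hk] at hlt
      rw [hk] at hb
      rw [show Fintype.card F ^ (l + 1 + 1) = Fintype.card F ^ (l + 2) from rfl, hk]
      have h4 : k ≤ cdim ρ := Nat.le_of_mul_le_mul_left hb (by omega)
      rcases h4.eq_or_lt with h | h
      · rw [h]
      · exfalso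
        have := Nat.mul_le_mul_left (Fintype.card F - 1) h
        rw [Nat.mul_succ] at this
        omega
    refine arith_top (by omega) (by omega) (fun h => ?_) heq hN hdvd
    have := hgood
    have h2 := this.2 h
    omega

end H40.MinDeg
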