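import Cfsg.Agent.H40.MinDegree
import Cfsg.Agent.H13.PermChar
import Cfsg.Agent.H37.Card

/-!
# Smallest index of a proper subgroup of SL_n
-/

set_option autoImplicit false
set_option linter.unusedSectionVars false

open Matrix Module Cfsg

namespace H40.MinDeg

universe u v

section sum_zero

variable {G : Type u} [Group G] (Ω : Type u) [MulAction G Ω] [Fintype Ω]

/-- the sum of the values -/
noncomputable def sumFun : (Ω → ℂ) →ₗ[ℂ] ℂ := ∑ x, LinearMap.proj x

theorem sumFun_apply (f : Ω → ℂ) : sumFun Ω f = ∑ x, f x := by simp [sumFun]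

variable (G)

/-- the functions with zero sum, as a subrepresentation -/
noncomputable def augRep : Subrepresentation (permRep ℂ G Ω) where
  toSubmodule := LinearMap.ker (sumFun Ω)
  apply_mem_toSubmodule g f hf := by
    simp only [LinearMap.mem_ker, sumFun_apply] at hf ⊢
    rw [← hf]
    exact Fintype.sum_equiv (MulAction.toPerm g⁻¹) _ _ fun x => rfl

/-- the constants, as a subrepresentation -/
noncomputable def constRep : Subrepresentation (permRep ℂ G Ω) where
  toSubmodule := Submodule.span ℂ {fun _ => 1}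
  apply_mem_toSubmodule g f hf := by
    obtain ⟨c, rfl⟩ := Submodule.mem_span_singleton.1 hf
    rw [map_smul]
    exact Submodule.mem_span_singleton.2 ⟨c, rfl⟩

variable [Nonempty Ω]

theorem isCompl_aug_const : IsCompl (augRep G Ω).toSubmodule (constRep G Ω).toSubmodule := by
  have hN : (Fintype.card Ω : ℂ) ≠ 0 := by exact_mod_cast Fintype.card_ne_zero
  refine ⟨Submodule.disjoint_def.2 fun f hf hf' => ?_, codisjoint_iff.2 (eq_top_iff.2 fun f _ => ?_)⟩
  · obtain ⟨c, rfl⟩ := Submodule.mem_span_singleton.1 hf'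
    change sumFun Ω _ = 0 at hf
    rw [sumFun_apply] at hf
    simp only [Pi.smul_apply, smul_eq_mul, mul_one, Finset.sum_const, Finset.card_univ,
      nsmul_eq_mul, mul_eq_zero, hN, false_or] at hf
    rw [hf, zero_smul]
  · refine Submodule.mem_sup.2 ⟨f - fun _ => (Fintype.card Ω : ℂ)⁻¹ * ∑ x, f x, ?_,
      fun _ => (Fintype.card Ω : ℂ)⁻¹ * ∑ x, f x, ?_, sub_add_cancel _ _⟩
    · change sumFun Ω _ = 0
      simp [sumFun_apply, Finset.sum_sub_distrib, hN]
    · exact Submodule.mem_span_singleton.2 ⟨(Fintype.card Ω : ℂ)⁻¹ * ∑ x, f x, by funext x; simp⟩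

theorem finrank_aug : finrank ℂ (augRep G Ω).toSubmodule + 1 = Fintype.card Ω := by
  have h := Submodule.finrank_add_eq_of_isCompl (isCompl_aug_const G Ω)
  have h1 : finrank ℂ (constRep G Ω).toSubmodule = 1 :=
    finrank_span_singleton fun h => by simpa using congrFun h (Classical.arbitrary Ω)
  rw [h1, Module.finrank_pi] at h
  exact h

theorem character_aug [Finite G] (g : G) :
    (augRep G Ω).toRepresentation.character g + 1 = (Nat.card (MulAction.fixedBy Ω g) : ℂ) := by
  have h1 : finrank ℂ (constRep G Ω).toSubmodule = 1 :=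
    finrank_span_singleton fun h => by simpa using congrFun h (Classical.arbitrary Ω)
  have h2 : (constRep G Ω).toRepresentation g = 1 := by
    apply LinearMap.ext
    rintro ⟨f, hf⟩
    obtain ⟨c, rfl⟩ := Submodule.mem_span_singleton.1 hf
    apply Subtype.ext
    show permRep ℂ G Ω g (c • fun _ => 1) = _
    rw [map_smul]
    rfl
  have h3 : (constRep G Ω).toRepresentation.character g = 1 := by
    rw [Representation.character, h2, LinearMap.trace_one, h1, Nat.cast_one]
  rw [← H13.permRep_character (Ω := Ω) g,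
    H12.character_eq_add_of_isCompl (permRep ℂ G Ω) _ _ (isCompl_aug_const G Ω), Pi.add_apply, h3]

variable [MulAction.IsPretransitive G Ω] [Fintype G]

theorem aug_no_fixed (v : (augRep G Ω).toSubmodule)
    (hv : ∀ g, (augRep G Ω).toRepresentation g v = v) : v = 0 := by
  obtain ⟨f, hf⟩ := v
  have h1 := H13.invariant_eq_const (G := G) (v := f) (fun g => congrArg Subtype.val (hv g))
    (Classical.arbitrary Ω)
  change sumFun Ω f = 0 at hf
  rw [sumFun_apply, h1, Finset.sum_const, Finset.card_univ, nsmul_eq_mul, mul_eq_zero] at hf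
  have h0 := hf.resolve_left (by exact_mod_cast Fintype.card_ne_zero)
  apply Subtype.ext
  show f = 0
  rw [h1, h0]
  rfl

end sum_zero

variable {F : Type v} [Field F] [Fintype F] [DecidableEq F]

/-- an involution of `SL₃` in characteristic two is a transvection -/
theorem exists_tvec_of_involution (h2 : (2 : F) = 0) {g : SpecialLinearGroup (Fin 3) F}
    (hg : g * g = 1) (hg1 : g ≠ 1) :
    ∃ (u φ : Fin 3 → F) (h : φ ⬝ᵥ u = 0), u ≠ 0 ∧ φ ≠ 0 ∧ g = tvec u φ h := by
  set N : Matrix (Fin 3) (Fin 3) F := (g : Matrix (Fin 3) (Fin 3) F) - 1 with hN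
  have hgN : (g : Matrix (Fin 3) (Fin 3) F) = 1 + N := by rw [hN]; abel
  have hgg : (g : Matrix (Fin 3) (Fin 3) F) * (g : Matrix (Fin 3) (Fin 3) F) = 1 :=
    congrArg Subtype.val hg
  have hNN : N * N = 0 := by
    have h3 : N + N = 0 := by
      ext i j
      rw [Matrix.add_apply, ← two_mul, h2, zero_mul]; rfl
    rw [hgN] at hgg
    have : (1 + N) * (1 + N) = 1 + (N + N) + N * N := by noncomm_ring
    rw [this, h3, add_zero] at hgg
    simpa using hgg
  have hN0 : N ≠ 0 := fun h => hg1 (Subtype.ext (by rw [hgN, h, add_zero]; rfl))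
  let T : (Fin 3 → F) →ₗ[F] (Fin 3 → F) := Matrix.toLin' N
  have hTT : T ∘ₗ T = 0 := by rw [← Matrix.toLin'_mul, hNN, map_zero]
  have hT0 : T ≠ 0 := fun h => hN0 (Matrix.toLin'.injective (by rw [map_zero]; exact h))
  have hr : finrank F (LinearMap.range T) = 1 := by
    have h1 := T.finrank_range_add_finrank_ker
    rw [Module.finrank_fin_fun] at h1
    have h2 : LinearMap.range T ≤ LinearMap.ker T := LinearMap.range_le_ker_iff.2 hTT
    have h3 := Submodule.finrank_mono h2
    have h4 : finrank F (LinearMap.range T) ≠ 0 := fun h =>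
      hT0 (LinearMap.range_eq_bot.1 (Submodule.finrank_eq_zero.1 h))
    omega
  obtain ⟨u, φ, hu, hφ, hφu, hT⟩ := H42.exists_eq_smulRight_of_rank_one T hr hTT
  let f : Fin 3 → F := (dotProductEquiv F (Fin 3)).symm φ
  have hf : ∀ z, f ⬝ᵥ z = φ z := fun z => by
    have h := (dotProductEquiv F (Fin 3)).apply_symm_apply φ
    conv_rhs => rw [← h]
    rfl
  refine ⟨u, f, (hf u).trans hφu, hu, fun h => hφ (LinearMap.ext fun z => ?_), ?_⟩
  · rw [← hf z, h, zero_dotProduct]; rfl
  · apply Subtype.ext
    show (g : Matrix (Fin 3) (Fin 3) F) = 1 + vecMulVec u f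
    rw [hgN]
    congr 1
    refine Matrix.toLin'.injective (LinearMap.ext fun z => ?_)
    show T z = vecMulVec u f *ᵥ z
    rw [hT, vecMulVec_mulVec, hf, op_smul_eq_smul]

/-- In `SL₄` in odd characteristic a complement of a translation subgroup contains transvections:
here for a regular action. -/
theorem false_of_regular {Ω : Type v} [MulAction (SpecialLinearGroup (Fin (3 + 1)) F) Ω]
    (h2 : (2 : F) ≠ 0) (ω : Ω)
    (hfree : ∀ {u φ : Fin (3 + 1) → F} (h : φ ⬝ᵥ u = 0), u ≠ 0 → φ ≠ 0 → tvec u φ h • ω ≠ ω)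
    (hcard : Nat.card Ω = Fintype.card F ^ 3) [Finite Ω] : False := by
  classical
  have := Fintype.ofFinite Ω
  have hfree' : ∀ z : Fin 3 → F, translSL z • ω = ω → z = 0 := by
    intro z hz
    by_contra h0
    rw [translSL_eq_tvec] at hz
    exact hfree _ (fun h => by simpa using congrFun h 0) (cons_ne_zero h0) hz
  have hinj : Function.Injective fun z : Fin 3 → F => translSL z • ω := by
    intro a b (hab : translSL a • ω = translSL b • ω)
    have : translSL (-b + a) • ω = ω := by
      rw [translSL_add, mul_smul, hab, ← mul_smul, ← translSL_add, neg_add_cancel, translSL_zero,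
        one_smul]
    exact (neg_add_eq_zero.1 (hfree' _ this)).symm
  have hbij : Function.Bijective fun z : Fin 3 → F => translSL z • ω :=
    (Fintype.bijective_iff_injective_and_card _).2 ⟨hinj, by
      rw [Fintype.card_fun, Fintype.card_fin, ← hcard, Nat.card_eq_fintype_card]⟩
  -- the cocycle of the stabiliser
  let M : SpecialLinearGroup (Fin 3) F → Matrix (Fin 3) (Fin 3) F := fun A => A
  have hex : ∀ A : SpecialLinearGroup (Fin 3) F, ∃ z, (leviSL A * translSL z) • ω = ω := by
    intro A
    obtain ⟨z, hz⟩ := hbij.2 ((leviSL A)⁻¹ • ω)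
    exact ⟨z, by rw [mul_smul]; simp only at hz; rw [hz, smul_inv_smul]⟩
  choose z hz using hex
  have huniq : ∀ A y, (leviSL A * translSL y) • ω = ω → y = z A := by
    intro A y hy
    have h1 := hy.trans (hz A).symm
    rw [mul_smul, mul_smul] at h1
    exact hinj (smul_left_cancel _ h1)
  have hmul : ∀ A B, z (A * B) = z A ᵥ* M B + z B := by
    intro A B
    refine (huniq _ _ ?_).symm
    have h1 : (leviSL A * translSL (z A)) * (leviSL B * translSL (z B)) =
        leviSL (A * B) * translSL (z A ᵥ* M B + z B) := by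
      rw [leviSL_mul, translSL_add, mul_assoc, ← mul_assoc (translSL (z A)), ← levi_transl,
        mul_assoc (leviSL B), ← mul_assoc (leviSL A)]
    rw [← h1, mul_smul, hz B, hz A]
  let a : SpecialLinearGroup (Fin 3) F := tvec ![1, 0, 0] ![0, 0, 1] (by simp [dotProduct, Fin.sum_univ_three])
  let b : SpecialLinearGroup (Fin 3) F := tvec ![0, 0, 1] ![0, 1, 0] (by simp [dotProduct, Fin.sum_univ_three])
  let c : SpecialLinearGroup (Fin 3) F := tvec ![1, 0, 0] ![0, 1, 0] (by simp [dotProduct, Fin.sum_univ_three])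
  have hab : a * b = c * (b * a) :=
    commutator_tvec (by simp [dotProduct, Fin.sum_univ_three]) (by simp [dotProduct, Fin.sum_univ_three])
      (by simp [dotProduct, Fin.sum_univ_three]) (by simp [dotProduct, Fin.sum_univ_three])
  have hcb : c * b = b * c := by
    apply Subtype.ext
    show (1 + vecMulVec _ _) * (1 + vecMulVec _ _) = (1 + vecMulVec _ _) * (1 + vecMulVec _ _)
    simp only [mul_add, add_mul, one_mul, mul_one, vecMulVec_mul_vecMulVec]
    simp [dotProduct, Fin.sum_univ_three]
    abel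
  have e1 : ∀ j, (z a ᵥ* M b + z b) j = (z c ᵥ* (M b * M a) + (z b ᵥ* M a + z a)) j := by
    intro j
    have h1 := hmul a b
    rw [hab, hmul, hmul] at h1
    exact (congrFun h1 j).symm
  have e2 : ∀ j, (z c ᵥ* M b + z b) j = (z b ᵥ* M c + z c) j := by
    intro j
    have h1 := hmul c b
    rw [hcb, hmul] at h1
    exact (congrFun h1 j).symm
  have ma : ∀ w : Fin 3 → F, w ᵥ* M a = ![w 0, w 1, w 2 + w 0] := fun w => by
    funext j
    show (w ᵥ* (1 + vecMulVec _ _)) j = _
    rw [vecMul_add, vecMul_one, vecMul_vecMulVec]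
    fin_cases j <;> simp [dotProduct, Fin.sum_univ_three]
  have mb : ∀ w : Fin 3 → F, w ᵥ* M b = ![w 0, w 1 + w 2, w 2] := fun w => by
    funext j
    show (w ᵥ* (1 + vecMulVec _ _)) j = _
    rw [vecMul_add, vecMul_one, vecMul_vecMulVec]
    fin_cases j <;> simp [dotProduct, Fin.sum_univ_three]
  have mc : ∀ w : Fin 3 → F, w ᵥ* M c = ![w 0, w 1 + w 0, w 2] := fun w => by
    funext j
    show (w ᵥ* (1 + vecMulVec _ _)) j = _
    rw [vecMul_add, vecMul_one, vecMul_vecMulVec]
    fin_cases j <;> simp [dotProduct, Fin.sum_univ_three]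
  simp only [← vecMul_vecMul, ma, mb] at e1
  simp only [mb, mc] at e2
  have q0 : z c 0 = 0 := by
    have := e1 0
    simp [Matrix.vecHead, Matrix.vecTail] at this
    linear_combination -this
  have q2 : z c 2 = 0 := by
    have h1 := e1 2
    have h2' := e2 1
    simp [Matrix.vecHead, Matrix.vecTail] at h1 h2'
    have : (2 : F) * z c 2 = 0 := by linear_combination h2' - h1 - q0
    exact (mul_eq_zero.1 this).resolve_left h2
  have hcz : leviSL c * translSL (z c) = tvec (Fin.cons 0 ![1, 0, 0])
      (Fin.cons 0 ![0, 1, 0]) (by simp [dotProduct, Fin.sum_univ_succ]) *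
      tvec (Fin.cons 1 0) (Fin.cons 0 (z c)) (by simp [dotProduct, Fin.sum_univ_succ]) := by
    rw [translSL_eq_tvec (z c)]
    exact congrArg (· * _) (leviSL_tvec (u := ![1, 0, 0]) (φ := ![0, 1, 0]) _)
  have hgoal := hz c
  rw [hcz] at hgoal
  have hprod : tvec (Fin.cons 0 ![1, 0, 0] : Fin (3 + 1) → F)
      (Fin.cons 0 ![0, 1, 0]) (by simp [dotProduct, Fin.sum_univ_succ]) *
      tvec (Fin.cons 1 0) (Fin.cons 0 (z c)) (by simp [dotProduct, Fin.sum_univ_succ]) =
      tvec (Fin.cons (z c 1) ![1, 0, 0]) (Fin.cons 0 ![0, 1, 0])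
        (by simp [dotProduct, Fin.sum_univ_succ]) := by
    apply Subtype.ext
    show (1 + vecMulVec _ _) * (1 + vecMulVec _ _) = 1 + vecMulVec _ _
    have hzc : (Fin.cons 0 (z c) : Fin (3 + 1) → F) = z c 1 • Fin.cons 0 ![0, 1, 0] := by
      funext i
      refine Fin.cases ?_ (fun j => ?_) i
      · simp
      · rw [Pi.smul_apply, Fin.cons_succ, Fin.cons_succ]
        fin_cases j <;> simp [q0, q2]
    have hu : (Fin.cons (z c 1) ![1, 0, 0] : Fin (3 + 1) → F) =
        Fin.cons 0 ![1, 0, 0] + z c 1 • Fin.cons 1 0 := by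
      funext i
      refine Fin.cases ?_ (fun j => ?_) i
      · simp
      · rw [Pi.add_apply, Pi.smul_apply, Fin.cons_succ, Fin.cons_succ, Fin.cons_succ]
        simp
    rw [hzc, vecMulVec_smul, hu, add_vecMulVec, smul_vecMulVec]
    have h0 : (Fin.cons 0 ![0, 1, 0] : Fin (3 + 1) → F) ⬝ᵥ Fin.cons 1 0 = 0 := by
      simp [dotProduct, Fin.sum_univ_succ]
    simp only [mul_add, add_mul, one_mul, mul_one, mul_smul_comm, vecMulVec_mul_vecMulVec, h0,
      zero_smul, vecMulVec_zero, smul_zero, add_zero]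
    abel
  rw [hprod] at hgoal
  refine hfree _ (fun h => ?_) (fun h => ?_) hgoal
  · simpa using congrFun h 1
  · simpa using congrFun h 2

/-- the smallest index of a proper subgroup of `SL_n` -/
theorem min_index {m : ℕ} [NeZero m] (hm : 2 ≤ m) (h42 : ¬ (m = 3 ∧ Fintype.card F = 2))
    (K : Subgroup (SpecialLinearGroup (Fin (m + 1)) F)) (hK : K ≠ ⊤) :
    Fintype.card F ^ (m + 1) - 1 ≤ (Fintype.card F - 1) * K.index := by
  classical
  have : Finite (SpecialLinearGroup (Fin (m + 1)) F) := inferInstance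
  let Ω := SpecialLinearGroup (Fin (m + 1)) F ⧸ K
  have : Fintype Ω := Fintype.ofFinite Ω
  have hΩ : Fintype.card Ω = K.index := by
    rw [Subgroup.index_eq_card, Nat.card_eq_fintype_card]
  set W := (augRep (SpecialLinearGroup (Fin (m + 1)) F) Ω).toSubmodule
  let σ : Representation ℂ (SpecialLinearGroup (Fin (m + 1)) F) W :=
    (augRep (SpecialLinearGroup (Fin (m + 1)) F) Ω).toRepresentation
  have hW : finrank ℂ W + 1 = K.index := (finrank_aug _ Ω).trans hΩ
  have hno : ∀ v : W, (∀ g, σ g v = v) → v = 0 := aug_no_fixed _ Ω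
  have hconst := constOnTransl σ hm
  have hdim : finrank ℂ W = _ := finrank_eq σ hconst
  have hq := Fintype.one_lt_card (α := F)
  have hidx1 : 2 ≤ K.index := by
    have h1 : K.index ≠ 1 := fun h => hK (Subgroup.index_eq_one.1 h)
    have h0 : K.index ≠ 0 := Subgroup.index_ne_zero_of_finite
    omega
  have hpos : mult₁ σ ≠ 0 := by
    intro h0
    have : Nontrivial W := Module.nontrivial_of_finrank_pos (R := ℂ) (by omega)
    obtain ⟨v, hv⟩ := exists_ne (0 : W)
    exact hv (hno v fun g => by rw [eq_one_of_mult₁_eq_zero σ hm h0 g]; rfl)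
  have hpow : 1 ≤ Fintype.card F ^ m := Nat.one_le_pow _ _ (by omega)
  by_cases hm1 : mult₁ σ = 1
  swap
  · have h2 : 2 * (Fintype.card F ^ m - 1) ≤ (Fintype.card F ^ m - 1) * mult₁ σ := by
      rw [mul_comm]; exact Nat.mul_le_mul le_rfl (by omega)
    have h3 : Fintype.card F ^ (m + 1) = Fintype.card F * Fintype.card F ^ m := pow_succ' _ _
    have h4 : 2 * (Fintype.card F ^ m - 1) + 1 ≤ K.index := by omega
    have h5 := Nat.mul_le_mul_left (Fintype.card F - 1) h4
    rw [h3]
    zify [show 1 ≤ Fintype.card F by omega, hpow,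
      show 1 ≤ Fintype.card F * Fintype.card F ^ m from Nat.mul_pos (by omega) hpow] at h5 ⊢
    nlinarith
  rw [hm1, mul_one] at hdim
  have hirr : Representation.IsIrreducible (k := ℂ) (V := W) σ :=
    irreducible_of_mult₁_eq_one hm σ hm1 hno
  by_cases hex : Exceptional F (m + 1)
  swap
  · have h := min_degree (m - 1) (by omega) (by rwa [show m - 1 + 2 = m + 1 by omega])
    obtain ⟨l, rfl⟩ : ∃ l, m = l + 1 := ⟨m - 1, by omega⟩
    rw [show l + 1 - 1 = l from rfl] at h
    have h' := h W σ (by
      have : 4 ≤ Fintype.card F ^ (l + 1) :=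
        le_trans (show 4 ≤ Fintype.card F ^ 2 by nlinarith) (Nat.pow_le_pow_right (by omega) (by omega))
      omega)
    have h5 : Fintype.card F ≤ Fintype.card F ^ (l + 2) := Nat.le_self_pow (by omega) _
    have h6 : (Fintype.card F - 1) * K.index =
        (Fintype.card F - 1) * finrank ℂ W + (Fintype.card F - 1) := by rw [← hW]; ring
    show Fintype.card F ^ (l + 2) - 1 ≤ _
    omega
  -- the exceptional cases
  by_contra hlt
  push Not at hlt
  have hfix : tval σ + 1 =
      (Nat.card (MulAction.fixedBy Ω (translSL (Pi.single (0 : Fin m) (1 : F)))) : ℂ) :=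
    character_aug _ Ω _
  have hc0 : cdim σ = Nat.card (MulAction.fixedBy Ω (translSL (Pi.single (0 : Fin m) (1 : F)))) := by
    rw [tval_eq σ hconst, hm1, Nat.cast_one, sub_add_cancel] at hfix
    exact_mod_cast hfix
  have hdvdi : K.index ∣ Nat.card (SpecialLinearGroup (Fin (m + 1)) F) := Subgroup.index_dvd_card K
  have hdvdd : finrank ℂ W ∣ Nat.card (SpecialLinearGroup (Fin (m + 1)) F) :=
    H12.degree_dvd_card σ
  have hSL := H37.card_SL_fin (F := F) (m + 1) (by omega)
  rw [Nat.card_eq_fintype_card (α := F)] at hSL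
  -- transvections have no fixed point
  have hfree : cdim σ = 0 → ∀ (ω : Ω) {u φ : Fin (m + 1) → F} (h : φ ⬝ᵥ u = 0),
      u ≠ 0 → φ ≠ 0 → tvec u φ h • ω ≠ ω := by
    intro h0 ω u φ h hu hφ hω
    obtain ⟨g, hg⟩ := isConj_iff.1
      (isConj_transvection hm (x := Pi.single (0 : Fin m) (1 : F)) (by simp) h hu hφ)
    have hmem : g⁻¹ • ω ∈ MulAction.fixedBy Ω (translSL (Pi.single (0 : Fin m) (1 : F))) := by
      show translSL (Pi.single (0 : Fin m) (1 : F)) • g⁻¹ • ω = g⁻¹ • ω
      rw [eq_inv_smul_iff, ← mul_smul, ← mul_smul, hg, hω]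
    rw [hc0, Nat.card_eq_zero] at h0
    rcases h0 with h0 | h0
    · exact h0.false ⟨_, hmem⟩
    · exact not_finite (MulAction.fixedBy Ω (translSL (Pi.single (0 : Fin m) (1 : F))))
  have hint : 1 ≤ cdim σ → ∃ N : ℕ, (Fintype.card F - 1) * N =
      (Fintype.card F ^ (m + 1) - 1) * (Fintype.card F ^ m - 1) ∧
      cdim σ + (Fintype.card F ^ m - 1) ∣ N * (cdim σ - 1) := fun h => degree_dvd hm σ hm1 h
  rcases hex with ⟨hn', hq'⟩ | ⟨hn', hq'⟩
  · -- SL₃(2), SL₃(4)
    obtain rfl : m = 2 := by omega
    have h2 : (2 : F) = 0 := by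
      obtain ⟨p, hp⟩ := CharP.exists F
      haveI := hp
      obtain ⟨k, hpp, hk⟩ := FiniteField.card F p
      have hp2 : p = 2 := by
        have h1 : p ∣ Fintype.card F := hk ▸ dvd_pow_self p k.ne_zero
        have : p ∣ 4 := by rcases hq' with h | h <;> rw [h] at h1
                           · exact h1.trans (by norm_num)
                           · exact h1
        exact (Nat.prime_dvd_prime_iff_eq hpp Nat.prime_two).1
          (hpp.dvd_of_dvd_pow (show p ∣ 2 ^ 2 by simpa using this))
      subst hp2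
      exact CharP.cast_eq_zero F 2
    have hc : cdim σ = 0 := by
      by_contra hne
      obtain ⟨N, hN, hd⟩ := hint (by omega)
      generalize Nat.card (SpecialLinearGroup (Fin (2 + 1)) F) = S at *
      rcases hq' with h | h <;> rw [h] at hN hd hSL hdim hlt <;> norm_num [Fin.prod_univ_succ] at hN hd hSL hdim hlt
      all_goals
        rw [hdim] at hdvdd
        rw [← hW, hdim] at hdvdi hlt
        generalize cdim σ = c at *
        have : c ≤ 20 := by omega
        interval_cases c <;> omega
    -- the stabiliser has an involution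
    have heven : 2 ∣ Nat.card K := by
      have h1 := Subgroup.index_mul_card K
      generalize Nat.card (SpecialLinearGroup (Fin (2 + 1)) F) = S at *
      rw [hdim, hc] at hW
      rcases hq' with h | h <;> rw [h] at hSL hW <;> norm_num [Fin.prod_univ_succ] at hSL hW <;>
        rw [← hW] at h1 <;> omega
    obtain ⟨g, hg⟩ := exists_prime_orderOf_dvd_card' 2 heven
    have hg2 : (g : SpecialLinearGroup (Fin (2 + 1)) F) * g = 1 := by
      have := pow_orderOf_eq_one g
      rw [hg, pow_two] at this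
      exact congrArg Subtype.val this
    have hg1 : (g : SpecialLinearGroup (Fin (2 + 1)) F) ≠ 1 := fun h => by
      rw [OneMemClass.coe_eq_one] at h
      rw [h, orderOf_one] at hg
      omega
    obtain ⟨u, φ, h, hu, hφ, hgu⟩ := exists_tvec_of_involution h2 hg2 hg1
    refine hfree hc (QuotientGroup.mk 1) h hu hφ ?_
    rw [← hgu]
    show QuotientGroup.mk ((g : SpecialLinearGroup (Fin (2 + 1)) F) * 1) = QuotientGroup.mk 1
    rw [QuotientGroup.eq]
    simp
  · -- SL₄(3)
    obtain rfl : m = 3 := by omega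
    have hq3 : Fintype.card F = 3 := hq'.resolve_left fun h => h42 ⟨rfl, h⟩
    have hc : cdim σ = 0 := by
      by_contra hne
      obtain ⟨N, hN, hd⟩ := hint (by omega)
      generalize Nat.card (SpecialLinearGroup (Fin (3 + 1)) F) = S at *
      rw [hq3] at hN hd hSL hdim hlt
      norm_num [Fin.prod_univ_succ] at hN hd hSL hdim hlt
      rw [hdim] at hdvdd
      rw [← hW, hdim] at hdvdi hlt
      generalize cdim σ = c at *
      have : c ≤ 39 := by omega
      interval_cases c <;> omega
    have h2 : (2 : F) ≠ 0 := by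
      obtain ⟨p, hp⟩ := CharP.exists F
      haveI := hp
      obtain ⟨k, hpp, hk⟩ := FiniteField.card F p
      have hp3 : p = 3 := by
        have h1 : p ∣ Fintype.card F := hk ▸ dvd_pow_self p k.ne_zero
        rw [hq3] at h1
        exact (Nat.prime_dvd_prime_iff_eq hpp Nat.prime_three).1 h1
      subst hp3
      intro h
      have : ((2 : ℕ) : F) = 0 := by exact_mod_cast h
      rw [CharP.cast_eq_zero_iff F 3] at this
      omega
    refine false_of_regular (Ω := Ω) h2 (QuotientGroup.mk 1) (hfree hc _) ?_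
    rw [hq3, Nat.card_eq_fintype_card, hΩ, ← hW, hdim, hc, hq3]
    norm_num

end H40.MinDeg
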