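import Mathlib

/-!
# The Fine–Herstein count of nilpotent endomorphisms.
-/

set_option autoImplicit false

open Module

namespace H40

variable (F : Type*) [Field F]

/-- number of nilpotent endomorphisms of F^k -/
noncomputable def nilCount (k : ℕ) : ℕ :=
  Nat.card {A : Module.End F (Fin k → F) // IsNilpotent A}

/-- number of automorphisms of F^k -/
noncomputable def autCount (k : ℕ) : ℕ := Nat.card ((Fin k → F) ≃ₗ[F] (Fin k → F))

variable {F}

theorem end_nilpotent_pow {k : ℕ} {A : Module.End F (Fin k → F)} (hA : IsNilpotent A) {N : ℕ}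
    (hN : k ≤ N) : A ^ N = 0 := by
  obtain ⟨j, hj⟩ := hA
  have h : LinearMap.ker (A ^ N) = ⊤ := by
    have h1 : LinearMap.ker (A ^ (N + j)) = ⊤ := by
      rw [pow_add, hj, mul_zero, LinearMap.ker_zero]
    rw [Module.End.ker_pow_eq_ker_pow_finrank_of_le (by rw [Module.finrank_fin_fun]; omega)] at h1
    rw [Module.End.ker_pow_eq_ker_pow_finrank_of_le (by rw [Module.finrank_fin_fun]; omega)]
    exact h1
  exact LinearMap.ker_eq_top.1 h

theorem card_iso_eq [Finite F] {V W : Type*} [AddCommGroup V] [Module F V] [AddCommGroup W]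
    [Module F W] (e : V ≃ₗ[F] W) : Nat.card (V ≃ₗ[F] W) = Nat.card (V ≃ₗ[F] V) := by
  refine Nat.card_congr
    { toFun := fun f => f.trans e.symm
      invFun := fun f => f.trans e
      left_inv := fun f => by ext; simp
      right_inv := fun f => by ext; simp }

/-- endomorphisms of F^n whose generalised kernel has dimension k -/
def FitType (F : Type*) [Field F] (n k : ℕ) : Type _ :=
  {T : Module.End F (Fin n → F) // Module.finrank F (LinearMap.ker (T ^ n)) = k}

/-- data (iso, nilpotent, invertible) -/
def FitData (F : Type*) [Field F] (n k m : ℕ) : Type _ :=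
  ((Fin n → F) ≃ₗ[F] (Fin k → F) × (Fin m → F)) ×
    {A : Module.End F (Fin k → F) // IsNilpotent A} × ((Fin m → F) ≃ₗ[F] (Fin m → F))

section

variable {n k m : ℕ}

theorem prodMap_pow (A : Module.End F (Fin k → F)) (B : Module.End F (Fin m → F)) (N : ℕ) :
    (LinearMap.prodMap A B) ^ N = LinearMap.prodMap (A ^ N) (B ^ N) := by
  induction N with
  | zero => ext <;> simp
  | succ N ih => rw [pow_succ, pow_succ, pow_succ, ih, LinearMap.prodMap_mul]

/-- Fitting decomposition of an endomorphism. -/
theorem exists_fitting (hkm : k + m = n) (T : FitType F n k) :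
    ∃ (e : (Fin n → F) ≃ₗ[F] (Fin k → F) × (Fin m → F))
      (A : Module.End F (Fin k → F)) (B : (Fin m → F) ≃ₗ[F] (Fin m → F)),
      IsNilpotent A ∧ e.conj T.1 = LinearMap.prodMap A B.toLinearMap := by
  obtain ⟨T, hT⟩ := T
  set U := LinearMap.ker (T ^ n) with hU
  set W := LinearMap.range (T ^ n) with hW
  have hstab : ∀ N, n ≤ N → LinearMap.ker (T ^ N) = U := fun N hN => by
    rw [hU, Module.End.ker_pow_eq_ker_pow_finrank_of_le (f := T) (m := N)
        (by rw [Module.finrank_fin_fun]; exact hN),
      Module.End.ker_pow_eq_ker_pow_finrank_of_le (f := T) (m := n) (by rw [Module.finrank_fin_fun])]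
  have hdisj : Disjoint U W := by
    rw [Submodule.disjoint_def]
    rintro v hvU ⟨w, rfl⟩
    have : w ∈ LinearMap.ker (T ^ (n + n)) := by
      rw [LinearMap.mem_ker, pow_add, Module.End.mul_apply]; exact hvU
    rw [hstab _ (by omega)] at this
    exact this
  have hc : IsCompl U W := by
    refine Submodule.isCompl_iff_disjoint U W ?_ |>.2 hdisj
    rw [add_comm]
    exact (LinearMap.finrank_range_add_finrank_ker (T ^ n)).ge
  have hWdim : Module.finrank F W = m := by
    have := LinearMap.finrank_range_add_finrank_ker (T ^ n)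
    rw [Module.finrank_fin_fun, ← hU, ← hW, hT] at this
    omega
  let eU : U ≃ₗ[F] (Fin k → F) := LinearEquiv.ofFinrankEq _ _ (by rw [hT, Module.finrank_fin_fun])
  let eW : W ≃ₗ[F] (Fin m → F) := LinearEquiv.ofFinrankEq _ _ (by rw [hWdim, Module.finrank_fin_fun])
  have hUinv : ∀ v ∈ U, T v ∈ U := fun v hv => by
    rw [hU, LinearMap.mem_ker, ← Module.End.mul_apply, ← pow_succ, pow_succ', Module.End.mul_apply,
      LinearMap.mem_ker.1 hv, map_zero]
  have hWinv : ∀ v ∈ W, T v ∈ W := by
    rintro _ ⟨w, rfl⟩
    exact ⟨T w, by rw [← Module.End.mul_apply, ← pow_succ, pow_succ', Module.End.mul_apply]⟩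
  have hWinj : Function.Injective (T.restrict hWinv) := by
    rw [← LinearMap.ker_eq_bot, Submodule.eq_bot_iff]
    intro v hv
    have h0 : T (v : Fin n → F) = 0 := congrArg Subtype.val (LinearMap.mem_ker.1 hv)
    have : (v : Fin n → F) ∈ U := by
      rcases Nat.eq_zero_or_pos n with hn | hn
      · subst hn
        have hv0 : (v : Fin 0 → F) = 0 := funext fun i => i.elim0
        rw [hv0]; exact zero_mem _
      · obtain ⟨j, hj⟩ : ∃ j, n = j + 1 := ⟨n - 1, by omega⟩
        have e : T ^ n = T ^ j * T := by rw [← pow_succ, ← hj]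
        rw [hU, LinearMap.mem_ker, e, Module.End.mul_apply, h0, map_zero]
    exact Subtype.ext (Submodule.disjoint_def.1 hdisj _ this v.2)
  let BW : W ≃ₗ[F] W := LinearEquiv.ofInjectiveEndo (T.restrict hWinv) hWinj
  refine ⟨(Submodule.prodEquivOfIsCompl U W hc).symm.trans (eU.prodCongr eW),
    eU.conj (T.restrict hUinv), eW.symm.trans (BW.trans eW), ?_, ?_⟩
  · refine ⟨n, ?_⟩
    have hpow : ∀ N : ℕ, (eU.conj (T.restrict hUinv)) ^ N = eU.conj ((T.restrict hUinv) ^ N) := by
      intro N
      induction N with
      | zero => ext; simp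
      | succ N ih => rw [pow_succ, pow_succ, ih]; ext; simp [Module.End.mul_apply]
    rw [hpow]
    have : (T.restrict hUinv) ^ n = 0 := by
      ext v : 1
      apply Subtype.ext
      rw [LinearMap.zero_apply, Submodule.coe_zero]
      have hc2 : ∀ N, (((T.restrict hUinv) ^ N) v : Fin n → F) = (T ^ N) v := by
        intro N
        induction N with
        | zero => simp
        | succ N ih => rw [pow_succ', pow_succ', Module.End.mul_apply, Module.End.mul_apply, ← ih]; rfl
      rw [hc2]; exact v.2
    rw [this, map_zero]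
  · ext1
    · refine LinearMap.ext fun x => ?_
      have h := Submodule.prodEquivOfIsCompl_symm_apply_left U W hc (T.restrict hUinv (eU.symm x))
      simp only [LinearMap.comp_apply, LinearMap.inl_apply, LinearEquiv.conj_apply,
        LinearEquiv.trans_apply, LinearEquiv.trans_symm, LinearEquiv.symm_symm,
        LinearEquiv.coe_coe, LinearMap.prodMap_apply, map_zero]
      have h2 : (Submodule.prodEquivOfIsCompl U W hc) (eU.symm x, (0 : W)) = (eU.symm x : Fin n → F) := by
        rw [Submodule.coe_prodEquivOfIsCompl']
        simp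
      simp only [LinearEquiv.prodCongr_symm, LinearEquiv.prodCongr_apply, map_zero, h2]
      rw [show T (eU.symm x : Fin n → F) = ((T.restrict hUinv (eU.symm x) : U) : Fin n → F) from rfl, h]
      simp
    · refine LinearMap.ext fun x => ?_
      have h := Submodule.prodEquivOfIsCompl_symm_apply_right U W hc (T.restrict hWinv (eW.symm x))
      simp only [LinearMap.comp_apply, LinearMap.inr_apply, LinearEquiv.conj_apply,
        LinearEquiv.trans_apply, LinearEquiv.trans_symm, LinearEquiv.symm_symm,
        LinearEquiv.coe_coe, LinearMap.prodMap_apply, map_zero]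
      have h2 : (Submodule.prodEquivOfIsCompl U W hc) ((0 : U), eW.symm x) = (eW.symm x : Fin n → F) := by
        rw [Submodule.coe_prodEquivOfIsCompl']
        simp
      simp only [LinearEquiv.prodCongr_symm, LinearEquiv.prodCongr_apply, map_zero, h2]
      rw [show T (eW.symm x : Fin n → F) = ((T.restrict hWinv (eW.symm x) : W) : Fin n → F) from rfl, h]
      simp [BW]

/-- the endomorphism of given data -/
theorem fitData_mem (hkm : k + m = n) (d : FitData F n k m) :
    Module.finrank F (LinearMap.ker ((d.1.symm.conj (LinearMap.prodMap d.2.1.1 d.2.2.toLinearMap)) ^ n)) = k := by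
  obtain ⟨e, ⟨A, hA⟩, B⟩ := d
  have hpow : ∀ N : ℕ, (e.symm.conj (LinearMap.prodMap A B.toLinearMap)) ^ N =
      e.symm.conj ((LinearMap.prodMap A B.toLinearMap) ^ N) := by
    intro N
    induction N with
    | zero => ext; simp
    | succ N ih =>
      rw [pow_succ, pow_succ, ih]
      refine LinearMap.ext fun v => ?_
      simp [Module.End.mul_apply]
  show Module.finrank F (LinearMap.ker ((e.symm.conj (LinearMap.prodMap A B.toLinearMap)) ^ n)) = k
  rw [hpow, prodMap_pow, end_nilpotent_pow hA (by omega)]
  let f : (Fin k → F) →ₗ[F] (Fin n → F) := e.symm.toLinearMap ∘ₗ LinearMap.inl F _ _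
  have hf : Function.Injective f := e.symm.injective.comp LinearMap.inl_injective
  have hBinj : Function.Injective (B.toLinearMap ^ n) := by
    rw [Module.End.coe_pow]
    exact Function.Injective.iterate B.injective n
  have : LinearMap.ker (e.symm.conj (LinearMap.prodMap (0 : Module.End F (Fin k → F)) (B.toLinearMap ^ n))) =
      LinearMap.range f := by
    ext v
    simp only [LinearMap.mem_ker, LinearEquiv.conj_apply, LinearMap.comp_apply, LinearEquiv.coe_coe,
      LinearEquiv.symm_symm, LinearMap.prodMap_apply, LinearMap.zero_apply, LinearMap.mem_range,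
      LinearEquiv.map_eq_zero_iff, Prod.mk_eq_zero, true_and, f, LinearMap.inl_apply]
    constructor
    · intro h
      have h2 : (e v).2 = 0 := hBinj (by rw [h, map_zero])
      exact ⟨(e v).1, e.injective (by rw [e.apply_symm_apply, ← h2])⟩
    · rintro ⟨x, rfl⟩
      rw [e.apply_symm_apply]
      exact map_zero _
  rw [this, LinearMap.finrank_range_of_inj hf, Module.finrank_fin_fun]

theorem card_fitType_mul [Finite F] (hkm : k + m = n) :
    autCount F n * nilCount F k * autCount F m =
      Nat.card (FitType F n k) * (autCount F k * autCount F m) := by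
  classical
  haveI : Finite ((Fin k → F) × (Fin m → F)) := inferInstance
  let e0 : (Fin n → F) ≃ₗ[F] (Fin k → F) × (Fin m → F) :=
    LinearEquiv.ofFinrankEq _ _ (by
      rw [Module.finrank_prod, Module.finrank_fin_fun, Module.finrank_fin_fun, Module.finrank_fin_fun, hkm])
  have hL : Nat.card (FitData F n k m) = autCount F n * nilCount F k * autCount F m := by
    rw [FitData, Nat.card_prod, Nat.card_prod, card_iso_eq e0, ← mul_assoc]
    rfl
  choose eT AT BT hAT hT using exists_fitting (F := F) hkm
  let Φ : FitType F n k × (((Fin k → F) ≃ₗ[F] (Fin k → F)) × ((Fin m → F) ≃ₗ[F] (Fin m → F))) →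
      FitData F n k m := fun x =>
    ((eT x.1).trans (x.2.1.prodCongr x.2.2),
      ⟨x.2.1.conj (AT x.1), by
        obtain ⟨j, hj⟩ := hAT x.1
        refine ⟨j, ?_⟩
        have : ∀ N : ℕ, (x.2.1.conj (AT x.1)) ^ N = x.2.1.conj ((AT x.1) ^ N) := by
          intro N
          induction N with
          | zero => ext; simp
          | succ N ih => rw [pow_succ, pow_succ, ih]; ext; simp [Module.End.mul_apply]
        rw [this, hj, map_zero]⟩,
      x.2.2.symm.trans ((BT x.1).trans x.2.2))
  have hΦT : ∀ x, (Φ x).1.symm.conj (LinearMap.prodMap (Φ x).2.1.1 (Φ x).2.2.toLinearMap) = x.1.1 := by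
    intro x
    refine LinearMap.ext fun v => ?_
    have h := LinearMap.congr_fun (hT x.1) ((eT x.1) v)
    simp only [LinearEquiv.conj_apply, LinearMap.comp_apply, LinearEquiv.coe_coe,
      LinearEquiv.symm_apply_apply, LinearMap.prodMap_apply] at h
    apply (eT x.1).injective
    simp [Φ, h, LinearEquiv.trans_symm, LinearEquiv.prodCongr_symm, LinearEquiv.prodCongr_apply]
  have hbij : Function.Bijective Φ := by
    constructor
    · rintro ⟨T, g, h⟩ ⟨T', g', h'⟩ heq
      have e1 := hΦT (T, g, h)
      rw [heq, hΦT] at e1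
      have hTT : T' = T := Subtype.ext e1
      subst hTT
      have e2 := congrArg Prod.fst heq
      simp only [Φ] at e2
      have e3 : ∀ x y, g x = g' x ∧ h y = h' y := by
        intro x y
        have := LinearEquiv.congr_fun e2 ((eT T').symm (x, y))
        simpa [Prod.ext_iff] using this
      exact Prod.ext rfl (Prod.ext (LinearEquiv.ext fun x => (e3 x 0).1) (LinearEquiv.ext fun y => (e3 0 y).2))
    · rintro ⟨e, ⟨A, hA⟩, B⟩
      let T : FitType F n k := ⟨_, fitData_mem hkm (e, ⟨A, hA⟩, B)⟩
      let f : ((Fin k → F) × (Fin m → F)) ≃ₗ[F] ((Fin k → F) × (Fin m → F)) := (eT T).symm.trans e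
      have hf : ∀ v, f (LinearMap.prodMap (AT T) (BT T).toLinearMap v) =
          LinearMap.prodMap A B.toLinearMap (f v) := by
        intro v
        have h := LinearMap.congr_fun (hT T) v
        rw [← h]
        simp [f, T, LinearEquiv.conj_apply]
      have hfN : ∀ N v, f ((LinearMap.prodMap (AT T) (BT T).toLinearMap ^ N) v) =
          (LinearMap.prodMap A B.toLinearMap ^ N) (f v) := by
        intro N
        induction N with
        | zero => intro v; simp
        | succ N ih => intro v; rw [pow_succ', pow_succ', Module.End.mul_apply, Module.End.mul_apply, hf, ih]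
      have h0 : ∀ v, f ((0 : Fin k → F), ((BT T).toLinearMap ^ n) v.2) =
          ((0 : Fin k → F), (B.toLinearMap ^ n) (f v).2) := by
        intro v
        have := hfN n v
        rw [prodMap_pow, prodMap_pow, end_nilpotent_pow (hAT T) (by omega),
          end_nilpotent_pow hA (by omega)] at this
        simpa using this
      have hBinj : Function.Injective (B.toLinearMap ^ n) := by
        rw [Module.End.coe_pow]
        exact Function.Injective.iterate B.injective n
      have hBTs : Function.Surjective ((BT T).toLinearMap ^ n) := by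
        rw [Module.End.coe_pow]
        exact Function.Surjective.iterate (BT T).surjective n
      have hu : ∀ x, (f (x, 0)).2 = 0 := by
        intro x
        apply hBinj
        have := h0 (x, 0)
        simp only [map_zero, Prod.mk_zero_zero] at this
        rw [map_zero]
        exact (congrArg Prod.snd this).symm
      have hw : ∀ y, (f (0, y)).1 = 0 := by
        intro y
        obtain ⟨z, rfl⟩ := hBTs y
        exact congrArg Prod.fst (h0 (0, z))
      let g : (Fin k → F) ≃ₗ[F] (Fin k → F) := LinearEquiv.ofInjectiveEndo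
        ((LinearMap.fst F _ _) ∘ₗ f.toLinearMap ∘ₗ LinearMap.inl F _ _) (by
          intro a b hab
          have : f (a, 0) = f (b, 0) := Prod.ext hab (by rw [hu, hu])
          exact congrArg Prod.fst (f.injective this))
      let h : (Fin m → F) ≃ₗ[F] (Fin m → F) := LinearEquiv.ofInjectiveEndo
        ((LinearMap.snd F _ _) ∘ₗ f.toLinearMap ∘ₗ LinearMap.inr F _ _) (by
          intro a b hab
          have : f (0, a) = f (0, b) := Prod.ext (by rw [hw, hw]) hab
          exact congrArg Prod.snd (f.injective this))
      have hgh : ∀ x y, f (x, y) = (g x, h y) := by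
        intro x y
        rw [show (x, y) = (x, 0) + ((0 : Fin k → F), y) by simp, map_add]
        refine Prod.ext ?_ ?_
        · show (f (x, 0)).1 + (f (0, y)).1 = g x
          rw [hw, add_zero]; rfl
        · show (f (x, 0)).2 + (f (0, y)).2 = h y
          rw [hu, zero_add]; rfl
      refine ⟨(T, g, h), ?_⟩
      have he : (eT T).trans (g.prodCongr h) = e := by
        refine LinearEquiv.ext fun v => ?_
        rw [LinearEquiv.trans_apply, LinearEquiv.prodCongr_apply, ← hgh]
        simp [f]
      refine Prod.ext he (Prod.ext (Subtype.ext (LinearMap.ext fun x => ?_)) (LinearEquiv.ext fun y => ?_))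
      · have := congrArg Prod.fst (hf (g.symm x, 0))
        simp only [LinearMap.prodMap_apply, map_zero, hgh, LinearEquiv.apply_symm_apply] at this
        simpa [Φ] using this
      · have := congrArg Prod.snd (hf (0, h.symm y))
        simp only [LinearMap.prodMap_apply, map_zero, LinearEquiv.coe_coe, hgh,
          LinearEquiv.apply_symm_apply] at this
        simpa [Φ] using this
  rw [← hL, ← Nat.card_congr (Equiv.ofBijective Φ hbij), Nat.card_prod, Nat.card_prod]
  rfl

end

theorem autCount_eq [Fintype F] (n : ℕ) :
    autCount F n = ∏ i : Fin n, (Fintype.card F ^ n - Fintype.card F ^ (i : ℕ)) := by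
  rw [autCount, ← Matrix.card_GL_field]
  exact Nat.card_congr
    (Matrix.GeneralLinearGroup.toLin.trans (LinearMap.GeneralLinearGroup.generalLinearEquiv F _)).toEquiv.symm

theorem autCount_succ [Fintype F] (n : ℕ) :
    autCount F (n + 1) = (Fintype.card F ^ (n + 1) - 1) * Fintype.card F ^ n * autCount F n := by
  rw [autCount_eq, autCount_eq, Fin.prod_univ_succ, Fin.val_zero, pow_zero, mul_assoc]
  congr 1
  rw [show (Fintype.card F) ^ n = ∏ _i : Fin n, Fintype.card F by simp, ← Finset.prod_mul_distrib]
  refine Finset.prod_congr rfl fun i _ => ?_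
  rw [Nat.mul_sub, Finset.prod_const, Finset.card_univ, Fintype.card_fin, Fin.val_succ, pow_succ,
    pow_succ, mul_comm (Fintype.card F), mul_comm (Fintype.card F)]

theorem autCount_pos [Fintype F] (n : ℕ) : 0 < autCount F n := by
  haveI : Finite ((Fin n → F) ≃ₗ[F] (Fin n → F)) := DFunLike.finite _
  exact Nat.card_pos_iff.2 ⟨⟨LinearEquiv.refl F _⟩, inferInstance⟩

theorem sum_fitType [Fintype F] (n : ℕ) :
    Fintype.card F ^ (n * n) = ∑ k ∈ Finset.range (n + 1), Nat.card (FitType F n k) := by
  classical
  haveI : Finite (Module.End F (Fin n → F)) := DFunLike.finite _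
  cases nonempty_fintype (Module.End F (Fin n → F))
  have h1 : Fintype.card F ^ (n * n) = Fintype.card (Module.End F (Fin n → F)) := by
    rw [← Fintype.card_congr (Matrix.toLinAlgEquiv' (R := F) (n := Fin n)).toEquiv]
    show _ = Fintype.card (Fin n → Fin n → F)
    rw [Fintype.card_fun, Fintype.card_fun, Fintype.card_fin, pow_mul]
  rw [h1, ← Finset.card_univ, Finset.card_eq_sum_card_fiberwise
    (f := fun T : Module.End F (Fin n → F) => Module.finrank F (LinearMap.ker (T ^ n)))
    (t := Finset.range (n + 1))]
  · refine Finset.sum_congr rfl fun k _ => ?_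
    show _ = Nat.card {T : Module.End F (Fin n → F) // Module.finrank F (LinearMap.ker (T ^ n)) = k}
    rw [Nat.card_eq_fintype_card, Fintype.card_subtype]
  · intro T _
    have h2 := Submodule.finrank_le (LinearMap.ker (T ^ n))
    rw [Module.finrank_fin_fun] at h2
    simp only [Finset.coe_range, Set.mem_Iio]
    omega

/-- Fine–Herstein -/
theorem nilCount_eq [Fintype F] (n : ℕ) : nilCount F n = Fintype.card F ^ (n * (n - 1)) := by
  have hq : (0 : ℚ) < Fintype.card F := by exact_mod_cast Fintype.card_pos
  have key : ∀ N : ℕ, ∑ k ∈ Finset.range (N + 1), (nilCount F k : ℚ) / autCount F k =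
      (Fintype.card F : ℚ) ^ (N * N) / autCount F N := by
    intro N
    have hN : (autCount F N : ℚ) ≠ 0 := by exact_mod_cast (autCount_pos N).ne'
    have h := sum_fitType (F := F) N
    have h' : (Fintype.card F : ℚ) ^ (N * N) =
        ∑ k ∈ Finset.range (N + 1), (Nat.card (FitType F N k) : ℚ) := by exact_mod_cast h
    rw [h', Finset.sum_div]
    refine Finset.sum_congr rfl fun k hk => ?_
    have hkN : k ≤ N := by simp at hk; omega
    have hm := card_fitType_mul (F := F) (k := k) (m := N - k) (n := N) (by omega)
    rw [← mul_assoc] at hm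
    have h3 := Nat.eq_of_mul_eq_mul_right (autCount_pos (F := F) (N - k)) hm
    have hk0 : (autCount F k : ℚ) ≠ 0 := by exact_mod_cast (autCount_pos k).ne'
    rw [div_eq_div_iff hk0 hN]
    rw [mul_comm (nilCount F k : ℚ)]
    exact_mod_cast h3
  cases n with
  | zero =>
    have := key 0
    simp [autCount_eq] at this
    simpa using this
  | succ N =>
    have h := key (N + 1)
    rw [Finset.sum_range_succ, key N] at h
    have hN : (autCount F N : ℚ) ≠ 0 := by exact_mod_cast (autCount_pos N).ne'
    have h1 : 1 ≤ Fintype.card F ^ (N + 1) := Nat.one_le_pow _ _ Fintype.card_pos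
    have hA : (autCount F (N + 1) : ℚ) = ((Fintype.card F : ℚ) ^ (N + 1) - 1) *
        (Fintype.card F : ℚ) ^ N * autCount F N := by
      rw [autCount_succ, Nat.cast_mul, Nat.cast_mul, Nat.cast_sub h1]
      simp
    have hA0 : (autCount F (N + 1) : ℚ) ≠ 0 := by exact_mod_cast (autCount_pos _).ne'
    have : (nilCount F (N + 1) : ℚ) = (Fintype.card F : ℚ) ^ ((N + 1) * N) := by
      field_simp at h
      rw [hA] at h
      have e : (Fintype.card F : ℚ) ^ ((N + 1) * (N + 1)) =
          (Fintype.card F : ℚ) ^ ((N + 1) * N) * (Fintype.card F : ℚ) ^ (N + 1) := by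
        rw [← pow_add]; ring_nf
      have e2 : (Fintype.card F : ℚ) ^ ((N + 1) * N) =
          (Fintype.card F : ℚ) ^ (N * N) * (Fintype.card F : ℚ) ^ N := by
        rw [← pow_add]; ring_nf
      rw [e, e2] at h
      rw [e2]
      apply mul_left_cancel₀ hN
      linear_combination h
    rw [Nat.add_sub_cancel]
    exact_mod_cast this

end H40
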