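import Cfsg.Agent.H40.OmOrbit

/-!
The family of Eichler elements in a group with a Levi subgroup and two radicals, and the centrality
of the kernel of its map to the orthogonal group.
-/

set_option autoImplicit false
set_option linter.unusedSectionVars false
set_option linter.style.haveILetI false
set_option linter.unusedSimpArgs false

namespace H40.OmFamily

open Matrix
open H40.Glue (tv)
open H40.OmModel (δ altM aM congrA thT tX lev radU radW sw tau)
open scoped commutatorElement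
open H43 (orthGroup qPlus polB eichler)

variable {F : Type*} [Field F] {n : ℕ} {G : Type*} [Group G]

local notation "vv" => H40.OmModel.vec

local notation "SLn" => SpecialLinearGroup (Fin n) F

/-- The singular vector and its orthogonal partner. -/
def Ok (u w : Fin n ⊕ Fin n → F) : Prop := qPlus n F u = 0 ∧ polB (qPlus n F) u w = 0

theorem Ok.map {u w : Fin n ⊕ Fin n → F} (h : Ok u w) (g : orthGroup (qPlus n F)) :
    Ok (g.1 u) (g.1 w) :=
  ⟨by rw [H43.orth_qmap]; exact h.1, by rw [H43.orth_polB_map]; exact h.2⟩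

theorem ok_par {x : Fin n → F} {v : Fin n ⊕ Fin n → F} (h : (v ∘ Sum.inr) ⬝ᵥ x = 0) :
    Ok (vv x 0) v := by
  refine ⟨by rw [H40.OmModel.qP_vec, dotProduct_zero], ?_⟩
  rw [← H40.OmModel.vec_eta v, H40.OmModel.polB_vec, zero_dotProduct, add_zero, dotProduct_comm, h]

theorem dot_of_ok {x : Fin n → F} {v : Fin n ⊕ Fin n → F} (h : Ok (vv x 0) v) :
    (v ∘ Sum.inr) ⬝ᵥ x = 0 := by
  have := h.2
  rwa [← H40.OmModel.vec_eta v, H40.OmModel.polB_vec, zero_dotProduct, add_zero, dotProduct_comm] at this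

theorem dot_of_sing {x y : Fin n → F} (h : qPlus n F (vv x y) = 0) : x ⬝ᵥ y = 0 := by
  rwa [H40.OmModel.qP_vec] at h

/-- A Levi subgroup and two radicals. -/
structure RData (ψ : SpecialLinearGroup (Fin n) F →* G) (U W : Multiplicative (altM n F) →* G)
    (π : G →* orthGroup (qPlus n F)) : Prop where
  hn : 4 ≤ n
  psi : ∀ g, π (ψ g) = lev g
  upper : ∀ S, π (U S) = radU S
  lower : ∀ S, π (W S) = radW S
  conjU : ∀ g S, ψ g * U (.ofAdd S) * (ψ g)⁻¹ = U (.ofAdd (congrA g S))
  conjW : ∀ g S, ψ g * W (.ofAdd S) * (ψ g)⁻¹ = W (.ofAdd (congrA (thT g) S))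
  mixU : ∀ p q r s : Fin n, p ≠ q → r ≠ s → ¬ (r = p ∧ s = q) ∧ ¬ (r = q ∧ s = p) → ∀ a b : F,
    ∃ g S, W (.ofAdd (aM (δ p) (a • δ q))) * U (.ofAdd (aM (δ r) (b • δ s))) *
      (W (.ofAdd (aM (δ p) (a • δ q))))⁻¹ = ψ g * U (.ofAdd S)
  mixW : ∀ p q r s : Fin n, p ≠ q → r ≠ s → ¬ (r = p ∧ s = q) ∧ ¬ (r = q ∧ s = p) → ∀ a b : F,
    ∃ g S, U (.ofAdd (aM (δ p) (a • δ q))) * W (.ofAdd (aM (δ r) (b • δ s))) *
      (U (.ofAdd (aM (δ p) (a • δ q))))⁻¹ = ψ g * W (.ofAdd S)
  pair : ∀ p q : Fin n, p ≠ q →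
    ∀ z ∈ Subgroup.closure (Set.range (fun v : F => U (.ofAdd (aM (δ p) (v • δ q)))) ∪
      Set.range (fun v : F => W (.ofAdd (aM (δ p) (v • δ q))))), π z = 1 → z = 1

variable {ψ : SpecialLinearGroup (Fin n) F →* G} {U W : Multiplicative (altM n F) →* G}
  {π : G →* orthGroup (qPlus n F)} (R : RData ψ U W π)

include R

theorem RData.dual : RData (ψ.comp thT) W U (sw.comp π) where
  hn := R.hn
  psi g := by
    rw [MonoidHom.comp_apply, MonoidHom.comp_apply, R.psi, H40.OmModel.sw_lev, H40.OmModel.thT_thT]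
  upper S := by rw [MonoidHom.comp_apply, R.lower, H40.OmModel.sw_radW]
  lower S := by rw [MonoidHom.comp_apply, R.upper, H40.OmModel.sw_radU]
  conjU g S := by rw [MonoidHom.comp_apply, R.conjW, H40.OmModel.thT_thT]
  conjW g S := by rw [MonoidHom.comp_apply, R.conjU]
  mixU p q r s h1 h2 h3 a b := by
    obtain ⟨g, S, e⟩ := R.mixW p q r s h1 h2 h3 a b
    exact ⟨thT g, S, by rw [e, MonoidHom.comp_apply, H40.OmModel.thT_thT]⟩
  mixW p q r s h1 h2 h3 a b := by
    obtain ⟨g, S, e⟩ := R.mixU p q r s h1 h2 h3 a b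
    exact ⟨thT g, S, by rw [e, MonoidHom.comp_apply, H40.OmModel.thT_thT]⟩
  pair p q h z hz e := by
    refine R.pair p q h z (by rwa [Set.union_comm]) ?_
    rw [MonoidHom.comp_apply] at e
    rw [← H40.OmModel.sw_sw (π z), e, map_one]

/-- The upper parabolic. -/
def par : Subgroup G where
  carrier := {z | ∃ g S, z = ψ g * U (.ofAdd S)}
  one_mem' := ⟨1, 0, by simp⟩
  mul_mem' := by
    rintro _ _ ⟨g, S, rfl⟩ ⟨h, T, rfl⟩
    refine ⟨g * h, congrA h⁻¹ S + T, ?_⟩
    rw [ofAdd_add, map_mul, map_mul, ← R.conjU, map_inv]; group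
  inv_mem' := by
    rintro _ ⟨g, S, rfl⟩
    refine ⟨g⁻¹, congrA g (-S), ?_⟩
    rw [← R.conjU, ofAdd_neg, map_inv, map_inv]; group

theorem psi_mem (g : SLn) : ψ g ∈ par R := ⟨g, 0, by simp⟩

theorem U_mem (S : Multiplicative (altM n F)) : U S ∈ par R := ⟨1, S.toAdd, by simp⟩

theorem par_ext {z z' : G} (hz : z ∈ par R) (hz' : z' ∈ par R) (e : π z = π z') : z = z' := by
  obtain ⟨g, S, hgS⟩ := mul_mem hz (inv_mem hz')
  have e1 : lev g * radU (.ofAdd S) = 1 := by
    rw [← R.psi, ← R.upper, ← map_mul, ← hgS, map_mul, map_inv, e, mul_inv_cancel]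
  have hg : g = 1 := Subtype.ext (Matrix.ext_iff_mulVec.2 fun x => by
    have := congrArg (fun z : orthGroup (qPlus n F) => z.1 (vv x 0)) e1
    simp only [H43.orth_mul_apply, H40.OmModel.radU_vec, mulVec_zero, add_zero, H40.OmModel.lev_vec,
      H43.orth_one_apply] at this
    rw [H40.OmModel.cone, one_mulVec]
    exact congrArg (fun v : Fin n ⊕ Fin n → F => v ∘ Sum.inl) this)
  subst hg
  rw [map_one, one_mul] at e1
  have hS : S = 0 := Subtype.ext (Matrix.ext_iff_mulVec.2 fun y => by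
    have := congrArg (fun z : orthGroup (qPlus n F) => z.1 (vv 0 y)) e1
    simp only [H40.OmModel.radU_vec, zero_add, H43.orth_one_apply] at this
    have h2 := congrArg (fun v : Fin n ⊕ Fin n → F => v ∘ Sum.inl) this
    simpa using h2)
  subst hS
  rw [map_one, ofAdd_zero, map_one, one_mul] at hgS
  exact mul_inv_eq_one.1 hgS

omit R in
/-- The element of the parabolic of a vector of the first half. -/
noncomputable def E0 (ψ : SpecialLinearGroup (Fin n) F →* G) (U : Multiplicative (altM n F) →* G)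
    (x : Fin n → F) (v : Fin n ⊕ Fin n → F) : G :=
  ψ (tX x (v ∘ Sum.inr)) * U (.ofAdd (aM (v ∘ Sum.inl) x))

theorem E0_mem (x : Fin n → F) (v : Fin n ⊕ Fin n → F) : E0 ψ U x v ∈ par R := ⟨_, _, rfl⟩

theorem pi_E0 {x : Fin n → F} {v : Fin n ⊕ Fin n → F} (h : Ok (vv x 0) v) :
    π (E0 ψ U x v) = eichler (qPlus n F) (vv x 0) v := by
  rw [E0, map_mul, R.psi, R.upper, H40.OmModel.eichler_par _ _ _ (dot_of_ok h), H40.OmModel.vec_eta]

omit R in
theorem ok_add {u v v' : Fin n ⊕ Fin n → F} (h : Ok u v) (h' : Ok u v') : Ok u (v + v') :=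
  ⟨h.1, by rw [map_add, h.2, h'.2, add_zero]⟩

theorem E0_add {x : Fin n → F} {v v' : Fin n ⊕ Fin n → F} (h : Ok (vv x 0) v)
    (h' : Ok (vv x 0) v') : E0 ψ U x (v + v') = E0 ψ U x v * E0 ψ U x v' := by
  refine par_ext R (E0_mem R _ _) (mul_mem (E0_mem R _ _) (E0_mem R _ _)) ?_
  rw [map_mul, pi_E0 R h, pi_E0 R h', pi_E0 R (ok_add h h'), H43.eichler_mul h.1 h.2 h'.2]

omit R in
theorem vec_zero_fix (g : SLn) (x : Fin n → F) : (lev g).1 (vv x 0) = vv (g.1 *ᵥ x) 0 := by
  rw [H40.OmModel.lev_vec, mulVec_zero]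

theorem E0_conj (g : SLn) {x : Fin n → F} {v : Fin n ⊕ Fin n → F} (h : Ok (vv x 0) v) :
    ψ g * E0 ψ U x v * (ψ g)⁻¹ = E0 ψ U (g.1 *ᵥ x) ((lev g).1 v) := by
  have h' := h.map (lev g)
  rw [vec_zero_fix] at h'
  refine par_ext R (mul_mem (mul_mem (psi_mem R g) (E0_mem R _ _)) (inv_mem (psi_mem R g)))
    (E0_mem R _ _) ?_
  rw [map_mul, map_mul, map_inv, pi_E0 R h, pi_E0 R h', R.psi, H43.eichler_conj _ h.1 h.2,
    vec_zero_fix]

omit R in
theorem tX_zero (x : Fin n → F) : tX x 0 = (1 : SLn) :=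
  Subtype.ext (by rw [H40.OmModel.coe_tX (zero_dotProduct x), vecMulVec_zero, sub_zero]; rfl)

omit R in
theorem aM_zero_left (x : Fin n → F) : aM 0 x = (0 : altM n F) :=
  Subtype.ext (by simp [H40.OmModel.aM_coe])

omit R in
theorem aM_zero_right (x : Fin n → F) : aM x 0 = (0 : altM n F) :=
  Subtype.ext (by simp [H40.OmModel.aM_coe])

omit R in
theorem aM_flip (x y : Fin n) (v : F) : aM (v • δ x) (δ y) = (aM (δ y) ((-v) • δ x) : altM n F) := by
  apply Subtype.ext
  ext i j
  simp [H40.OmModel.aM_coe, vecMulVec_apply]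
  ring

omit R in
theorem E0_low (x b : Fin n → F) : E0 ψ U x (vv 0 b) = ψ (tX x b) := by
  rw [E0, Sum.elim_comp_inl, Sum.elim_comp_inr, aM_zero_left, ofAdd_zero, map_one, mul_one]

omit R in
theorem E0_up (x a : Fin n → F) : E0 ψ U x (vv a 0) = U (.ofAdd (aM a x)) := by
  rw [E0, Sum.elim_comp_inl, Sum.elim_comp_inr, tX_zero, map_one, one_mul]

omit R in
theorem split_vec (v : Fin n ⊕ Fin n → F) : v = vv (v ∘ Sum.inl) 0 + vv 0 (v ∘ Sum.inr) := by
  funext i; rcases i with i | i <;> simp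

omit R in
theorem ok_split {x : Fin n → F} {v : Fin n ⊕ Fin n → F} (h : Ok (vv x 0) v) :
    Ok (vv x 0) (vv (v ∘ Sum.inl) 0) ∧ Ok (vv x 0) (vv 0 (v ∘ Sum.inr)) :=
  ⟨ok_par (by rw [Sum.elim_comp_inr, zero_dotProduct]),
    ok_par (by rw [Sum.elim_comp_inr]; exact dot_of_ok h)⟩

omit R in
theorem vec_induction {P : (Fin n → F) → Prop} (h0 : P 0) (hs : ∀ l, ∀ t : F, P (t • δ l))
    (hadd : ∀ a b, P a → P b → P (a + b)) (a : Fin n → F) : P a := by
  rw [← Finset.univ_sum_single a]
  refine Finset.sum_induction _ P hadd h0 fun l _ => ?_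
  have : (Pi.single l (a l) : Fin n → F) = a l • δ l := by
    funext i; by_cases h : i = l
    · subst h; simp
    · simp [h]
  rw [this]; exact hs l _

omit R in
theorem exists_col (hn : 4 ≤ n) {x : Fin n → F} (hx : x ≠ 0) :
    ∃ (g : SLn) (p : Fin n), g.1 *ᵥ δ p = x := by
  classical
  obtain ⟨p, hp⟩ := Function.ne_iff.1 hx
  obtain ⟨s, hs⟩ : ∃ s, p ≠ s := by
    have h : ({p} : Finset (Fin n)).card < (Finset.univ : Finset (Fin n)).card := by
      rw [Finset.card_univ, Fintype.card_fin, Finset.card_singleton]; omega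
    obtain ⟨s, -, hs⟩ := Finset.exists_mem_notMem_of_card_lt_card h
    exact ⟨s, fun e => hs (by simp [e])⟩
  set c : Fin n → F := Function.update x p 0
  set d := H40.OmOrbit.blk p s hs (H40.CRW.hS (Units.mk0 (x p) hp))
  have hc : δ p ⬝ᵥ c = 0 := by rw [single_dotProduct, one_mul]; simp [c]
  refine ⟨tX (-(x p)⁻¹ • c) (δ p) * d, p, ?_⟩
  have hd : d.1 *ᵥ δ p = x p • δ p := by
    funext i
    obtain ⟨a, b, cc⟩ := H40.OmOrbit.blk_mulVec (F := F) hs (H40.CRW.hS (Units.mk0 (x p) hp)) (δ p)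
    by_cases hi : i = p
    · subst hi; rw [a, H40.CRW.coe_hS]; simp
    by_cases hi' : i = s
    · subst hi'; rw [b, H40.CRW.coe_hS]; simp [Ne.symm hi]
    rw [cc i hi hi']; simp [hi]
  rw [H40.OmModel.cmul, ← mulVec_mulVec, hd,
    H40.OmModel.coe_tX (by rw [dotProduct_smul, hc, smul_zero]), mulVec_smul, sub_mulVec, one_mulVec,
    vecMulVec_mulVec, single_dotProduct, one_mul, op_smul_eq_smul]
  funext i
  by_cases hi : i = p
  · subst hi; simp [c]
  · simp [c, hi]
    rw [mul_inv_cancel_left₀ (by simpa using hp)]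

/-- The lower radical elements fixing the vector act as their images. -/
theorem E0_W {x : Fin n → F} (hx : x ≠ 0) (N : altM n F) (hN : N.1 *ᵥ x = 0)
    {v : Fin n ⊕ Fin n → F} (h : Ok (vv x 0) v) :
    W (.ofAdd N) * E0 ψ U x v * (W (.ofAdd N))⁻¹ = E0 ψ U x ((radW (.ofAdd N)).1 v) := by
  obtain ⟨h1, h2⟩ := ok_split h
  have fixu : ∀ (x : Fin n → F) (M : altM n F), M.1 *ᵥ x = 0 →
      (radW (.ofAdd M)).1 (vv x 0) = vv x 0 := fun x M e => by
    rw [H40.OmModel.radW_vec, e, add_zero]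
  have hk : ∀ (x : Fin n → F) (M : altM n F) (v : Fin n ⊕ Fin n → F), M.1 *ᵥ x = 0 →
      Ok (vv x 0) v → π (W (.ofAdd M) * E0 ψ U x v * (W (.ofAdd M))⁻¹) =
        π (E0 ψ U x ((radW (.ofAdd M)).1 v)) := by
    intro x M v e hv
    have hv' := hv.map (radW (.ofAdd M))
    rw [fixu x M e] at hv'
    rw [map_mul, map_mul, map_inv, pi_E0 R hv, pi_E0 R hv', R.lower, H43.eichler_conj _ hv.1 hv.2,
      fixu x M e]
  -- the lower part
  have low : W (.ofAdd N) * E0 ψ U x (vv 0 (v ∘ Sum.inr)) * (W (.ofAdd N))⁻¹ =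
      E0 ψ U x ((radW (.ofAdd N)).1 (vv 0 (v ∘ Sum.inr))) := by
    have e := hk x N _ hN h2
    rw [H40.OmModel.radW_vec, mulVec_zero, add_zero] at e ⊢
    rw [E0_low] at e ⊢
    refine par_ext R.dual ?_ ?_ (by rw [MonoidHom.comp_apply, MonoidHom.comp_apply, e])
    · refine mul_mem (mul_mem (U_mem R.dual _) ?_) (inv_mem (U_mem R.dual _))
      exact ⟨thT (tX x (v ∘ Sum.inr)), 0, by simp [H40.OmModel.thT_thT]⟩
    · exact ⟨thT (tX x (v ∘ Sum.inr)), 0, by simp [H40.OmModel.thT_thT]⟩
  -- the upper part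
  have up : W (.ofAdd N) * E0 ψ U x (vv (v ∘ Sum.inl) 0) * (W (.ofAdd N))⁻¹ =
      E0 ψ U x ((radW (.ofAdd N)).1 (vv (v ∘ Sum.inl) 0)) := by
    obtain ⟨g, p, rfl⟩ := exists_col R.hn hx
    have base : ∀ (N : altM n F) (v : Fin n ⊕ Fin n → F), N.1 *ᵥ δ p = 0 → Ok (vv (δ p) 0) v →
        v ∘ Sum.inr = 0 →
        W (.ofAdd N) * E0 ψ U (δ p) v * (W (.ofAdd N))⁻¹ =
          E0 ψ U (δ p) ((radW (.ofAdd N)).1 v) := by
      intro N v hN hv hb
      refine par_ext R ?_ (E0_mem R _ _) (hk _ N v hN hv)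
      have mem1 : ∀ (i j : Fin n), i < j → ∀ c : F, (aM (δ i) (c • δ j) : altM n F).1 *ᵥ δ p = 0 →
          ∀ z ∈ par R, (∃ a, z = U (.ofAdd (aM a (δ p)))) →
          W (.ofAdd (aM (δ i) (c • δ j))) * z * (W (.ofAdd (aM (δ i) (c • δ j))))⁻¹ ∈ par R := by
        rintro i j hij c hc z - ⟨a, rfl⟩
        induction a using vec_induction with
        | h0 => rw [aM_zero_left, ofAdd_zero, map_one, mul_one, mul_inv_cancel]; exact one_mem _
        | hs l t =>
          by_cases hl : l = p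
          · subst hl
            rw [aM_flip, show (aM (δ l) ((-t) • δ l) : altM n F) = 0 from Subtype.ext (by
              ext a b; simp [H40.OmModel.aM_coe, vecMulVec_apply]; try ring), ofAdd_zero, map_one,
              mul_one, mul_inv_cancel]
            exact one_mem _
          · by_cases hcz : c = 0
            · subst hcz
              rw [zero_smul, aM_zero_right, ofAdd_zero, map_one, one_mul, inv_one, mul_one]
              exact U_mem R _
            have hpi : p ≠ i ∧ p ≠ j := by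
              rw [H40.OmModel.aM_mulVec] at hc
              constructor
              · rintro rfl
                have := congrFun hc j
                simp [hij.ne, hij.ne', hcz] at this
              · rintro rfl
                have := congrFun hc i
                simp [hij.ne, hij.ne', hcz] at this
            rw [aM_flip]
            obtain ⟨g', S, e⟩ := R.mixU i j p l hij.ne (Ne.symm hl)
              ⟨fun e => hpi.1 e.1, fun e => hpi.2 e.1⟩ c (-t)
            exact ⟨g', S, e⟩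
        | hadd a b ha hb =>
          rw [H40.OmModel.aM_add_left, ofAdd_add, map_mul]
          have := mul_mem ha hb
          convert this using 1
          group
      have all : ∀ N : altM n F, (∀ i j, i < j → (aM (δ i) (N.1 i j • δ j) : altM n F).1 *ᵥ δ p = 0) →
          ∀ z ∈ par R, (∃ a, z = U (.ofAdd (aM a (δ p)))) →
          W (.ofAdd N) * z * (W (.ofAdd N))⁻¹ ∈ par R := by
        intro N hN z hz hza
        obtain ⟨a, rfl⟩ := hza
        rw [← H40.OmOrbit.sum_aM N]
        refine (Finset.sum_induction _ (fun M : altM n F => M.1 *ᵥ δ p = 0 ∧ ∀ v,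
          (v ∘ Sum.inr = 0) → W (.ofAdd M) * E0 ψ U (δ p) v * (W (.ofAdd M))⁻¹ ∈ par R) ?_ ?_ ?_).2
          (vv a 0) (by rw [Sum.elim_comp_inr]) |> (fun h => by rwa [E0_up] at h)
        · rintro M M' ⟨hM, ihM⟩ ⟨hM', ihM'⟩
          refine ⟨by rw [AddSubgroup.coe_add, add_mulVec, hM, hM', add_zero], fun v hv => ?_⟩
          have hok : Ok (vv (δ p) 0) v := ok_par (by rw [hv, zero_dotProduct])
          have e : W (.ofAdd M') * E0 ψ U (δ p) v * (W (.ofAdd M'))⁻¹ =
              E0 ψ U (δ p) ((radW (.ofAdd M')).1 v) :=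
            par_ext R (ihM' v hv) (E0_mem R _ _) (hk _ M' v hM' hok)
          set v' := (radW (.ofAdd M')).1 v with hv'
          have hok' : Ok (vv (δ p) 0) v' := by
            have := hok.map (radW (.ofAdd M'))
            rwa [fixu _ M' hM', ← hv'] at this
          obtain ⟨k1, k2⟩ := ok_split hok'
          have e2 : E0 ψ U (δ p) v' =
              E0 ψ U (δ p) (vv (v' ∘ Sum.inl) 0) * E0 ψ U (δ p) (vv 0 (v' ∘ Sum.inr)) := by
            rw [← E0_add R k1 k2, ← split_vec]
          have m1 := ihM (vv (v' ∘ Sum.inl) 0) (Sum.elim_comp_inr _ _)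
          have m2 : W (.ofAdd M) * E0 ψ U (δ p) (vv 0 (v' ∘ Sum.inr)) * (W (.ofAdd M))⁻¹ ∈
              par R := by
            have e3 := hk _ M _ hM k2
            rw [H40.OmModel.radW_vec, mulVec_zero, add_zero] at e3
            rw [E0_low] at e3 ⊢
            have hm : ψ (tX (δ p) (v' ∘ Sum.inr)) ∈ par R.dual :=
              ⟨thT (tX (δ p) (v' ∘ Sum.inr)), 0, by simp [H40.OmModel.thT_thT]⟩
            have e4 : W (.ofAdd M) * ψ (tX (δ p) (v' ∘ Sum.inr)) * (W (.ofAdd M))⁻¹ =
                ψ (tX (δ p) (v' ∘ Sum.inr)) :=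
              par_ext R.dual (mul_mem (mul_mem (U_mem R.dual _) hm) (inv_mem (U_mem R.dual _))) hm
                (by rw [MonoidHom.comp_apply, MonoidHom.comp_apply, e3])
            rw [e4]
            exact psi_mem R _
          have : W (.ofAdd (M + M')) * E0 ψ U (δ p) v * (W (.ofAdd (M + M')))⁻¹ =
              (W (.ofAdd M) * E0 ψ U (δ p) (vv (v' ∘ Sum.inl) 0) * (W (.ofAdd M))⁻¹) *
                (W (.ofAdd M) * E0 ψ U (δ p) (vv 0 (v' ∘ Sum.inr)) * (W (.ofAdd M))⁻¹) := by
            rw [ofAdd_add, map_mul]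
            calc _ = W (.ofAdd M) * (W (.ofAdd M') * E0 ψ U (δ p) v * (W (.ofAdd M'))⁻¹) *
                  (W (.ofAdd M))⁻¹ := by group
              _ = _ := by rw [e, e2]; group
          rw [this]
          exact mul_mem m1 m2
        · refine ⟨by rw [ZeroMemClass.coe_zero, zero_mulVec], fun v _ => ?_⟩
          rw [ofAdd_zero, map_one, one_mul, inv_one, mul_one]
          exact E0_mem R _ _
        · rintro ⟨⟨i, j⟩, hij⟩ -
          refine ⟨hN i j hij, fun v hv => ?_⟩
          rw [show v = vv (v ∘ Sum.inl) 0 by rw [← hv, H40.OmModel.vec_eta], E0_up]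
          exact mem1 i j hij _ (hN i j hij) _ (U_mem R _) ⟨_, rfl⟩
      have hv' : v = vv (v ∘ Sum.inl) 0 := by rw [← hb, H40.OmModel.vec_eta]
      rw [hv', E0_up]
      refine all N (fun i j hij => ?_) _ (U_mem R _) ⟨_, rfl⟩
      have hcol : ∀ k, N.1 k p = 0 := fun k => by
        have := congrFun hN k
        rwa [mulVec_single_one, col_apply] at this
      rw [H40.OmModel.aM_mulVec]
      by_cases hi : p = i
      · subst hi
        rw [show N.1 p j = 0 by rw [H40.OmModel.alt_apply N.2 j p, hcol, neg_zero]]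
        simp
      · by_cases hj : p = j
        · subst hj; rw [hcol]; simp
        · simp [hi, hj, Ne.symm hi, Ne.symm hj]
    set N0 := congrA (thT g⁻¹) N with hN0
    set w0 := (lev g⁻¹).1 (vv (v ∘ Sum.inl) 0) with hw0
    have hN0' : N0.1 *ᵥ δ p = 0 := by
      rw [hN0, H40.OmModel.congrA_coe, ← mulVec_mulVec, ← mulVec_mulVec]
      have : (thT g⁻¹).1ᵀ *ᵥ δ p = g.1 *ᵥ δ p := by
        rw [H40.OmModel.coe_thT, inv_inv, transpose_transpose]
      rw [this, hN, mulVec_zero]
    have hw : Ok (vv (δ p) 0) w0 := by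
      have := h1.map (lev g⁻¹)
      rwa [vec_zero_fix, H40.OmOrbit.mulVec_inv rfl] at this
    have hwb : w0 ∘ Sum.inr = 0 := by
      rw [hw0, H40.OmModel.lev_vec, mulVec_zero, Sum.elim_comp_inr]
    have e := base N0 w0 hN0' hw hwb
    have back : congrA (thT g) N0 = N := by
      rw [hN0, ← H40.OmModel.congrA_mul, ← map_mul, mul_inv_cancel, map_one]
      exact Subtype.ext (by simp [H40.OmModel.congrA_coe])
    have back' : (lev g).1 w0 = vv (v ∘ Sum.inl) 0 := by
      rw [hw0, ← H43.orth_mul_apply, ← map_mul, mul_inv_cancel, map_one, H43.orth_one_apply]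
    have h0 := hw.map (radW (.ofAdd N0))
    rw [fixu _ N0 hN0'] at h0
    rw [← back', ← E0_conj R g hw, ← back, ← R.conjW]
    calc _ = ψ g * (W (.ofAdd N0) * E0 ψ U (δ p) w0 * (W (.ofAdd N0))⁻¹) * (ψ g)⁻¹ := by group
      _ = _ := by
          rw [e, E0_conj R g h0]
          congr 1
          rw [← H40.OmModel.lev_radW g N0, H43.orth_mul_apply, H43.orth_mul_apply,
            ← H43.orth_mul_apply (lev g)⁻¹ (lev g), inv_mul_cancel, H43.orth_one_apply]
  rw [split_vec v, map_add, E0_add R h1 h2,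
    E0_add R (by have := h1.map (radW (.ofAdd N)); rwa [fixu x N hN] at this)
      (by have := h2.map (radW (.ofAdd N)); rwa [fixu x N hN] at this), ← up, ← low]
  group

omit R in
/-- An element of the family at a vector with nonzero first half, through a chosen radical element. -/
noncomputable def EM (ψ : SpecialLinearGroup (Fin n) F →* G) (U W : Multiplicative (altM n F) →* G)
    (M : altM n F) (x : Fin n → F) (v : Fin n ⊕ Fin n → F) : G :=
  W (.ofAdd M) * E0 ψ U x ((radW (.ofAdd (-M))).1 v) * (W (.ofAdd M))⁻¹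

omit R in
theorem radW_cancel (M : altM n F) (v : Fin n ⊕ Fin n → F) :
    (radW (.ofAdd M)).1 ((radW (.ofAdd (-M))).1 v) = v := by
  rw [← H43.orth_mul_apply, ← map_mul, ← ofAdd_add, add_neg_cancel, ofAdd_zero, map_one,
    H43.orth_one_apply]

omit R in
theorem ok_pull {x y : Fin n → F} {M : altM n F} (hM : M.1 *ᵥ x = y) {v : Fin n ⊕ Fin n → F}
    (h : Ok (vv x y) v) : Ok (vv x 0) ((radW (.ofAdd (-M))).1 v) := by
  have := h.map (radW (.ofAdd (-M)))
  rwa [H40.OmModel.radW_vec, AddSubgroup.coe_neg, neg_mulVec, hM, add_neg_cancel] at this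

theorem pi_EM {x y : Fin n → F} {M : altM n F} (hM : M.1 *ᵥ x = y) {v : Fin n ⊕ Fin n → F}
    (h : Ok (vv x y) v) : π (EM ψ U W M x v) = eichler (qPlus n F) (vv x y) v := by
  have h' := ok_pull hM h
  rw [EM, map_mul, map_mul, map_inv, pi_E0 R h', R.lower, H43.eichler_conj _ h'.1 h'.2,
    radW_cancel, H40.OmModel.radW_vec, hM, zero_add]

theorem EM_indep {x y : Fin n → F} (hx : x ≠ 0) {M M' : altM n F} (hM : M.1 *ᵥ x = y)
    (hM' : M'.1 *ᵥ x = y) {v : Fin n ⊕ Fin n → F} (h : Ok (vv x y) v) :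
    EM ψ U W M' x v = EM ψ U W M x v := by
  have h' := ok_pull hM' h
  have hN : (M' - M).1 *ᵥ x = 0 := by rw [AddSubgroup.coe_sub, sub_mulVec, hM, hM', sub_self]
  have e := E0_W R hx (M' - M) hN h'
  rw [← H43.orth_mul_apply (radW (.ofAdd (M' - M))), ← map_mul, ← ofAdd_add,
    show M' - M + -M' = -M by abel] at e
  unfold EM
  rw [← e, show W (.ofAdd M') = W (.ofAdd M) * W (.ofAdd (M' - M)) by
    rw [← map_mul, ← ofAdd_add, add_sub_cancel]]
  group

theorem EM_add {x y : Fin n → F} {M : altM n F} (hM : M.1 *ᵥ x = y) {v v' : Fin n ⊕ Fin n → F}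
    (h : Ok (vv x y) v) (h' : Ok (vv x y) v') :
    EM ψ U W M x (v + v') = EM ψ U W M x v * EM ψ U W M x v' := by
  unfold EM
  rw [map_add, E0_add R (ok_pull hM h) (ok_pull hM h')]
  group

theorem EM_psi (g : SLn) {x y : Fin n → F} {M : altM n F} (hM : M.1 *ᵥ x = y)
    {v : Fin n ⊕ Fin n → F} (h : Ok (vv x y) v) :
    ψ g * EM ψ U W M x v * (ψ g)⁻¹ =
      EM ψ U W (congrA (thT g) M) (g.1 *ᵥ x) ((lev g).1 v) := by
  have e1 := R.conjW g M
  have e2 := E0_conj R g (ok_pull hM h)
  have e3 : (radW (.ofAdd (-congrA (thT g) M))).1 ((lev g).1 v) =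
      (lev g).1 ((radW (.ofAdd (-M))).1 v) := by
    rw [← map_neg, ← H40.OmModel.lev_radW, H43.orth_mul_apply, H43.orth_mul_apply,
      ← H43.orth_mul_apply (lev g)⁻¹, inv_mul_cancel, H43.orth_one_apply]
  unfold EM
  rw [e3, ← e2, ← e1]
  group

omit R in
theorem congrA_map (g : SLn) {x y : Fin n → F} {M : altM n F} (hM : M.1 *ᵥ x = y) :
    (congrA (thT g) M).1 *ᵥ (g.1 *ᵥ x) = (thT g).1 *ᵥ y := by
  have e : (thT g).1ᵀ = (g⁻¹).1 := by rw [H40.OmModel.coe_thT, transpose_transpose]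
  rw [H40.OmModel.congrA_coe, ← mulVec_mulVec, e, H40.OmOrbit.mulVec_inv rfl, ← mulVec_mulVec, hM]

omit R in
theorem tau_apply (v : Fin n ⊕ Fin n → F) :
    (tau (n := n) (F := F)).1 v = vv (v ∘ Sum.inr) (v ∘ Sum.inl) := by
  rw [← H40.OmModel.vec_eta v, H40.OmModel.tau_vec, H40.OmModel.vec_eta]

omit R in
theorem ok_tau {x y : Fin n → F} {v : Fin n ⊕ Fin n → F} (h : Ok (vv x y) v) :
    Ok (vv y x) ((tau : orthGroup (qPlus n F)).1 v) := by
  have := h.map tau
  rwa [H40.OmModel.tau_vec] at this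

omit R in
/-- The family on vectors with nonzero second half. -/
noncomputable def EN (ψ : SpecialLinearGroup (Fin n) F →* G) (U W : Multiplicative (altM n F) →* G)
    (S : altM n F) (y : Fin n → F) (v : Fin n ⊕ Fin n → F) : G :=
  EM (ψ.comp thT) W U S y ((tau : orthGroup (qPlus n F)).1 v)

theorem pi_EN {x y : Fin n → F} {S : altM n F} (hS : S.1 *ᵥ y = x) {v : Fin n ⊕ Fin n → F}
    (h : Ok (vv x y) v) : π (EN ψ U W S y v) = eichler (qPlus n F) (vv x y) v := by
  have e := congrArg sw (pi_EM R.dual hS (ok_tau h))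
  rw [MonoidHom.comp_apply, H40.OmModel.sw_sw] at e
  rw [EN, e, H40.OmModel.sw_apply]
  rw [show (tau : orthGroup (qPlus n F)) * eichler (qPlus n F) (vv y x) ((tau : orthGroup (qPlus n F)).1 v) * tau =
      tau * eichler (qPlus n F) (vv y x) ((tau : orthGroup (qPlus n F)).1 v) * tau⁻¹ by rw [H40.OmModel.tau_inv],
    H43.eichler_conj _ (ok_tau h).1 (ok_tau h).2, H40.OmModel.tau_vec, ← H43.orth_mul_apply,
    H40.OmModel.tau_tau, H43.orth_one_apply]

omit R in
/-- An element of `SL` fixing a basis vector and moving another one by the inverse transpose. -/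
theorem exists_dual_col (hn : 4 ≤ n) {p : Fin n} {y : Fin n → F} (hy : y ≠ 0) (hyp : y p = 0) :
    ∃ (g : SLn) (q : Fin n), p ≠ q ∧ g.1 *ᵥ δ p = δ p ∧ (thT g).1 *ᵥ δ q = y := by
  classical
  obtain ⟨q, hq⟩ := Function.ne_iff.1 hy
  have hpq : p ≠ q := fun e => hq (by rw [← e, hyp]; rfl)
  obtain ⟨s, hsp, hsq⟩ : ∃ s, s ≠ p ∧ q ≠ s := by
    have h : ({p, q} : Finset (Fin n)).card < (Finset.univ : Finset (Fin n)).card := by
      rw [Finset.card_univ, Fintype.card_fin]
      exact lt_of_le_of_lt Finset.card_le_two (by omega)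
    obtain ⟨r, -, hr⟩ := Finset.exists_mem_notMem_of_card_lt_card h
    simp only [Finset.mem_insert, Finset.mem_singleton, not_or] at hr
    exact ⟨r, hr.1, Ne.symm hr.2⟩
  set c : Fin n → F := Function.update y q 0
  set d := H40.OmOrbit.blk q s hsq (H40.CRW.hS (Units.mk0 (y q) hq))
  have hc : δ q ⬝ᵥ c = 0 := by rw [single_dotProduct, one_mul]; simp [c]
  have hb : δ q ⬝ᵥ (-(y q)⁻¹ • c) = 0 := by rw [dotProduct_smul, hc, smul_zero]
  set t := tX (-(y q)⁻¹ • c) (δ q)
  have hd : d.1 *ᵥ δ q = y q • δ q := by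
    funext i
    obtain ⟨a, b, cc⟩ := H40.OmOrbit.blk_mulVec (F := F) hsq (H40.CRW.hS (Units.mk0 (y q) hq)) (δ q)
    by_cases hi : i = q
    · subst hi; rw [a, H40.CRW.coe_hS]; simp
    by_cases hi' : i = s
    · subst hi'; rw [b, H40.CRW.coe_hS]; simp [hi]
    rw [cc i hi hi']; simp [hi]
  refine ⟨thT (t * d), q, hpq, ?_, ?_⟩
  · rw [map_mul, H40.OmModel.cmul, ← mulVec_mulVec]
    have e : (thT d).1 *ᵥ δ p = δ p := by
      funext i
      rw [H40.OmOrbit.thT_blk_mulVec]
      obtain ⟨-, -, cc⟩ :=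
        H40.OmOrbit.blk_mulVec (F := F) hsq (H40.CRW.hS (Units.mk0 (y q) hq))⁻¹ (δ i)
      rw [cc p hpq hsp.symm]
      by_cases hi : i = p
      · subst hi; rfl
      · simp [hi, Ne.symm hi]
    rw [e, H40.OmModel.thT_tX hb, add_mulVec, one_mulVec, vecMulVec_mulVec, smul_dotProduct,
      dotProduct_single, mul_one]
    simp [c, hpq, hyp]
  · rw [H40.OmModel.thT_thT, H40.OmModel.cmul, ← mulVec_mulVec, hd, H40.OmModel.coe_tX hb,
      mulVec_smul, sub_mulVec, one_mulVec, vecMulVec_mulVec, single_dotProduct, one_mul,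
      op_smul_eq_smul]
    funext i
    by_cases hi : i = q
    · subst hi; simp [c]
    · simp [c, hi]
      rw [mul_inv_cancel_left₀ (by simpa using hq)]

omit R in
/-- `SL` is transitive on orthogonal pairs of nonzero vectors. -/
theorem exists_pair (hn : 4 ≤ n) {x y : Fin n → F} (hx : x ≠ 0) (hy : y ≠ 0) (h : x ⬝ᵥ y = 0) :
    ∃ (g : SLn) (p q : Fin n), p ≠ q ∧ g.1 *ᵥ δ p = x ∧ (thT g).1 *ᵥ δ q = y := by
  obtain ⟨g1, p, h1⟩ := exists_col hn hx
  set y1 := (thT g1⁻¹).1 *ᵥ y with hy1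
  have hback : (thT g1).1 *ᵥ y1 = y := by
    rw [hy1, mulVec_mulVec, ← H40.OmModel.cmul, ← map_mul, mul_inv_cancel, map_one,
      H40.OmModel.cone, one_mulVec]
  obtain ⟨g2, q, hpq, h2, h3⟩ := exists_dual_col hn (p := p) (y := y1)
    (fun e => hy (by rw [← hback, e, mulVec_zero]))
    (by
      have := H40.OmModel.thT_dot g1 (δ p) y1
      rw [h1, hback, h, single_dotProduct, one_mul] at this
      exact this.symm)
  refine ⟨g1 * g2, p, q, hpq, ?_, ?_⟩
  · rw [H40.OmModel.cmul, ← mulVec_mulVec, h2, h1]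
  · rw [map_mul, H40.OmModel.cmul, ← mulVec_mulVec, h3, hback]

omit R in
theorem aM_zero_of (x : Fin n → F) (c : F) : aM x (c • x) = (0 : altM n F) :=
  Subtype.ext (by ext i j; simp [H40.OmModel.aM_coe, vecMulVec_apply]; try ring)

/-- The standard pair: an element of the family conjugated into the other parabolic. -/
theorem std_mem {p q : Fin n} (hpq : p ≠ q) {v : Fin n ⊕ Fin n → F} (h : Ok (vv (δ p) (δ q)) v) :
    U (.ofAdd (aM (δ q) (δ p))) * EM ψ U W (aM (δ q) (δ p)) (δ p) v *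
      (U (.ofAdd (aM (δ q) (δ p))))⁻¹ ∈ par R.dual := by
  classical
  set M : altM n F := aM (δ q) (δ p) with hM
  have hMp : M.1 *ᵥ δ p = δ q := by
    rw [hM, H40.OmModel.aM_mulVec, single_dotProduct, single_dotProduct]
    simp [hpq, Ne.symm hpq]
  have hMu : (radU (.ofAdd M)).1 (vv (δ p) (δ q)) = vv 0 (δ q) := by
    rw [H40.OmModel.radU_vec]
    congr 1
    rw [hM, H40.OmModel.aM_mulVec, single_dotProduct, single_dotProduct]
    simp [hpq, Ne.symm hpq]
  -- the transvection part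
  have hlow : ∀ (j : Fin n) (c : F), j ≠ p →
      U (.ofAdd M) * (W (.ofAdd M) * ψ (tX (δ p) (c • δ j)) * (W (.ofAdd M))⁻¹) *
        (U (.ofAdd M))⁻¹ ∈ par R.dual := by
    intro j c hjp
    have hd : (c • δ j : Fin n → F) ⬝ᵥ (δ p : Fin n → F) = 0 := by
      simp [hjp, Ne.symm hjp]
    set T := tX (δ p : Fin n → F) (c • δ j) with hT
    have e1 : W (.ofAdd M) * ψ T * (W (.ofAdd M))⁻¹ =
        ψ T * W (.ofAdd (congrA (thT T⁻¹) M - M)) := by
      rw [ofAdd_sub, map_div, ← R.conjW T⁻¹ M, map_inv, div_eq_mul_inv]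
      group
    have hTi : T⁻¹.1 = 1 + vecMulVec (δ p) (c • δ j) := by
      have e : T * tX (-δ p) (c • δ j) = 1 := by
        refine Subtype.ext ?_
        rw [H40.OmModel.cmul, hT, H40.OmModel.coe_tX hd,
          H40.OmModel.coe_tX (by rw [dotProduct_neg, hd, neg_zero]), H40.OmModel.cone,
          neg_vecMulVec, sub_neg_eq_add, sub_mul, mul_add, mul_add, one_mul, one_mul, mul_one,
          vecMulVec_mul_vecMulVec, hd]
        simp
      rw [inv_eq_of_mul_eq_one_right e, H40.OmModel.coe_tX (by rw [dotProduct_neg, hd, neg_zero]),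
        neg_vecMulVec, sub_neg_eq_add]
    have hM' : congrA (thT T⁻¹) M - M = aM (δ q) ((-c) • δ j) := by
      have e : ∀ w : Fin n → F, (thT T⁻¹).1 *ᵥ w = w - (δ p ⬝ᵥ w) • (c • δ j) := by
        intro w
        rw [H40.OmModel.coe_thT, inv_inv, hT, H40.OmModel.coe_tX hd, transpose_sub, transpose_one,
          transpose_vecMulVec, sub_mulVec, one_mulVec, vecMulVec_mulVec, op_smul_eq_smul]
      rw [hM, H40.OmModel.aM_congr, e, e, single_dotProduct, single_dotProduct]
      apply Subtype.ext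
      ext a b
      simp [H40.OmModel.aM_coe, vecMulVec_apply, hpq, Ne.symm hpq]
      ring
    have hfix : congrA T⁻¹ M = M := by
      rw [hM, H40.OmModel.aM_congr, hTi]
      simp only [add_mulVec, one_mulVec, vecMulVec_mulVec, op_smul_eq_smul, smul_dotProduct,
        single_dotProduct]
      apply Subtype.ext
      ext a b
      simp [H40.OmModel.aM_coe, vecMulVec_apply, hjp, Ne.symm hjp]
      ring
    have e2 : U (.ofAdd M) * ψ T = ψ T * U (.ofAdd M) := by
      have e := R.conjU T⁻¹ M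
      rw [hfix, map_inv, inv_inv, mul_assoc, inv_mul_eq_iff_eq_mul] at e
      exact e
    rw [e1, hM']
    have e3 : U (.ofAdd M) * (ψ T * W (.ofAdd (aM (δ q) ((-c) • δ j)))) * (U (.ofAdd M))⁻¹ =
        ψ T * (U (.ofAdd M) * W (.ofAdd (aM (δ q) ((-c) • δ j))) * (U (.ofAdd M))⁻¹) := by
      rw [← mul_assoc, e2]; group
    rw [e3]
    refine mul_mem ⟨thT T, 0, by simp [H40.OmModel.thT_thT]⟩ ?_
    by_cases hjq : j = q
    · subst hjq
      rw [aM_zero_of, ofAdd_zero, map_one, mul_one, mul_inv_cancel]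
      exact one_mem _
    · obtain ⟨g, S, e⟩ := R.mixW q p q j hpq.symm (Ne.symm hjq)
        ⟨fun e => hjp e.2, fun e => hpq e.1.symm⟩ 1 (-c)
      rw [one_smul] at e
      exact ⟨thT g, S, by rw [e, MonoidHom.comp_apply, H40.OmModel.thT_thT]⟩
  -- the basic vectors
  have gx : ∀ (r : Fin n) (c : F), r ≠ q →
      U (.ofAdd M) * EM ψ U W M (δ p) (vv (c • δ r) 0) * (U (.ofAdd M))⁻¹ ∈ par R.dual := by
    intro r c hrq
    have hv : (radW (.ofAdd (-M))).1 (vv (c • δ r) 0) = vv (c • δ r) (-(M.1 *ᵥ (c • δ r))) := by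
      rw [H40.OmModel.radW_vec, AddSubgroup.coe_neg, neg_mulVec, zero_add]
    by_cases hrp : r = p
    · subst hrp
      have e : E0 ψ U (δ r) (vv (c • δ r) (-(M.1 *ᵥ (c • δ r)))) =
          ψ (tX (δ r) ((-c) • δ q)) := by
        rw [E0, Sum.elim_comp_inl, Sum.elim_comp_inr, H40.OmModel.aM_smul, aM_zero_of, ofAdd_zero,
          map_one, mul_one, mulVec_smul, hMp, neg_smul]
      rw [EM, hv, e]
      exact hlow q (-c) hrq.symm
    · have hMr : M.1 *ᵥ (c • δ r) = 0 := by
        rw [mulVec_smul, hM, H40.OmModel.aM_mulVec, single_dotProduct, single_dotProduct]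
        simp [Ne.symm hrp, Ne.symm hrq]
      have e : E0 ψ U (δ p) (vv (c • δ r) (-(M.1 *ᵥ (c • δ r)))) =
          U (.ofAdd (aM (δ p) ((-c) • δ r))) := by
        rw [hMr, neg_zero, E0_up]
        congr 2
        apply Subtype.ext
        ext a b
        simp [H40.OmModel.aM_coe, vecMulVec_apply]
        ring
      have hv0 : Ok (vv (δ p) (δ q)) (vv (c • δ r : Fin n → F) 0) := by
        refine ⟨h.1, ?_⟩
        rw [H40.OmModel.polB_vec, dotProduct_zero, zero_add, dotProduct_smul, single_dotProduct]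
        simp [Ne.symm hrq]
      obtain ⟨g, S, e'⟩ := R.mixU q p p r hpq.symm (Ne.symm hrp)
        ⟨fun e => hpq e.1, fun e => hrq e.2⟩ 1 (-c)
      rw [one_smul, ← hM] at e'
      set z := U (.ofAdd M) * EM ψ U W M (δ p) (vv (c • δ r) 0) * (U (.ofAdd M))⁻¹ with hz
      have hzp : z ∈ par R := by
        rw [hz, EM, hv, e, e']
        exact mul_mem (mul_mem (U_mem R _) (mul_mem (psi_mem R g) (U_mem R _))) (inv_mem (U_mem R _))
      have hpi : π z = lev (thT (tX (δ q) (c • δ r))) := by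
        have hd : (c • δ r : Fin n → F) ⬝ᵥ δ q = 0 := by
          rw [smul_dotProduct, single_dotProduct]; simp [hrq]
        rw [hz, map_mul, map_mul, map_inv, R.upper, pi_EM R hMp hv0, H43.eichler_conj _ hv0.1 hv0.2,
          hMu, H40.OmModel.radU_vec, mulVec_zero, add_zero, ← H40.OmModel.sw_lev]
        have e5 := congrArg sw (H40.OmModel.eichler_par (δ q) 0 (c • δ r) hd)
        rw [aM_zero_left, ofAdd_zero, map_one, mul_one] at e5
        rw [e5, H40.OmModel.sw_apply]
        have hok : Ok (vv (δ q) 0) (vv 0 (c • δ r)) := ok_par (by rw [Sum.elim_comp_inr, hd])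
        rw [show (tau : orthGroup (qPlus n F)) * eichler (qPlus n F) (vv (δ q) 0) (vv 0 (c • δ r)) *
            tau = tau * eichler (qPlus n F) (vv (δ q) 0) (vv 0 (c • δ r)) * tau⁻¹ by
          rw [H40.OmModel.tau_inv], H43.eichler_conj _ hok.1 hok.2, H40.OmModel.tau_vec,
          H40.OmModel.tau_vec]
      rw [par_ext R hzp (psi_mem R (thT (tX (δ q) (c • δ r)))) (by rw [hpi, R.psi])]
      exact ⟨tX (δ q) (c • δ r), 0, by simp⟩
  have gy : ∀ (j : Fin n) (c : F), j ≠ p →
      U (.ofAdd M) * EM ψ U W M (δ p) (vv 0 (c • δ j)) * (U (.ofAdd M))⁻¹ ∈ par R.dual := by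
    intro j c hjp
    rw [EM, H40.OmModel.radW_vec, mulVec_zero, add_zero, E0_low]
    exact hlow j c hjp
  have gs : ∀ c : F,
      U (.ofAdd M) * EM ψ U W M (δ p) (vv (c • δ q) ((-c) • δ p)) * (U (.ofAdd M))⁻¹ ∈
        par R.dual := by
    intro c
    set v0 : Fin n ⊕ Fin n → F := vv (c • δ q) ((-c) • δ p) with hv0def
    have hv0 : Ok (vv (δ p) (δ q)) v0 := by
      refine ⟨h.1, ?_⟩
      rw [hv0def, H40.OmModel.polB_vec, dotProduct_smul, dotProduct_smul, single_dotProduct,
        single_dotProduct]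
      simp
    have hMq : M.1 *ᵥ (c • δ q) = (-c) • δ p := by
      rw [mulVec_smul, hM, H40.OmModel.aM_mulVec, single_dotProduct, single_dotProduct]
      simp [hpq, Ne.symm hpq]
    have hv : (radW (.ofAdd (-M))).1 v0 = vv (c • δ q) 0 := by
      rw [hv0def, H40.OmModel.radW_vec, AddSubgroup.coe_neg, neg_mulVec, hMq, add_neg_cancel]
    have hM1 : M = aM (δ p) ((-1 : F) • δ q) := by
      rw [hM]
      apply Subtype.ext
      ext a b
      simp [H40.OmModel.aM_coe, vecMulVec_apply]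
      ring
    have hflip : aM (c • δ q) (δ p) = (aM (δ p) ((-c) • δ q) : altM n F) := aM_flip q p c
    have hcM : (aM (δ p) ((-c) • δ q) : altM n F) = aM ((-c) • δ p) (δ q) :=
      (H40.OmModel.aM_smul _ _ _).symm
    set z := U (.ofAdd M) * EM ψ U W M (δ p) v0 * (U (.ofAdd M))⁻¹ with hz
    set H := Subgroup.closure (Set.range (fun v : F => U (.ofAdd (aM (δ p) (v • δ q)))) ∪
      Set.range (fun v : F => W (.ofAdd (aM (δ p) (v • δ q)))))
    have memU : ∀ v : F, U (.ofAdd (aM (δ p) (v • δ q))) ∈ H := fun v =>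
      Subgroup.subset_closure (Or.inl ⟨v, rfl⟩)
    have memW : ∀ v : F, W (.ofAdd (aM (δ p) (v • δ q))) ∈ H := fun v =>
      Subgroup.subset_closure (Or.inr ⟨v, rfl⟩)
    have hzH : z ∈ H := by
      have e1 : U (.ofAdd M) ∈ H := hM1 ▸ memU (-1)
      have e2 : W (.ofAdd M) ∈ H := hM1 ▸ memW (-1)
      rw [hz, EM, hv, E0_up, hflip]
      exact mul_mem (mul_mem e1 (mul_mem (mul_mem e2 (memU _)) (inv_mem e2))) (inv_mem e1)
    have hpi : π z = radW (.ofAdd (aM (δ p) ((-c) • δ q))) := by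
      have hd : (0 : Fin n → F) ⬝ᵥ δ q = 0 := zero_dotProduct _
      rw [hz, map_mul, map_mul, map_inv, R.upper, pi_EM R hMp hv0, H43.eichler_conj _ hv0.1 hv0.2,
        hMu, ← H40.OmModel.sw_radU]
      have e5 := congrArg sw (H40.OmModel.eichler_par (δ q) ((-c) • δ p) 0 hd)
      rw [tX_zero, map_one, one_mul, ← hcM] at e5
      rw [e5, H40.OmModel.sw_apply]
      have hok : Ok (vv (δ q) 0) (vv ((-c) • δ p) 0) := ok_par (by rw [Sum.elim_comp_inr, hd])
      rw [show (tau : orthGroup (qPlus n F)) * eichler (qPlus n F) (vv (δ q) 0) (vv ((-c) • δ p) 0) *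
          tau = tau * eichler (qPlus n F) (vv (δ q) 0) (vv ((-c) • δ p) 0) * tau⁻¹ by
        rw [H40.OmModel.tau_inv], H43.eichler_conj _ hok.1 hok.2, H40.OmModel.tau_vec,
        H40.OmModel.tau_vec, hv0def, H40.OmModel.radU_vec, mulVec_smul]
      congr 2
      rw [hM, H40.OmModel.aM_mulVec, single_dotProduct, single_dotProduct]
      simp [hpq, Ne.symm hpq]
    have := R.pair p q hpq _ (mul_mem (inv_mem (memW (-c))) hzH)
      (by rw [map_mul, map_inv, R.lower, hpi, inv_mul_cancel])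
    rw [inv_mul_eq_one.1 this |>.symm]
    exact U_mem R.dual _
  -- decomposition
  set a := v ∘ Sum.inl with hadef
  set b := v ∘ Sum.inr with hbdef
  have hab : b p + a q = 0 := by
    have := h.2
    rw [← H40.OmModel.vec_eta v, H40.OmModel.polB_vec, single_dotProduct, single_dotProduct,
      one_mul, one_mul] at this
    exact this
  have hvec : v = vv (a q • δ q) ((-(a q)) • δ p) +
      ((∑ r ∈ Finset.univ.erase q, vv (a r • δ r) 0) +
        ∑ j ∈ Finset.univ.erase p, vv 0 (b j • δ j)) := by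
    funext i
    rcases i with i | i
    · simp only [Pi.add_apply, Finset.sum_apply, Sum.elim_inl, Pi.smul_apply, smul_eq_mul,
        Pi.zero_apply, Finset.sum_const_zero, add_zero]
      simp only [δ, Pi.single_apply, mul_ite, mul_one, mul_zero, Finset.sum_ite_eq, Finset.mem_erase,
        Finset.mem_univ, and_true]
      by_cases hi : i = q
      · subst hi; simp [hadef]
      · simp [hi, hadef]
    · simp only [Pi.add_apply, Finset.sum_apply, Sum.elim_inr, Pi.smul_apply, smul_eq_mul,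
        Pi.zero_apply, Finset.sum_const_zero, zero_add]
      simp only [δ, Pi.single_apply, mul_ite, mul_one, mul_zero, Finset.sum_ite_eq, Finset.mem_erase,
        Finset.mem_univ, and_true]
      by_cases hi : i = p
      · subst hi
        simp only [ne_eq, not_true_eq_false, if_false, if_true, add_zero]
        show b i = _
        linear_combination hab
      · simp [hi, hbdef]
  set P : (Fin n ⊕ Fin n → F) → Prop := fun w => Ok (vv (δ p) (δ q)) w ∧
    U (.ofAdd M) * EM ψ U W M (δ p) w * (U (.ofAdd M))⁻¹ ∈ par R.dual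
  have padd : ∀ w w', P w → P w' → P (w + w') := fun w w' hw hw' => ⟨ok_add hw.1 hw'.1, by
    rw [EM_add R hMp hw.1 hw'.1]
    convert mul_mem hw.2 hw'.2 using 1
    group⟩
  have p0 : P 0 := ⟨⟨h.1, map_zero _⟩, by
    have e := EM_add R hMp (v := 0) (v' := 0) ⟨h.1, map_zero _⟩ ⟨h.1, map_zero _⟩
    rw [add_zero] at e
    rw [mul_eq_left.1 e.symm, mul_one, mul_inv_cancel]
    exact one_mem _⟩
  have hmain : P v := by
    rw [hvec]
    refine padd _ _ ⟨⟨h.1, ?_⟩, gs _⟩ (padd _ _
      (Finset.sum_induction _ P padd p0 fun r hr => ⟨⟨h.1, ?_⟩, gx r _ (Finset.ne_of_mem_erase hr)⟩)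
      (Finset.sum_induction _ P padd p0 fun j hj => ⟨⟨h.1, ?_⟩, gy j _ (Finset.ne_of_mem_erase hj)⟩))
    · rw [H40.OmModel.polB_vec, dotProduct_smul, dotProduct_smul, single_dotProduct,
        single_dotProduct]
      simp
    · rw [H40.OmModel.polB_vec, dotProduct_zero, zero_add, dotProduct_smul, single_dotProduct]
      simp [Finset.ne_of_mem_erase hr, Ne.symm (Finset.ne_of_mem_erase hr)]
    · rw [H40.OmModel.polB_vec, dotProduct_zero, add_zero, dotProduct_smul, single_dotProduct]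
      simp [Finset.ne_of_mem_erase hj, Ne.symm (Finset.ne_of_mem_erase hj)]
  exact hmain.2

/-- The two definitions agree at the standard pair. -/
theorem std_eq {p q : Fin n} (hpq : p ≠ q) {v : Fin n ⊕ Fin n → F} (h : Ok (vv (δ p) (δ q)) v) :
    EM ψ U W (aM (δ q) (δ p)) (δ p) v = EN ψ U W (aM (δ p) (δ q)) (δ q) v := by
  set M : altM n F := aM (δ q) (δ p) with hM
  have hS : (aM (δ p) (δ q) : altM n F) = -M := H40.OmModel.aM_swap (δ q) (δ p)
  have hMp : M.1 *ᵥ δ p = δ q := by
    rw [hM, H40.OmModel.aM_mulVec, single_dotProduct, single_dotProduct]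
    simp [hpq, Ne.symm hpq]
  have hSq : (aM (δ p) (δ q) : altM n F).1 *ᵥ δ q = δ p := by
    rw [H40.OmModel.aM_mulVec, single_dotProduct, single_dotProduct]
    simp [hpq, Ne.symm hpq]
  have h1 := std_mem R hpq h
  have e : U (.ofAdd (aM (δ p) (δ q))) = (U (.ofAdd M))⁻¹ := by rw [hS, ofAdd_neg, map_inv]
  have h2 : U (.ofAdd M) * EN ψ U W (aM (δ p) (δ q)) (δ q) v * (U (.ofAdd M))⁻¹ ∈ par R.dual := by
    rw [EN, EM, e]
    convert E0_mem R.dual (δ q) ((radW (.ofAdd (-aM (δ p) (δ q) : altM n F))).1 ((tau : orthGroup (qPlus n F)).1 v)) using 1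
    group
  have := par_ext R.dual h1 h2 (by
    simp only [MonoidHom.comp_apply, map_mul, map_inv, ← hM, pi_EM R hMp h, pi_EN R hSq h])
  exact mul_left_cancel (mul_right_cancel this)

/-- The two definitions agree. -/
theorem EM_eq_EN {x y : Fin n → F} (hx : x ≠ 0) (hy : y ≠ 0) {M S : altM n F}
    (hM : M.1 *ᵥ x = y) (hS : S.1 *ᵥ y = x) {v : Fin n ⊕ Fin n → F} (h : Ok (vv x y) v) :
    EM ψ U W M x v = EN ψ U W S y v := by
  obtain ⟨g, p, q, hpq, ex, ey⟩ := exists_pair R.hn hx hy (dot_of_sing h.1)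
  set v0 := (lev g⁻¹).1 v
  have hv : (lev g).1 v0 = v := by
    rw [← H43.orth_mul_apply, ← map_mul, mul_inv_cancel, map_one, H43.orth_one_apply]
  have h0 : Ok (vv (δ p) (δ q)) v0 := by
    have := h.map (lev g⁻¹)
    rwa [H40.OmModel.lev_vec, H40.OmOrbit.mulVec_inv ex,
      show (thT g⁻¹).1 *ᵥ y = δ q by rw [map_inv]; exact H40.OmOrbit.mulVec_inv ey] at this
  have hMp : (aM (δ q) (δ p) : altM n F).1 *ᵥ δ p = δ q := by
    rw [H40.OmModel.aM_mulVec, single_dotProduct, single_dotProduct]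
    simp [hpq, Ne.symm hpq]
  have hSq : (aM (δ p) (δ q) : altM n F).1 *ᵥ δ q = δ p := by
    rw [H40.OmModel.aM_mulVec, single_dotProduct, single_dotProduct]
    simp [hpq, Ne.symm hpq]
  have e1 := EM_psi R g hMp h0
  have e2 := EM_psi R.dual (thT g) hSq (ok_tau h0)
  have c1 := congrA_map g hMp
  have c2 := congrA_map (thT g) hSq
  rw [H40.OmModel.thT_thT, ey] at c2
  rw [ex] at c1
  rw [ey] at c1
  rw [ex] at c2
  rw [ex, hv, EM_indep R hx hM c1 h] at e1
  rw [H40.OmModel.thT_thT, ey, MonoidHom.comp_apply, H40.OmModel.thT_thT] at e2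
  have et : (lev (thT g)).1 ((tau : orthGroup (qPlus n F)).1 v0) = (tau : orthGroup (qPlus n F)).1 v := by
    rw [← H40.OmModel.sw_lev, H40.OmModel.sw_apply, H43.orth_mul_apply, H43.orth_mul_apply,
      ← H43.orth_mul_apply tau (tau : orthGroup (qPlus n F)), H40.OmModel.tau_tau, H43.orth_one_apply, hv]
  rw [et, EM_indep R.dual hy hS c2 (ok_tau h)] at e2
  unfold EN
  rw [← e1, ← e2, std_eq R hpq h0]
  rfl

omit R in
open scoped Classical in
/-- A matrix taking one half to the other. -/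
noncomputable def pick (x y : Fin n → F) : altM n F :=
  if h : ∃ M : altM n F, M.1 *ᵥ x = y then h.choose else 0

omit R in
theorem pick_spec {x y : Fin n → F} (hx : x ≠ 0) (h : x ⬝ᵥ y = 0) : (pick x y).1 *ᵥ x = y := by
  rw [pick, dif_pos (H40.OmModel.exists_alt hx h)]
  exact (H40.OmModel.exists_alt hx h).choose_spec

omit R in
open scoped Classical in
/-- The family. -/
noncomputable def E (ψ : SpecialLinearGroup (Fin n) F →* G) (U W : Multiplicative (altM n F) →* G)
    (u v : Fin n ⊕ Fin n → F) : G :=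
  if u ∘ Sum.inl = 0 then EN ψ U W 0 (u ∘ Sum.inr) v
  else EM ψ U W (pick (u ∘ Sum.inl) (u ∘ Sum.inr)) (u ∘ Sum.inl) v

theorem E_left {x y : Fin n → F} (hx : x ≠ 0) {M : altM n F} (hM : M.1 *ᵥ x = y)
    {v : Fin n ⊕ Fin n → F} (h : Ok (vv x y) v) : E ψ U W (vv x y) v = EM ψ U W M x v := by
  rw [E, if_neg (by rwa [Sum.elim_comp_inl]), Sum.elim_comp_inl, Sum.elim_comp_inr]
  exact EM_indep R hx hM (pick_spec hx (dot_of_sing h.1)) h

theorem E_right {x y : Fin n → F} (hy : y ≠ 0) {S : altM n F} (hS : S.1 *ᵥ y = x)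
    {v : Fin n ⊕ Fin n → F} (h : Ok (vv x y) v) : E ψ U W (vv x y) v = EN ψ U W S y v := by
  by_cases hx : x = 0
  · subst hx
    rw [E, if_pos (Sum.elim_comp_inl _ _), Sum.elim_comp_inr]
    exact EM_indep R.dual hy hS (by rw [ZeroMemClass.coe_zero, zero_mulVec]) (ok_tau h)
  · rw [E_left R hx (pick_spec hx (dot_of_sing h.1)) h]
    exact EM_eq_EN R hx hy (pick_spec hx (dot_of_sing h.1)) hS h

theorem pi_E {u v : Fin n ⊕ Fin n → F} (h : Ok u v) :
    π (E ψ U W u v) = eichler (qPlus n F) u v := by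
  obtain ⟨x, y, rfl⟩ : ∃ x y, u = vv x y := ⟨_, _, (H40.OmModel.vec_eta u).symm⟩
  by_cases hx : x = 0
  · subst hx
    rw [E, if_pos (Sum.elim_comp_inl _ _), Sum.elim_comp_inr]
    exact pi_EN R (by rw [ZeroMemClass.coe_zero, zero_mulVec]) h
  · rw [E_left R hx (pick_spec hx (dot_of_sing h.1)) h]
    exact pi_EM R (pick_spec hx (dot_of_sing h.1)) h

omit R in
theorem radW_tau (S : altM n F) (v : Fin n ⊕ Fin n → F) :
    (tau : orthGroup (qPlus n F)).1 ((radU (.ofAdd S)).1 v) = (radW (.ofAdd S)).1 ((tau : orthGroup (qPlus n F)).1 v) := by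
  rw [← H40.OmModel.sw_radU, H40.OmModel.sw_apply, H43.orth_mul_apply, H43.orth_mul_apply,
    ← H43.orth_mul_apply tau (tau : orthGroup (qPlus n F)), H40.OmModel.tau_tau, H43.orth_one_apply]

/-- One radical permutes the elements of its side as its image does. -/
theorem EM_W (N : altM n F) {x y : Fin n → F} {M : altM n F}
    {v : Fin n ⊕ Fin n → F} :
    W (.ofAdd N) * EM ψ U W M x v * (W (.ofAdd N))⁻¹ =
      EM ψ U W (N + M) x ((radW (.ofAdd N)).1 v) := by
  unfold EM
  rw [← H43.orth_mul_apply (radW (.ofAdd (-(N + M)))), ← map_mul, ← ofAdd_add,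
    show -(N + M) + N = -M by abel, ofAdd_add, map_mul]
  group

/-- The other radical permutes the elements at vectors of this side. -/
theorem EN0_W (N : altM n F) {y : Fin n → F} {v : Fin n ⊕ Fin n → F} (h : Ok (vv 0 y) v) :
    W (.ofAdd N) * EN ψ U W 0 y v * (W (.ofAdd N))⁻¹ = EN ψ U W 0 y ((radW (.ofAdd N)).1 v) := by
  have hmem : ∀ w, EN ψ U W 0 y w ∈ par R.dual := by
    intro w
    rw [EN, EM, ofAdd_zero, map_one, one_mul, inv_one, mul_one]
    exact E0_mem R.dual _ _
  have hz : (0 : altM n F).1 *ᵥ y = 0 := by rw [ZeroMemClass.coe_zero, zero_mulVec]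
  have h' : Ok (vv 0 y) ((radW (.ofAdd N)).1 v) := by
    have := h.map (radW (.ofAdd N))
    rwa [H40.OmModel.radW_vec, mulVec_zero, add_zero] at this
  refine par_ext R.dual (mul_mem (mul_mem (U_mem R.dual _) (hmem v)) (inv_mem (U_mem R.dual _)))
    (hmem _) ?_
  simp only [MonoidHom.comp_apply, map_mul, map_inv, pi_EN R hz h, pi_EN R hz h', R.lower]
  rw [← map_inv, ← map_mul, ← map_mul, H43.eichler_conj _ h.1 h.2, H40.OmModel.radW_vec, mulVec_zero,
    add_zero]

omit R in
/-- The elements permuting the family as their images do. -/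
def act (ψ : SpecialLinearGroup (Fin n) F →* G) (U W : Multiplicative (altM n F) →* G)
    (π : G →* orthGroup (qPlus n F)) : Subgroup G where
  carrier := {z | ∀ u v, Ok u v → z * E ψ U W u v * z⁻¹ = E ψ U W ((π z).1 u) ((π z).1 v)}
  one_mem' u v _ := by simp [H43.orth_one_apply]
  mul_mem' {a b} ha hb u v h := by
    rw [map_mul, H43.orth_mul_apply, H43.orth_mul_apply, ← ha _ _ (h.map (π b)), ← hb u v h]
    group
  inv_mem' {a} ha u v h := by
    have := ha _ _ (h.map (π a)⁻¹)
    rw [← H43.orth_mul_apply, ← H43.orth_mul_apply, mul_inv_cancel, H43.orth_one_apply,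
      H43.orth_one_apply] at this
    rw [map_inv, ← this]
    group

theorem psi_act (g : SLn) : ψ g ∈ act ψ U W π := by
  intro u v h
  obtain ⟨x, y, rfl⟩ : ∃ x y, u = vv x y := ⟨_, _, (H40.OmModel.vec_eta u).symm⟩
  have h' := h.map (lev g)
  rw [R.psi, H40.OmModel.lev_vec] at *
  by_cases hx : x = 0
  · subst hx
    have hz : (0 : altM n F).1 *ᵥ y = 0 := by rw [ZeroMemClass.coe_zero, zero_mulVec]
    rw [E, if_pos (Sum.elim_comp_inl _ _), E, if_pos (by rw [Sum.elim_comp_inl, mulVec_zero]),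
      Sum.elim_comp_inr, Sum.elim_comp_inr]
    have e := EM_psi R.dual (thT g) hz (ok_tau h)
    rw [MonoidHom.comp_apply, H40.OmModel.thT_thT, map_zero] at e
    unfold EN
    rw [e, ← H40.OmModel.sw_lev, H40.OmModel.sw_apply, H43.orth_mul_apply, H43.orth_mul_apply,
      ← H43.orth_mul_apply tau (tau : orthGroup (qPlus n F)), H40.OmModel.tau_tau, H43.orth_one_apply]
  · have hM := pick_spec hx (dot_of_sing h.1)
    have hgx : g.1 *ᵥ x ≠ 0 := fun e => hx (by
      rw [← H40.OmOrbit.mulVec_inv (g := g) (x := x) rfl, e, mulVec_zero])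
    rw [E_left R hx hM h, E_left R hgx (congrA_map g hM) h', EM_psi R g hM h]

theorem W_act (S : Multiplicative (altM n F)) : W S ∈ act ψ U W π := by
  intro u v h
  obtain ⟨x, y, rfl⟩ : ∃ x y, u = vv x y := ⟨_, _, (H40.OmModel.vec_eta u).symm⟩
  induction S using Multiplicative.rec with
  | ofAdd N =>
  have h' := h.map (radW (.ofAdd N))
  rw [R.lower, H40.OmModel.radW_vec] at *
  by_cases hx : x = 0
  · subst hx
    rw [mulVec_zero, add_zero, E, if_pos (Sum.elim_comp_inl _ _), E,
      if_pos (Sum.elim_comp_inl _ _), Sum.elim_comp_inr]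
    exact EN0_W R N h
  · have hM := pick_spec hx (dot_of_sing h.1)
    have hM' : (N + pick x y).1 *ᵥ x = y + N.1 *ᵥ x := by
      rw [AddSubgroup.coe_add, add_mulVec, hM, add_comm]
    rw [E_left R hx hM h, E_left R hx hM' h']
    exact EM_W R N (y := y)

theorem U_act (S : Multiplicative (altM n F)) : U S ∈ act ψ U W π := by
  intro u v h
  obtain ⟨x, y, rfl⟩ : ∃ x y, u = vv x y := ⟨_, _, (H40.OmModel.vec_eta u).symm⟩
  induction S using Multiplicative.rec with
  | ofAdd N =>
  have h' := h.map (radU (.ofAdd N))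
  rw [R.upper, H40.OmModel.radU_vec] at *
  by_cases hy : y = 0
  · subst hy
    rw [mulVec_zero, add_zero] at h' ⊢
    by_cases hx : x = 0
    · subst hx
      rw [E, if_pos (Sum.elim_comp_inl _ _), E, if_pos (Sum.elim_comp_inl _ _), Sum.elim_comp_inr]
      -- both sides are trivial
      have triv : ∀ w, Ok (vv (0 : Fin n → F) 0) w → EN ψ U W 0 0 w = 1 := by
        intro w hw
        have hz : (0 : altM n F).1 *ᵥ (0 : Fin n → F) = 0 := mulVec_zero _
        refine par_ext R.dual (by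
          rw [EN, EM, ofAdd_zero, map_one, one_mul, inv_one, mul_one]; exact E0_mem R.dual _ _)
          (one_mem _) ?_
        rw [MonoidHom.comp_apply, pi_EN R hz hw, map_one,
          show vv (0 : Fin n → F) (0 : Fin n → F) = 0 by funext i; rcases i with i | i <;> rfl]
        convert map_one sw using 2
        refine H43.orth_ext fun z => ?_
        rw [H43.eichler_apply (map_zero _) (by simp), H43.orth_one_apply]
        simp
      rw [triv v h, triv _ h', mul_one, mul_inv_cancel]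
    · have hz : (0 : altM n F).1 *ᵥ x = 0 := by rw [ZeroMemClass.coe_zero, zero_mulVec]
      have hmem : ∀ w, EM ψ U W 0 x w ∈ par R := by
        intro w
        rw [EM, ofAdd_zero, map_one, one_mul, inv_one, mul_one]
        exact E0_mem R _ _
      rw [E_left R hx hz h, E_left R hx hz h']
      refine par_ext R (mul_mem (mul_mem (U_mem R _) (hmem v)) (inv_mem (U_mem R _))) (hmem _) ?_
      rw [map_mul, map_mul, map_inv, pi_EM R hz h, pi_EM R hz h', R.upper,
        H43.eichler_conj _ h.1 h.2, H40.OmModel.radU_vec, mulVec_zero, add_zero]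
  · have hS := pick_spec hy ((dotProduct_comm y x).trans (dot_of_sing h.1))
    have hS' : (N + pick y x).1 *ᵥ y = x + N.1 *ᵥ y := by
      rw [AddSubgroup.coe_add, add_mulVec, hS, add_comm]
    rw [E_right R hy hS h, E_right R hy hS' h', EN, EN, radW_tau]
    exact EM_W R.dual N (y := x)

theorem act_eq_top (hgen : ψ.range ⊔ U.range ⊔ W.range = ⊤) : act ψ U W π = ⊤ := by
  rw [eq_top_iff, ← hgen]
  refine sup_le (sup_le ?_ ?_) ?_
  · rintro _ ⟨g, rfl⟩; exact psi_act R g
  · rintro _ ⟨g, rfl⟩; exact U_act R g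
  · rintro _ ⟨g, rfl⟩; exact W_act R g

/-- The kernel is central. -/
theorem ker_central (hgen : ψ.range ⊔ U.range ⊔ W.range = ⊤) : π.ker ≤ Subgroup.center G := by
  classical
  intro z hz
  have hE : ∀ u v, Ok u v → Commute z (E ψ U W u v) := by
    intro u v h
    have := (act_eq_top R hgen).symm ▸ Subgroup.mem_top z
    have e := this u v h
    rw [show π z = 1 from hz, H43.orth_one_apply, H43.orth_one_apply, mul_inv_eq_iff_eq_mul] at e
    exact e
  have hzero : ∀ x : Fin n → F, (0 : altM n F).1 *ᵥ x = 0 := fun x => by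
    rw [ZeroMemClass.coe_zero, zero_mulVec]
  have rad : ∀ (f : Multiplicative (altM n F) →* G),
      (∀ (i j : Fin n) (c : F), Commute z (f (.ofAdd (aM (δ i) (c • δ j))))) →
      ∀ S, Commute z (f S) := by
    intro f hf S
    induction S using Multiplicative.rec with
    | ofAdd S =>
    rw [← H40.OmOrbit.sum_aM S]
    exact Finset.sum_induction _ (fun S : altM n F => Commute z (f (.ofAdd S)))
      (fun a b ha hb => by rw [ofAdd_add, map_mul]; exact ha.mul_right hb)
      (by simp) (fun p _ => hf _ _ _)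
  have hU : ∀ S, Commute z (U S) := rad U fun i j c => by
    by_cases hc : (c • δ j : Fin n → F) = 0
    · rw [hc, aM_zero_right, ofAdd_zero, map_one]; exact Commute.one_right _
    have hok : Ok (vv (c • δ j) 0) (vv (δ i : Fin n → F) 0) :=
      ok_par (by rw [Sum.elim_comp_inr, zero_dotProduct])
    have := hE _ _ hok
    rwa [E_left R hc (hzero _) hok, EM, ofAdd_zero, map_one, one_mul, inv_one, mul_one, neg_zero,
      ofAdd_zero, map_one, H43.orth_one_apply, E0_up] at this
  have hW : ∀ S, Commute z (W S) := rad W fun i j c => by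
    by_cases hc : (c • δ j : Fin n → F) = 0
    · rw [hc, aM_zero_right, ofAdd_zero, map_one]; exact Commute.one_right _
    have hok : Ok (vv 0 (c • δ j)) (vv 0 (δ i : Fin n → F)) :=
      ⟨by rw [H40.OmModel.qP_vec, zero_dotProduct],
        by rw [H40.OmModel.polB_vec, zero_dotProduct, dotProduct_zero, add_zero]⟩
    have := hE _ _ hok
    rwa [E_right R hc (hzero _) hok, EN, EM, ofAdd_zero, map_one, one_mul, inv_one, mul_one,
      neg_zero, ofAdd_zero, map_one, H43.orth_one_apply, H40.OmModel.tau_vec, E0_up] at this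
  have hψ : ∀ g, Commute z (ψ g) := by
    intro g
    refine (Subgroup.mem_centralizer_singleton_iff.1 (?_ : ψ g ∈ Subgroup.centralizer {z})).symm
    induction g using H37.SL_transvection_induction with
    | h1 => rw [map_one]; exact one_mem _
    | hmul A B hA hB => rw [map_mul]; exact mul_mem hA hB
    | htransvec i j hij t =>
      have hok : Ok (vv (δ i : Fin n → F) 0) (vv 0 ((-t) • δ j)) := ok_par (by
        simp [hij, hij.symm, dotProduct_single])
      have := hE _ _ hok
      rw [E_left R (by simp [δ]) (hzero _) hok, EM, ofAdd_zero, map_one, one_mul, inv_one, mul_one,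
        neg_zero, ofAdd_zero, map_one, H43.orth_one_apply, E0_low] at this
      have e : tX (δ i) ((-t) • δ j) = Matrix.SpecialLinearGroup.transvection hij t := by
        apply Subtype.ext
        rw [H40.OmModel.coe_tX (by simp [hij, hij.symm]),
          SpecialLinearGroup.transvection_coe]
        ext a b
        rcases eq_or_ne a i with rfl | ha <;> rcases eq_or_ne b j with rfl | hb <;>
          simp_all [vecMulVec_apply, eq_comm]
      rw [← e]
      exact Subgroup.mem_centralizer_singleton_iff.2 this.symm.eq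
  have htop : Subgroup.centralizer {z} = ⊤ := by
    rw [eq_top_iff, ← hgen]
    refine sup_le (sup_le ?_ ?_) ?_ <;> rintro _ ⟨g, rfl⟩ <;>
      refine Subgroup.mem_centralizer_singleton_iff.2 (Commute.symm ?_).eq
    · exact hψ g
    · exact hU g
    · exact hW g
  rw [Subgroup.mem_center_iff]
  intro g
  exact Subgroup.mem_centralizer_singleton_iff.1 (htop.symm ▸ Subgroup.mem_top g)

/-- The group is perfect. -/
theorem perfect (hgen : ψ.range ⊔ U.range ⊔ W.range = ⊤) : commutator G = ⊤ := by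
  classical
  have hψ : ∀ g, ψ g ∈ commutator G := by
    intro g
    have hp := H37.commutator_SL_eq_top (F := F) (ι := Fin n)
      (by rw [Fintype.card_fin]; have := R.hn; omega)
    refine (?_ : (commutator SLn).map ψ ≤ commutator G) ⟨g, hp.symm ▸ Subgroup.mem_top g, rfl⟩
    rw [commutator_def, commutator_def, Subgroup.map_commutator]
    exact Subgroup.commutator_mono le_top le_top
  have rad : ∀ (χ : SpecialLinearGroup (Fin n) F →* G) (f : Multiplicative (altM n F) →* G),
      (∀ g S, χ g * f (.ofAdd S) * (χ g)⁻¹ = f (.ofAdd (congrA g S))) →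
      ∀ S, f S ∈ commutator G := by
    intro χ f hf S
    induction S using Multiplicative.rec with
    | ofAdd S =>
    rw [← H40.OmOrbit.sum_aM S]
    refine Finset.sum_induction _ (fun S : altM n F => f (.ofAdd S) ∈ commutator G)
      (fun a b ha hb => by rw [ofAdd_add, map_mul]; exact mul_mem ha hb)
      (by rw [ofAdd_zero, map_one]; exact one_mem _) ?_
    rintro ⟨⟨p, q⟩, hpq⟩ -
    obtain ⟨r, hr1, hr2⟩ : ∃ r, p ≠ r ∧ q ≠ r := by
      have h : ({p, q} : Finset (Fin n)).card < (Finset.univ : Finset (Fin n)).card := by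
        rw [Finset.card_univ, Fintype.card_fin]
        exact lt_of_le_of_lt Finset.card_le_two (by have := R.hn; omega)
      obtain ⟨r, -, hr⟩ := Finset.exists_mem_notMem_of_card_lt_card h
      simp only [Finset.mem_insert, Finset.mem_singleton, not_or] at hr
      exact ⟨r, Ne.symm hr.1, Ne.symm hr.2⟩
    set v := S.1 p q
    have e : congrA (tv p r 1) (aM (δ r) (v • δ q)) - aM (δ r) (v • δ q) =
        (aM (δ p) (v • δ q) : altM n F) := by
      rw [H40.OmModel.aM_congr, mulVec_smul, H40.OmOrbit.tv_delta hr1, H40.OmOrbit.tv_delta hr1,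
        if_pos rfl, if_neg hr2, add_zero, one_smul, H40.OmModel.aM_add_left, add_sub_cancel_left]
    rw [← e, ofAdd_sub, map_div, ← hf, div_eq_mul_inv, ← commutatorElement_def]
    exact Subgroup.commutator_mem_commutator (Subgroup.mem_top _) (Subgroup.mem_top _)
  rw [eq_top_iff, ← hgen]
  refine sup_le (sup_le ?_ ?_) ?_
  · rintro _ ⟨g, rfl⟩; exact hψ g
  · rintro _ ⟨g, rfl⟩; exact rad ψ U R.conjU g
  · rintro _ ⟨g, rfl⟩; exact rad _ W R.dual.conjU g

/-- The image is the commutator subgroup. -/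
theorem range_eq [Finite F] (hgen : ψ.range ⊔ U.range ⊔ W.range = ⊤) :
    π.range = commutator (orthGroup (qPlus n F)) := by
  have h5 : 5 ≤ Module.finrank F (Fin n ⊕ Fin n → F) := by
    rw [H43.finrank_qPlus]; have := R.hn; omega
  refine le_antisymm ?_ ?_
  · rintro _ ⟨g, rfl⟩
    refine (?_ : (commutator G).map π ≤ commutator _) ⟨g, (perfect R hgen).symm ▸ Subgroup.mem_top g, rfl⟩
    rw [commutator_def, commutator_def, Subgroup.map_commutator]
    exact Subgroup.commutator_mono le_top le_top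
  · rw [H43.commutator_eq_eichlerSub (H43.qPlus_nondeg n) h5, H43.eichlerSub, Subgroup.closure_le]
    rintro e ⟨u, w, hu, hw, rfl⟩
    exact ⟨E ψ U W u w, pi_E R ⟨hu, hw⟩⟩

/-- The group is finite. -/
theorem finite [Finite F] (hgen : ψ.range ⊔ U.range ⊔ W.range = ⊤) : Finite G := by
  classical
  haveI : Finite (orthGroup (qPlus n F)) :=
    Finite.of_injective (fun g => (⇑g.1 : (Fin n ⊕ Fin n → F) → _)) fun g h e =>
      H43.orth_ext (congrFun e)
  haveI : Finite (G ⧸ π.ker) := Finite.of_equiv _ (QuotientGroup.quotientKerEquivRange π).symm.toEquiv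
  choose rep hrep using fun a : G ⧸ π.ker => QuotientGroup.mk_surjective a
  haveI : Finite (commutatorSet G) := by
    refine Set.Finite.to_subtype (Set.Finite.subset
      (Set.finite_range fun ab : (G ⧸ π.ker) × (G ⧸ π.ker) => ⁅rep ab.1, rep ab.2⁆) ?_)
    rintro _ ⟨a, b, rfl⟩
    refine ⟨((a : G ⧸ π.ker), (b : G ⧸ π.ker)), ?_⟩
    have key : ∀ a : G, ∃ c ∈ Subgroup.center G, a = rep a * c := fun a =>
      ⟨(rep a)⁻¹ * a, ker_central R hgen (QuotientGroup.eq.1 (hrep a)), by group⟩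
    obtain ⟨c, hc, ha⟩ := key a
    obtain ⟨d, hd, hb⟩ := key b
    show ⁅rep a, rep b⁆ = ⁅a, b⁆
    conv_rhs => rw [ha, hb, commutatorElement_def]
    have hc' := Subgroup.mem_center_iff.1 hc
    have hd' := Subgroup.mem_center_iff.1 (inv_mem hd)
    rw [commutatorElement_def]
    calc _ = rep a * rep b * (rep a)⁻¹ * (rep b)⁻¹ := rfl
      _ = rep a * (rep b * c) * (d * c⁻¹) * (rep a)⁻¹ * d⁻¹ * (rep b)⁻¹ := by
          rw [show rep a * (rep b * c) * (d * c⁻¹) * (rep a)⁻¹ * d⁻¹ =
            rep a * rep b * (c * d * c⁻¹ * ((rep a)⁻¹ * d⁻¹)) by group, hd' (rep a)⁻¹,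
            ← hc' d]
          group
      _ = _ := by rw [hc' (rep b)]; group
  haveI : Finite (commutator G) := inferInstance
  rw [perfect R hgen] at this
  exact Finite.of_equiv _ Subgroup.topEquiv.toEquiv

end H40.OmFamily
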