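import Cfsg.Agent.H40.OmFamily
import Cfsg.Agent.H50.OrBase
import Cfsg.Agent.H50.CExtCrit
import Cfsg.Agent.H76.CoverLift
import Cfsg.Agent.H38.OmegaIndex
import Cfsg.Agent.H37.Card

/-!
The kernel of the map to the orthogonal group has order dividing `gcd (2, q - 1)`.
-/

set_option autoImplicit false
set_option linter.unusedSectionVars false
set_option linter.style.haveILetI false
set_option linter.unusedSimpArgs false

namespace H40.OmKill

open Matrix
open H40.OmModel (δ altM lev radU radW)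
open H40.OmFamily (RData)
open H43 (orthGroup qPlus polB)
open scoped commutatorElement

variable {F : Type*} [Field F] [Fintype F] {n : ℕ} {G : Type*} [Group G]
  {ψ : SpecialLinearGroup (Fin n) F →* G} {U W : Multiplicative (altM n F) →* G}
  {π : G →* orthGroup (qPlus n F)}

local notation "vv" => H40.OmModel.vec

local notation "SLn" => SpecialLinearGroup (Fin n) F

/-- The derived part of the Siegel parabolic. -/
noncomputable def sieg (n : ℕ) (F : Type*) [Field F] : Subgroup (orthGroup (qPlus n F)) :=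
  (radU (n := n) (F := F)).range ⊔ (lev (n := n) (F := F)).range

theorem card_altM : Nat.card (altM n F) = Fintype.card F ^ n.choose 2 := by
  classical
  have e : altM n F ≃ (H40.OmOrbit.Pairs n → F) :=
    { toFun := fun S p => S.1 p.1.1 p.1.2
      invFun := fun f => ∑ p : H40.OmOrbit.Pairs n, H40.OmModel.aM (δ p.1.1) (f p • δ p.1.2)
      left_inv := H40.OmOrbit.sum_aM
      right_inv := fun f => by
        funext q
        show (∑ p : H40.OmOrbit.Pairs n, H40.OmModel.aM (δ p.1.1) (f p • δ p.1.2) : altM n F).1 q.1.1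
          q.1.2 = f q
        rw [AddSubgroup.val_finsetSum, Matrix.sum_apply]
        simp only [H40.OmOrbit.aM_delta]
        rw [Finset.sum_eq_single q ?_ (by simp)]
        · rw [if_pos ⟨rfl, rfl⟩, if_neg, sub_zero]
          rintro ⟨e1, -⟩
          exact q.2.ne e1
        · rintro p - hpq
          rw [if_neg, if_neg, sub_zero]
          · rintro ⟨e1, e2⟩
            exact lt_asymm q.2 (e1 ▸ e2 ▸ p.2)
          · rintro ⟨e1, e2⟩
            exact hpq (Subtype.ext (Prod.ext e1.symm e2.symm)) }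
  rw [Nat.card_congr e, Nat.card_fun, Nat.card_eq_fintype_card (α := F),
    Nat.card_eq_fintype_card (α := H40.OmOrbit.Pairs n)]
  congr 1
  rw [Fintype.card_subtype]
  exact card_lt_pairs n
where
  card_lt_pairs (n : ℕ) : (Finset.univ.filter fun p : Fin n × Fin n => p.1 < p.2).card =
      n.choose 2 := by
    classical
    rw [show n.choose 2 = ((Finset.univ : Finset (Fin n)).powersetCard 2).card by
      rw [Finset.card_powersetCard, Finset.card_fin]]
    refine Finset.card_bij (fun p _ => {p.1, p.2}) (fun p hp => ?_) (fun p hp q hq e => ?_)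
      (fun s hs => ?_)
    · rw [Finset.mem_powersetCard]
      exact ⟨Finset.subset_univ _, Finset.card_pair (Finset.mem_filter.1 hp).2.ne⟩
    · have hp' := (Finset.mem_filter.1 hp).2
      have hq' := (Finset.mem_filter.1 hq).2
      have h1 : p.1 ∈ ({q.1, q.2} : Finset (Fin n)) := e ▸ Finset.mem_insert_self _ _
      have h2 : p.2 ∈ ({q.1, q.2} : Finset (Fin n)) :=
        e ▸ Finset.mem_insert_of_mem (Finset.mem_singleton_self _)
      simp only [Finset.mem_insert, Finset.mem_singleton] at h1 h2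
      refine Prod.ext ?_ ?_ <;> rcases h1 with h1 | h1 <;> rcases h2 with h2 | h2 <;>
        simp_all <;> omega
    · rw [Finset.mem_powersetCard, Finset.card_eq_two] at hs
      obtain ⟨-, a, b, hab, rfl⟩ := hs
      rcases lt_or_gt_of_ne hab with h | h
      · exact ⟨(a, b), by simp [h], rfl⟩
      · exact ⟨(b, a), by simp [h], Finset.pair_comm _ _⟩

theorem card_sieg : Nat.card (sieg n F) = Fintype.card F ^ n.choose 2 * Nat.card SLn := by
  classical
  have hnorm : (lev (n := n) (F := F)).range ≤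
      Subgroup.normalizer ((radU (n := n) (F := F)).range : Set (orthGroup (qPlus n F))) := by
    rintro _ ⟨g, rfl⟩
    rw [Subgroup.mem_normalizer_iff]
    intro w
    constructor
    · rintro ⟨S, rfl⟩
      exact ⟨_, (H40.OmModel.lev_radU g S.toAdd).symm⟩
    · rintro ⟨S, hS⟩
      refine ⟨_, (H40.OmModel.lev_radU g⁻¹ S.toAdd).symm.trans ?_⟩
      rw [ofAdd_toAdd, hS, map_inv]
      group
  have hbij : Function.Bijective (fun p : Multiplicative (altM n F) × SLn =>
      (⟨radU p.1 * lev p.2, Subgroup.mul_mem_sup ⟨_, rfl⟩ ⟨_, rfl⟩⟩ : sieg n F)) := by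
    constructor
    · rintro ⟨S, g⟩ ⟨S', g'⟩ e
      induction S using Multiplicative.rec with
      | ofAdd S =>
      induction S' using Multiplicative.rec with
      | ofAdd S' =>
      have e1 : radU (.ofAdd S) * lev g = radU (.ofAdd S') * lev g' := congrArg Subtype.val e
      have hg : g = g' := Subtype.ext (Matrix.ext_iff_mulVec.2 fun x => by
        have := congrArg (fun z : orthGroup (qPlus n F) => z.1 (vv x 0)) e1
        simp only [H43.orth_mul_apply, H40.OmModel.radU_vec, H40.OmModel.lev_vec, mulVec_zero,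
          add_zero] at this
        exact congrArg (fun v : Fin n ⊕ Fin n → F => v ∘ Sum.inl) this)
      subst hg
      have e2 := mul_right_cancel e1
      have hS : S = S' := Subtype.ext (Matrix.ext_iff_mulVec.2 fun y => by
        have := congrArg (fun z : orthGroup (qPlus n F) => z.1 (vv 0 y)) e2
        simp only [H40.OmModel.radU_vec, zero_add] at this
        exact congrArg (fun v : Fin n ⊕ Fin n → F => v ∘ Sum.inl) this)
      rw [hS]
    · rintro ⟨w, hw⟩
      have hw' : w ∈ (sieg n F : Set (orthGroup (qPlus n F))) := hw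
      rw [sieg, Subgroup.coe_mul_of_right_le_normalizer_left _ _ hnorm] at hw'
      obtain ⟨_, ⟨S, rfl⟩, _, ⟨g, rfl⟩, rfl⟩ := hw'
      exact ⟨(S, g), rfl⟩
  rw [← Nat.card_eq_of_bijective _ hbij, Nat.card_prod, Nat.card_congr Multiplicative.toAdd,
    card_altM]

/-- The index in the derived subgroup of a subgroup containing the Siegel part is prime to `p`. -/
theorem not_dvd_index (hn : 4 ≤ n) (p : ℕ) [Fact p.Prime] [CharP F p]
    (hle : sieg n F ≤ commutator (orthGroup (qPlus n F))) :
    ¬ p ∣ ((sieg n F).subgroupOf (commutator (orthGroup (qPlus n F)))).index := by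
  classical
  haveI : Finite (orthGroup (qPlus n F)) :=
    Finite.of_injective (fun g => (⇑g.1 : (Fin n ⊕ Fin n → F) → _)) fun g h e =>
      H43.orth_ext (congrFun e)
  obtain ⟨k, rfl⟩ : ∃ k, n = k + 1 := ⟨n - 1, by omega⟩
  set Om := commutator (orthGroup (qPlus (k + 1) F))
  set i := ((sieg (k + 1) F).subgroupOf Om).index
  have hgen : H43.ReflGenerates F (Fin (k + 1) ⊕ Fin (k + 1) → F) :=
    H43.reflGenerates_of_card (Or.inr (by rw [H43.finrank_qPlus]; omega))
  have hidx : Om.index = 2 * Nat.gcd 2 (Fintype.card F - 1) := by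
    rw [← H38.omega_index_gcd rfl (H43.qPlus_nondeg (k + 1)) hgen (by simp; omega), H43.omega_index]
  have hcard : Nat.card (orthGroup (qPlus (k + 1) F)) =
      2 * Fintype.card F ^ (k * (k + 1)) * (Fintype.card F ^ (k + 1) - 1) *
        ∏ i ∈ Finset.range k, (Fintype.card F ^ (2 * (i + 1)) - 1) := by
    rw [← Nat.card_congr (H43.toOrth (qPlus (k + 1) F)).toEquiv, H43.coe_qPlus, H38.card_plus]
  have h1 : Nat.card (sieg (k + 1) F) * (i * Om.index) = Nat.card (orthGroup (qPlus (k + 1) F)) := by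
    rw [← Subgroup.index_mul_card (sieg (k + 1) F), mul_comm]
    congr 1
    rw [← Subgroup.relIndex_mul_index hle]
    rfl
  rw [card_sieg, hidx, hcard] at h1
  have hSL := H37.card_SL_fin (F := F) (k + 1) (by omega)
  rw [Nat.card_eq_fintype_card (α := F)] at hSL
  set q := Fintype.card F
  set S := Nat.card (SpecialLinearGroup (Fin (k + 1)) F)
  set P1 := ∏ i ∈ Finset.range k, (q ^ (2 * (i + 1)) - 1)
  set P2 := ∏ i ∈ Finset.range (k + 1), (q ^ (i + 1) - 1)
  have hGL : ∏ i : Fin (k + 1), (q ^ (k + 1) - q ^ (i : ℕ)) = q ^ ((k + 1).choose 2) * P2 := by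
    rw [Fin.prod_univ_eq_prod_range (fun i => q ^ (k + 1) - q ^ i)]
    have e : ∀ i ∈ Finset.range (k + 1), q ^ (k + 1) - q ^ i = q ^ i * (q ^ (k + 1 - i) - 1) := by
      intro i hi
      rw [Finset.mem_range] at hi
      rw [Nat.mul_sub_one, ← pow_add, Nat.add_sub_cancel' (by omega)]
    rw [Finset.prod_congr rfl e, Finset.prod_mul_distrib, Finset.prod_pow_eq_pow_sum,
      Finset.sum_range_id, ← Nat.choose_two_right]
    congr 1
    rw [← Finset.prod_range_reflect]
    refine Finset.prod_congr rfl fun i hi => ?_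
    rw [Finset.mem_range] at hi
    congr 2
    omega
  rw [hGL] at hSL
  have h2 : 2 * (k + 1).choose 2 = k * (k + 1) := by
    rw [Nat.choose_two_right, show k + 1 - 1 = k by omega, mul_comm (k + 1) k,
      Nat.two_mul_div_two_of_even (Nat.even_mul_succ_self k)]
  set g := Nat.gcd 2 (q - 1)
  have key : q ^ (k * (k + 1)) * (2 * (P2 * (g * i))) =
      q ^ (k * (k + 1)) * (2 * ((q - 1) * ((q ^ (k + 1) - 1) * P1))) := by
    calc q ^ (k * (k + 1)) * (2 * (P2 * (g * i)))
        = q ^ (k + 1).choose 2 * (q ^ (k + 1).choose 2 * P2) * (i * (2 * g)) := by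
          rw [← h2, pow_mul']; ring
      _ = (q - 1) * (q ^ (k + 1).choose 2 * S * (i * (2 * g))) := by rw [← hSL]; ring
      _ = _ := by rw [h1]; ring
  have hq1 : 1 < q := Fintype.one_lt_card
  have key' := Nat.eq_of_mul_eq_mul_left (show 0 < 2 by norm_num)
    (Nat.eq_of_mul_eq_mul_left (pow_pos (by omega) _) key)
  intro hp
  have hpp : p.Prime := Fact.out
  have hpq : p ∣ q := by
    obtain ⟨m, -, hm⟩ := FiniteField.card F p
    rw [show q = p ^ (m : ℕ) from hm]
    exact dvd_pow_self _ m.pos.ne'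
  have hno : ∀ a, a ≠ 0 → ¬ p ∣ q ^ a - 1 := by
    intro a ha hd
    have h1 : p ∣ q ^ a := dvd_pow hpq ha
    have hpos : 1 ≤ q ^ a := Nat.one_le_pow _ _ (by omega)
    have h2 := Nat.dvd_sub h1 hd
    rw [Nat.sub_sub_self hpos, Nat.dvd_one] at h2
    exact hpp.one_lt.ne' h2
  have hd : p ∣ (q - 1) * ((q ^ (k + 1) - 1) * P1) :=
    key' ▸ dvd_mul_of_dvd_right (dvd_mul_of_dvd_right hp g) P2
  rcases hpp.dvd_mul.1 hd with h | h
  · exact hno 1 one_ne_zero (by rwa [pow_one])
  rcases hpp.dvd_mul.1 h with h | h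
  · exact hno _ (by omega) h
  · obtain ⟨i, -, hi⟩ := (Prime.dvd_finsetProd_iff hpp.prime _).1 h
    exact hno _ (by omega) hi

variable (R : RData ψ U W π) (hgen : ψ.range ⊔ U.range ⊔ W.range = ⊤)
include R hgen

/-- The kernel has order dividing `gcd (2, q - 1)`. -/
theorem ker_dvd : Nat.card π.ker ∣ Nat.gcd 2 (Fintype.card F - 1) := by
  classical
  haveI := H40.OmFamily.finite R hgen
  have hn := R.hn
  have h5 : 5 ≤ Module.finrank F (Fin n ⊕ Fin n → F) := by rw [H43.finrank_qPlus]; omega
  obtain ⟨p, hp⟩ := CharP.exists F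
  haveI : Fact p.Prime := ⟨CharP.char_is_prime F p⟩
  haveI : Finite (orthGroup (qPlus n F)) :=
    Finite.of_injective (fun g => (⇑g.1 : (Fin n ⊕ Fin n → F) → _)) fun g h e =>
      H43.orth_ext (congrFun e)
  have hr := H40.OmFamily.range_eq R hgen
  let σ : G →* H50.Or.Om (qPlus n F) :=
    π.codRestrict _ fun g => hr ▸ (⟨g, rfl⟩ : π g ∈ π.range)
  have hs : Function.Surjective σ := by
    rintro ⟨x, hx⟩
    obtain ⟨g, hg⟩ := (hr.symm ▸ hx : x ∈ π.range)
    exact ⟨g, Subtype.ext hg⟩
  have hker : σ.ker = π.ker := by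
    ext g
    exact ⟨fun h => congrArg Subtype.val h, fun h => Subtype.ext h⟩
  have hc : σ.ker ≤ Subgroup.center G := hker ▸ H40.OmFamily.ker_central R hgen
  have hperf := H40.OmFamily.perfect R hgen
  have hd : σ.ker ≤ commutator G := hperf ▸ le_top
  have hle : sieg n F ≤ commutator (orthGroup (qPlus n F)) := by
    rw [← hr, sieg, sup_le_iff]
    exact ⟨by rintro _ ⟨S, rfl⟩; exact ⟨U S, R.upper S⟩,
      by rintro _ ⟨g, rfl⟩; exact ⟨ψ g, R.psi g⟩⟩
  have hp1 : ∀ z : G, σ z = 1 → z ^ p = 1 → z = 1 := by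
    intro z hz hzp
    have hz' := H50.CExt.mem_commutator_comap σ hs hc (not_dvd_index hn p hle) (hd hz) hz hzp
    refine H40.OmFamily.par_ext R (z' := 1) ?_ (one_mem _) (by rw [map_one]; exact congrArg Subtype.val hz)
    refine (Subgroup.commutator_le.2 ?_ : ⁅_, _⁆ ≤ H40.OmFamily.par R) hz'
    have lift : ∀ w ∈ ((sieg n F).subgroupOf (commutator (orthGroup (qPlus n F)))).comap σ,
        ∃ w' ∈ H40.OmFamily.par R, σ w = σ w' := by
      intro w hw
      have himg : sieg n F ≤ (H40.OmFamily.par R).map π := by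
        rw [sieg, sup_le_iff]
        constructor
        · rintro _ ⟨S, rfl⟩; exact ⟨_, H40.OmFamily.U_mem R S, R.upper S⟩
        · rintro _ ⟨g, rfl⟩; exact ⟨_, H40.OmFamily.psi_mem R g, R.psi g⟩
      obtain ⟨w', hw', e⟩ := himg hw
      exact ⟨w', hw', Subtype.ext e.symm⟩
    intro a ha b hb
    obtain ⟨a', ha', ea⟩ := lift a ha
    obtain ⟨b', hb', eb⟩ := lift b hb
    rw [H76.Cover.comm_congr σ hc ea eb, commutatorElement_def]
    exact mul_mem (mul_mem (mul_mem ha' hb') (inv_mem ha')) (inv_mem hb')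
  have hcop : ¬ p ∣ Nat.card σ.ker := by
    intro h
    obtain ⟨⟨z, hz⟩, hord⟩ := exists_prime_orderOf_dvd_card' p h
    rw [Subgroup.orderOf_mk] at hord
    rw [hp1 z hz (hord ▸ pow_orderOf_eq_one z), orderOf_one] at hord
    exact (Fact.out : p.Prime).one_lt.ne hord
  have hpg := H50.Or.pGen_top (p := p) (H43.qPlus_nondeg (F := F) n) h5
  have hcomm : commutator G ≤ H50.CExt.liftGrp p σ ⊤ := by
    rw [commutator_def, Subgroup.commutator_le]
    intro a _ b _
    obtain ⟨k1, hk, x, hx, rfl⟩ := H50.CExt.exists_mul_ker p σ hc hcop hs hpg a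
    obtain ⟨k2, hk', y, hy, rfl⟩ := H50.CExt.exists_mul_ker p σ hc hcop hs hpg b
    rw [H76.Cover.comm_congr σ hc (x' := k1) (y' := k2)
      (by rw [map_mul, MonoidHom.mem_ker.1 hx, mul_one])
      (by rw [map_mul, MonoidHom.mem_ker.1 hy, mul_one]), commutatorElement_def]
    exact mul_mem (mul_mem (mul_mem hk hk') (inv_mem hk)) (inv_mem hk')
  rw [← hker]
  exact (Subgroup.card_dvd_of_le (K := H50.CExt.liftGrp p σ ⊤ ⊓ σ.ker)
    fun z hz => ⟨hcomm (hd hz), hz⟩).trans
      (H50.Or.bd_plus p n (by omega) G σ hs hc hcop)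

/-- The kernel is the normal closure of one element. -/
theorem exists_kill : ∃ z : G, π.ker = Subgroup.normalClosure {z} := by
  classical
  haveI := H40.OmFamily.finite R hgen
  have h2 : Nat.card π.ker ∣ 2 := (ker_dvd R hgen).trans (Nat.gcd_dvd_left _ _)
  obtain ⟨z, hz⟩ : ∃ z : π.ker, ∀ x : π.ker, x ∈ Subgroup.zpowers z := by
    rcases (Nat.dvd_prime Nat.prime_two).1 h2 with h | h
    · haveI := (Nat.card_eq_one_iff_unique.1 h).1
      exact ⟨1, fun x => by rw [Subsingleton.elim x 1]; exact one_mem _⟩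
    · haveI : Fact (Nat.card π.ker).Prime := ⟨h.symm ▸ Nat.prime_two⟩
      haveI : IsCyclic π.ker := isCyclic_of_prime_card rfl
      exact IsCyclic.exists_generator
  obtain ⟨z, hzk⟩ := z
  refine ⟨z, le_antisymm (fun x hx => ?_) ?_⟩
  · obtain ⟨m, hm⟩ := Subgroup.mem_zpowers_iff.1 (hz ⟨x, hx⟩)
    rw [Subtype.ext_iff, Subgroup.coe_zpow, Subtype.coe_mk, Subtype.coe_mk] at hm
    rw [← hm]
    exact zpow_mem (Subgroup.subset_normalClosure (Set.mem_singleton z)) m
  · exact Subgroup.normalClosure_le_normal (Set.singleton_subset_iff.2 hzk)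

end H40.OmKill
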