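import Cfsg.Agent.H40.GlueTools
import Cfsg.Agent.H43.Eichler
import Cfsg.Agent.H43.Bridge

/-!
The orthogonal group of a hyperbolic form with its Levi subgroup and the two Siegel radicals.
-/

set_option autoImplicit false
set_option linter.unusedSectionVars false
set_option linter.style.haveILetI false

namespace H40.OmModel

open Matrix
open H43 (orthGroup qPlus polB eichler)

variable {F : Type*} [Field F] {n : ℕ}

/-- A vector from its two halves. -/
abbrev vec (x y : Fin n → F) : Fin n ⊕ Fin n → F := Sum.elim x y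

theorem vec_eta (v : Fin n ⊕ Fin n → F) : vec (v ∘ Sum.inl) (v ∘ Sum.inr) = v := by
  funext i; rcases i with i | i <;> rfl

/-- A standard basis vector. -/
abbrev δ (i : Fin n) : Fin n → F := Pi.single i 1

theorem qP_vec (x y : Fin n → F) : qPlus n F (vec x y) = x ⬝ᵥ y := by
  rw [H43.coe_qPlus]; rfl

theorem polB_vec (x y x' y' : Fin n → F) :
    polB (qPlus n F) (vec x y) (vec x' y') = x ⬝ᵥ y' + y ⬝ᵥ x' := by
  rw [H43.polB_qPlus, Finset.sum_add_distrib]; rfl

/-- The alternating matrices. -/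
def altM (n : ℕ) (F : Type*) [Field F] : AddSubgroup (Matrix (Fin n) (Fin n) F) where
  carrier := {M | Mᵀ = -M ∧ ∀ i, M i i = 0}
  zero_mem' := ⟨by simp, fun _ => rfl⟩
  add_mem' := fun {A B} hA hB =>
    ⟨by rw [transpose_add, hA.1, hB.1, neg_add], fun i => by simp [hA.2 i, hB.2 i]⟩
  neg_mem' := fun {A} hA => ⟨by rw [transpose_neg, hA.1], fun i => by simp [hA.2 i]⟩

theorem alt_apply {M : Matrix (Fin n) (Fin n) F} (h : M ∈ altM n F) (i j : Fin n) :
    M j i = -M i j :=
  congrFun (congrFun h.1 i) j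

theorem alt_dot (M : altM n F) (y : Fin n → F) : y ⬝ᵥ (M.1 *ᵥ y) = 0 := by
  classical
  simp only [dotProduct, mulVec, Finset.mul_sum]
  rw [← Finset.sum_product']
  refine Finset.sum_involution (fun p _ => (p.2, p.1)) ?_ ?_ (fun p _ => Finset.mem_univ _)
    (fun p _ => rfl)
  · rintro ⟨i, j⟩ -
    simp only [alt_apply M.2 i j]
    ring
  · rintro ⟨i, j⟩ - h e
    obtain rfl : j = i := congrArg Prod.fst e
    simp [M.2.2] at h

theorem vec_ext {g h : orthGroup (qPlus n F)} (H : ∀ x y, g.1 (vec x y) = h.1 (vec x y)) :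
    g = h :=
  H43.orth_ext fun v => by rw [← vec_eta v]; exact H _ _

/-- An isometry from a pair of maps on the halves. -/
noncomputable def ofPair (f : (Fin n ⊕ Fin n → F) →ₗ[F] (Fin n ⊕ Fin n → F))
    (hf : ∀ v, qPlus n F (f v) = qPlus n F v) : orthGroup (qPlus n F) :=
  H43.ofIsometry (H43.qPlus_nondeg n) f hf

theorem ofPair_apply (f : (Fin n ⊕ Fin n → F) →ₗ[F] (Fin n ⊕ Fin n → F))
    (hf : ∀ v, qPlus n F (f v) = qPlus n F v) (v : Fin n ⊕ Fin n → F) :
    (ofPair f hf).1 v = f v := rfl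

theorem mulVec_blocks (A B C D : Matrix (Fin n) (Fin n) F) (x y : Fin n → F) :
    fromBlocks A B C D *ᵥ vec x y = vec (A *ᵥ x + B *ᵥ y) (C *ᵥ x + D *ᵥ y) := by
  rw [fromBlocks_mulVec]; rfl

/-- An isometry given by blocks. -/
noncomputable def ofBlocks (A B C D : Matrix (Fin n) (Fin n) F)
    (h : ∀ x y : Fin n → F, (A *ᵥ x + B *ᵥ y) ⬝ᵥ (C *ᵥ x + D *ᵥ y) = x ⬝ᵥ y) :
    orthGroup (qPlus n F) :=
  ofPair (fromBlocks A B C D).mulVecLin fun v => by
    rw [← vec_eta v, mulVecLin_apply, mulVec_blocks, qP_vec, qP_vec, h]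

theorem ofBlocks_vec (A B C D : Matrix (Fin n) (Fin n) F)
    (h : ∀ x y : Fin n → F, (A *ᵥ x + B *ᵥ y) ⬝ᵥ (C *ᵥ x + D *ᵥ y) = x ⬝ᵥ y) (x y : Fin n → F) :
    (ofBlocks A B C D h).1 (vec x y) = vec (A *ᵥ x + B *ᵥ y) (C *ᵥ x + D *ᵥ y) :=
  mulVec_blocks A B C D x y

theorem cmul (g h : SpecialLinearGroup (Fin n) F) : (g * h).1 = g.1 * h.1 := rfl

theorem cone : (1 : SpecialLinearGroup (Fin n) F).1 = 1 := rfl

/-- Inverse transpose. -/
def thT : SpecialLinearGroup (Fin n) F →* SpecialLinearGroup (Fin n) F :=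
  MonoidHom.mk' (fun g => ⟨(g⁻¹ : SpecialLinearGroup (Fin n) F).1ᵀ, by rw [det_transpose, (g⁻¹).2]⟩)
    fun g h => Subtype.ext (by
      show (((g * h)⁻¹ : SpecialLinearGroup (Fin n) F).1)ᵀ = (g⁻¹).1ᵀ * (h⁻¹).1ᵀ
      rw [_root_.mul_inv_rev, cmul, transpose_mul])

theorem coe_thT (g : SpecialLinearGroup (Fin n) F) :
    (thT g).1 = (g⁻¹ : SpecialLinearGroup (Fin n) F).1ᵀ := rfl

theorem thT_thT (g : SpecialLinearGroup (Fin n) F) : thT (thT g) = g :=
  Subtype.ext (by rw [coe_thT, ← map_inv, coe_thT, inv_inv, transpose_transpose])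

theorem thT_dot (g : SpecialLinearGroup (Fin n) F) (x y : Fin n → F) :
    (g.1 *ᵥ x) ⬝ᵥ ((thT g).1 *ᵥ y) = x ⬝ᵥ y := by
  rw [coe_thT, dotProduct_comm, mulVec_transpose, ← dotProduct_mulVec, mulVec_mulVec, ← cmul,
    inv_mul_cancel, cone, one_mulVec, dotProduct_comm]

theorem thT_transpose_mul (g : SpecialLinearGroup (Fin n) F) : g.1ᵀ * (thT g).1 = 1 := by
  rw [coe_thT, ← transpose_mul, ← cmul, inv_mul_cancel, cone, transpose_one]

/-- The Levi subgroup. -/
noncomputable def lev : SpecialLinearGroup (Fin n) F →* orthGroup (qPlus n F) :=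
  MonoidHom.mk' (fun g => ofBlocks g.1 0 0 (thT g).1 fun x y => by simp [thT_dot]) fun g h =>
    vec_ext fun x y => by
      simp [ofBlocks_vec, map_mul, mulVec_mulVec]

theorem lev_vec (g : SpecialLinearGroup (Fin n) F) (x y : Fin n → F) :
    (lev g).1 (vec x y) = vec (g.1 *ᵥ x) ((thT g).1 *ᵥ y) := by
  exact (ofBlocks_vec g.1 0 0 (thT g).1 (fun x y => by simp [thT_dot]) x y).trans (by simp)

theorem lev_injective : Function.Injective (lev (n := n) (F := F)) := fun g h e =>
  Subtype.ext (Matrix.ext_iff_mulVec.2 fun x => by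
    have := congrArg (fun z : orthGroup (qPlus n F) => z.1 (vec x 0)) e
    simp only [lev_vec] at this
    exact congrArg (fun v : Fin n ⊕ Fin n → F => v ∘ Sum.inl) this)

/-- The upper radical. -/
noncomputable def radU : Multiplicative (altM n F) →* orthGroup (qPlus n F) :=
  MonoidHom.mk' (fun S => ofBlocks 1 S.toAdd.1 0 1 fun x y => by
      simp [add_dotProduct, dotProduct_comm (S.toAdd.1 *ᵥ y), alt_dot]) fun S T =>
    vec_ext fun x y => by
      simp [ofBlocks_vec, add_mulVec, add_assoc, add_comm (T.toAdd.1 *ᵥ y)]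

theorem radU_vec (S : altM n F) (x y : Fin n → F) :
    (radU (.ofAdd S)).1 (vec x y) = vec (x + S.1 *ᵥ y) y := by
  exact (ofBlocks_vec 1 S.1 0 1 (fun x y => by
    simp [add_dotProduct, dotProduct_comm (S.1 *ᵥ y), alt_dot]) x y).trans (by simp)

/-- The lower radical. -/
noncomputable def radW : Multiplicative (altM n F) →* orthGroup (qPlus n F) :=
  MonoidHom.mk' (fun S => ofBlocks 1 0 S.toAdd.1 1 fun x y => by
      simp [dotProduct_add, alt_dot]) fun S T =>
    vec_ext fun x y => by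
      simp [ofBlocks_vec, add_mulVec, add_assoc]

theorem radW_vec (S : altM n F) (x y : Fin n → F) :
    (radW (.ofAdd S)).1 (vec x y) = vec x (y + S.1 *ᵥ x) := by
  exact (ofBlocks_vec 1 0 S.1 1 (fun x y => by simp [dotProduct_add, alt_dot]) x y).trans
    (by simp [add_comm])

/-- Exchange of the halves. -/
noncomputable def tau : orthGroup (qPlus n F) :=
  ofBlocks 0 1 1 0 fun x y => by simp [dotProduct_comm]

theorem tau_vec (x y : Fin n → F) : (tau (n := n) (F := F)).1 (vec x y) = vec y x := by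
  rw [tau, ofBlocks_vec]; simp

theorem tau_tau : (tau : orthGroup (qPlus n F)) * tau = 1 :=
  vec_ext fun x y => by rw [H43.orth_mul_apply, tau_vec, tau_vec]; rfl

theorem tau_inv : (tau : orthGroup (qPlus n F))⁻¹ = tau := inv_eq_of_mul_eq_one_left tau_tau

/-- Conjugation by the exchange. -/
noncomputable def sw : orthGroup (qPlus n F) →* orthGroup (qPlus n F) :=
  (MulAut.conj (tau : orthGroup (qPlus n F))).toMonoidHom

theorem sw_apply (g : orthGroup (qPlus n F)) : sw g = tau * g * tau := by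
  show tau * g * tau⁻¹ = _
  rw [tau_inv]

theorem sw_sw (g : orthGroup (qPlus n F)) : sw (sw g) = g := by
  rw [sw_apply, sw_apply, ← mul_assoc, ← mul_assoc, tau_tau, one_mul, mul_assoc, tau_tau, mul_one]

theorem sw_vec (g : orthGroup (qPlus n F)) (x y : Fin n → F) :
    (sw g).1 (vec x y) = (tau (n := n) (F := F)).1 (g.1 (vec y x)) := by
  rw [sw_apply, H43.orth_mul_apply, H43.orth_mul_apply, tau_vec]

theorem sw_lev (g : SpecialLinearGroup (Fin n) F) : sw (lev g) = lev (thT g) :=
  vec_ext fun x y => by rw [sw_vec, lev_vec, tau_vec, lev_vec, thT_thT]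

theorem sw_radU (S : Multiplicative (altM n F)) : sw (radU S) = radW S :=
  vec_ext fun x y => by
    rw [sw_vec, show S = .ofAdd S.toAdd from rfl, radU_vec, tau_vec, radW_vec]

theorem sw_radW (S : Multiplicative (altM n F)) : sw (radW S) = radU S :=
  vec_ext fun x y => by
    rw [sw_vec, show S = .ofAdd S.toAdd from rfl, radW_vec, tau_vec, radU_vec]

/-- The congruence action. -/
def congrA (g : SpecialLinearGroup (Fin n) F) : altM n F →+ altM n F where
  toFun S := ⟨g.1 * S.1 * g.1ᵀ, by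
    refine ⟨?_, fun i => ?_⟩
    · rw [transpose_mul, transpose_mul, transpose_transpose, S.2.1, Matrix.neg_mul, Matrix.mul_neg,
        mul_assoc]
    · have := alt_dot S (g.1 i)
      rw [mul_assoc]
      simpa [Matrix.mul_apply, dotProduct, mulVec, Finset.mul_sum, mul_assoc] using this⟩
  map_zero' := Subtype.ext (by simp)
  map_add' S T := Subtype.ext (by simp [mul_add, add_mul])

theorem congrA_coe (g : SpecialLinearGroup (Fin n) F) (S : altM n F) :
    (congrA g S).1 = g.1 * S.1 * g.1ᵀ := rfl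

theorem congrA_mul (g h : SpecialLinearGroup (Fin n) F) (S : altM n F) :
    congrA (g * h) S = congrA g (congrA h S) :=
  Subtype.ext (by simp [congrA_coe, mul_assoc])

theorem lev_radU (g : SpecialLinearGroup (Fin n) F) (S : altM n F) :
    lev g * radU (.ofAdd S) * (lev g)⁻¹ = radU (.ofAdd (congrA g S)) := by
  rw [mul_inv_eq_iff_eq_mul]
  refine vec_ext fun x y => ?_
  simp only [H43.orth_mul_apply, radU_vec, lev_vec, mulVec_add, congrA_coe, mulVec_mulVec]
  rw [mul_assoc (g.1 * S.1), thT_transpose_mul, mul_one]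

theorem lev_radW (g : SpecialLinearGroup (Fin n) F) (S : altM n F) :
    lev g * radW (.ofAdd S) * (lev g)⁻¹ = radW (.ofAdd (congrA (thT g) S)) := by
  have h := congrArg sw (lev_radU (thT g) S)
  simp only [map_mul, map_inv, sw_lev, thT_thT, sw_radU] at h
  exact h

/-- The elementary alternating matrix of two vectors. -/
def aM (x y : Fin n → F) : altM n F :=
  ⟨vecMulVec x y - vecMulVec y x, by
    refine ⟨?_, fun i => by simp [vecMulVec_apply, mul_comm]⟩
    ext i j; simp [vecMulVec_apply, mul_comm]⟩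

theorem aM_coe (x y : Fin n → F) : (aM x y).1 = vecMulVec x y - vecMulVec y x := rfl

theorem aM_mulVec (x y v : Fin n → F) : (aM x y).1 *ᵥ v = (y ⬝ᵥ v) • x - (x ⬝ᵥ v) • y := by
  rw [aM_coe, sub_mulVec, vecMulVec_mulVec, vecMulVec_mulVec, op_smul_eq_smul, op_smul_eq_smul]

theorem aM_congr (g : SpecialLinearGroup (Fin n) F) (x y : Fin n → F) :
    congrA g (aM x y) = aM (g.1 *ᵥ x) (g.1 *ᵥ y) := by
  refine Subtype.ext ?_
  rw [congrA_coe, aM_coe, aM_coe, mul_sub, sub_mul, mul_vecMulVec, mul_vecMulVec, vecMulVec_mul,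
    vecMulVec_mul, vecMul_transpose, vecMul_transpose]

theorem aM_add_left (x x' y : Fin n → F) : aM (x + x') y = aM x y + aM x' y :=
  Subtype.ext (by rw [AddSubgroup.coe_add]; ext i j; simp [aM_coe, vecMulVec_apply]; ring)

theorem aM_add_right (x y y' : Fin n → F) : aM x (y + y') = aM x y + aM x y' :=
  Subtype.ext (by rw [AddSubgroup.coe_add]; ext i j; simp [aM_coe, vecMulVec_apply]; ring)

theorem aM_swap (x y : Fin n → F) : aM y x = -aM x y :=
  Subtype.ext (by rw [AddSubgroup.coe_neg, aM_coe, aM_coe]; abel)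

theorem aM_self (x : Fin n → F) : aM x x = 0 :=
  Subtype.ext (by rw [aM_coe, sub_self]; rfl)

theorem aM_smul (a : F) (x y : Fin n → F) : aM (a • x) y = aM x (a • y) :=
  Subtype.ext (by ext i j; simp [aM_coe, vecMulVec_apply]; try ring)

/-- An alternating matrix taking a nonzero vector to a given orthogonal one. -/
theorem exists_alt {x y : Fin n → F} (hx : x ≠ 0) (h : x ⬝ᵥ y = 0) :
    ∃ M : altM n F, M.1 *ᵥ x = y := by
  obtain ⟨i, hi⟩ := Function.ne_iff.1 hx
  refine ⟨aM y (Pi.single i (x i)⁻¹), ?_⟩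
  rw [aM_mulVec, dotProduct_comm y x, h, zero_smul, sub_zero, single_dotProduct,
    inv_mul_cancel₀ hi, one_smul]

open scoped Classical in
/-- The transvection `1 - x bᵀ`. -/
noncomputable def tX (x b : Fin n → F) : SpecialLinearGroup (Fin n) F :=
  if h : b ⬝ᵥ x = 0 then ⟨1 - vecMulVec x b, by
    rw [show (1 : Matrix (Fin n) (Fin n) F) - vecMulVec x b =
        1 + replicateCol (Fin 1) (-x) * replicateRow (Fin 1) b by
      ext i j; simp [vecMulVec_apply, Matrix.mul_apply]; ring,
      det_one_add_mul_comm, det_fin_one, Matrix.add_apply, Matrix.one_apply_eq, Matrix.mul_apply]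
    show 1 + b ⬝ᵥ (-x) = 1
    rw [dotProduct_neg, h, neg_zero, add_zero]⟩
  else 1

theorem coe_tX {x b : Fin n → F} (h : b ⬝ᵥ x = 0) : (tX x b).1 = 1 - vecMulVec x b :=
  (congrArg Subtype.val (dif_pos h)).trans rfl

theorem thT_tX {x b : Fin n → F} (h : b ⬝ᵥ x = 0) : (thT (tX x b)).1 = 1 + vecMulVec b x := by
  have e : (tX x b)⁻¹ = tX (-x) b := by
    refine inv_eq_of_mul_eq_one_right (Subtype.ext ?_)
    rw [cmul, coe_tX h, coe_tX (by simp [h]), cone, neg_vecMulVec, sub_neg_eq_add, sub_mul, mul_add,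
      mul_add, one_mul, one_mul, mul_one, vecMulVec_mul_vecMulVec, h]
    simp
  rw [coe_thT, e, coe_tX (by simp [h]), transpose_sub, transpose_one, transpose_vecMulVec]
  rw [vecMulVec_neg, sub_neg_eq_add]

/-- An Eichler element in the parabolic. -/
theorem eichler_par (x a b : Fin n → F) (h : b ⬝ᵥ x = 0) :
    lev (tX x b) * radU (.ofAdd (aM a x)) = eichler (qPlus n F) (vec x 0) (vec a b) := by
  have hu : qPlus n F (vec x 0) = 0 := by rw [qP_vec, dotProduct_zero]
  have huw : polB (qPlus n F) (vec x 0) (vec a b) = 0 := by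
    rw [polB_vec, zero_dotProduct, add_zero, dotProduct_comm, h]
  refine vec_ext fun p r => ?_
  rw [H43.orth_mul_apply, radU_vec, lev_vec, thT_tX h, coe_tX h, H43.eichler_apply hu huw,
    polB_vec, polB_vec, qP_vec, dotProduct_zero, zero_add]
  simp only [sub_mulVec, add_mulVec, one_mulVec, vecMulVec_mulVec, op_smul_eq_smul, dotProduct_add,
    aM_mulVec, dotProduct_sub, dotProduct_smul, smul_eq_mul, h, dotProduct_comm r x,
    dotProduct_comm p b, dotProduct_comm r a]
  funext i
  rcases i with i | i <;>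
    (simp [dotProduct_comm a b]; try ring)

end H40.OmModel
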