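import Cfsg.Agent.H40.OmModel
import Cfsg.Agent.H40.CoprimeGens

/-!
Two overlapping copies of `SL_n` in a group give two equivariant families indexed by alternating
matrices.
-/

set_option autoImplicit false
set_option linter.unusedSectionVars false
set_option linter.style.haveILetI false
set_option linter.unusedSimpArgs false

namespace H40.OmOrbit

open Matrix
open H40.Glue (tv)
open H40.OmModel (δ altM aM congrA thT tX)

variable {F : Type*} [Field F] {n : ℕ}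

local notation "SLn" => SpecialLinearGroup (Fin n) F

/-! ### Blocks of two indices -/

/-- The two coordinates of a block first. -/
def blkE (p q : Fin n) (h : p ≠ q) : Fin 2 ⊕ {i : Fin n // i ≠ p ∧ i ≠ q} ≃ Fin n where
  toFun := Sum.elim ![p, q] Subtype.val
  invFun i := if hp : i = p then .inl 0 else if hq : i = q then .inl 1 else .inr ⟨i, hp, hq⟩
  left_inv := by
    rintro (i | ⟨i, hi⟩)
    · fin_cases i <;> simp [h.symm]
    · simp [hi.1, hi.2]
  right_inv i := by by_cases hp : i = p <;> by_cases hq : i = q <;> simp_all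

/-- `SL₂` on two coordinates. -/
def blk (p q : Fin n) (h : p ≠ q) : SpecialLinearGroup (Fin 2) F →* SLn :=
  H40.Glue.embL (blkE p q h)

theorem blk_tv01 {p q : Fin n} (h : p ≠ q) (t : F) : blk p q h (tv 0 1 t) = tv p q t :=
  H40.Glue.embL_tv _ (by decide) t

theorem blk_tv10 {p q : Fin n} (h : p ≠ q) (t : F) : blk p q h (tv 1 0 t) = tv q p t :=
  H40.Glue.embL_tv _ (by decide) t

theorem blk_mulVec {p q : Fin n} (h : p ≠ q) (g : SpecialLinearGroup (Fin 2) F) (x : Fin n → F) :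
    ((blk p q h g).1 *ᵥ x) p = g.1 0 0 * x p + g.1 0 1 * x q ∧
    ((blk p q h g).1 *ᵥ x) q = g.1 1 0 * x p + g.1 1 1 * x q ∧
    ∀ i, i ≠ p → i ≠ q → ((blk p q h g).1 *ᵥ x) i = x i := by
  have key : ∀ a, ((blk p q h g).1 *ᵥ x) (blkE p q h a) =
      (fromBlocks g.1 0 0 (1 : Matrix {i : Fin n // i ≠ p ∧ i ≠ q} {i : Fin n // i ≠ p ∧ i ≠ q} F) *ᵥ
        (x ∘ blkE p q h)) a := by
    intro a
    rw [blk, H40.Glue.coe_embL, reindex_apply, submatrix_mulVec_equiv]
    simp [Equiv.symm_symm]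
  refine ⟨?_, ?_, fun i hp hq => ?_⟩
  · have := key (.inl 0)
    simpa [blkE, fromBlocks_mulVec, mulVec, dotProduct, Fin.sum_univ_two] using this
  · have := key (.inl 1)
    simpa [blkE, fromBlocks_mulVec, mulVec, dotProduct, Fin.sum_univ_two] using this
  · have := key (.inr ⟨i, hp, hq⟩)
    simpa [blkE, fromBlocks_mulVec] using this

theorem blk_mem {p q : Fin n} (h : p ≠ q) {C : Subgroup SLn} (h1 : ∀ t, tv p q t ∈ C)
    (h2 : ∀ t, tv q p t ∈ C) (g : SpecialLinearGroup (Fin 2) F) : blk p q h g ∈ C := by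
  refine H40.Glue.hom_mem (blk p q h) C (fun i j hij t => ?_) g
  fin_cases i <;> fin_cases j <;> first
    | exact absurd rfl hij
    | exact blk_tv01 h t ▸ h1 t
    | exact blk_tv10 h t ▸ h2 t

theorem conj_tv {p q p' q' : Fin n} (hpq : p ≠ q) (hpq' : p' ≠ q') (g : SLn) {a b : F}
    (h1 : g.1 *ᵥ δ p = a • δ p') (h2 : (thT g).1 *ᵥ δ q = b • δ q') (t : F) :
    g * tv p q t * g⁻¹ = tv p' q' (a * t * b) := by
  apply Subtype.ext
  have e : ∀ (i j : Fin n) (t : F),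
      Matrix.single i j t = vecMulVec (t • (δ i : Fin n → F)) (δ j) := fun i j t => by
    ext x y
    rcases eq_or_ne x i with rfl | hx <;> rcases eq_or_ne y j with rfl | hy <;>
      simp_all [vecMulVec_apply, eq_comm]
  rw [H40.OmModel.cmul, H40.OmModel.cmul, H40.Glue.coe_tv hpq, H40.Glue.coe_tv hpq', mul_add, add_mul,
    mul_one, ← H40.OmModel.cmul g g⁻¹, mul_inv_cancel, H40.OmModel.cone, e, e, mul_vecMulVec,
    mulVec_smul, h1, vecMulVec_mul, ← mulVec_transpose, ← H40.OmModel.coe_thT, h2]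
  ext x y
  simp [vecMulVec_apply]
  ring

/-- A monomial element sending four indices where wanted. -/
theorem exists_mono4 (p : Fin 4 → Fin n) (hp : Function.Injective p) (q : Fin 4 → Fin n)
    (hq : Function.Injective q) :
    ∃ (g : SLn) (d : Fin 4 → F), (∀ i, d i ≠ 0) ∧ (∀ i, i ≠ 3 → d i = 1) ∧
      ∀ i, g.1 *ᵥ δ (p i) = d i • δ (q i) ∧ (thT g).1 *ᵥ δ (p i) = (d i)⁻¹ • δ (q i) := by
  classical
  obtain ⟨π, hπ⟩ : ∃ π : Equiv.Perm (Fin n), ∀ i, π (p i) = q i := by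
    let e : {x // x ∈ Set.range p} ≃ {x // x ∈ Set.range q} :=
      (Equiv.ofInjective p hp).symm.trans (Equiv.ofInjective q hq)
    refine ⟨e.extendSubtype, fun i => ?_⟩
    rw [Equiv.extendSubtype_apply_of_mem _ _ ⟨i, rfl⟩]
    simp [e]
  obtain ⟨g, d, hd1, hd, hg⟩ := H40.Glue.exists_mono (F := F) π (p 3)
  refine ⟨g, fun i => d (p i), fun i => hd _, fun i hi => hd1 _ (fun e => hi (hp e)), fun i => ?_⟩
  have hgx : ∀ x, g.1 *ᵥ δ x = d x • δ (π x) := by
    intro x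
    funext y
    rw [mulVec_single_one]
    simp only [col_apply, hg, submatrix_apply, id, diagonal_apply]
    by_cases hy : y = π x
    · subst hy; simp
    · have : π.symm y ≠ x := fun e => hy (by rw [← e, Equiv.apply_symm_apply])
      simp [this, hy]
  refine ⟨by rw [hgx, hπ], funext fun x => ?_⟩
  obtain ⟨x, rfl⟩ := π.surjective x
  have h := H40.OmModel.thT_dot g (δ x) (δ (p i))
  rw [hgx, smul_dotProduct, single_dotProduct, one_mul, single_dotProduct, one_mul, smul_eq_mul] at h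
  rw [← hπ]
  by_cases hx : x = p i
  · subst hx
    have h' : d (p i) * ((thT g).1 *ᵥ δ (p i)) (π (p i)) = 1 := by rw [h]; simp
    simp [eq_inv_of_mul_eq_one_right h']
  · have h' : d x * ((thT g).1 *ᵥ δ (p i)) (π x) = 0 := by rw [h]; simp [hx]
    simp [(mul_eq_zero.1 h').resolve_left (hd x), π.injective.eq_iff, hx]

/-- An element fixing two basis vectors. -/
theorem fixer {p q : Fin n} (h : p ≠ q) {C : Subgroup SLn}
    (hC : ∀ i j, i ≠ j → j ≠ p → j ≠ q → ∀ t, tv i j t ∈ C) {g : SLn}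
    (hp : g.1 *ᵥ δ p = δ p) (hq : g.1 *ᵥ δ q = δ q) : g ∈ C := by
  classical
  set e := blkE p q h
  let O := {i : Fin n // i ≠ p ∧ i ≠ q}
  let h' : SpecialLinearGroup (Fin 2 ⊕ O) F := (H40.BlockPres.reidx e).symm g
  set B := h'.1.toBlocks₁₂
  set D := h'.1.toBlocks₂₂
  have hg : H40.BlockPres.reidx e h' = g := (H40.BlockPres.reidx e).apply_symm_apply g
  have hcoe : ∀ a b, h'.1 a b = g.1 (e a) (e b) := fun a b => by
    have := congrArg (fun z : SLn => z.1 (e a) (e b)) hg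
    rw [← this]
    show _ = Matrix.reindex e e h'.1 (e a) (e b)
    simp
  have hblock : h'.1 = fromBlocks 1 B 0 D := by
    have hcol : ∀ a (j : Fin 2), h'.1 a (.inl j) = (1 : Matrix (Fin 2 ⊕ O) (Fin 2 ⊕ O) F) a (.inl j) := by
      intro a j
      rw [hcoe]
      have hd : ∀ r : Fin n, g.1 *ᵥ δ r = δ r → g.1 (e a) r = if e a = r then 1 else 0 := by
        intro r hr
        have := congrFun hr (e a)
        simpa [δ, Pi.single_apply] using this
      have : g.1 (e a) (e (.inl j)) = if e a = e (.inl j) then 1 else 0 := by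
        fin_cases j
        · exact hd p hp
        · exact hd q hq
      rw [this, Matrix.one_apply]
      simp [e.injective.eq_iff]
    rw [← fromBlocks_toBlocks h'.1]
    congr 1
    · ext i j; simp [toBlocks₁₁, hcol, Matrix.one_apply]
    · ext i j; simp [toBlocks₂₁, hcol]
  have hD : D.det = 1 := by
    have := h'.2
    rwa [hblock, det_fromBlocks_zero₂₁, det_one, one_mul] at this
  let up : Multiplicative (Matrix (Fin 2) O F) →* SpecialLinearGroup (Fin 2 ⊕ O) F :=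
    MonoidHom.mk' (fun R => ⟨fromBlocks 1 R.toAdd 0 1, by
      rw [det_fromBlocks_zero₂₁, det_one, det_one, one_mul]⟩) fun R S => Subtype.ext (by
        show fromBlocks _ _ _ _ = fromBlocks _ _ _ _ * fromBlocks _ _ _ _
        rw [fromBlocks_multiply]
        simp [add_comm])
  let lo : SpecialLinearGroup (Fin 2 ⊕ O) F :=
    ⟨fromBlocks 1 0 0 D, by rw [det_fromBlocks_zero₂₁, det_one, hD, one_mul]⟩
  have hsplit : h' = lo * up (.ofAdd B) := Subtype.ext (by
    rw [hblock]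
    show _ = fromBlocks _ _ _ _ * fromBlocks _ _ _ _
    rw [fromBlocks_multiply]
    simp)
  rw [← hg, hsplit, map_mul]
  refine mul_mem ?_ ?_
  · have e2 : H40.BlockPres.reidx e lo =
        H40.Glue.embL ((Equiv.sumComm O (Fin 2)).trans e) (⟨D, hD⟩ : SpecialLinearGroup O F) := by
      apply Subtype.ext
      show Matrix.reindex e e (fromBlocks 1 0 0 D) =
        Matrix.reindex ((Equiv.sumComm O (Fin 2)).trans e) ((Equiv.sumComm O (Fin 2)).trans e)
          (fromBlocks D 0 0 (1 : Matrix (Fin 2) (Fin 2) F))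
      ext a b
      obtain ⟨a, rfl⟩ := e.surjective a
      obtain ⟨b, rfl⟩ := e.surjective b
      rcases a with a | a <;> rcases b with b | b <;> simp
    rw [e2]
    refine H40.Glue.hom_mem (H40.Glue.embL ((Equiv.sumComm O (Fin 2)).trans e)) C
      (fun i j hij t => ?_) _
    rw [H40.Glue.embL_tv _ hij]
    exact hC _ _ (fun E => hij (Sum.inl.inj (((Equiv.sumComm O (Fin 2)).trans e).injective E)))
      j.2.1 j.2.2 t
  · suffices ∀ R : Matrix (Fin 2) O F, H40.BlockPres.reidx e (up (.ofAdd R)) ∈ C from this B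
    intro R
    induction R using Matrix.induction_on' with
    | h_zero => rw [ofAdd_zero, map_one, map_one]; exact one_mem _
    | h_add A B hA hB => rw [ofAdd_add, map_mul, map_mul]; exact mul_mem hA hB
    | h_std_basis i j t =>
      have hij : e (.inl i) ≠ e (.inr j) := fun E => Sum.inl_ne_inr (e.injective E)
      have e2 : H40.BlockPres.reidx e (up (.ofAdd (Matrix.single i j t))) =
          tv (e (.inl i)) (e (.inr j)) t := by
        apply Subtype.ext
        rw [H40.Glue.coe_tv hij]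
        show Matrix.reindex e e (fromBlocks 1 (Matrix.single i j t) 0 1) = _
        ext a b
        obtain ⟨a, rfl⟩ := e.surjective a
        obtain ⟨b, rfl⟩ := e.surjective b
        rcases a with a | a <;> rcases b with b | b <;>
          simp [Matrix.one_apply, Matrix.single_apply, e.injective.eq_iff]
      rw [e2]
      exact hC _ _ hij j.2.1 j.2.2 t

theorem thT_tv {p q : Fin n} (h : p ≠ q) (t : F) : thT (tv p q t) = tv q p (-t) := by
  apply Subtype.ext
  rw [H40.OmModel.coe_thT, H40.Glue.tv_of h, SpecialLinearGroup.transvection_inv,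
    H40.Glue.tv_of h.symm, SpecialLinearGroup.transvection_coe, SpecialLinearGroup.transvection_coe,
    transpose_add, transpose_one, transpose_single]

theorem tv_delta {p q : Fin n} (h : p ≠ q) (t : F) (r : Fin n) :
    (tv p q t : SLn).1 *ᵥ δ r = δ r + (if r = q then t • δ p else 0) := by
  rw [H40.Glue.coe_tv h, add_mulVec, one_mulVec, Matrix.single_mulVec]
  congr 1
  by_cases hr : r = q
  · subst hr
    rw [if_pos rfl]
    funext x
    by_cases hx : x = p <;> simp [Function.update, hx]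
  · rw [if_neg hr]
    funext x
    by_cases hx : x = p <;> simp [Function.update, hx, Ne.symm hr]

/-! ### The data -/

/-- The same two indices. -/
def Pr (p q m t : Fin n) : Prop := (p = m ∧ q = t) ∨ (p = t ∧ q = m)

variable {G : Type*} [Group G]

/-- A copy of `SL_n` and an element carrying it to a copy with the same middle and twisted top. -/
structure GData (ψ : SpecialLinearGroup (Fin n) F →* G) (c : G) (t0 t1 : Fin n) : Prop where
  hne : t0 ≠ t1
  hn : 4 ≤ n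
  fix : ∀ m m', m ≠ t0 → m ≠ t1 → m' ≠ t0 → m' ≠ t1 → m ≠ m' → ∀ s : F, Commute c (ψ (tv m m' s))
  top : ∀ t t', Pr t t' t0 t1 → ∀ s : F, c * ψ (tv t t' s) * c⁻¹ = ψ (tv t' t (-s))
  comm : ∀ m m' t t' p q r s, m ≠ t0 → m ≠ t1 → m' ≠ t0 → m' ≠ t1 → (t = t0 ∨ t = t1) →
    (t' = t0 ∨ t' = t1) → (m = m' ↔ t = t') → Pr p q m t → Pr r s m' t' →
    ∀ a b : F, Commute (ψ (tv p q a)) (c * ψ (tv r s b) * c⁻¹)

variable {ψ : SpecialLinearGroup (Fin n) F →* G} {c : G} {t0 t1 : Fin n}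

theorem GData.dual (D : GData ψ c t0 t1) : GData (ψ.comp thT) c t0 t1 where
  hne := D.hne
  hn := D.hn
  fix m m' h1 h2 h3 h4 h s := by
    rw [MonoidHom.comp_apply, thT_tv h]; exact D.fix m' m h3 h4 h1 h2 h.symm _
  top t t' h s := by
    have hne : t ≠ t' := by
      rcases h with ⟨rfl, rfl⟩ | ⟨rfl, rfl⟩
      · exact D.hne
      · exact D.hne.symm
    rw [MonoidHom.comp_apply, MonoidHom.comp_apply, thT_tv hne, thT_tv hne.symm,
      D.top t' t (by rcases h with ⟨a, b⟩ | ⟨a, b⟩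
                     · exact Or.inr ⟨b, a⟩
                     · exact Or.inl ⟨b, a⟩)]
  comm m m' t t' p q r s h1 h2 h3 h4 ht ht' hiff hp hr a b := by
    have hmt : m ≠ t := fun e => ht.elim (fun e' => h1 (e.trans e')) fun e' => h2 (e.trans e')
    have hmt' : m' ≠ t' := fun e => ht'.elim (fun e' => h3 (e.trans e')) fun e' => h4 (e.trans e')
    have hpq : p ≠ q := by
      rcases hp with ⟨rfl, rfl⟩ | ⟨rfl, rfl⟩
      · exact hmt
      · exact hmt.symm
    have hrs : r ≠ s := by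
      rcases hr with ⟨rfl, rfl⟩ | ⟨rfl, rfl⟩
      · exact hmt'
      · exact hmt'.symm
    rw [MonoidHom.comp_apply, MonoidHom.comp_apply, thT_tv hpq, thT_tv hrs]
    exact D.comm m m' t t' q p s r h1 h2 h3 h4 ht ht' hiff
      (by rcases hp with ⟨a, b⟩ | ⟨a, b⟩
          · exact Or.inr ⟨b, a⟩
          · exact Or.inl ⟨b, a⟩)
      (by rcases hr with ⟨a, b⟩ | ⟨a, b⟩
          · exact Or.inr ⟨b, a⟩
          · exact Or.inl ⟨b, a⟩) _ _

/-- A root element of the second copy. -/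
def bb (ψ : SpecialLinearGroup (Fin n) F →* G) (c : G) (p q : Fin n) (s : F) : G :=
  c * ψ (tv p q s) * c⁻¹

theorem cj_conj (g h : SLn) :
    (c * ψ g * c⁻¹) * (c * ψ h * c⁻¹) * (c * ψ g * c⁻¹)⁻¹ = c * ψ (g * h * g⁻¹) * c⁻¹ := by
  rw [map_mul, map_mul, map_inv]; group

theorem commute_bb {p q r s : Fin n} (h1 : p ≠ q) (h2 : r ≠ s) (h3 : p ≠ s) (h4 : q ≠ r) (a b : F) :
    Commute (bb ψ c p q a) (bb ψ c r s b) :=
  H40.Glue.commute_conj_iff c |>.2 ((H40.Glue.tv_strel.comm p q r s h1 h2 h3 h4 a b).map ψ)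

variable (D : GData ψ c t0 t1)
include D

theorem exists_mid (a : Fin n) : ∃ m, m ≠ t0 ∧ m ≠ t1 ∧ m ≠ a := by
  have h : ({t0, t1, a} : Finset (Fin n)).card < (Finset.univ : Finset (Fin n)).card := by
    rw [Finset.card_univ, Fintype.card_fin]
    exact lt_of_le_of_lt Finset.card_le_three D.hn
  obtain ⟨m, -, hm⟩ := Finset.exists_mem_notMem_of_card_lt_card h
  simp only [Finset.mem_insert, Finset.mem_singleton, not_or] at hm
  exact ⟨m, hm.1, hm.2.1, hm.2.2⟩

/-- The root element centralised by the fixer of two basis vectors. -/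
theorem fix_b0 {m0 : Fin n} (hm0 : m0 ≠ t0) (hm1 : m0 ≠ t1) {g : SLn} (s : F)
    (hp : g.1 *ᵥ δ m0 = δ m0) (hq : g.1 *ᵥ δ t0 = δ t0) : Commute (ψ g) (bb ψ c m0 t0 s) := by
  set C := (Subgroup.centralizer {bb ψ c m0 t0 s}).comap ψ
  have mem : ∀ {i j : Fin n} {a : F}, Commute (ψ (tv i j a)) (bb ψ c m0 t0 s) → tv i j a ∈ C :=
    fun h => Subgroup.mem_centralizer_singleton_iff.2 h.eq
  have MM : ∀ i j, i ≠ t0 → i ≠ t1 → j ≠ t0 → j ≠ t1 → i ≠ j → j ≠ m0 → ∀ a : F,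
      tv i j a ∈ C := by
    intro i j hi hi' hj hj' hij hjm a
    refine mem ?_
    have e : ψ (tv i j a) = bb ψ c i j a := by
      rw [bb, (D.fix i j hi hi' hj hj' hij a).eq, mul_inv_cancel_right]
    rw [e]
    exact commute_bb hij hm0 hi hjm a s
  have cross : ∀ i j, Pr i j i t1 ∨ Pr i j j t1 → True := fun _ _ _ => trivial
  have Mt1 : ∀ i, i ≠ t0 → i ≠ t1 → i ≠ m0 → ∀ a : F, tv i t1 a ∈ C ∧ tv t1 i a ∈ C := by
    intro i hi hi' him a
    exact ⟨mem (D.comm i m0 t1 t0 i t1 m0 t0 hi hi' hm0 hm1 (Or.inr rfl) (Or.inl rfl)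
        ⟨fun e => absurd e him, fun e => absurd e D.hne.symm⟩ (Or.inl ⟨rfl, rfl⟩) (Or.inl ⟨rfl, rfl⟩) a s),
      mem (D.comm i m0 t1 t0 t1 i m0 t0 hi hi' hm0 hm1 (Or.inr rfl) (Or.inl rfl)
        ⟨fun e => absurd e him, fun e => absurd e D.hne.symm⟩ (Or.inr ⟨rfl, rfl⟩) (Or.inl ⟨rfl, rfl⟩) a s)⟩
  have T01 : ∀ a : F, tv t0 t1 a ∈ C := by
    intro a
    refine mem ?_
    have e : ψ (tv t0 t1 a) = bb ψ c t1 t0 (-a) := by
      rw [bb, D.top t1 t0 (Or.inr ⟨rfl, rfl⟩), neg_neg]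
    rw [e]
    exact commute_bb D.hne.symm hm0 D.hne.symm hm0.symm _ s
  have via : ∀ {i r j : Fin n}, i ≠ r → r ≠ j → i ≠ j → ∀ a : F, tv i r a ∈ C → tv r j 1 ∈ C →
      tv i j a ∈ C := by
    intro i r j h1 h2 h3 a ha hb
    rw [← mul_one a, ← H40.Glue.tv_chev h1 h2 h3, commutatorElement_def]
    exact mul_mem (mul_mem (mul_mem ha hb) (inv_mem ha)) (inv_mem hb)
  have hCmem : g ∈ C := by
    refine fixer hm0 (fun i j hij hjm hjt a => ?_) hp hq
    by_cases hj : j = t1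
    · subst hj
      by_cases hi : i = t0
      · subst hi; exact T01 a
      by_cases him : i = m0
      · subst him
        obtain ⟨m, h1, h2, h3⟩ := exists_mid D i
        exact via h3.symm h2 hij a (MM i m hm0 hm1 h1 h2 h3.symm h3 a) (Mt1 m h1 h2 h3 1).1
      exact (Mt1 i hi hij him a).1
    · by_cases hi : i = t1
      · subst hi; exact (Mt1 j hjt hj hjm a).2
      by_cases hi' : i = t0
      · subst hi'
        exact via D.hne (Ne.symm hj) hij a (T01 a) (Mt1 j hjt hj hjm 1).2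
      · exact MM i j hi' hi hjt hj hij hjm a
  exact Subgroup.mem_centralizer_singleton_iff.1 hCmem

/-- The block of the two indices centralises. -/
theorem same_b0 {m0 : Fin n} (hm0 : m0 ≠ t0) (hm1 : m0 ≠ t1) (g : SpecialLinearGroup (Fin 2) F)
    (s : F) : Commute (ψ (blk m0 t0 hm0 g)) (bb ψ c m0 t0 s) := by
  have h := blk_mem hm0 (C := (Subgroup.centralizer {bb ψ c m0 t0 s}).comap ψ)
    (fun a => Subgroup.mem_centralizer_singleton_iff.2 (D.comm m0 m0 t0 t0 m0 t0 m0 t0 hm0 hm1 hm0 hm1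
      (Or.inl rfl) (Or.inl rfl) (iff_of_true rfl rfl) (Or.inl ⟨rfl, rfl⟩) (Or.inl ⟨rfl, rfl⟩) a s).eq)
    (fun a => Subgroup.mem_centralizer_singleton_iff.2 (D.comm m0 m0 t0 t0 t0 m0 m0 t0 hm0 hm1 hm0 hm1
      (Or.inl rfl) (Or.inl rfl) (iff_of_true rfl rfl) (Or.inr ⟨rfl, rfl⟩) (Or.inl ⟨rfl, rfl⟩) a s).eq) g
  exact Subgroup.mem_centralizer_singleton_iff.1 h

theorem fix_blk {m m' : Fin n} (h1 : m ≠ t0) (h2 : m ≠ t1) (h3 : m' ≠ t0) (h4 : m' ≠ t1)
    (h : m ≠ m') (g : SpecialLinearGroup (Fin 2) F) : Commute c (ψ (blk m m' h g)) := by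
  have := blk_mem h (C := (Subgroup.centralizer {c}).comap ψ)
    (fun a => Subgroup.mem_centralizer_singleton_iff.2 (D.fix m m' h1 h2 h3 h4 h a).eq.symm)
    (fun a => Subgroup.mem_centralizer_singleton_iff.2 (D.fix m' m h3 h4 h1 h2 h.symm a).eq.symm) g
  exact (Subgroup.mem_centralizer_singleton_iff.1 this).symm

theorem top_wT : c * ψ (blk t0 t1 D.hne H40.CRW.tS) * c⁻¹ = ψ (blk t0 t1 D.hne H40.CRW.tS) := by
  have e1 : (H40.CRW.tS : SpecialLinearGroup (Fin 2) F) = tv 0 1 1 * tv 1 0 (-1) * tv 0 1 1 := by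
    refine H40.CRW.slExt ?_
    rw [H40.CoprimeGens.cmul, H40.CoprimeGens.cmul, H40.CRW.coe_tS, H40.Glue.coe_tv (by decide),
      H40.Glue.coe_tv (by decide)]
    ext i j; fin_cases i <;> fin_cases j <;> simp [Matrix.mul_apply, Fin.sum_univ_two]
  have e2 : (H40.CRW.tS : SpecialLinearGroup (Fin 2) F) = tv 1 0 (-1) * tv 0 1 1 * tv 1 0 (-1) := by
    refine H40.CRW.slExt ?_
    rw [H40.CoprimeGens.cmul, H40.CoprimeGens.cmul, H40.CRW.coe_tS, H40.Glue.coe_tv (by decide),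
      H40.Glue.coe_tv (by decide)]
    ext i j; fin_cases i <;> fin_cases j <;> simp [Matrix.mul_apply, Fin.sum_univ_two]
  have a := D.top t0 t1 (Or.inl ⟨rfl, rfl⟩) 1
  have b := D.top t1 t0 (Or.inr ⟨rfl, rfl⟩) (-1)
  rw [neg_neg] at b
  calc c * ψ (blk t0 t1 D.hne H40.CRW.tS) * c⁻¹
      = c * (ψ (tv t0 t1 1) * ψ (tv t1 t0 (-1)) * ψ (tv t0 t1 1)) * c⁻¹ := by
        rw [e1]; simp only [map_mul, blk_tv01, blk_tv10]
    _ = (c * ψ (tv t0 t1 1) * c⁻¹) * (c * ψ (tv t1 t0 (-1)) * c⁻¹) * (c * ψ (tv t0 t1 1) * c⁻¹) := by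
        group
    _ = ψ (tv t1 t0 (-1)) * ψ (tv t0 t1 1) * ψ (tv t1 t0 (-1)) := by rw [a, b]
    _ = _ := by rw [e2]; simp only [map_mul, blk_tv01, blk_tv10]

omit D

/-- The orbit of the basic root element. -/
noncomputable def O (ψ : SpecialLinearGroup (Fin n) F →* G) (c : G) (m0 t0 : Fin n)
    (x y : Fin n → F) : G :=
  open scoped Classical in
  if h : ∃ g : SLn, g.1 *ᵥ δ m0 = x ∧ g.1 *ᵥ δ t0 = y then
    ψ h.choose * bb ψ c m0 t0 1 * (ψ h.choose)⁻¹ else 1

theorem mulVec_inv {g : SLn} {x y : Fin n → F} (h : g.1 *ᵥ x = y) : (g⁻¹ : SLn).1 *ᵥ y = x := by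
  rw [← h, mulVec_mulVec, ← H40.OmModel.cmul, inv_mul_cancel, H40.OmModel.cone, one_mulVec]

include D

variable {m0 : Fin n} (hm0 : m0 ≠ t0) (hm1 : m0 ≠ t1)
include hm0 hm1

theorem O_eq (g : SLn) {x y : Fin n → F} (hx : g.1 *ᵥ δ m0 = x) (hy : g.1 *ᵥ δ t0 = y) :
    O ψ c m0 t0 x y = ψ g * bb ψ c m0 t0 1 * (ψ g)⁻¹ := by
  have h : ∃ g : SLn, g.1 *ᵥ δ m0 = x ∧ g.1 *ᵥ δ t0 = y := ⟨g, hx, hy⟩
  rw [O, dif_pos h]
  obtain ⟨hx', hy'⟩ := h.choose_spec
  set g' := h.choose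
  have hc := fix_b0 D hm0 hm1 (g := g⁻¹ * g') 1
    (by rw [H40.OmModel.cmul, ← mulVec_mulVec, hx', mulVec_inv hx])
    (by rw [H40.OmModel.cmul, ← mulVec_mulVec, hy', mulVec_inv hy])
  calc ψ g' * bb ψ c m0 t0 1 * (ψ g')⁻¹
      = ψ g * (ψ (g⁻¹ * g') * bb ψ c m0 t0 1 * (ψ (g⁻¹ * g'))⁻¹) * (ψ g)⁻¹ := by
        rw [map_mul, map_inv]; group
    _ = _ := by rw [hc.eq, mul_inv_cancel_right]

theorem O_conj (g : SLn) (x y : Fin n → F) :
    ψ g * O ψ c m0 t0 x y * (ψ g)⁻¹ = O ψ c m0 t0 (g.1 *ᵥ x) (g.1 *ᵥ y) := by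
  by_cases h : ∃ g : SLn, g.1 *ᵥ δ m0 = x ∧ g.1 *ᵥ δ t0 = y
  · obtain ⟨k, hx, hy⟩ := h
    rw [O_eq D hm0 hm1 k hx hy, O_eq D hm0 hm1 (g * k) (x := g.1 *ᵥ x) (y := g.1 *ᵥ y)
      (by rw [H40.OmModel.cmul, ← mulVec_mulVec, hx]) (by rw [H40.OmModel.cmul, ← mulVec_mulVec, hy]),
      map_mul]
    group
  · rw [O, dif_neg h, O, dif_neg, mul_one, mul_inv_cancel]
    rintro ⟨k, hx, hy⟩
    exact h ⟨g⁻¹ * k, by rw [H40.OmModel.cmul, ← mulVec_mulVec, hx, mulVec_inv rfl],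
      by rw [H40.OmModel.cmul, ← mulVec_mulVec, hy, mulVec_inv rfl]⟩

theorem O_base (s : F) : O ψ c m0 t0 (δ m0) (s • δ t0) = bb ψ c m0 t0 s := by
  by_cases hs : s = 0
  · subst hs
    rw [bb, show tv m0 t0 (0 : F) = 1 from Subtype.ext (by
      rw [H40.Glue.coe_tv hm0, Matrix.single_zero, add_zero]; rfl), map_one, mul_one, mul_inv_cancel,
      zero_smul, O, dif_neg]
    rintro ⟨g, -, hg⟩
    have := mulVec_inv hg
    rw [mulVec_zero] at this
    simpa using (congrFun this t0).symm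
  obtain ⟨m1, h1, h2, h3⟩ := exists_mid D m0
  set u : Fˣ := Units.mk0 s hs
  set d := blk m0 m1 h3.symm (H40.CRW.hS u) with hd
  set h := blk m0 t0 hm0 (H40.CRW.hS u⁻¹) with hh
  have bm := fun x => blk_mulVec (F := F) h3.symm (H40.CRW.hS u) x
  have bt := fun x => blk_mulVec (F := F) hm0 (H40.CRW.hS u⁻¹) x
  have e1 : d.1 *ᵥ δ m0 = s • δ m0 := by
    funext i
    obtain ⟨a, b, cc⟩ := bm (δ m0)
    by_cases hi : i = m0
    · subst hi; rw [a, H40.CRW.coe_hS]; simp [u]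
    by_cases hi' : i = m1
    · subst hi'; rw [b, H40.CRW.coe_hS]; simp [h3]
    rw [cc i hi hi']; simp [hi]
  have e2 : d.1 *ᵥ δ t0 = δ t0 := by
    funext i
    obtain ⟨a, b, cc⟩ := bm (δ t0)
    by_cases hi : i = m0
    · subst hi; rw [a]; simp [hm0, h1]
    by_cases hi' : i = m1
    · subst hi'; rw [b]; simp [hm0, h1]
    rw [cc i hi hi']
  have e3 : h.1 *ᵥ (s • δ m0) = δ m0 := by
    funext i
    obtain ⟨a, b, cc⟩ := bt (s • δ m0)
    by_cases hi : i = m0
    · subst hi; rw [a, H40.CRW.coe_hS]; simp [u, hm0.symm, hs]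
    by_cases hi' : i = t0
    · subst hi'; rw [b, H40.CRW.coe_hS]; simp [hm0.symm]
    rw [cc i hi hi']; simp [hi]
  have e4 : h.1 *ᵥ δ t0 = s • δ t0 := by
    funext i
    obtain ⟨a, b, cc⟩ := bt (δ t0)
    by_cases hi : i = m0
    · subst hi; rw [a, H40.CRW.coe_hS]; simp [hm0]
    by_cases hi' : i = t0
    · subst hi'; rw [b, H40.CRW.coe_hS]; simp [u, hm0.symm]
    rw [cc i hi hi']; simp [hi']
  rw [← e3, ← e4, ← O_conj D hm0 hm1, O_eq D hm0 hm1 d e1 e2]
  have hc : ψ d * bb ψ c m0 t0 1 * (ψ d)⁻¹ = bb ψ c m0 t0 s := by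
    have hdc := fix_blk D hm0 hm1 h1 h2 h3.symm (H40.CRW.hS u)
    rw [← hd] at hdc
    have e5 : (thT d).1 *ᵥ δ t0 = δ t0 := by
      funext i
      obtain ⟨-, -, cc⟩ := blk_mulVec (F := F) h3.symm (H40.CRW.hS u)⁻¹ (δ i)
      have := cc t0 hm0.symm h1.symm
      rw [mulVec_single_one, col_apply, map_inv, ← hd] at this
      rw [H40.OmModel.coe_thT, mulVec_single_one, col_apply, transpose_apply, this]
      by_cases hi : i = t0
      · subst hi; rfl
      · simp [hi, Ne.symm hi]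
    have e6 : ψ d = c * ψ d * c⁻¹ := by rw [hdc.eq, mul_inv_cancel_right]
    rw [e6, bb, cj_conj, conj_tv hm0 hm0 d (a := s) (b := 1) e1 (by rw [e5, one_smul]), mul_one,
      mul_one]
    rfl
  rw [hc]
  exact (same_b0 D hm0 hm1 _ s).eq ▸ mul_inv_cancel_right _ _

/-- Change of basis in the plane. -/
theorem O_blk (s : SpecialLinearGroup (Fin 2) F) (x y : Fin n → F) :
    O ψ c m0 t0 (s.1 0 0 • x + s.1 1 0 • y) (s.1 0 1 • x + s.1 1 1 • y) = O ψ c m0 t0 x y := by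
  have key : ∀ (s : SpecialLinearGroup (Fin 2) F) (g : SLn) (x y : Fin n → F),
      g.1 *ᵥ δ m0 = x → g.1 *ᵥ δ t0 = y →
      (g * blk m0 t0 hm0 s).1 *ᵥ δ m0 = s.1 0 0 • x + s.1 1 0 • y ∧
      (g * blk m0 t0 hm0 s).1 *ᵥ δ t0 = s.1 0 1 • x + s.1 1 1 • y := by
    intro s g x y hx hy
    have e : ∀ (r : Fin n) (a b : F), r = m0 ∧ a = s.1 0 0 ∧ b = s.1 1 0 ∨
        r = t0 ∧ a = s.1 0 1 ∧ b = s.1 1 1 →
        (blk m0 t0 hm0 s).1 *ᵥ δ r = a • δ m0 + b • δ t0 := by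
      intro r a b h
      funext i
      obtain ⟨e1, e2, e3⟩ := blk_mulVec (F := F) hm0 s (δ r)
      by_cases hi : i = m0
      · subst hi
        rw [e1]
        rcases h with ⟨rfl, rfl, rfl⟩ | ⟨rfl, rfl, rfl⟩ <;> simp [hm0, hm0.symm]
      by_cases hi' : i = t0
      · subst hi'
        rw [e2]
        rcases h with ⟨rfl, rfl, rfl⟩ | ⟨rfl, rfl, rfl⟩ <;> simp [hm0, hm0.symm]
      rw [e3 i hi hi']
      rcases h with ⟨rfl, rfl, rfl⟩ | ⟨rfl, rfl, rfl⟩ <;> simp [hi, hi']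
    constructor
    · rw [H40.OmModel.cmul, ← mulVec_mulVec, e m0 _ _ (Or.inl ⟨rfl, rfl, rfl⟩), mulVec_add,
        mulVec_smul, mulVec_smul, hx, hy]
    · rw [H40.OmModel.cmul, ← mulVec_mulVec, e t0 _ _ (Or.inr ⟨rfl, rfl, rfl⟩), mulVec_add,
        mulVec_smul, mulVec_smul, hx, hy]
  by_cases h : ∃ g : SLn, g.1 *ᵥ δ m0 = x ∧ g.1 *ᵥ δ t0 = y
  · obtain ⟨g, hx, hy⟩ := h
    obtain ⟨k1, k2⟩ := key s g x y hx hy
    rw [O_eq D hm0 hm1 _ k1 k2, O_eq D hm0 hm1 g hx hy, map_mul, _root_.mul_inv_rev]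
    have hc := same_b0 D hm0 hm1 s 1
    calc ψ g * ψ (blk m0 t0 hm0 s) * bb ψ c m0 t0 1 * ((ψ (blk m0 t0 hm0 s))⁻¹ * (ψ g)⁻¹)
        = ψ g * (ψ (blk m0 t0 hm0 s) * bb ψ c m0 t0 1 * (ψ (blk m0 t0 hm0 s))⁻¹) * (ψ g)⁻¹ := by group
      _ = _ := by rw [hc.eq, mul_inv_cancel_right]
  · rw [O, dif_neg, O, dif_neg h]
    rintro ⟨g, hx, hy⟩
    obtain ⟨k1, k2⟩ := key s⁻¹ g _ _ hx hy
    refine h ⟨g * blk m0 t0 hm0 s⁻¹, k1.trans ?_, k2.trans ?_⟩ <;>
    · have hs : s.1 * (s⁻¹).1 = 1 := by rw [← H40.CoprimeGens.cmul, mul_inv_cancel]; rfl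
      have h00 := congrFun (congrFun hs 0) 0
      have h01 := congrFun (congrFun hs 0) 1
      have h10 := congrFun (congrFun hs 1) 0
      have h11 := congrFun (congrFun hs 1) 1
      simp only [Matrix.mul_apply, Fin.sum_univ_two, Matrix.one_apply_eq, Matrix.one_apply_ne,
        ne_eq, zero_ne_one, one_ne_zero, not_false_eq_true] at h00 h01 h10 h11
      funext i
      simp only [Pi.add_apply, Pi.smul_apply, smul_eq_mul]
      first
        | linear_combination (x i) * h00 + (y i) * h10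
        | linear_combination (x i) * h01 + (y i) * h11

theorem O_swap (x y : Fin n → F) : O ψ c m0 t0 (-y) x = O ψ c m0 t0 x y := by
  have := O_blk D hm0 hm1 H40.CRW.tS x y
  simpa [H40.CRW.coe_tS] using this

theorem O_neg (x y : Fin n → F) : O ψ c m0 t0 (-x) (-y) = O ψ c m0 t0 x y := by
  have := O_blk D hm0 hm1 (H40.CRW.hS (-1 : Fˣ)) x y
  simpa [H40.CRW.coe_hS] using this

theorem O_smul {a : F} (ha : a ≠ 0) (x y : Fin n → F) :
    O ψ c m0 t0 (a • x) y = O ψ c m0 t0 x (a • y) := by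
  have := O_blk D hm0 hm1 (H40.CRW.hS (Units.mk0 a ha)) x (a • y)
  simpa [H40.CRW.coe_hS, ha] using this

theorem O_shear (x y : Fin n → F) (t : F) :
    O ψ c m0 t0 x (t • x + y) = O ψ c m0 t0 x y := by
  have := O_blk D hm0 hm1 (H40.CRW.xS (.ofAdd t)) x y
  simpa [H40.CRW.coe_xS] using this

theorem O_zero (x : Fin n → F) : O ψ c m0 t0 x 0 = 1 := by
  rw [O, dif_neg]
  rintro ⟨g, -, hg⟩
  have := mulVec_inv hg
  rw [mulVec_zero] at this
  simpa using (congrFun this t0).symm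

theorem O_antisym (p q : Fin n) (v : F) :
    O ψ c m0 t0 (δ q) (v • δ p) = O ψ c m0 t0 (δ p) ((-v) • δ q) := by
  by_cases hv : v = 0
  · subst hv; simp [O_zero D hm0 hm1]
  rw [← O_smul D hm0 hm1 (neg_ne_zero.2 hv), ← O_swap D hm0 hm1 (δ q), neg_smul]

omit hm0 hm1 D in
theorem thT_blk_mulVec {p q : Fin n} (h : p ≠ q) (s : SpecialLinearGroup (Fin 2) F) (r i : Fin n) :
    ((thT (blk p q h s)).1 *ᵥ δ r) i = ((blk p q h s⁻¹).1 *ᵥ δ i) r := by
  rw [H40.OmModel.coe_thT, mulVec_single_one, col_apply, transpose_apply, map_inv, mulVec_single_one,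
    col_apply]

/-- Root elements of the second copy in the orbit. -/
theorem O_mt {m t : Fin n} (h1 : m ≠ t0) (h2 : m ≠ t1) (ht : t = t0 ∨ t = t1) (v : F) :
    O ψ c m0 t0 (δ m) (v • δ t) = bb ψ c m t v := by
  have base : ∀ v : F, O ψ c m0 t0 (δ m) (v • δ t0) = bb ψ c m t0 v := by
    intro v
    by_cases hm : m0 = m
    · subst hm; exact O_base D hm0 hm1 v
    set g := blk m0 m hm (H40.CRW.tS : SpecialLinearGroup (Fin 2) F) with hg
    have bm := fun x => blk_mulVec (F := F) hm (H40.CRW.tS) x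
    have e1 : g.1 *ᵥ δ m0 = (-1 : F) • δ m := by
      funext i
      obtain ⟨a, b, cc⟩ := bm (δ m0)
      by_cases hi : i = m0
      · subst hi; rw [a, H40.CRW.coe_tS]; simp [hm, Ne.symm hm]
      by_cases hi' : i = m
      · subst hi'; rw [b, H40.CRW.coe_tS]; simp [hm, Ne.symm hm]
      rw [cc i hi hi']; simp [hi, hi']
    have e2 : g.1 *ᵥ δ t0 = δ t0 := by
      funext i
      obtain ⟨a, b, cc⟩ := bm (δ t0)
      by_cases hi : i = m0
      · subst hi; rw [a]; simp [hm0, h1]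
      by_cases hi' : i = m
      · subst hi'; rw [b]; simp [hm0, h1]
      rw [cc i hi hi']
    have e5 : (thT g).1 *ᵥ δ t0 = (1 : F) • δ t0 := by
      funext i
      obtain ⟨-, -, cc⟩ := blk_mulVec (F := F) hm (H40.CRW.tS)⁻¹ (δ i)
      rw [hg, thT_blk_mulVec, cc t0 hm0.symm h1.symm, one_smul]
      by_cases hi : i = t0
      · subst hi; rfl
      · simp [hi, Ne.symm hi]
    have hgc := fix_blk D hm0 hm1 h1 h2 hm (H40.CRW.tS : SpecialLinearGroup (Fin 2) F)
    rw [← hg] at hgc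
    have e6 : ψ g = c * ψ g * c⁻¹ := by rw [hgc.eq, mul_inv_cancel_right]
    calc O ψ c m0 t0 (δ m) (v • δ t0)
        = O ψ c m0 t0 (g.1 *ᵥ δ m0) (g.1 *ᵥ ((-v) • δ t0)) := by
          rw [mulVec_smul, e1, e2, neg_one_smul, neg_smul, O_neg D hm0 hm1]
      _ = ψ g * bb ψ c m0 t0 (-v) * (ψ g)⁻¹ := by rw [← O_conj D hm0 hm1, O_base D hm0 hm1]
      _ = _ := by
          rw [e6, bb, cj_conj, conj_tv hm0 h1 g e1 e5, show (-1 : F) * -v * 1 = v by ring]
          rfl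
  rcases ht with rfl | rfl
  · exact base v
  set w := blk t0 t D.hne (H40.CRW.tS : SpecialLinearGroup (Fin 2) F) with hw
  have bw := fun x => blk_mulVec (F := F) D.hne (H40.CRW.tS) x
  have e1 : w.1 *ᵥ δ t0 = (-1 : F) • δ t := by
    funext i
    obtain ⟨a, b, cc⟩ := bw (δ t0)
    by_cases hi : i = t0
    · subst hi; rw [a, H40.CRW.coe_tS]; simp [D.hne, D.hne.symm]
    by_cases hi' : i = t
    · subst hi'; rw [b, H40.CRW.coe_tS]; simp [D.hne, D.hne.symm]
    rw [cc i hi hi']; simp [hi, hi']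
  have e2 : w.1 *ᵥ δ m = (1 : F) • δ m := by
    funext i
    obtain ⟨a, b, cc⟩ := bw (δ m)
    rw [one_smul]
    by_cases hi : i = t0
    · subst hi; rw [a]; simp [Ne.symm h1, Ne.symm h2]
    by_cases hi' : i = t
    · subst hi'; rw [b]; simp [Ne.symm h1, Ne.symm h2]
    rw [cc i hi hi']
  have e5 : (thT w).1 *ᵥ δ t0 = (-1 : F) • δ t := by
    funext i
    obtain ⟨a, b, cc⟩ := blk_mulVec (F := F) D.hne (H40.CRW.tS)⁻¹ (δ i)
    rw [hw, thT_blk_mulVec, a]
    have hinv : ((H40.CRW.tS : SpecialLinearGroup (Fin 2) F)⁻¹).1 = !![0, -1; 1, 0] := by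
      show adjugate (H40.CRW.tS : SpecialLinearGroup (Fin 2) F).1 = _
      rw [H40.CRW.coe_tS, adjugate_fin_two_of]; simp
    rw [hinv]
    by_cases hi : i = t
    · subst hi; simp [D.hne, D.hne.symm]
    · simp [hi, Ne.symm hi]
  calc O ψ c m0 t0 (δ m) (v • δ t)
      = O ψ c m0 t0 (w.1 *ᵥ δ m) (w.1 *ᵥ ((-v) • δ t0)) := by
        rw [mulVec_smul, e1, e2, one_smul, smul_smul, neg_mul, mul_neg, neg_neg, mul_one]
    _ = ψ w * bb ψ c m t0 (-v) * (ψ w)⁻¹ := by rw [← O_conj D hm0 hm1, base]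
    _ = _ := by
        rw [hw, ← top_wT D, bb, cj_conj, ← hw, conj_tv h1 h2 w e2 e5,
          show (1 : F) * -v * -1 = v by ring]
        rfl

omit hm0 hm1 D in
theorem bb_add {p q : Fin n} (h : p ≠ q) (a b : F) :
    bb ψ c p q (a + b) = bb ψ c p q a * bb ψ c p q b := by
  simp only [bb]
  rw [H40.Glue.tv_strel.add _ _ h, map_mul]; group

theorem exists_four {p q r : Fin n} (hpq : p ≠ q) (hpr : p ≠ r) (hqr : q ≠ r) :
    ∃ f : Fin 4 → Fin n, Function.Injective f ∧ f 0 = p ∧ f 1 = q ∧ f 2 = r := by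
  have h : ({p, q, r} : Finset (Fin n)).card < (Finset.univ : Finset (Fin n)).card := by
    rw [Finset.card_univ, Fintype.card_fin]
    exact lt_of_le_of_lt Finset.card_le_three D.hn
  obtain ⟨s, -, hs⟩ := Finset.exists_mem_notMem_of_card_lt_card h
  simp only [Finset.mem_insert, Finset.mem_singleton, not_or] at hs
  refine ⟨![p, q, r, s], ?_, rfl, rfl, rfl⟩
  intro i j
  fin_cases i <;> fin_cases j <;>
    simp [hpq, hpr, hqr, hpq.symm, hpr.symm, hqr.symm, hs.1, hs.2.1, hs.2.2, Ne.symm hs.1,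
      Ne.symm hs.2.1, Ne.symm hs.2.2]

/-- Reduction of statements about three distinct indices. -/
theorem transport3 {p q r : Fin n} (hpq : p ≠ q) (hpr : p ≠ r) (hqr : q ≠ r) :
    ∃ g : SLn, g.1 *ᵥ δ m0 = δ p ∧ g.1 *ᵥ δ t0 = δ q ∧ g.1 *ᵥ δ t1 = δ r := by
  obtain ⟨f, hf, a0, a1, a2⟩ := exists_four D hm0 hm1 hm0 hm1 D.hne
  obtain ⟨f', hf', b0, b1, b2⟩ := exists_four D hm0 hm1 hpq hpr hqr
  obtain ⟨g, d, -, hd, hg⟩ := exists_mono4 (F := F) f hf f' hf'
  have e0 := (hg 0).1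
  have e1 := (hg 1).1
  have e2 := (hg 2).1
  rw [hd 0 (by decide), one_smul, a0, b0] at e0
  rw [hd 1 (by decide), one_smul, a1, b1] at e1
  rw [hd 2 (by decide), one_smul, a2, b2] at e2
  exact ⟨g, e0, e1, e2⟩

theorem O_two {p q r : Fin n} (hpq : p ≠ q) (hpr : p ≠ r) (hqr : q ≠ r) (a b : F) :
    O ψ c m0 t0 (δ p) (a • δ q + b • δ r) =
      O ψ c m0 t0 (δ p) (a • δ q) * O ψ c m0 t0 (δ p) (b • δ r) := by
  obtain ⟨g, e0, e1, e2⟩ := transport3 D hm0 hm1 hpq hpr hqr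
  rw [← e0, ← e1, ← e2, ← mulVec_smul, ← mulVec_smul, ← mulVec_add, ← O_conj D hm0 hm1,
    ← O_conj D hm0 hm1, ← O_conj D hm0 hm1]
  suffices O ψ c m0 t0 (δ m0) (a • δ t0 + b • δ t1) =
      O ψ c m0 t0 (δ m0) (a • δ t0) * O ψ c m0 t0 (δ m0) (b • δ t1) by rw [this]; group
  by_cases ha : a = 0
  · subst ha; simp [O_zero D hm0 hm1]
  have h10 := D.hne.symm
  have ex : (tv t1 t0 (b / a) : SLn).1 *ᵥ (a • δ t0) = a • δ t0 + b • δ t1 := by
    rw [mulVec_smul, tv_delta h10, if_pos rfl, smul_add, smul_smul, mul_div_cancel₀ _ ha]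
  have ey : (tv t1 t0 (b / a) : SLn).1 *ᵥ δ m0 = δ m0 := by
    rw [tv_delta h10, if_neg hm0, add_zero]
  have et : ψ (tv t1 t0 (b / a)) = c * ψ (tv t0 t1 (-(b / a))) * c⁻¹ := by
    rw [D.top t0 t1 (Or.inl ⟨rfl, rfl⟩), neg_neg]
  rw [← ex]
  nth_rw 1 [← ey]
  rw [← O_conj D hm0 hm1, O_base D hm0 hm1, O_mt D hm0 hm1 hm0 hm1 (Or.inr rfl), et]
  simp only [bb]
  rw [cj_conj]
  have e : tv t0 t1 (-(b / a)) * tv m0 t0 a * (tv t0 t1 (-(b / a)))⁻¹ =
      (tv m0 t1 b * tv m0 t0 a : SLn) := by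
    have h := H40.Glue.tv_chev (F := F) hm0 D.hne hm1 a (-(b / a))
    rw [← mul_inv_eq_iff_eq_mul]
    have h' := congrArg (fun z => z⁻¹) h
    simp only [commutatorElement_inv] at h'
    rw [← commutatorElement_def, h']
    refine inv_eq_of_mul_eq_one_right ?_
    rw [← H40.Glue.tv_strel.add _ _ hm1, mul_neg, mul_div_cancel₀ _ ha, neg_add_cancel]
    exact Subtype.ext (by rw [H40.Glue.coe_tv hm1, Matrix.single_zero, add_zero]; rfl)
  rw [e, map_mul, ((H40.Glue.tv_strel.comm m0 t1 m0 t0 hm1 hm0 hm0 hm1.symm b a).map ψ).eq]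
  group

/-- The orbit elements on basis pairs commute. -/
theorem O_comm {p q r s : Fin n} (hpq : p ≠ q) (hrs : r ≠ s) (a b : F) :
    Commute (O ψ c m0 t0 (δ p) (a • δ q)) (O ψ c m0 t0 (δ r) (b • δ s)) := by
  have share : ∀ {p q s : Fin n}, p ≠ q → p ≠ s → ∀ a b : F,
      Commute (O ψ c m0 t0 (δ p) (a • δ q)) (O ψ c m0 t0 (δ p) (b • δ s)) := by
    intro p q s hpq hps a b
    by_cases hqs : q = s
    · subst hqs
      obtain ⟨r, hr1, hr2⟩ : ∃ r, p ≠ r ∧ q ≠ r := by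
        have h : ({p, q} : Finset (Fin n)).card < (Finset.univ : Finset (Fin n)).card := by
          rw [Finset.card_univ, Fintype.card_fin]
          exact lt_of_le_of_lt Finset.card_le_two (by have := D.hn; omega)
        obtain ⟨r, -, hr⟩ := Finset.exists_mem_notMem_of_card_lt_card h
        simp only [Finset.mem_insert, Finset.mem_singleton, not_or] at hr
        exact ⟨r, Ne.symm hr.1, Ne.symm hr.2⟩
      obtain ⟨g, e0, e1, -⟩ := transport3 D hm0 hm1 hpq hr1 hr2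
      rw [← e0, ← e1, ← mulVec_smul, ← mulVec_smul, ← O_conj D hm0 hm1, ← O_conj D hm0 hm1,
        H40.Glue.commute_conj_iff, O_base D hm0 hm1, O_base D hm0 hm1]
      exact commute_bb hm0 hm0 hm0 hm0.symm a b
    · obtain ⟨g, e0, e1, e2⟩ := transport3 D hm0 hm1 hpq hps hqs
      rw [← e0, ← e1, ← e2, ← mulVec_smul, ← mulVec_smul, ← O_conj D hm0 hm1, ← O_conj D hm0 hm1,
        H40.Glue.commute_conj_iff, O_base D hm0 hm1, O_mt D hm0 hm1 hm0 hm1 (Or.inr rfl)]
      exact commute_bb hm0 hm1 hm1 hm0.symm a b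
  by_cases h1 : p = r
  · subst h1; exact share hpq hrs a b
  by_cases h2 : p = s
  · subst h2
    rw [O_antisym D hm0 hm1 p r b]
    exact share hpq hrs.symm a _
  by_cases h3 : q = r
  · subst h3
    rw [← neg_neg a, ← O_antisym D hm0 hm1 p q (-a)]
    exact share hpq.symm hrs _ b
  by_cases h4 : q = s
  · subst h4
    rw [O_antisym D hm0 hm1 q r b, ← neg_neg a, ← O_antisym D hm0 hm1 p q (-a)]
    exact share hpq.symm hrs.symm _ _
  obtain ⟨m1, k1, k2, k3⟩ := exists_mid D m0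
  obtain ⟨g, d, hd0, hd, hg⟩ := exists_mono4 (F := F) ![m0, t0, m1, t1] (by
      intro i j
      fin_cases i <;> fin_cases j <;>
        simp [hm0, hm1, k1, k2, k3, D.hne, hm0.symm, hm1.symm, Ne.symm k1, Ne.symm k2, Ne.symm k3,
          D.hne.symm])
    ![p, q, r, s] (by
      intro i j
      fin_cases i <;> fin_cases j <;>
        simp [hpq, hrs, h1, h2, h3, h4, hpq.symm, hrs.symm, Ne.symm h1, Ne.symm h2, Ne.symm h3,
          Ne.symm h4])
  have e0 := (hg 0).1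
  have e1 := (hg 1).1
  have e2 := (hg 2).1
  have e3 := (hg 3).1
  rw [hd 0 (by decide), one_smul] at e0
  rw [hd 1 (by decide), one_smul] at e1
  rw [hd 2 (by decide), one_smul] at e2
  simp only [Matrix.cons_val_zero, Matrix.cons_val_one, Matrix.cons_val] at e0 e1 e2 e3
  have e3' : g.1 *ᵥ ((b / d 3) • δ t1) = b • δ s := by
    rw [mulVec_smul, e3, smul_smul, div_mul_cancel₀ _ (hd0 3)]
  rw [← e0, ← e1, ← e2, ← e3', ← mulVec_smul, ← O_conj D hm0 hm1, ← O_conj D hm0 hm1,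
    H40.Glue.commute_conj_iff, O_base D hm0 hm1, O_mt D hm0 hm1 k1 k2 (Or.inr rfl)]
  exact commute_bb hm0 k2 hm1 k1.symm _ _

theorem O_add {p q : Fin n} (hpq : p ≠ q) (a b : F) :
    O ψ c m0 t0 (δ p) ((a + b) • δ q) =
      O ψ c m0 t0 (δ p) (a • δ q) * O ψ c m0 t0 (δ p) (b • δ q) := by
  obtain ⟨r, hr1, hr2⟩ : ∃ r, p ≠ r ∧ q ≠ r := by
    have h : ({p, q} : Finset (Fin n)).card < (Finset.univ : Finset (Fin n)).card := by
      rw [Finset.card_univ, Fintype.card_fin]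
      exact lt_of_le_of_lt Finset.card_le_two (by have := D.hn; omega)
    obtain ⟨r, -, hr⟩ := Finset.exists_mem_notMem_of_card_lt_card h
    simp only [Finset.mem_insert, Finset.mem_singleton, not_or] at hr
    exact ⟨r, Ne.symm hr.1, Ne.symm hr.2⟩
  obtain ⟨g, e0, e1, -⟩ := transport3 D hm0 hm1 hpq hr1 hr2
  rw [← e0, ← e1]
  simp only [← mulVec_smul, ← O_conj D hm0 hm1, O_base D hm0 hm1, bb_add hm0]
  group

omit hm0 hm1 D

/-- The coordinates of an alternating matrix. -/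
abbrev Pairs (n : ℕ) := {p : Fin n × Fin n // p.1 < p.2}

theorem aM_delta (p q : Fin n) (v : F) (a b : Fin n) :
    (aM (δ p) (v • δ q) : altM n F).1 a b =
      (if a = p ∧ b = q then v else 0) - (if a = q ∧ b = p then v else 0) := by
  rw [H40.OmModel.aM_coe]
  by_cases h1 : a = p <;> by_cases h2 : b = q <;> by_cases h3 : a = q <;> by_cases h4 : b = p <;>
    simp_all [vecMulVec_apply]

theorem sum_aM (S : altM n F) :
    ∑ p : Pairs n, aM (δ p.1.1) (S.1 p.1.1 p.1.2 • δ p.1.2) = S := by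
  classical
  apply Subtype.ext
  ext a b
  rw [AddSubgroup.val_finsetSum, Matrix.sum_apply]
  simp only [aM_delta]
  rcases lt_trichotomy a b with h | h | h
  · rw [Finset.sum_eq_single (⟨(a, b), h⟩ : Pairs n) ?_ (by simp)]
    · simp [h.ne]
    · rintro ⟨⟨i, j⟩, hij⟩ - hne
      rw [if_neg, if_neg, sub_zero]
      · rintro ⟨rfl, rfl⟩; exact lt_asymm h hij
      · rintro ⟨rfl, rfl⟩; exact hne rfl
  · subst h
    rw [Finset.sum_eq_zero, S.2.2]
    rintro ⟨⟨i, j⟩, hij⟩ -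
    rw [if_neg, if_neg, sub_zero]
    · rintro ⟨rfl, rfl⟩; exact hij.false
    · rintro ⟨rfl, rfl⟩; exact hij.false
  · rw [Finset.sum_eq_single (⟨(b, a), h⟩ : Pairs n) ?_ (by simp)]
    · simp [h.ne', H40.OmModel.alt_apply S.2 b a]
    · rintro ⟨⟨i, j⟩, hij⟩ - hne
      rw [if_neg, if_neg, sub_zero]
      · rintro ⟨rfl, rfl⟩; exact hne rfl
      · rintro ⟨rfl, rfl⟩; exact lt_asymm h hij

theorem alt_hom_ext {H : Type*} [Group H] (f f' : Multiplicative (altM n F) →* H)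
    (e : ∀ p q : Fin n, p ≠ q → ∀ v : F, f (.ofAdd (aM (δ p) (v • δ q))) = f' (.ofAdd (aM (δ p) (v • δ q)))) :
    f = f' := by
  classical
  refine MonoidHom.ext fun S => ?_
  induction S using Multiplicative.rec with
  | ofAdd S =>
  rw [← sum_aM S]
  refine Finset.sum_induction _ (fun S => f (Multiplicative.ofAdd S) = f' (Multiplicative.ofAdd S))
    (fun a b ha hb => ?_) (by simp) (fun p _ => e _ _ p.2.ne _)
  simp only [ofAdd_add, map_mul, ha, hb]

include D hm0 hm1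

/-- One coordinate. -/
noncomputable def coordHom (p : Pairs n) : Multiplicative F →* G :=
  MonoidHom.mk' (fun v => O ψ c m0 t0 (δ p.1.1) (v.toAdd • δ p.1.2)) fun v w => by
    rw [toAdd_mul]; exact O_add D hm0 hm1 p.2.ne _ _

theorem coordHom_commute :
    Pairwise fun p p' => ∀ a b, Commute (coordHom D hm0 hm1 p a) (coordHom D hm0 hm1 p' b) :=
  fun p p' _ _ _ => O_comm D hm0 hm1 p.2.ne p'.2.ne _ _

/-- The upper radical of a group with the data. -/
noncomputable def U : Multiplicative (altM n F) →* G :=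
  (MonoidHom.noncommPiCoprod (N := fun _ : Pairs n => Multiplicative F) (coordHom D hm0 hm1)
    (coordHom_commute D hm0 hm1)).comp
    (MonoidHom.mk' (fun S p => Multiplicative.ofAdd (S.toAdd.1 p.1.1 p.1.2)) fun S T => by
      funext p; simp [ofAdd_add])

theorem U_basis {p q : Fin n} (h : p ≠ q) (v : F) :
    U D hm0 hm1 (.ofAdd (aM (δ p) (v • δ q))) = O ψ c m0 t0 (δ p) (v • δ q) := by
  classical
  have lt : ∀ (p q : Fin n) (h : p < q) (v : F),
      U D hm0 hm1 (.ofAdd (aM (δ p) (v • δ q))) = O ψ c m0 t0 (δ p) (v • δ q) := by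
    intro p q h v
    simp only [U, MonoidHom.comp_apply, MonoidHom.mk'_apply, toAdd_ofAdd]
    have : (fun p' : Pairs n => Multiplicative.ofAdd ((aM (δ p) (v • δ q) : altM n F).1 p'.1.1 p'.1.2)) =
        Pi.mulSingle (⟨(p, q), h⟩ : Pairs n) (Multiplicative.ofAdd v) := by
      funext p'
      rw [aM_delta]
      by_cases e : p' = ⟨(p, q), h⟩
      · subst e; simp [h.ne]
      · rw [Pi.mulSingle_eq_of_ne e, if_neg, if_neg, sub_zero, ofAdd_zero]
        · rintro ⟨e1, e2⟩; exact lt_asymm h (e1 ▸ e2 ▸ p'.2)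
        · rintro ⟨e1, e2⟩; exact e (Subtype.ext (Prod.ext e1 e2))
    rw [this]
    exact (MonoidHom.noncommPiCoprod_mulSingle _ _ _).trans rfl
  rcases lt_or_gt_of_ne h with h' | h'
  · exact lt p q h' v
  · rw [O_antisym D hm0 hm1 q p v, ← lt q p h' (-v), H40.OmModel.aM_swap,
      H40.OmModel.aM_smul]
    congr 2
    apply Subtype.ext
    ext a b
    simp [H40.OmModel.aM_coe, vecMulVec_apply]
    ring

/-- Equivariance. -/
theorem U_conj (g : SLn) (S : altM n F) :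
    ψ g * U D hm0 hm1 (.ofAdd S) * (ψ g)⁻¹ = U D hm0 hm1 (.ofAdd (congrA g S)) := by
  induction g using H37.SL_transvection_induction generalizing S with
  | h1 =>
    rw [map_one, one_mul, inv_one, mul_one]
    congr 2
    exact Subtype.ext (by simp [H40.OmModel.congrA_coe])
  | hmul A B hA hB =>
    rw [map_mul, _root_.mul_inv_rev, H40.OmModel.congrA_mul, ← hA, ← hB]; group
  | htransvec i j hij t =>
    rw [← H40.Glue.tv_of hij]
    let f1 : Multiplicative (altM n F) →* G :=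
      (MulAut.conj (ψ (tv i j t))).toMonoidHom.comp (U D hm0 hm1)
    let f2 : Multiplicative (altM n F) →* G :=
      MonoidHom.mk' (fun S => U D hm0 hm1 (.ofAdd (congrA (tv i j t) S.toAdd))) fun S T => by
        rw [toAdd_mul, map_add, ofAdd_add, map_mul]
    suffices h12 : f1 = f2 by
      have e := DFunLike.congr_fun h12 (Multiplicative.ofAdd S)
      simp only [f1, f2, MonoidHom.comp_apply, MonoidHom.mk'_apply, MulEquiv.coe_toMonoidHom,
        MulAut.conj_apply, toAdd_ofAdd] at e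
      exact e
    refine alt_hom_ext f1 f2 fun p q hpq v => ?_
    show ψ (tv i j t) * U D hm0 hm1 (.ofAdd (aM (δ p) (v • δ q))) * (ψ (tv i j t))⁻¹ =
      U D hm0 hm1 (.ofAdd (congrA (tv i j t) (aM (δ p) (v • δ q))))
    rw [U_basis D hm0 hm1 hpq, O_conj D hm0 hm1, H40.OmModel.aM_congr]
    have case1 : ∀ {p q : Fin n}, p ≠ q → ∀ (v : F), q = j →
        O ψ c m0 t0 (δ p) (v • δ q + (v * t) • δ i) =
          U D hm0 hm1 (.ofAdd (aM (δ p) (v • δ q + (v * t) • δ i))) := by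
      intro p q hpq v hqj
      subst hqj
      by_cases hip : i = p
      · subst hip
        rw [add_comm, O_shear D hm0 hm1, H40.OmModel.aM_add_right,
          show aM (δ i) ((v * t) • δ i) = (0 : altM n F) from by
            rw [← H40.OmModel.aM_smul]; apply Subtype.ext
            ext a b; simp [H40.OmModel.aM_coe, vecMulVec_apply]; try ring,
          zero_add, U_basis D hm0 hm1 hpq]
      · rw [O_two D hm0 hm1 hpq (Ne.symm hip) hij.symm, H40.OmModel.aM_add_right, ofAdd_add, map_mul,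
          U_basis D hm0 hm1 hpq, U_basis D hm0 hm1 (Ne.symm hip)]
    rw [mulVec_smul, tv_delta hij, tv_delta hij]
    by_cases hqj : q = j
    · subst hqj
      rw [if_pos rfl, if_neg hpq, add_zero, smul_add, smul_smul]
      exact case1 hpq v rfl
    by_cases hpj : p = j
    · subst hpj
      rw [if_pos rfl, if_neg hqj, add_zero]
      have e1 : O ψ c m0 t0 (δ p + t • δ i) (v • δ q) =
          O ψ c m0 t0 (δ q) ((-v) • δ p + (-v * t) • δ i) := by
        by_cases hv : v = 0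
        · subst hv; simp [O_zero D hm0 hm1]
        rw [← O_smul D hm0 hm1 hv, ← O_swap D hm0 hm1, ← O_neg D hm0 hm1, neg_neg]
        congr 1
        rw [smul_add, smul_smul, neg_add, ← neg_smul, ← neg_smul, neg_mul]
      have e2 : aM (δ p + t • δ i) (v • δ q) = (aM (δ q) ((-v) • δ p + (-v * t) • δ i) : altM n F) := by
        apply Subtype.ext
        ext a b
        simp [H40.OmModel.aM_coe, vecMulVec_apply]
        ring
      rw [e1, e2]
      exact case1 (Ne.symm hpq) (-v) rfl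
    · rw [if_neg hpj, if_neg hqj, add_zero, add_zero, U_basis D hm0 hm1 hpq]

theorem U_mt {m t : Fin n} (h1 : m ≠ t0) (h2 : m ≠ t1) (ht : t = t0 ∨ t = t1) (v : F) :
    U D hm0 hm1 (.ofAdd (aM (δ m) (v • δ t))) = bb ψ c m t v := by
  have hne : m ≠ t := by rcases ht with rfl | rfl <;> assumption
  rw [U_basis D hm0 hm1 hne, O_mt D hm0 hm1 h1 h2 ht]

/-- The lower radical. -/
noncomputable def W : Multiplicative (altM n F) →* G := U D.dual hm0 hm1

theorem W_conj (g : SLn) (S : altM n F) :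
    ψ g * W D hm0 hm1 (.ofAdd S) * (ψ g)⁻¹ = W D hm0 hm1 (.ofAdd (congrA (thT g) S)) := by
  have := U_conj D.dual hm0 hm1 (thT g) S
  rwa [MonoidHom.comp_apply, H40.OmModel.thT_thT] at this

theorem W_mt {m t : Fin n} (h1 : m ≠ t0) (h2 : m ≠ t1) (ht : t = t0 ∨ t = t1) (v : F) :
    W D hm0 hm1 (.ofAdd (aM (δ m) (v • δ t))) = c * ψ (tv t m (-v)) * c⁻¹ := by
  have hne : m ≠ t := by rcases ht with rfl | rfl <;> assumption
  rw [W, U_mt D.dual hm0 hm1 h1 h2 ht, bb, MonoidHom.comp_apply, thT_tv hne]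

/-- Elementary elements of the two radicals on different pairs. -/
theorem mixed {p q r s : Fin n} (hpq : p ≠ q) (hrs : r ≠ s) (h : ¬ (r = p ∧ s = q) ∧ ¬ (r = q ∧ s = p))
    (a b : F) : ∃ (g : SLn) (S : altM n F),
      W D hm0 hm1 (.ofAdd (aM (δ p) (a • δ q))) * U D hm0 hm1 (.ofAdd (aM (δ r) (b • δ s))) *
        (W D hm0 hm1 (.ofAdd (aM (δ p) (a • δ q))))⁻¹ = ψ g * U D hm0 hm1 (.ofAdd S) := by
  obtain ⟨m1, k1, k2, k3⟩ := exists_mid D m0
  -- the standard configurations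
  have std0 : ∀ a b : F, ∃ (g : SLn) (S : altM n F),
      W D hm0 hm1 (.ofAdd (aM (δ m1) (a • δ t1))) * U D hm0 hm1 (.ofAdd (aM (δ m0) (b • δ t0))) *
        (W D hm0 hm1 (.ofAdd (aM (δ m1) (a • δ t1))))⁻¹ = ψ g * U D hm0 hm1 (.ofAdd S) := by
    intro a b
    refine ⟨1, aM (δ m0) (b • δ t0), ?_⟩
    rw [map_one, one_mul, W_mt D hm0 hm1 k1 k2 (Or.inr rfl), U_mt D hm0 hm1 hm0 hm1 (Or.inl rfl)]
    rw [mul_inv_eq_iff_eq_mul]
    exact (commute_bb k2.symm hm0 D.hne.symm k3 (-a) b).eq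
  have std1 : ∀ a b : F, ∃ (g : SLn) (S : altM n F),
      W D hm0 hm1 (.ofAdd (aM (δ m1) (a • δ t0))) * U D hm0 hm1 (.ofAdd (aM (δ m0) (b • δ t0))) *
        (W D hm0 hm1 (.ofAdd (aM (δ m1) (a • δ t0))))⁻¹ = ψ g * U D hm0 hm1 (.ofAdd S) := by
    intro a b
    refine ⟨tv m0 m1 (b * a), aM (δ m0) (b • δ t0), ?_⟩
    rw [W_mt D hm0 hm1 k1 k2 (Or.inl rfl), U_mt D hm0 hm1 hm0 hm1 (Or.inl rfl), bb, cj_conj]
    have h := H40.Glue.tv_chev (F := F) hm0 k1.symm k3.symm b (-a)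
    have h' := congrArg (fun z => z⁻¹) h
    simp only [commutatorElement_inv] at h'
    have e : tv t0 m1 (-a) * tv m0 t0 b * (tv t0 m1 (-a))⁻¹ = (tv m0 m1 (b * a) * tv m0 t0 b : SLn) := by
      rw [← mul_inv_eq_iff_eq_mul, ← commutatorElement_def, h']
      refine inv_eq_of_mul_eq_one_right ?_
      rw [← H40.Glue.tv_strel.add _ _ k3.symm, mul_neg, neg_add_cancel]
      exact Subtype.ext (by rw [H40.Glue.coe_tv k3.symm, Matrix.single_zero, add_zero]; rfl)
    rw [e, map_mul]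
    calc c * (ψ (tv m0 m1 (b * a)) * ψ (tv m0 t0 b)) * c⁻¹
        = (c * ψ (tv m0 m1 (b * a)) * c⁻¹) * (c * ψ (tv m0 t0 b) * c⁻¹) := by group
      _ = _ := by rw [(D.fix m0 m1 hm0 hm1 k1 k2 k3.symm (b * a)).eq, mul_inv_cancel_right]
  -- transport by a monomial element
  have move : ∀ (g : SLn) (d : Fin 4 → F) (f : Fin 4 → Fin n) (p q r s : Fin 4) (a b : F),
      (∀ i, g.1 *ᵥ δ (![m0, t0, m1, t1] i) = d i • δ (f i) ∧
        (thT g).1 *ᵥ δ (![m0, t0, m1, t1] i) = (d i)⁻¹ • δ (f i)) →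
      (∀ a b : F, ∃ (g : SLn) (S : altM n F),
        W D hm0 hm1 (.ofAdd (aM (δ (![m0, t0, m1, t1] p)) (a • δ (![m0, t0, m1, t1] q)))) *
          U D hm0 hm1 (.ofAdd (aM (δ (![m0, t0, m1, t1] r)) (b • δ (![m0, t0, m1, t1] s)))) *
          (W D hm0 hm1 (.ofAdd (aM (δ (![m0, t0, m1, t1] p)) (a • δ (![m0, t0, m1, t1] q)))))⁻¹ =
          ψ g * U D hm0 hm1 (.ofAdd S)) → (∀ i, d i ≠ 0) →
      ∃ (g : SLn) (S : altM n F),
        W D hm0 hm1 (.ofAdd (aM (δ (f p)) (a • δ (f q)))) *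
          U D hm0 hm1 (.ofAdd (aM (δ (f r)) (b • δ (f s)))) *
          (W D hm0 hm1 (.ofAdd (aM (δ (f p)) (a • δ (f q)))))⁻¹ = ψ g * U D hm0 hm1 (.ofAdd S) := by
    intro g d f p q r s a b hg hstd hd
    obtain ⟨g', S, e⟩ := hstd (a * (d p * d q)) (b / (d r * d s))
    refine ⟨g * g' * g⁻¹, congrA g S, ?_⟩
    have eU : ψ g * U D hm0 hm1 (.ofAdd (aM (δ (![m0, t0, m1, t1] r))
          ((b / (d r * d s)) • δ (![m0, t0, m1, t1] s)))) * (ψ g)⁻¹ =
        U D hm0 hm1 (.ofAdd (aM (δ (f r)) (b • δ (f s)))) := by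
      rw [U_conj D hm0 hm1, H40.OmModel.aM_congr, mulVec_smul, (hg r).1, (hg s).1,
        H40.OmModel.aM_smul, smul_smul, smul_smul]
      have e := hd r
      have e' := hd s
      congr 4
      field_simp
    have eW : ψ g * W D hm0 hm1 (.ofAdd (aM (δ (![m0, t0, m1, t1] p))
          ((a * (d p * d q)) • δ (![m0, t0, m1, t1] q)))) * (ψ g)⁻¹ =
        W D hm0 hm1 (.ofAdd (aM (δ (f p)) (a • δ (f q)))) := by
      rw [W_conj D hm0 hm1, H40.OmModel.aM_congr, mulVec_smul, (hg p).2, (hg q).2,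
        H40.OmModel.aM_smul, smul_smul, smul_smul]
      have e := hd p
      have e' := hd q
      congr 4
      field_simp
    rw [← eU, ← eW, map_mul, map_mul, map_inv, ← U_conj D hm0 hm1]
    calc _ = ψ g * (W D hm0 hm1 (.ofAdd (aM (δ (![m0, t0, m1, t1] p))
            ((a * (d p * d q)) • δ (![m0, t0, m1, t1] q)))) *
          U D hm0 hm1 (.ofAdd (aM (δ (![m0, t0, m1, t1] r))
            ((b / (d r * d s)) • δ (![m0, t0, m1, t1] s)))) *
          (W D hm0 hm1 (.ofAdd (aM (δ (![m0, t0, m1, t1] p))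
            ((a * (d p * d q)) • δ (![m0, t0, m1, t1] q)))))⁻¹) * (ψ g)⁻¹ := by group
      _ = _ := by rw [e]; group
  have hf0 : Function.Injective ![m0, t0, m1, t1] := by
    intro i j
    fin_cases i <;> fin_cases j <;>
      simp [hm0, hm1, k1, k2, k3, D.hne, hm0.symm, hm1.symm, Ne.symm k1, Ne.symm k2, Ne.symm k3,
        D.hne.symm]
  have share : ∀ {p q r : Fin n}, p ≠ q → r ≠ q → r ≠ p → ∀ a b : F, ∃ (g : SLn) (S : altM n F),
      W D hm0 hm1 (.ofAdd (aM (δ p) (a • δ q))) * U D hm0 hm1 (.ofAdd (aM (δ r) (b • δ q))) *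
        (W D hm0 hm1 (.ofAdd (aM (δ p) (a • δ q))))⁻¹ = ψ g * U D hm0 hm1 (.ofAdd S) := by
    intro p q r hpq hrq hrp a b
    obtain ⟨f, hf, f0, f1, f2⟩ := exists_four D hm0 hm1 hrq hrp hpq.symm
    obtain ⟨g, d, hd0, -, hg⟩ := exists_mono4 (F := F) _ hf0 f hf
    have := move g d f 2 1 0 1 a b hg (fun a b => by simpa using std1 a b) hd0
    rwa [f0, f1, f2] at this
  have flip : ∀ (x y : Fin n) (v : F), aM (δ x) (v • δ y) = (aM (δ y) ((-v) • δ x) : altM n F) := by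
    intro x y v
    apply Subtype.ext
    ext i j
    simp [H40.OmModel.aM_coe, vecMulVec_apply]
    ring
  by_cases h1 : q = s
  · subst h1; exact share hpq hrs (fun e => h.1 ⟨e, rfl⟩) a b
  by_cases h2 : p = s
  · subst h2
    rw [flip p q a]
    exact share hpq.symm hrs (fun e => h.2 ⟨e, rfl⟩) _ b
  by_cases h3 : q = r
  · subst h3
    rw [flip q s b]
    exact share hpq hrs.symm (fun e => h.2 ⟨rfl, e⟩) a _
  by_cases h4 : p = r
  · subst h4
    rw [flip p q a, flip p s b]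
    exact share hpq.symm hrs.symm (Ne.symm h1) _ _
  obtain ⟨g, d, hd0, -, hg⟩ := exists_mono4 (F := F) _ hf0 ![r, s, p, q] (by
    intro i j
    fin_cases i <;> fin_cases j <;>
      simp [hpq, hrs, h1, h2, h3, h4, hpq.symm, hrs.symm, Ne.symm h1, Ne.symm h2, Ne.symm h3,
        Ne.symm h4])
  have := move g d ![r, s, p, q] 2 3 0 1 a b hg (fun a b => by simpa using std0 a b) hd0
  simpa using this

theorem pi_U (π : G →* H43.orthGroup (H43.qPlus n F)) (hψ : π.comp ψ = H40.OmModel.lev)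
    (hb : π (bb ψ c m0 t0 1) = H40.OmModel.radU (.ofAdd (aM (δ m0) (δ t0)))) :
    π.comp (U D hm0 hm1) = H40.OmModel.radU := by
  refine alt_hom_ext _ _ fun p q hpq v => ?_
  rw [MonoidHom.comp_apply, U_basis D hm0 hm1 hpq]
  by_cases hv : v = 0
  · subst hv
    rw [zero_smul, O_zero D hm0 hm1, map_one,
      show aM (δ p) 0 = (0 : altM n F) from Subtype.ext (by simp [H40.OmModel.aM_coe]), ofAdd_zero,
      map_one]
  obtain ⟨r, hr1, hr2⟩ : ∃ r, p ≠ r ∧ q ≠ r := by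
    have h : ({p, q} : Finset (Fin n)).card < (Finset.univ : Finset (Fin n)).card := by
      rw [Finset.card_univ, Fintype.card_fin]
      exact lt_of_le_of_lt Finset.card_le_two (by have := D.hn; omega)
    obtain ⟨r, -, hr⟩ := Finset.exists_mem_notMem_of_card_lt_card h
    simp only [Finset.mem_insert, Finset.mem_singleton, not_or] at hr
    exact ⟨r, Ne.symm hr.1, Ne.symm hr.2⟩
  obtain ⟨g, e0, e1, -⟩ := transport3 D hm0 hm1 hpq hr1 hr2
  obtain ⟨m1, k1, k2, k3⟩ := exists_mid D m0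
  rw [← e0, ← e1, ← mulVec_smul, ← O_conj D hm0 hm1, ← H40.OmModel.aM_congr, ← H40.OmModel.lev_radU,
    map_mul, map_mul, map_inv, ← MonoidHom.comp_apply, hψ]
  congr 2
  -- scalars through a diagonal element
  set d := blk m0 m1 k3.symm (H40.CRW.hS (Units.mk0 v hv))
  have bm := fun x => blk_mulVec (F := F) k3.symm (H40.CRW.hS (Units.mk0 v hv)) x
  have ed1 : d.1 *ᵥ δ m0 = v • δ m0 := by
    funext i
    obtain ⟨x1, x2, x3⟩ := bm (δ m0)
    by_cases hi : i = m0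
    · subst hi; rw [x1, H40.CRW.coe_hS]; simp
    by_cases hi' : i = m1
    · subst hi'; rw [x2, H40.CRW.coe_hS]; simp [k3]
    rw [x3 i hi hi']; simp [hi]
  have ed2 : d.1 *ᵥ δ t0 = δ t0 := by
    funext i
    obtain ⟨x1, x2, x3⟩ := bm (δ t0)
    by_cases hi : i = m0
    · subst hi; rw [x1]; simp [hm0, k1]
    by_cases hi' : i = m1
    · subst hi'; rw [x2]; simp [hm0, k1]
    rw [x3 i hi hi']
  rw [← O_smul D hm0 hm1 hv, ← H40.OmModel.aM_smul, ← ed1]
  rw [show (δ t0 : Fin n → F) = d.1 *ᵥ δ t0 from ed2.symm]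
  rw [← O_conj D hm0 hm1, ← H40.OmModel.aM_congr, ← H40.OmModel.lev_radU, map_mul, map_mul, map_inv,
    ← MonoidHom.comp_apply, hψ]
  congr 2
  rw [show O ψ c m0 t0 (δ m0) (δ t0) = bb ψ c m0 t0 1 by
    rw [← O_base D hm0 hm1, one_smul]]
  exact hb

theorem pi_W (π : G →* H43.orthGroup (H43.qPlus n F)) (hψ : π.comp ψ = H40.OmModel.lev)
    (hb' : π (bb ψ c t0 m0 (-1)) = H40.OmModel.radW (.ofAdd (aM (δ m0) (δ t0)))) :
    π.comp (W D hm0 hm1) = H40.OmModel.radW := by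
  have h := pi_U D.dual hm0 hm1 (H40.OmModel.sw.comp π) (MonoidHom.ext fun g => by
    show H40.OmModel.sw (π (ψ (thT g))) = _
    rw [← MonoidHom.comp_apply π ψ, hψ, H40.OmModel.sw_lev, H40.OmModel.thT_thT]) (by
    simp only [MonoidHom.comp_apply, bb, thT_tv hm0]
    rw [show c * ψ (tv t0 m0 (-1)) * c⁻¹ = bb ψ c t0 m0 (-1) from rfl, hb', H40.OmModel.sw_radW])
  refine MonoidHom.ext fun S => ?_
  have := congrArg H40.OmModel.sw (DFunLike.congr_fun h S)
  simpa [W, H40.OmModel.sw_sw, H40.OmModel.sw_radU] using this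

end H40.OmOrbit
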