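import Cfsg.Agent.H40.CRWData
import Cfsg.Agent.H40.GL2Count
import Cfsg.Agent.H37.Generation
import Cfsg.Agent.H37.Card

/-!
Short presentations of `SL₂(q)` and `PSL₂(q)`.
-/

set_option autoImplicit false
set_option linter.style.haveILetI false
set_option linter.unusedSectionVars false

namespace H40.CRW

open Polynomial

/-! ### The covering by two double cosets -/

section Cover

variable {G : Type*} [Group G] {F : Type*} [Field F] [Fintype F]

/-- `G = B ∪ U t B` bounds the order. -/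
theorem finite_card_le_of_cover (x : Multiplicative F →* G) (h t : G) (ω : Fˣ) (n : ℕ) [NeZero n]
    (hn : h ^ n = 1) (hconj : ∀ z : F, h * x (.ofAdd z) * h⁻¹ = x (.ofAdd ((ω : F) * z)))
    (hth : t * h * t⁻¹ = h⁻¹) (m : ℕ) (ht2 : t * t = h ^ m)
    (hR : ∀ z : F, z ≠ 0 → ∃ r s : F, ∃ k : ℤ,
      t * x (.ofAdd z) * t⁻¹ = x (.ofAdd r) * t * h ^ k * x (.ofAdd s))
    (hgen : Subgroup.closure {x (.ofAdd 1), h, t} = ⊤) :
    Finite G ∧ Nat.card G ≤ n * (Fintype.card F * (Fintype.card F + 1)) := by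
  classical
  have hk : ∀ (k : ℤ) (z : F), h ^ k * x (.ofAdd z) = x (.ofAdd (((ω ^ k : Fˣ) : F) * z)) * h ^ k := by
    have h1 : ∀ z : F, h⁻¹ * x (.ofAdd z) * h = x (.ofAdd (((ω⁻¹ : Fˣ) : F) * z)) := fun z => by
      have := hconj (((ω⁻¹ : Fˣ) : F) * z)
      rw [Units.mul_inv_cancel_left] at this
      rw [← this]; group
    intro k
    induction k using Int.induction_on with
    | zero => intro z; simp
    | succ k ih =>
      intro z
      rw [zpow_add_one, mul_assoc, show h * x (.ofAdd z) = x (.ofAdd ((ω : F) * z)) * h by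
        rw [← hconj]; group, ← mul_assoc, ih, mul_assoc, zpow_add_one, Units.val_mul,
        mul_assoc ((ω ^ (k : ℤ) : Fˣ) : F)]
    | pred k ih =>
      intro z
      rw [zpow_sub_one, mul_assoc, show h⁻¹ * x (.ofAdd z) =
        x (.ofAdd (((ω⁻¹ : Fˣ) : F) * z)) * h⁻¹ by rw [← h1]; group, ← mul_assoc, ih, mul_assoc,
        zpow_sub_one, Units.val_mul, mul_assoc ((ω ^ (-(k : ℤ)) : Fˣ) : F)]
  have hkt : ∀ k : ℤ, t * h ^ k = h ^ (-k) * t := by
    intro k
    have := map_zpow (MulAut.conj t).toMonoidHom h k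
    simp only [MulEquiv.coe_toMonoidHom, MulAut.conj_apply, hth, inv_zpow, ← zpow_neg] at this
    rw [← this]; group
  set Φ : Option F × F × Fin n → G := fun c =>
    (c.1.elim 1 fun w => x (.ofAdd w) * t) * (x (.ofAdd c.2.1) * h ^ (c.2.2 : ℤ)) with hΦ
  have hred : ∀ k : ℤ, ∃ i : Fin n, h ^ k = h ^ (i : ℤ) := by
    intro k
    have hn' : 0 < (n : ℤ) := by exact_mod_cast Nat.pos_of_neZero n
    refine ⟨⟨(k % n).toNat, by have := Int.emod_lt_of_pos k hn'; omega⟩, ?_⟩
    show h ^ k = h ^ ((k % n).toNat : ℤ)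
    rw [Int.toNat_of_nonneg (Int.emod_nonneg k hn'.ne')]
    conv_lhs => rw [← Int.emod_add_mul_ediv k n, zpow_add, zpow_mul, zpow_natCast, hn, one_zpow,
      mul_one]
  have memS : ∀ (z : F) (k : ℤ), x (.ofAdd z) * h ^ k ∈ Set.range Φ := by
    intro z k
    obtain ⟨i, hi⟩ := hred k
    exact ⟨(none, z, i), by rw [hi]; simp [hΦ]⟩
  have memL : ∀ (w z : F) (k : ℤ),
      x (.ofAdd w) * t * (x (.ofAdd z) * h ^ k) ∈ Set.range Φ := by
    intro w z k
    obtain ⟨i, hi⟩ := hred k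
    exact ⟨(some w, z, i), by rw [hi]; simp [hΦ]⟩
  have mulu : ∀ g ∈ Set.range Φ, x (.ofAdd 1) * g ∈ Set.range Φ := by
    rintro _ ⟨⟨_ | w, z, i⟩, rfl⟩
    · simp only [hΦ, Option.elim, one_mul]
      rw [← mul_assoc, ← map_mul, ← ofAdd_add]
      exact memS _ _
    · simp only [hΦ, Option.elim]
      rw [← mul_assoc, ← mul_assoc (x _) (x _) t, ← map_mul, ← ofAdd_add]
      exact memL _ _ _
  have mulh : ∀ g ∈ Set.range Φ, h * g ∈ Set.range Φ := by
    rintro _ ⟨⟨_ | w, z, i⟩, rfl⟩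
    · simp only [hΦ, Option.elim, one_mul]
      have := hk 1 z
      rw [zpow_one] at this
      rw [← mul_assoc, this, mul_assoc, ← zpow_one_add]
      exact memS _ _
    · simp only [hΦ, Option.elim]
      have e : h * (x (.ofAdd w) * t * (x (.ofAdd z) * h ^ (i : ℤ))) =
          x (.ofAdd (((ω ^ (1 : ℤ) : Fˣ) : F) * w)) * t *
            (x (.ofAdd (((ω ^ (-1 : ℤ) : Fˣ) : F) * z)) * h ^ (-1 + (i : ℤ))) := by
        calc h * (x (.ofAdd w) * t * (x (.ofAdd z) * h ^ (i : ℤ)))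
            = (h ^ (1 : ℤ) * x (.ofAdd w)) * t * x (.ofAdd z) * h ^ (i : ℤ) := by group
          _ = x (.ofAdd (((ω ^ (1 : ℤ) : Fˣ) : F) * w)) * (h ^ (-(-1) : ℤ) * t) * x (.ofAdd z) *
              h ^ (i : ℤ) := by rw [hk]; group
          _ = x (.ofAdd (((ω ^ (1 : ℤ) : Fˣ) : F) * w)) * t *
              (h ^ (-1 : ℤ) * x (.ofAdd z)) * h ^ (i : ℤ) := by rw [← hkt]; group
          _ = _ := by rw [hk]; group
      rw [e]; exact memL _ _ _
  have mult : ∀ g ∈ Set.range Φ, t * g ∈ Set.range Φ := by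
    rintro _ ⟨⟨_ | w, z, i⟩, rfl⟩
    · simp only [hΦ, Option.elim, one_mul]
      have := memL 0 z i
      rwa [ofAdd_zero, map_one, one_mul] at this
    · simp only [hΦ, Option.elim]
      rcases eq_or_ne w 0 with rfl | hw
      · have := memS (((ω ^ (m : ℤ) : Fˣ) : F) * z) ((m : ℤ) + i)
        rw [zpow_add, ← mul_assoc, ← hk] at this
        rw [ofAdd_zero, map_one, one_mul, ← mul_assoc, ht2, ← zpow_natCast, ← mul_assoc]
        exact this
      · obtain ⟨r, s, j, hj⟩ := hR w hw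
        have e : t * (x (.ofAdd w) * t * (x (.ofAdd z) * h ^ (i : ℤ))) =
            x (.ofAdd r) * t * (x (.ofAdd (((ω ^ j : Fˣ) : F) *
              (s + ((ω ^ (m : ℤ) : Fˣ) : F) * z))) * h ^ (j + (m + (i : ℤ)))) := by
          calc t * (x (.ofAdd w) * t * (x (.ofAdd z) * h ^ (i : ℤ)))
              = (t * x (.ofAdd w) * t⁻¹) * (t * t) * x (.ofAdd z) * h ^ (i : ℤ) := by group
            _ = x (.ofAdd r) * t * h ^ j * x (.ofAdd s) * h ^ (m : ℤ) * x (.ofAdd z) *
                h ^ (i : ℤ) := by rw [hj, ht2, ← zpow_natCast]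
            _ = x (.ofAdd r) * t * h ^ j * (x (.ofAdd s) * (h ^ (m : ℤ) * x (.ofAdd z))) *
                h ^ (i : ℤ) := by group
            _ = x (.ofAdd r) * t * (h ^ j * x (.ofAdd (s + ((ω ^ (m : ℤ) : Fˣ) : F) * z))) *
                h ^ ((m : ℤ) + i) := by
              rw [hk (m : ℤ), ← mul_assoc (x (.ofAdd s)), ← map_mul, ← ofAdd_add, zpow_add]; group
            _ = _ := by rw [hk]; simp only [zpow_add, mul_assoc]
        rw [e]; exact memL _ _ _
  have hinv : ∀ g : G, (∀ y ∈ Set.range Φ, g * y ∈ Set.range Φ) →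
      ∀ y ∈ Set.range Φ, g⁻¹ * y ∈ Set.range Φ := by
    intro g hg y hy
    let f : Set.range Φ → Set.range Φ := fun y => ⟨g * y, hg y y.2⟩
    have hf : Function.Injective f := fun a b e =>
      Subtype.ext (mul_left_cancel (congrArg Subtype.val e))
    obtain ⟨a, ha⟩ := Finite.injective_iff_surjective.1 hf ⟨y, hy⟩
    have ha' : g * a = y := congrArg Subtype.val ha
    rw [← ha', inv_mul_cancel_left]
    exact a.2
  have hgens : ∀ g ∈ ({x (.ofAdd 1), h, t} : Set G), ∀ y ∈ Set.range Φ, g * y ∈ Set.range Φ := by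
    rintro g (rfl | rfl | rfl)
    · exact mulu
    · exact mulh
    · exact mult
  have hsurj : Function.Surjective Φ := by
    intro g
    have hg : g ∈ Subgroup.closure {x (.ofAdd 1), h, t} := hgen ▸ Subgroup.mem_top g
    induction hg using Subgroup.closure_induction_left with
    | one =>
      have := memS 0 0
      rwa [ofAdd_zero, map_one, zpow_zero, one_mul] at this
    | mul_left a ha y _ ih => exact hgens a ha y ih
    | inv_mul_cancel a ha y _ ih => exact hinv a (hgens a ha) y ih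
  refine ⟨Finite.of_surjective _ hsurj, (Nat.card_le_card_of_surjective _ hsurj).trans (le_of_eq ?_)⟩
  rw [Nat.card_prod, Nat.card_prod, Nat.card_fin, Finite.card_option, Nat.card_eq_fintype_card]
  ring

/-- Moving a relation along the orbits of the torus. -/
theorem hR_orbit (x : Multiplicative F →* G) (h t : G) (ω : Fˣ)
    (hconj : ∀ z : F, h * x (.ofAdd z) * h⁻¹ = x (.ofAdd ((ω : F) * z)))
    (hth : t * h * t⁻¹ = h⁻¹) {z₀ r s : F} {j : ℕ}
    (h0 : t * x (.ofAdd z₀) * t⁻¹ = x (.ofAdd r) * t * h ^ j * x (.ofAdd s)) (k : ℕ) :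
    ∃ r' s' : F, ∃ i : ℤ, t * x (.ofAdd ((ω : F) ^ k * z₀)) * t⁻¹ =
      x (.ofAdd r') * t * h ^ i * x (.ofAdd s') := by
  have hω : (ω : F) ≠ 0 := ω.ne_zero
  have hkt : t * h ^ k * t⁻¹ = (h ^ k)⁻¹ := by
    have := map_pow (MulAut.conj t).toMonoidHom h k
    simpa [hth] using this
  refine ⟨((ω : F) ^ k)⁻¹ * r, ((ω : F) ^ k)⁻¹ * s, k + (j + k), ?_⟩
  rw [← x_conj_pow hconj, ← x_conj_pow_neg hω hconj, ← x_conj_pow_neg hω hconj, zpow_add, zpow_add,
    zpow_natCast, zpow_natCast]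
  calc t * (h ^ k * x (.ofAdd z₀) * (h ^ k)⁻¹) * t⁻¹
      = (t * h ^ k * t⁻¹) * (t * x (.ofAdd z₀) * t⁻¹) * (t * h ^ k * t⁻¹)⁻¹ := by group
    _ = (h ^ k)⁻¹ * x (.ofAdd r) * t * h ^ j * x (.ofAdd s) * h ^ k := by rw [hkt, h0]; group
    _ = (h ^ k)⁻¹ * x (.ofAdd r) * h ^ k * ((h ^ k)⁻¹ * t) * h ^ j * x (.ofAdd s) * h ^ k := by
      group
    _ = (h ^ k)⁻¹ * x (.ofAdd r) * h ^ k * (t * h ^ k) * h ^ j * x (.ofAdd s) * h ^ k := by
      rw [← hkt]; group
    _ = _ := by group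

end Cover

/-! ### Recognising the target -/

/-- A presented group covering a finite group of at least its order. -/
theorem nonempty_iso {Q : Type*} [Group Q] [Finite Q] (rels : Finset (FreeGroup (Fin 3)))
    (f : FreeGroup (Fin 3) →* Q) (hf : Function.Surjective f) (hrel : ∀ r ∈ rels, f r = 1)
    (hG : Finite (PresentedGroup (↑rels : Set (FreeGroup (Fin 3)))) ∧
      Nat.card (PresentedGroup (↑rels : Set (FreeGroup (Fin 3)))) ≤ Nat.card Q) :
    Nonempty (PresentedGroup (↑rels : Set (FreeGroup (Fin 3))) ≃* Q) := by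
  haveI := hG.1
  have e : FreeGroup.lift (fun i => f (FreeGroup.of i)) = f := FreeGroup.ext_hom _ _ (by simp)
  let φ : PresentedGroup (↑rels : Set (FreeGroup (Fin 3))) →* Q :=
    PresentedGroup.toGroup (f := fun i => f (FreeGroup.of i)) fun r hr => by rw [e]; exact hrel r hr
  have hφ : φ.comp (PresentedGroup.mk _) = f := FreeGroup.ext_hom _ _ fun i => by
    show φ (PresentedGroup.of i) = f (FreeGroup.of i)
    exact PresentedGroup.toGroup.of (f := fun i => f (FreeGroup.of i)) _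
  have hsurj : Function.Surjective φ := fun q => by
    obtain ⟨w, rfl⟩ := hf q
    exact ⟨PresentedGroup.mk _ w, DFunLike.congr_fun hφ w⟩
  exact ⟨MulEquiv.ofBijective φ ((Nat.bijective_iff_surjective_and_card φ).2
    ⟨hsurj, le_antisymm hG.2 (Nat.card_le_card_of_surjective _ hsurj)⟩)⟩

/-- The three generators generate the free group. -/
theorem closure_gens {G : Type*} [Group G] (f : FreeGroup (Fin 3) →* G)
    (hf : Function.Surjective f) : Subgroup.closure {f uW, f hW, f tW} = ⊤ := by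
  rw [Subgroup.eq_top_iff']
  intro g
  obtain ⟨w, rfl⟩ := hf g
  induction w using FreeGroup.induction_on with
  | C1 => rw [map_one]; exact one_mem _
  | of i => exact Subgroup.subset_closure (by fin_cases i <;> simp)
  | inv_of i hi => rw [map_inv]; exact inv_mem hi
  | mul a b ha hb => rw [map_mul]; exact mul_mem ha hb

/-! ### The standard generators of `SL₂` -/

section Std

variable {F : Type*} [Field F]

open Matrix

theorem slExt {A B : SpecialLinearGroup (Fin 2) F}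
    (h : (A : Matrix (Fin 2) (Fin 2) F) = (B : Matrix (Fin 2) (Fin 2) F)) : A = B := Subtype.ext h

theorem cm (A B : SpecialLinearGroup (Fin 2) F) :
    ((A * B : SpecialLinearGroup (Fin 2) F) : Matrix (Fin 2) (Fin 2) F) =
      (A : Matrix (Fin 2) (Fin 2) F) * (B : Matrix (Fin 2) (Fin 2) F) := rfl

/-- Upper root subgroup. -/
def xS : Multiplicative F →* SpecialLinearGroup (Fin 2) F where
  toFun z := ⟨!![1, z.toAdd; 0, 1], by simp [det_fin_two]⟩
  map_one' := by
    refine slExt ?_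
    show !![(1 : F), 0; 0, 1] = 1
    rw [one_fin_two]
  map_mul' y z := by
    refine slExt ?_
    show !![(1 : F), y.toAdd + z.toAdd; 0, 1] = !![1, y.toAdd; 0, 1] * !![1, z.toAdd; 0, 1]
    simp [add_comm]

/-- The torus. -/
def hS (ζ : Fˣ) : SpecialLinearGroup (Fin 2) F :=
  ⟨!![(ζ : F), 0; 0, (ζ : F)⁻¹], by simp [det_fin_two]⟩

/-- The Weyl element. -/
def tS : SpecialLinearGroup (Fin 2) F := ⟨!![0, 1; -1, 0], by simp [det_fin_two]⟩

theorem coe_xS (z : F) : ((xS (.ofAdd z) : SpecialLinearGroup (Fin 2) F) : Matrix (Fin 2) (Fin 2) F) =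
    !![1, z; 0, 1] := rfl

theorem coe_hS (ζ : Fˣ) : ((hS ζ : SpecialLinearGroup (Fin 2) F) : Matrix (Fin 2) (Fin 2) F) =
    !![(ζ : F), 0; 0, (ζ : F)⁻¹] := rfl

theorem coe_tS : ((tS : SpecialLinearGroup (Fin 2) F) : Matrix (Fin 2) (Fin 2) F) =
    !![0, 1; -1, 0] := rfl

theorem hS_xS (ζ : Fˣ) (z : F) :
    hS ζ * xS (.ofAdd z) * (hS ζ)⁻¹ = xS (.ofAdd ((ζ : F) ^ 2 * z)) := by
  rw [mul_inv_eq_iff_eq_mul]
  refine slExt ?_
  simp only [cm, coe_xS, coe_hS, mul_fin_two]
  have := ζ.ne_zero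
  ext i j; fin_cases i <;> fin_cases j <;> simp <;> field_simp

theorem tS_hS (ζ : Fˣ) : tS * hS ζ * tS⁻¹ = (hS ζ)⁻¹ := by
  rw [mul_inv_eq_iff_eq_mul, eq_inv_mul_iff_mul_eq]
  refine slExt ?_
  simp only [cm]
  rw [coe_tS, coe_hS]
  have := ζ.ne_zero
  ext i j; fin_cases i <;> fin_cases j <;> simp [this]

theorem coe_hS_pow (ζ : Fˣ) (k : ℕ) :
    ((hS ζ ^ k : SpecialLinearGroup (Fin 2) F) : Matrix (Fin 2) (Fin 2) F) =
      !![(ζ : F) ^ k, 0; 0, ((ζ : F) ^ k)⁻¹] := by
  induction k with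
  | zero => simp [one_fin_two]
  | succ k ih =>
    rw [pow_succ, cm, ih, coe_hS, mul_fin_two, pow_succ, mul_inv]
    simp

theorem tS_tS (ζ : Fˣ) {m : ℕ} (hm : (ζ : F) ^ m = -1) : tS * tS = hS ζ ^ m := by
  refine slExt ?_
  rw [cm, coe_hS_pow, coe_tS, hm, mul_fin_two]
  simp

theorem closure_std (ζ : Fˣ) {p : ℕ} [Fact p.Prime] [Algebra (ZMod p) F]
    (hsurj : ∀ z : F, ∃ P : (ZMod p)[X], aeval ((ζ : F) ^ 2) P = z) :
    Subgroup.closure {xS (.ofAdd (1 : F)), hS ζ, tS} = ⊤ := by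
  set H := Subgroup.closure {xS (.ofAdd (1 : F)), hS ζ, tS}
  have hx : ∀ z : F, xS (.ofAdd z) ∈ H := by
    intro z
    obtain ⟨P, rfl⟩ := hsurj z
    rw [← polyWord_eval (hS_xS ζ) P]
    refine wordN_mem (fun k => ?_) _ _
    exact mul_mem (mul_mem (pow_mem (Subgroup.subset_closure (by simp)) k)
      (Subgroup.subset_closure (by simp))) (inv_mem (pow_mem (Subgroup.subset_closure (by simp)) k))
  have ht : tS ∈ H := Subgroup.subset_closure (by simp)
  rw [eq_top_iff]
  intro g _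
  refine H37.SL_transvection_induction (fun g => g ∈ H) (one_mem _) ?_
    (fun A B hA hB => mul_mem hA hB) g
  intro i j hij c
  fin_cases i <;> fin_cases j <;> (try exact absurd rfl hij)
  · convert hx c using 1
    refine slExt ?_
    rw [SpecialLinearGroup.transvection_coe, coe_xS]
    ext a b; fin_cases a <;> fin_cases b <;> simp
  · have e : tS * xS (.ofAdd (-c)) * tS⁻¹ = SpecialLinearGroup.transvection hij c := by
      rw [mul_inv_eq_iff_eq_mul]
      refine slExt ?_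
      simp only [cm, SpecialLinearGroup.transvection_coe, coe_tS, coe_xS]
      ext a b; fin_cases a <;> fin_cases b <;> simp [mul_apply, Fin.sum_univ_two]
    exact e ▸ mul_mem (mul_mem ht (hx _)) (inv_mem ht)

/-- The standard evaluation. -/
def stdHom (ζ : Fˣ) : FreeGroup (Fin 3) →* SpecialLinearGroup (Fin 2) F :=
  FreeGroup.lift ![xS (.ofAdd 1), hS ζ, tS]

@[simp] theorem stdHom_uW (ζ : Fˣ) : stdHom ζ uW = xS (.ofAdd 1) := by simp [stdHom]

@[simp] theorem stdHom_hW (ζ : Fˣ) : stdHom ζ hW = hS ζ := by simp [stdHom]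

@[simp] theorem stdHom_tW (ζ : Fˣ) : stdHom ζ tW = tS := by simp [stdHom]

theorem stdHom_surjective (ζ : Fˣ) {p : ℕ} [Fact p.Prime] [Algebra (ZMod p) F]
    (hsurj : ∀ z : F, ∃ P : (ZMod p)[X], aeval ((ζ : F) ^ 2) P = z) :
    Function.Surjective (stdHom (F := F) ζ) := by
  rw [← MonoidHom.range_eq_top, eq_top_iff, ← closure_std ζ hsurj, Subgroup.closure_le]
  rintro g (rfl | rfl | rfl)
  · exact ⟨uW, stdHom_uW ζ⟩
  · exact ⟨hW, stdHom_hW ζ⟩
  · exact ⟨tW, stdHom_tW ζ⟩

end Std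

/-! ### The presentations -/

section Main

variable {F : Type*} [Field F] [Fintype F]

open Matrix

variable {p : ℕ} [Fact p.Prime] [CharP F p] [Algebra (ZMod p) F]

/-- Odd characteristic: the relators shared by `SL₂` and `PSL₂`. -/
theorem odd_common {ζ : Fˣ} (hζ : ∀ y : Fˣ, y ∈ Subgroup.zpowers ζ) :
    (∀ z : F, ∃ P : (ZMod p)[X], aeval ((ζ : F) ^ 2) P = z) ∧
    ∃ S : Finset (FreeGroup (Fin 3)), S.card ≤ 7 ∧ (∀ r ∈ S, stdHom ζ r = 1) ∧
      ∀ {G : Type} [Group G] (f : FreeGroup (Fin 3) →* G), Function.Surjective f →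
        (∀ r ∈ S, f r = 1) → f tW * f hW * (f tW)⁻¹ = (f hW)⁻¹ ∧
          ∀ (n : ℕ) [NeZero n] (m : ℕ), f hW ^ n = 1 → f tW * f tW = f hW ^ m →
            Finite G ∧ Nat.card G ≤ n * (Fintype.card F * (Fintype.card F + 1)) := by
  classical
  obtain ⟨f₀, -, hcard⟩ := FiniteField.card F p
  obtain ⟨hsurj, L, hL, -, hsound, hcomp⟩ := exists_data.{_, _} (p := p) hcard ζ hζ
  refine ⟨hsurj, ?_⟩
  obtain ⟨Pa, hPa⟩ := hsurj (ζ : F)
  obtain ⟨Pb, hPb⟩ := hsurj (-(ζ : F)⁻¹)
  set R : Finset (FreeGroup (Fin 3)) := {tW * hW * tW⁻¹ * hW,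
    tW * uW * tW⁻¹ * (uW⁻¹ * tW * uW⁻¹)⁻¹,
    tW * pW Pa * tW⁻¹ * (pW Pb * tW * hW * pW Pb)⁻¹} with hR
  refine ⟨L ∪ R, (Finset.card_union_le _ _).trans ?_, ?_, ?_⟩
  · have : R.card ≤ 3 := Finset.card_le_three
    omega
  · intro r hr
    rcases Finset.mem_union.1 hr with hr | hr
    · exact hsound (stdHom ζ) xS (by rw [stdHom_uW]) (fun z => by rw [stdHom_hW]; exact hS_xS ζ z)
        r hr
    · have hz := ζ.ne_zero
      simp only [hR, Finset.mem_insert, Finset.mem_singleton] at hr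
      rcases hr with rfl | rfl | rfl
      · simp only [map_mul, map_inv, stdHom_tW, stdHom_hW, tS_hS, inv_mul_cancel]
      · simp only [map_mul, map_inv, stdHom_tW, stdHom_uW]
        rw [mul_inv_eq_one, mul_inv_eq_iff_eq_mul, ← map_inv (xS (F := F)), ← ofAdd_neg]
        refine slExt ?_
        simp only [cm, coe_xS, coe_tS, mul_fin_two]
        ext i j; fin_cases i <;> fin_cases j <;> simp
      · simp only [map_mul, map_inv, pW, map_polyWord, stdHom_tW, stdHom_hW, stdHom_uW]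
        rw [polyWord_eval (hS_xS ζ), polyWord_eval (hS_xS ζ), hPa, hPb, mul_inv_eq_one,
          mul_inv_eq_iff_eq_mul]
        refine slExt ?_
        simp only [cm, coe_xS, coe_tS, coe_hS, mul_fin_two]
        ext i j; fin_cases i <;> fin_cases j <;> simp [hz]
  intro G _ f hf hrel
  obtain ⟨x, hx1, hxh⟩ := hcomp f fun r hr => hrel r (Finset.mem_union_left _ hr)
  have hR' : ∀ r ∈ R, f r = 1 := fun r hr => hrel r (Finset.mem_union_right _ hr)
  simp only [hR, Finset.mem_insert, Finset.mem_singleton, forall_eq_or_imp, forall_eq,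
    map_mul, map_inv, pW, map_polyWord] at hR'
  obtain ⟨hth, hr1, hr2⟩ := hR'
  rw [mul_eq_one_iff_eq_inv] at hth
  rw [mul_inv_eq_one] at hr1 hr2
  rw [← hx1, polyWord_eval hxh, polyWord_eval hxh, hPa, hPb] at hr2
  rw [← hx1, ← map_inv x, ← ofAdd_neg] at hr1
  set ω : Fˣ := ζ ^ 2 with hω
  have hωv : (ω : F) = (ζ : F) ^ 2 := by rw [hω, Units.val_pow_eq_pow_val]
  have hconj : ∀ z : F, f hW * x (.ofAdd z) * (f hW)⁻¹ = x (.ofAdd ((ω : F) * z)) := by
    intro z; rw [hωv]; exact hxh z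
  refine ⟨hth, fun n _ m hn ht2 => ?_⟩
  refine finite_card_le_of_cover x (f hW) (f tW) ω n hn hconj hth m ht2 (fun z hz => ?_)
    (by rw [hx1]; exact closure_gens f hf)
  obtain ⟨k, hk⟩ := mem_powers_iff_mem_zpowers.2 (hζ (Units.mk0 z hz))
  have hk' : (ζ : F) ^ k = z := by simpa using congrArg Units.val hk
  rcases Nat.even_or_odd' k with ⟨l, rfl | rfl⟩
  · rw [← hk', pow_mul, ← hωv, ← mul_one ((ω : F) ^ l)]
    exact hR_orbit x _ _ ω hconj hth (r := -1) (s := -1) (j := 0)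
      (by rw [hr1, pow_zero, mul_one]) l
  · rw [← hk', pow_succ, pow_mul, ← hωv]
    exact hR_orbit x _ _ ω hconj hth (j := 1) (by rw [pow_one]; exact hr2) l

/-- Odd characteristic, `SL₂`: eight relations. -/
theorem exists_pres_SL_odd (hp : p ≠ 2) : ∃ rels : Finset (FreeGroup (Fin 3)), rels.card ≤ 9 ∧
    Nonempty (PresentedGroup (↑rels : Set (FreeGroup (Fin 3))) ≃* SpecialLinearGroup (Fin 2) F) ∧
    ∃ rels' : Finset (FreeGroup (Fin 3)), rels'.card ≤ 9 ∧
      Nonempty (PresentedGroup (↑rels' : Set (FreeGroup (Fin 3))) ≃*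
        ProjectiveSpecialLinearGroup (Fin 2) F) := by
  classical
  obtain ⟨ζ, hζ⟩ := IsCyclic.exists_generator (α := Fˣ)
  obtain ⟨hsurj, S, hS7, hSstd, hSc⟩ := odd_common (F := F) (p := p) hζ
  have hodd : Odd (Fintype.card F) := by
    obtain ⟨k, hk, hcard⟩ := FiniteField.card F p
    rw [hcard]
    exact ((Fact.out : p.Prime).odd_of_ne_two hp).pow
  obtain ⟨m, hm⟩ := hodd
  have hq : 1 < Fintype.card F := Fintype.one_lt_card
  haveI : NeZero m := ⟨by omega⟩
  haveI : NeZero (2 * m) := ⟨by omega⟩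
  have hord : orderOf ζ = 2 * m := by
    rw [orderOf_eq_card_of_forall_mem_zpowers hζ, Nat.card_eq_fintype_card, Fintype.card_units]
    omega
  have hzm : (ζ : F) ^ m = -1 := by
    have h1 : ((ζ : F) ^ m) ^ 2 = 1 := by
      rw [← pow_mul, mul_comm, ← hord, ← Units.val_pow_eq_pow_val, pow_orderOf_eq_one, Units.val_one]
    rcases sq_eq_one_iff.1 h1 with h | h
    · exfalso
      have := Nat.le_of_dvd (Nat.pos_of_neZero m)
        (orderOf_dvd_iff_pow_eq_one.2 (show ζ ^ m = 1 from Units.ext (by simpa using h)))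
      omega
    · exact h
  have hcard : Nat.card (SpecialLinearGroup (Fin 2) F) =
      2 * m * (Fintype.card F * (Fintype.card F + 1)) := by
    rw [H40.card_SL2, hm, show (2 * m + 1) ^ 2 - 1 = 2 * m * (2 * m + 1 + 1) by
      rw [show (2 * m + 1) ^ 2 = 2 * m * (2 * m + 1 + 1) + 1 by ring, Nat.add_sub_cancel]]
    ring
  refine ⟨S ∪ {tW * tW * (hW ^ m)⁻¹}, ?_, ?_, S ∪ {tW * tW, hW ^ m}, ?_, ?_⟩
  · exact (Finset.card_union_le _ _).trans (by rw [Finset.card_singleton]; omega)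
  · refine nonempty_iso _ (stdHom ζ) (stdHom_surjective ζ hsurj) (fun r hr => ?_) ?_
    · rcases Finset.mem_union.1 hr with hr | hr
      · exact hSstd r hr
      · rw [Finset.mem_singleton] at hr
        subst hr
        simp only [map_mul, map_inv, map_pow, stdHom_tW, stdHom_hW, tS_tS ζ hzm, mul_inv_cancel]
    · set N := (↑(S ∪ {tW * tW * (hW ^ m)⁻¹}) : Set (FreeGroup (Fin 3)))
      set f := PresentedGroup.mk N
      have hrel : ∀ r ∈ S ∪ {tW * tW * (hW ^ m)⁻¹}, f r = 1 := fun r hr =>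
        PresentedGroup.one_of_mem (show r ∈ N from hr)
      have ht := hrel _ (Finset.mem_union_right _ (Finset.mem_singleton_self _))
      rw [map_mul, map_mul, map_inv, map_pow, mul_inv_eq_one] at ht
      have hsr : ∀ r ∈ S, f r = 1 := fun r hr => hrel r (Finset.mem_union_left _ hr)
      obtain ⟨hth, hbound⟩ := hSc f (PresentedGroup.mk_surjective _) hsr
      have h1 : f tW * f hW ^ m * (f tW)⁻¹ = (f hW ^ m)⁻¹ := by
        have := map_pow (MulAut.conj (f tW)).toMonoidHom (f hW) m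
        simpa [hth] using this
      have hn : f hW ^ (2 * m) = 1 := by
        rw [← ht, show f tW * (f tW * f tW) * (f tW)⁻¹ = f tW * f tW by group, ht] at h1
        rw [two_mul, pow_add]
        exact mul_eq_one_iff_eq_inv.2 h1
      have := hbound (2 * m) m hn ht
      rw [hcard]; exact this
  · exact (Finset.card_union_le _ _).trans (by
      have : ({tW * tW, hW ^ m} : Finset (FreeGroup (Fin 3))).card ≤ 2 := Finset.card_le_two
      omega)
  · haveI : Finite (ProjectiveSpecialLinearGroup (Fin 2) F) :=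
      Finite.of_surjective _ (QuotientGroup.mk'_surjective _)
    let π : SpecialLinearGroup (Fin 2) F →* ProjectiveSpecialLinearGroup (Fin 2) F :=
      QuotientGroup.mk' _
    refine nonempty_iso _ (π.comp (stdHom ζ))
      ((QuotientGroup.mk'_surjective _).comp (stdHom_surjective ζ hsurj)) (fun r hr => ?_) ?_
    · rcases Finset.mem_union.1 hr with hr | hr
      · rw [MonoidHom.comp_apply, hSstd r hr, map_one]
      · have hc : π (hS ζ ^ m) = 1 := by
          rw [QuotientGroup.mk'_apply, QuotientGroup.eq_one_iff, Matrix.SpecialLinearGroup.mem_center_iff]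
          refine ⟨-1, by simp, ?_⟩
          rw [coe_hS_pow, hzm, scalar_apply]
          ext i j; fin_cases i <;> fin_cases j <;> simp
        simp only [Finset.mem_insert, Finset.mem_singleton] at hr
        rcases hr with rfl | rfl
        · simp only [MonoidHom.comp_apply, map_mul (stdHom ζ), stdHom_tW, tS_tS ζ hzm, hc]
        · simp only [MonoidHom.comp_apply, map_pow (stdHom ζ), stdHom_hW, hc]
    · set N := (↑(S ∪ {tW * tW, hW ^ m}) : Set (FreeGroup (Fin 3)))
      set f := PresentedGroup.mk N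
      have hrel : ∀ r ∈ S ∪ {tW * tW, hW ^ m}, f r = 1 := fun r hr =>
        PresentedGroup.one_of_mem (show r ∈ N from hr)
      have ht := hrel _ (Finset.mem_union_right _ (Finset.mem_insert_self _ _))
      have hh := hrel _ (Finset.mem_union_right _
        (Finset.mem_insert_of_mem (Finset.mem_singleton_self _)))
      rw [map_mul] at ht
      rw [map_pow] at hh
      have := (hSc f (PresentedGroup.mk_surjective _)
        (fun r hr => hrel r (Finset.mem_union_left _ hr))).2 m 0 hh (by rw [ht, pow_zero])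
      refine ⟨this.1, ?_⟩
      have h2 := H37.card_PSL_mul (F := F) (n := Fin 2)
      rw [Fintype.card_fin, hcard, Nat.card_eq_fintype_card (α := F),
        show Fintype.card F - 1 = 2 * m by omega, Nat.gcd_mul_right_right, mul_assoc] at h2
      have h3 := Nat.eq_of_mul_eq_mul_left two_pos h2
      rw [h3]; exact this.2

/-- In characteristic two the centre of `SL₂` is trivial. -/
theorem center_eq_bot [CharP F 2] :
    Subgroup.center (SpecialLinearGroup (Fin 2) F) = ⊥ := by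
  rw [eq_bot_iff]
  intro g hg
  obtain ⟨c, hc, hg'⟩ := Matrix.SpecialLinearGroup.mem_center_iff.1 hg
  rw [Subgroup.mem_bot]
  refine slExt ?_
  rw [Fintype.card_fin, pow_two] at hc
  have hc1 : c = 1 := by
    rcases mul_self_eq_one_iff.1 hc with h | h
    · exact h
    · rw [h, CharTwo.neg_eq]
  rw [← hg', hc1, map_one, Matrix.SpecialLinearGroup.coe_one]

/-- Characteristic two: five relations. -/
theorem exists_pres_two [CharP F 2] [Algebra (ZMod 2) F] :
    ∃ rels : Finset (FreeGroup (Fin 3)), rels.card ≤ 5 ∧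
      Nonempty (PresentedGroup (↑rels : Set (FreeGroup (Fin 3))) ≃* SpecialLinearGroup (Fin 2) F) := by
  classical
  haveI : Fact (Nat.Prime 2) := ⟨Nat.prime_two⟩
  obtain ⟨ζ, hζ⟩ := IsCyclic.exists_generator (α := Fˣ)
  obtain ⟨f₀, -, hcard⟩ := FiniteField.card F 2
  obtain ⟨hsurj, L, -, hL, hsound, hcomp⟩ := exists_data.{_, _} (p := 2) hcard ζ hζ
  have hord : orderOf ζ = Fintype.card F - 1 := by
    rw [orderOf_eq_card_of_forall_mem_zpowers hζ, Nat.card_eq_fintype_card, Fintype.card_units]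
  obtain ⟨k, hk⟩ : ∃ k, Fintype.card F = 2 * k + 2 := ⟨2 ^ ((f₀ : ℕ) - 1) - 1, by
    rw [hcard]
    conv_lhs => rw [← Nat.sub_add_cancel (show 1 ≤ (f₀ : ℕ) from f₀.pos), pow_succ]
    have := Nat.one_le_two_pow (n := (f₀ : ℕ) - 1)
    omega⟩
  have hz := ζ.ne_zero
  set w : F := (ζ : F) ^ 2 with hw
  have hw0 : w ≠ 0 := pow_ne_zero 2 hz
  have hzk : (ζ : F) ^ (2 * k + 1) = 1 := by
    rw [← Units.val_pow_eq_pow_val, show 2 * k + 1 = orderOf ζ by omega, pow_orderOf_eq_one,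
      Units.val_one]
  have hwk : w ^ k = (ζ : F)⁻¹ := by
    rw [hw, ← pow_mul]
    exact eq_inv_of_mul_eq_one_left (by rw [← pow_succ]; exact hzk)
  set R : Finset (FreeGroup (Fin 3)) := {uW * tW * uW * (uW * tW)⁻¹ * tW⁻¹,
    hW * tW * ((hW ^ k)⁻¹ * uW * hW ^ k * tW * (hW ^ k * uW * (hW ^ k)⁻¹) *
      ((hW ^ k)⁻¹ * uW * hW ^ k * tW)⁻¹)⁻¹} with hR
  refine ⟨L ∪ R, (Finset.card_union_le _ _).trans ?_, nonempty_iso _ (stdHom ζ)
    (stdHom_surjective ζ hsurj) (fun r hr => ?_) ?_⟩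
  · have : R.card ≤ 2 := Finset.card_le_two
    have := hL rfl
    omega
  · rcases Finset.mem_union.1 hr with hr | hr
    · exact hsound (stdHom ζ) xS (by rw [stdHom_uW]) (fun z => by rw [stdHom_hW]; exact hS_xS ζ z)
        r hr
    · simp only [hR, Finset.mem_insert, Finset.mem_singleton] at hr
      rcases hr with rfl | rfl
      · simp only [map_mul, map_inv, stdHom_tW, stdHom_uW]
        rw [mul_inv_eq_one, mul_inv_eq_iff_eq_mul]
        refine slExt ?_
        simp only [cm, coe_xS, coe_tS, mul_fin_two]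
        ext i j; fin_cases i <;> fin_cases j <;> simp [CharTwo.neg_eq, CharTwo.add_self_eq_zero]
      · simp only [map_mul, map_inv, map_pow, stdHom_tW, stdHom_hW, stdHom_uW]
        rw [x_conj_pow (hS_xS ζ), x_conj_pow_neg (ω := w) hw0 (hS_xS ζ), mul_one, mul_one,
          show (w ^ k)⁻¹ = (ζ : F) by rw [hwk, inv_inv], hwk, mul_inv_eq_one, eq_mul_inv_iff_mul_eq]
        refine slExt ?_
        simp only [cm, coe_xS, coe_tS, coe_hS, mul_fin_two]
        ext i j; fin_cases i <;> fin_cases j <;>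
          simp [CharTwo.neg_eq, CharTwo.add_self_eq_zero, hz]
  · set N := (↑(L ∪ R) : Set (FreeGroup (Fin 3)))
    set f := PresentedGroup.mk N
    have hf : Function.Surjective f := PresentedGroup.mk_surjective _
    have hrel : ∀ r ∈ L ∪ R, f r = 1 := fun r hr => PresentedGroup.one_of_mem (show r ∈ N from hr)
    obtain ⟨x, hx1, hxh⟩ := hcomp f fun r hr => hrel r (Finset.mem_union_left _ hr)
    have hR' : ∀ r ∈ R, f r = 1 := fun r hr => hrel r (Finset.mem_union_right _ hr)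
    simp only [hR, Finset.mem_insert, Finset.mem_singleton, forall_eq_or_imp, forall_eq,
      map_mul, map_inv, map_pow] at hR'
    obtain ⟨hr1, hr2⟩ := hR'
    rw [mul_inv_eq_one] at hr1 hr2
    rw [← hx1] at hr1
    rw [← hx1, x_conj_pow hxh, x_conj_pow_neg hw0 hxh, mul_one, mul_one,
      show (w ^ k)⁻¹ = (ζ : F) by rw [hwk, inv_inv], hwk] at hr2
    set h := f hW
    set t := f tW
    have hxi : ∀ z : F, (x (.ofAdd z))⁻¹ = x (.ofAdd z) := fun z => by
      rw [← map_inv, ← ofAdd_neg, CharTwo.neg_eq]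
    have hx2 : ∀ z : F, x (.ofAdd z) * x (.ofAdd z) = 1 := fun z => by
      rw [← pow_two]; exact x_pow_char (p := 2) z
    -- `t` is a conjugate of `u`
    have htt : t * t = 1 := by
      rw [← hr1]
      calc x (.ofAdd 1) * t * x (.ofAdd 1) * (x (.ofAdd 1) * t)⁻¹ *
            (x (.ofAdd 1) * t * x (.ofAdd 1) * (x (.ofAdd 1) * t)⁻¹)
          = x (.ofAdd 1) * t * (x (.ofAdd 1) * x (.ofAdd 1)) * (x (.ofAdd 1) * t)⁻¹ := by group
        _ = 1 := by rw [hx2]; group
    have hti : t⁻¹ = t := inv_eq_of_mul_eq_one_right htt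
    have hutu : t * x (.ofAdd 1) * t⁻¹ = x (.ofAdd 1) * t * x (.ofAdd 1) := by
      have e : x (.ofAdd 1) * t * x (.ofAdd 1) = t * (x (.ofAdd 1) * t) := mul_inv_eq_iff_eq_mul.1 hr1
      rw [hti, mul_assoc, ← e]
    have hht : h * t * (h * t) = 1 := by
      rw [hr2]
      calc x (.ofAdd (ζ : F)) * t * x (.ofAdd (ζ : F)⁻¹) * (x (.ofAdd (ζ : F)) * t)⁻¹ *
            (x (.ofAdd (ζ : F)) * t * x (.ofAdd (ζ : F)⁻¹) * (x (.ofAdd (ζ : F)) * t)⁻¹)
          = x (.ofAdd (ζ : F)) * t * (x (.ofAdd (ζ : F)⁻¹) * x (.ofAdd (ζ : F)⁻¹)) *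
              (x (.ofAdd (ζ : F)) * t)⁻¹ := by group
        _ = 1 := by rw [hx2]; group
    have hth : t * h * t⁻¹ = h⁻¹ := by
      rw [hti]
      refine eq_inv_of_mul_eq_one_left ?_
      calc t * h * t * h = h⁻¹ * (h * t * (h * t)) * h := by group
        _ = 1 := by rw [hht]; group
    have hhn : h ^ (2 * k + 1) = 1 := by
      have hkt : t * h ^ k * t⁻¹ = (h ^ k)⁻¹ := by
        have := map_pow (MulAut.conj t).toMonoidHom h k
        simpa [hth] using this
      -- expand the second relation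
      have e1 : t * x (.ofAdd (ζ : F)⁻¹) * t⁻¹ =
          x (.ofAdd (ζ : F)) * t * (h ^ (2 * k) * x (.ofAdd (ζ : F))) := by
        rw [← hwk, show x (.ofAdd (w ^ k)) = h ^ k * x (.ofAdd 1) * (h ^ k)⁻¹ by
            rw [x_conj_pow hxh, mul_one],
          show x (.ofAdd (ζ : F)) = (h ^ k)⁻¹ * x (.ofAdd 1) * h ^ k by
            rw [x_conj_pow_neg hw0 hxh, mul_one, hwk, inv_inv]]
        calc t * (h ^ k * x (.ofAdd 1) * (h ^ k)⁻¹) * t⁻¹
            = (t * h ^ k * t⁻¹) * (t * x (.ofAdd 1) * t⁻¹) * (t * h ^ k * t⁻¹)⁻¹ := by group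
          _ = (h ^ k)⁻¹ * x (.ofAdd 1) * h ^ k * ((h ^ k)⁻¹ * t) * x (.ofAdd 1) * h ^ k := by
              rw [hkt, hutu]; group
          _ = (h ^ k)⁻¹ * x (.ofAdd 1) * h ^ k * (t * h ^ k) * x (.ofAdd 1) * h ^ k := by
              rw [← hkt]; group
          _ = _ := by rw [two_mul, pow_add]; group
      have e2 : h ^ (2 * k) * x (.ofAdd (ζ : F)) * (h ^ (2 * k))⁻¹ = x (.ofAdd (ζ : F)⁻¹) := by
        rw [x_conj_pow hxh, hw, ← pow_mul, ← hwk, hw, ← pow_mul]
        congr 2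
        calc (ζ : F) ^ (2 * (2 * k)) * ζ = ζ ^ (2 * k) * ζ ^ (2 * k + 1) := by ring
          _ = _ := by rw [hzk, mul_one]
      have hkt2 : t * h ^ (2 * k) * t⁻¹ = (h ^ (2 * k))⁻¹ := by
        have := map_pow (MulAut.conj t).toMonoidHom h (2 * k)
        simpa [hth] using this
      have key : h * t = (h ^ (2 * k))⁻¹ * t := by
        rw [hr2, _root_.mul_inv_rev, hxi, hti]
        calc x (.ofAdd (ζ : F)) * t * x (.ofAdd (ζ : F)⁻¹) * (t * x (.ofAdd (ζ : F)))
            = x (.ofAdd (ζ : F)) * (t * x (.ofAdd (ζ : F)⁻¹) * t) * x (.ofAdd (ζ : F)) := by group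
          _ = x (.ofAdd (ζ : F)) * (t * x (.ofAdd (ζ : F)⁻¹) * t⁻¹) * x (.ofAdd (ζ : F)) := by
              rw [hti]
          _ = (x (.ofAdd (ζ : F)) * x (.ofAdd (ζ : F))) * t *
              ((h ^ (2 * k) * x (.ofAdd (ζ : F)) * (h ^ (2 * k))⁻¹) * h ^ (2 * k) *
                x (.ofAdd (ζ : F))) := by rw [e1]; group
          _ = t * ((h ^ (2 * k) * x (.ofAdd (ζ : F)) * (h ^ (2 * k))⁻¹) *
              (h ^ (2 * k) * x (.ofAdd (ζ : F)) * (h ^ (2 * k))⁻¹)) * h ^ (2 * k) := by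
              rw [hx2]; group
          _ = t * h ^ (2 * k) * t⁻¹ * t := by rw [e2, hx2]; group
          _ = _ := by rw [hkt2]
      calc h ^ (2 * k + 1) = h ^ (2 * k) * h := pow_succ _ _
        _ = h ^ (2 * k) * (h ^ (2 * k))⁻¹ := congrArg _ (mul_right_cancel key)
        _ = 1 := mul_inv_cancel _
    haveI : NeZero (2 * k + 1) := ⟨by omega⟩
    set ω : Fˣ := ζ ^ 2 with hω
    have hωv : (ω : F) = w := by rw [hω, Units.val_pow_eq_pow_val]
    have hconj : ∀ z : F, h * x (.ofAdd z) * h⁻¹ = x (.ofAdd ((ω : F) * z)) := fun z => by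
      rw [hωv]; exact hxh z
    have hc : Nat.card (SpecialLinearGroup (Fin 2) F) =
        (2 * k + 1) * (Fintype.card F * (Fintype.card F + 1)) := by
      rw [H40.card_SL2, hk, show (2 * k + 2) ^ 2 - 1 = (2 * k + 1) * (2 * k + 2 + 1) by
        rw [show (2 * k + 2) ^ 2 = (2 * k + 1) * (2 * k + 2 + 1) + 1 by ring, Nat.add_sub_cancel]]
      ring
    rw [hc]
    refine finite_card_le_of_cover x h t ω (2 * k + 1) hhn hconj hth 0 (by rw [htt, pow_zero])
      (fun z hz0 => ?_) (by rw [hx1]; exact closure_gens f hf)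
    obtain ⟨y, hy⟩ := Finite.injective_iff_surjective.1 (frobenius_inj F 2) z
    have hy' : y ^ 2 = z := hy
    have hy0 : y ≠ 0 := fun h0 => hz0 (by rw [← hy', h0, zero_pow two_ne_zero])
    obtain ⟨j, -, hj⟩ := exists_pow_eq_sq hζ hy0
    rw [← hy', ← hj, ← hw, ← hωv, ← mul_one ((ω : F) ^ j)]
    exact hR_orbit x h t ω hconj hth (r := 1) (s := 1) (j := 0)
      (by rw [hutu, pow_zero, mul_one]) j

end Main

end H40.CRW
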