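import Cfsg.Agent.H40.PresBlock
import Cfsg.Agent.H40.PresStep
import Cfsg.Agent.H40.SL2Short
import Cfsg.Agent.S2278
import Cfsg.Agent.S2279
import Cfsg.Agent.S2286

/-!
`PSL_n(q)` on two generators with boundedly many relations.
-/

set_option autoImplicit false
set_option linter.unusedSectionVars false
set_option linter.style.haveILetI false

namespace H40.PSLPres

open Matrix

variable {F : Type*} [Field F] [Fintype F]

theorem eq_top_of_root {H : Subgroup (SpecialLinearGroup (Fin 2) F)}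
    (hx : ∀ z : F, H40.CRW.xS (.ofAdd z) ∈ H) (ht : H40.CRW.tS ∈ H) : H = ⊤ := by
  refine H37.eq_top_of_transvection_mem _ fun i j hij c => ?_
  fin_cases i <;> fin_cases j <;> (try exact absurd rfl hij)
  · convert hx c using 1
    refine H40.CRW.slExt ?_
    rw [SpecialLinearGroup.transvection_coe, H40.CRW.coe_xS]
    ext a b; fin_cases a <;> fin_cases b <;> simp
  · have e : H40.CRW.tS * H40.CRW.xS (.ofAdd (-c)) * H40.CRW.tS⁻¹ =
        SpecialLinearGroup.transvection hij c := by
      rw [mul_inv_eq_iff_eq_mul]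
      refine H40.CRW.slExt ?_
      simp only [H40.CRW.cm, SpecialLinearGroup.transvection_coe, H40.CRW.coe_tS, H40.CRW.coe_xS]
      ext a b; fin_cases a <;> fin_cases b <;> simp [mul_apply, Fin.sum_univ_two]
    exact e ▸ mul_mem (mul_mem ht (hx _)) (inv_mem ht)

/-- A subgroup with a torus generator and one nontrivial root element has the whole root group. -/
theorem root_all {H : Subgroup (SpecialLinearGroup (Fin 2) F)} {ζ : Fˣ}
    (hgen : ∀ y : Fˣ, y ∈ Subgroup.zpowers ζ) (hh : H40.CRW.hS ζ ∈ H) {c : F} (hc : c ≠ 0)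
    (hx : H40.CRW.xS (.ofAdd c) ∈ H) (z : F) : H40.CRW.xS (.ofAdd z) ∈ H := by
  let A : AddSubgroup F :=
    { carrier := {a | H40.CRW.xS (.ofAdd (a * c)) ∈ H}
      zero_mem' := by simp
      add_mem' := fun {a b} ha hb => by
        simp only [Set.mem_ofPred_eq, add_mul, ofAdd_add, map_mul] at *
        exact mul_mem ha hb
      neg_mem' := fun {a} ha => by
        simp only [Set.mem_ofPred_eq, neg_mul, ofAdd_neg, map_inv] at *
        exact inv_mem ha }
  have hA : A = ⊤ := H40.BlockPres.sq_span A fun a => by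
    by_cases ha : a = 0
    · subst ha; rw [mul_zero]; exact A.zero_mem
    haveI : Finite F := Finite.of_fintype F
    obtain ⟨k, hk⟩ := mem_powers_iff_mem_zpowers.2 (hgen (Units.mk0 a ha))
    have e : (ζ : F) ^ k = a := by simpa using congrArg Units.val hk
    show H40.CRW.xS (.ofAdd (a * a * c)) ∈ H
    have h : ∀ j : ℕ, H40.CRW.xS (.ofAdd (((ζ : F) ^ j) ^ 2 * c)) ∈ H := by
      intro j
      induction j with
      | zero => simpa using hx
      | succ j ih =>
        have e := H40.CRW.hS_xS ζ (((ζ : F) ^ j) ^ 2 * c)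
        rw [show ((ζ : F) ^ (j + 1)) ^ 2 * c = (ζ : F) ^ 2 * (((ζ : F) ^ j) ^ 2 * c) by ring, ← e]
        exact mul_mem (mul_mem hh ih) (inv_mem hh)
    have := h k
    rwa [e, sq] at this
  have : z * c⁻¹ ∈ A := by rw [hA]; exact AddSubgroup.mem_top _
  have h2 : H40.CRW.xS (.ofAdd (z * c⁻¹ * c)) ∈ H := this
  rwa [inv_mul_cancel_right₀ hc] at h2

theorem gens_two :
    ∃ S : Finset (SpecialLinearGroup (Fin 2) F), S.card ≤ 3 ∧
      Subgroup.closure (S : Set (SpecialLinearGroup (Fin 2) F)) = ⊤ := by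
  classical
  obtain ⟨ζ, hgen⟩ := IsCyclic.exists_generator (α := Fˣ)
  refine ⟨{H40.CRW.xS (.ofAdd 1), H40.CRW.hS ζ, H40.CRW.tS}, Finset.card_le_three, ?_⟩
  refine eq_top_of_root (fun z => root_all hgen (Subgroup.subset_closure ?_) one_ne_zero
    (Subgroup.subset_closure ?_) z) (Subgroup.subset_closure ?_) <;> simp

theorem two_gen_two (h4 : 4 ≤ Fintype.card F) :
    ∃ a b : SpecialLinearGroup (Fin 2) F, Subgroup.closure {a, b} = ⊤ := by
  classical
  obtain ⟨ζ, hgen⟩ := IsCyclic.exists_generator (α := Fˣ)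
  set h := H40.CRW.hS ζ
  set b := H40.CRW.xS (.ofAdd (1 : F)) * H40.CRW.tS
  refine ⟨h, b, ?_⟩
  set H := Subgroup.closure {h, b}
  have hh : h ∈ H := Subgroup.subset_closure (Or.inl rfl)
  have hb : b ∈ H := Subgroup.subset_closure (Or.inr rfl)
  have hc : (ζ : F) ^ 2 - 1 ≠ 0 := by
    intro e
    have h2 : orderOf ζ ∣ 2 :=
      orderOf_dvd_of_pow_eq_one (Units.ext (by simpa [sub_eq_zero] using e))
    rw [orderOf_eq_card_of_forall_mem_zpowers hgen, Nat.card_eq_fintype_card, Fintype.card_units] at h2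
    have := Nat.le_of_dvd (by norm_num) h2
    omega
  have hx : H40.CRW.xS (.ofAdd ((ζ : F) ^ 2 - 1)) ∈ H := by
    have e : h * (b * h * b⁻¹) = H40.CRW.xS (.ofAdd ((ζ : F) ^ 2 - 1)) := by
      have e1 : b * h * b⁻¹ = H40.CRW.xS (.ofAdd (1 : F)) * h⁻¹ * (H40.CRW.xS (.ofAdd (1 : F)))⁻¹ := by
        rw [← H40.CRW.tS_hS ζ]; simp only [b, h]; group
      calc h * (b * h * b⁻¹) =
            (h * H40.CRW.xS (.ofAdd (1 : F)) * h⁻¹) * (H40.CRW.xS (.ofAdd (1 : F)))⁻¹ := by
            rw [e1]; group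
        _ = _ := by
            rw [H40.CRW.hS_xS, mul_one, ← map_inv, ← map_mul, ← ofAdd_neg, ← ofAdd_add,
              ← sub_eq_add_neg]
    exact e ▸ mul_mem hh (mul_mem (mul_mem hb hh) (inv_mem hb))
  have hall := root_all hgen hh hc hx
  refine eq_top_of_root hall ?_
  have e : H40.CRW.tS = (H40.CRW.xS (.ofAdd (1 : F)))⁻¹ * b := by simp [b]
  rw [e]
  exact mul_mem (inv_mem (hall 1)) hb

theorem two_gen (n : ℕ) (hn : 3 ≤ n) :
    ∃ a b : SpecialLinearGroup (Fin n) F, Subgroup.closure {a, b} = ⊤ := by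
  rcases Nat.lt_or_ge n 4 with h | h
  · obtain rfl : n = 3 := by omega
    obtain ⟨u, g, -, -, e⟩ := Cfsg.Agent.S2278.result (F := F)
    exact ⟨_, _, e⟩
  · obtain ⟨⟨u, v, -, -, e⟩, -⟩ := Cfsg.Agent.S2279.result (F := F) n h
    exact ⟨_, _, e⟩

theorem gens (k : ℕ) :
    ∃ S : Finset (SpecialLinearGroup (Fin (k + 2)) F), S.card ≤ 3 ∧
      Subgroup.closure (S : Set (SpecialLinearGroup (Fin (k + 2)) F)) = ⊤ := by
  classical
  rcases k with _ | k
  · exact gens_two
  · obtain ⟨a, b, e⟩ := two_gen (F := F) (k + 1 + 2) (by omega)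
    exact ⟨{a, b}, le_trans Finset.card_le_two (by norm_num), by simpa using e⟩

theorem step {N R : ℕ} (hN : 3 ≤ N) (h : Pres.HasPres (SpecialLinearGroup (Fin N) F) R) :
    Pres.HasPres (SpecialLinearGroup (Fin (N + 1)) F) (R + 11) := by
  obtain ⟨n, rfl⟩ : ∃ n, N = n + 3 := ⟨N - 3, by omega⟩
  exact PresStep.hasPres_step h (gens n)

/-- `SL_n` with boundedly many relations. -/
theorem hasPres_SL (n : ℕ) (hn : 3 ≤ n) : Pres.HasPres (SpecialLinearGroup (Fin n) F) 45 := by
  obtain ⟨m, r, hr, rfl⟩ : ∃ m r, r < 3 ∧ n = 3 * m + r :=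
    ⟨n / 3, n % 3, Nat.mod_lt _ (by norm_num), (Nat.div_add_mod n 3).symm⟩
  haveI : NeZero m := ⟨by omega⟩
  have h := BlockPres.hasPres_block F m
  have h3 : 3 ≤ 3 * m := by omega
  interval_cases r
  · exact h.mono (by norm_num)
  · exact (step h3 h).mono (by norm_num)
  · exact (step (by omega) (step h3 h)).mono (by norm_num)

/-- Two generators of a quotient. -/
theorem two_gen_quot {n : ℕ} (N : Subgroup (SpecialLinearGroup (Fin n) F)) [N.Normal]
    {a b : SpecialLinearGroup (Fin n) F} (hab : Subgroup.closure {a, b} = ⊤) :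
    Subgroup.closure {QuotientGroup.mk' N a, QuotientGroup.mk' N b} = ⊤ := by
  rw [← Set.image_pair, ← MonoidHom.map_closure, hab]
  exact Subgroup.map_top_of_surjective _ (QuotientGroup.mk'_surjective N)

theorem center_cyclic (n : ℕ) [NeZero n] :
    IsCyclic (Subgroup.center (SpecialLinearGroup (Fin n) F)) :=
  (SpecialLinearGroup.center_equiv_rootsOfUnity (n := Fin n) (R := F)).isCyclic.2 inferInstance

/-- `PSL_n` on two generators with at most eighty relations. -/
theorem main (n : ℕ) (hn : 2 ≤ n) (h2 : n = 2 → 4 ≤ Fintype.card F) :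
    ∃ rels : Finset (FreeGroup (Fin 2)), rels.card ≤ 80 ∧
      Nonempty (PresentedGroup (↑rels : Set (FreeGroup (Fin 2))) ≃*
        Matrix.ProjectiveSpecialLinearGroup (Fin n) F) := by
  have key : ∀ R, R + 2 ≤ 80 → Pres.HasPres (Matrix.ProjectiveSpecialLinearGroup (Fin n) F) R →
      (∃ a b : SpecialLinearGroup (Fin n) F, Subgroup.closure {a, b} = ⊤) →
      ∃ rels : Finset (FreeGroup (Fin 2)), rels.card ≤ 80 ∧
        Nonempty (PresentedGroup (↑rels : Set (FreeGroup (Fin 2))) ≃*
          Matrix.ProjectiveSpecialLinearGroup (Fin n) F) := by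
    rintro R hR hP ⟨a, b, hab⟩
    obtain ⟨rels, hc, he⟩ := hP.two_gen _ _ (two_gen_quot (Subgroup.center (SpecialLinearGroup (Fin n) F)) hab)
    exact ⟨rels, hc.trans hR, he⟩
  rcases Nat.lt_or_ge n 3 with h | h
  · obtain rfl : n = 2 := by omega
    obtain ⟨-, ⟨rels, hc, he⟩, -⟩ := Cfsg.Agent.S2286.result (F := F)
    exact key 9 (by norm_num) ⟨3, rels, hc, he⟩ (two_gen_two (h2 rfl))
  · haveI : NeZero n := ⟨by omega⟩
    haveI := center_cyclic (F := F) n
    obtain ⟨⟨z, hz⟩, hgen⟩ :=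
      IsCyclic.exists_generator (α := Subgroup.center (SpecialLinearGroup (Fin n) F))
    have hN : Subgroup.center (SpecialLinearGroup (Fin n) F) = Subgroup.normalClosure {z} := by
      refine le_antisymm (fun x hx => ?_)
        (Subgroup.normalClosure_le_normal (Set.singleton_subset_iff.2 hz))
      obtain ⟨k, hk⟩ := Subgroup.mem_zpowers_iff.1 (hgen ⟨x, hx⟩)
      have hk' : z ^ k = x := (SubgroupClass.coe_zpow _ k).symm.trans (congrArg Subtype.val hk)
      rw [← hk']
      exact Subgroup.zpow_mem _ (Subgroup.subset_normalClosure (Set.mem_singleton z)) k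
    haveI : Finite F := Finite.of_fintype F
    have hP := Pres.HasPres.quotient_one (hasPres_SL (F := F) n h)
      (Subgroup.center (SpecialLinearGroup (Fin n) F)) z hN
    exact key 46 (by norm_num) hP (two_gen n h)

end H40.PSLPres
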