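import Cfsg.Agent.H40.SpKill
import Cfsg.Agent.H40.PresN
import Cfsg.Agent.H40.PSLPres
import Cfsg.Agent.S2286
import Cfsg.Agent.H50.SpMultiplier

/-!
Presentations of symplectic groups with boundedly many relations.
-/

set_option autoImplicit false
set_option linter.unusedSectionVars false
set_option linter.style.haveILetI false

namespace H40.SpPres

open Matrix
open H40.SpQuad (δ Rels U1 polar kd orb)
open H40.SpTrans (TRels BU BW yHom)
open H40.PresStep (theta iota)
open H40.PresN (HasPresN)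

variable {F : Type*} [Field F] [Fintype F] {k : ℕ}

local notation "SLk" => SpecialLinearGroup (Fin (k + 2)) F
local notation "SL2" => SpecialLinearGroup (Fin 2) F
local notation "Spk" => Matrix.symplecticGroup (Fin (k + 2)) F

theorem two_gen_any : ∃ a b : SL2, Subgroup.closure {a, b} = ⊤ := by
  classical
  by_cases h4 : 4 ≤ Fintype.card F
  · exact H40.PSLPres.two_gen_two h4
  refine ⟨H40.CRW.xS (.ofAdd 1), H40.CRW.tS, H40.PSLPres.eq_top_of_root (fun z => ?_)
    (Subgroup.subset_closure (Or.inr rfl))⟩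
  haveI : Fact (Nat.card F).Prime := ⟨by
    rw [Nat.card_eq_fintype_card]
    have := Fintype.one_lt_card (α := F)
    interval_cases h : Fintype.card F <;> norm_num⟩
  obtain ⟨n, hn⟩ := AddSubgroup.mem_zmultiples_iff.1
    (mem_zmultiples_of_prime_card (G := F) rfl one_ne_zero (g' := z))
  rw [← hn, ofAdd_zsmul, map_zpow]
  refine zpow_mem ?_ n
  exact Subgroup.subset_closure (Or.inl rfl)

/-- Few generators of the smaller linear group. -/
theorem gens_small (k : ℕ) : ∃ S : Finset (SpecialLinearGroup (Fin (k + 1)) F),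
    S.card ≤ (if k = 0 then 0 else 2) ∧
      Subgroup.closure (S : Set (SpecialLinearGroup (Fin (k + 1)) F)) = ⊤ := by
  classical
  rcases k with _ | _ | k
  · refine ⟨∅, by simp, ?_⟩
    rw [eq_top_iff]
    intro x _
    rw [show x = 1 from Subtype.ext (by
      ext i j
      have := x.2
      rw [Matrix.det_fin_one] at this
      simpa [Fin.eq_zero i, Fin.eq_zero j] using this)]
    exact one_mem _
  · obtain ⟨a, b, e⟩ := two_gen_any (F := F)
    exact ⟨{a, b}, by simpa using Finset.card_le_two (a := a) (b := b), by simpa using e⟩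
  · obtain ⟨a, b, e⟩ := H40.PSLPres.two_gen (F := F) (k + 1 + 1 + 1) (by omega)
    exact ⟨{a, b}, by simpa using Finset.card_le_two (a := a) (b := b), by simpa using e⟩

/-- Elements commuting with generators commute with everything. -/
theorem commute_closure {H M : Type*} [Group H] [Group M] (f : H →* M) (z : M) (S : Set H)
    (hS : Subgroup.closure S = ⊤) (h : ∀ s ∈ S, Commute z (f s)) (g : H) : Commute z (f g) := by
  have hg : g ∈ Subgroup.closure S := by rw [hS]; exact Subgroup.mem_top g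
  induction hg using Subgroup.closure_induction with
  | mem s hs => exact h s hs
  | one => rw [map_one]; exact Commute.one_right z
  | mul a b _ _ ha hb => rw [map_mul]; exact ha.mul_right hb
  | inv a _ ha => rw [map_inv]; exact ha.inv_right

theorem theta_T01 (t : F) :
    theta (SpecialLinearGroup.transvection (show (0 : Fin (k + 2)) ≠ 1 by simp) t) =
      SpecialLinearGroup.transvection (show (1 : Fin (k + 2)) ≠ 0 by simp) (-t) := by
  apply Subtype.ext
  show ((SpecialLinearGroup.transvection (show (0 : Fin (k + 2)) ≠ 1 by simp) t)⁻¹).1ᵀ = _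
  rw [SpecialLinearGroup.transvection_inv, SpecialLinearGroup.transvection_coe,
    SpecialLinearGroup.transvection_coe, transpose_add, transpose_one, transpose_single]

theorem theta_T10 (t : F) :
    theta (SpecialLinearGroup.transvection (show (1 : Fin (k + 2)) ≠ 0 by simp) t) =
      SpecialLinearGroup.transvection (show (0 : Fin (k + 2)) ≠ 1 by simp) (-t) := by
  apply Subtype.ext
  show ((SpecialLinearGroup.transvection (show (1 : Fin (k + 2)) ≠ 0 by simp) t)⁻¹).1ᵀ = _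
  rw [SpecialLinearGroup.transvection_inv, SpecialLinearGroup.transvection_coe,
    SpecialLinearGroup.transvection_coe, transpose_add, transpose_one, transpose_single]

/-- A basic transvection. -/
abbrev tA (t : F) : SLk := SpecialLinearGroup.transvection (show (0 : Fin (k + 2)) ≠ 1 by simp) t

/-- The opposite basic transvection. -/
abbrev tB (t : F) : SLk := SpecialLinearGroup.transvection (show (1 : Fin (k + 2)) ≠ 0 by simp) t

section Verify

variable {G : Type*} [Group G] {ψ : SpecialLinearGroup (Fin (k + 2)) F →* G} {φ : SpecialLinearGroup (Fin 2) F →* G} {ζ : Fˣ}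

/-- The finitely many relations imply all the required ones. -/
theorem trels (hgen : ∀ u : Fˣ, u ∈ Subgroup.zpowers ζ)
    (hA : ∀ (A : SpecialLinearGroup (Fin (k + 1)) F) (s : SL2), Commute (ψ (iota A)) (φ s))
    (hu : ∀ s : SL2, Commute ((ψ (kd ζ))⁻¹ * φ (H40.CRW.hS ζ)) (φ s))
    (hT : φ (H40.CRW.hS ζ) * ψ (tA 1) * (φ (H40.CRW.hS ζ))⁻¹ = ψ (tA (ζ : F)))
    (hT' : φ (H40.CRW.hS ζ) * ψ (tB 1) * (φ (H40.CRW.hS ζ))⁻¹ = ψ (tB ((ζ⁻¹ : Fˣ) : F)))
    (XT : Commute (ψ (tA 1)) (φ (H40.CRW.xS (.ofAdd 1))))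
    (YT : Commute (ψ (theta (tA 1))) (yHom φ (.ofAdd 1)))
    (cU : Commute (U1 ψ (φ.comp H40.CRW.xS) (δ 0) 1) (U1 ψ (φ.comp H40.CRW.xS) (δ 1) 1))
    (cW : Commute (U1 (ψ.comp theta) (yHom φ) (δ 0) 1) (U1 (ψ.comp theta) (yHom φ) (δ 1) 1))
    (lU : polar (U1 ψ (φ.comp H40.CRW.xS)) ((ζ : F) • δ 0) (δ 1) 1 =
      polar (U1 ψ (φ.comp H40.CRW.xS)) (δ 0) (δ 1) (ζ : F))
    (lW : polar (U1 (ψ.comp theta) (yHom φ)) (((ζ⁻¹ : Fˣ) : F) • δ 0) (δ 1) 1 =
      polar (U1 (ψ.comp theta) (yHom φ)) (δ 0) (δ 1) ((ζ⁻¹ : Fˣ) : F))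
    (tU : ∀ j : Fin (k + 2), (j : ℕ) = 2 → polar (U1 ψ (φ.comp H40.CRW.xS)) (δ 0) (δ 1 + δ j) 1 =
      polar (U1 ψ (φ.comp H40.CRW.xS)) (δ 0) (δ 1) 1 * polar (U1 ψ (φ.comp H40.CRW.xS)) (δ 0) (δ j) 1)
    (tW : ∀ j : Fin (k + 2), (j : ℕ) = 2 → polar (U1 (ψ.comp theta) (yHom φ)) (δ 0) (δ 1 + δ j) 1 =
      polar (U1 (ψ.comp theta) (yHom φ)) (δ 0) (δ 1) 1 *
        polar (U1 (ψ.comp theta) (yHom φ)) (δ 0) (δ j) 1)
    (mixed : Commute (φ (H40.CRW.xS (.ofAdd 1))) (U1 (ψ.comp theta) (yHom φ) (δ 1) 1))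
    (cons : BW ψ φ (-1) * φ (H40.CRW.xS (.ofAdd 1)) * BW ψ φ 1 =
      BU ψ φ 1 * U1 (ψ.comp theta) (yHom φ) (δ 1) 1 * BU ψ φ (-1))
    (link : ψ (tA 1) = BW ψ φ (-1) * φ (H40.CRW.xS (.ofAdd (-1))) * BW ψ φ 1 *
      φ (H40.CRW.xS (.ofAdd 1)) * U1 (ψ.comp theta) (yHom φ) (δ 1) 1) :
    TRels ψ φ ζ := by
  set h := φ (H40.CRW.hS ζ) with hh
  have hk : Commute h (ψ (kd ζ)) := by
    have h1 : Commute h ((ψ (kd ζ))⁻¹ * h) := (hu (H40.CRW.hS ζ)).symm
    have h2 : Commute h (ψ (kd ζ))⁻¹ := by simpa using h1.mul_right (Commute.refl h).inv_right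
    simpa using h2.inv_right
  have hks : ∀ s : SL2, ψ (kd ζ) * φ s * (ψ (kd ζ))⁻¹ =
      φ (H40.CRW.hS ζ * s * (H40.CRW.hS ζ)⁻¹) := by
    intro s
    have h1 := (hu s).eq
    rw [map_mul, map_mul, map_inv, ← hh]
    calc ψ (kd ζ) * φ s * (ψ (kd ζ))⁻¹
        = ψ (kd ζ) * (φ s * ((ψ (kd ζ))⁻¹ * h)) * h⁻¹ := by group
      _ = _ := by rw [← h1]; group
  have hinv : ∀ c : F, (H40.CRW.hS ζ)⁻¹ * H40.CRW.xS (.ofAdd c) * H40.CRW.hS ζ =
      H40.CRW.xS (.ofAdd (((ζ⁻¹ : Fˣ) : F) * (ζ⁻¹ : Fˣ) * c)) := by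
    intro c
    have e := H40.CRW.hS_xS ζ (((ζ⁻¹ : Fˣ) : F) * (ζ⁻¹ : Fˣ) * c)
    have e2 : (ζ : F) ^ 2 * (((ζ⁻¹ : Fˣ) : F) * (ζ⁻¹ : Fˣ) * c) = c := by
      have := ζ.ne_zero
      rw [Units.val_inv_eq_inv_val]; field_simp
    rw [e2] at e
    rw [← e]; group
  have hY : ∀ c : F, H40.CRW.hS ζ * (H40.CRW.tS * H40.CRW.xS (.ofAdd c) * H40.CRW.tS⁻¹) *
      (H40.CRW.hS ζ)⁻¹ = H40.CRW.tS *
        H40.CRW.xS (.ofAdd (((ζ⁻¹ : Fˣ) : F) * (ζ⁻¹ : Fˣ) * c)) * H40.CRW.tS⁻¹ := by
    intro c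
    have e := H40.CRW.tS_hS ζ
    have e' : H40.CRW.hS ζ * H40.CRW.tS = H40.CRW.tS * (H40.CRW.hS ζ)⁻¹ := by
      calc H40.CRW.hS ζ * H40.CRW.tS = (H40.CRW.tS * H40.CRW.hS ζ * H40.CRW.tS⁻¹)⁻¹ * H40.CRW.tS := by
            rw [e, inv_inv]
        _ = _ := by group
    rw [← hinv]
    calc H40.CRW.hS ζ * (H40.CRW.tS * H40.CRW.xS (.ofAdd c) * H40.CRW.tS⁻¹) * (H40.CRW.hS ζ)⁻¹
        = (H40.CRW.hS ζ * H40.CRW.tS) * H40.CRW.xS (.ofAdd c) * (H40.CRW.hS ζ * H40.CRW.tS)⁻¹ := by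
          group
      _ = _ := by rw [e']; group
  have hyc : ∀ c : F, yHom φ (.ofAdd c) =
      φ (H40.CRW.tS * H40.CRW.xS (.ofAdd c) * H40.CRW.tS⁻¹) := fun c => by simp [yHom]
  have hinvT : ∀ a b : G, h * a * h⁻¹ = b → h * a⁻¹ * h⁻¹ = b⁻¹ := fun a b e => by
    rw [← e]; group
  refine ⟨⟨hgen, fun c => ?_, fun c => ?_, hk, fun A => (hA A _).symm, fun A c => hA A _, hT, hT', XT,
      cU, lU, tU⟩,
    ⟨fun u => by rw [Subgroup.zpowers_inv]; exact hgen u, fun c => ?_, fun c => ?_, ?_,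
      fun A => ?_, fun A c => ?_, ?_, ?_, YT, cW, lW, tW⟩, mixed, cons, link⟩
  · show h * φ (H40.CRW.xS (.ofAdd c)) * h⁻¹ = φ (H40.CRW.xS (.ofAdd _))
    rw [hh, ← map_inv, ← map_mul, ← map_mul, H40.CRW.hS_xS, sq]
  · show ψ (kd ζ) * φ (H40.CRW.xS (.ofAdd c)) * (ψ (kd ζ))⁻¹ = φ (H40.CRW.xS (.ofAdd _))
    rw [hks, H40.CRW.hS_xS, sq]
  · rw [hyc, hyc, ← map_inv, ← map_mul, ← map_mul, hY]
  · rw [MonoidHom.comp_apply, H40.SpModel.kd_theta, inv_inv, hyc, hyc, hks, hY]
  · rw [MonoidHom.comp_apply, H40.SpModel.kd_theta, inv_inv]; exact hk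
  · rw [MonoidHom.comp_apply, H40.SpModel.theta_iota]; exact (hA _ _).symm
  · rw [MonoidHom.comp_apply, H40.SpModel.theta_iota, hyc]; exact hA _ _
  · rw [MonoidHom.comp_apply, MonoidHom.comp_apply, theta_T01, theta_T01,
      ← SpecialLinearGroup.transvection_inv, ← SpecialLinearGroup.transvection_inv, map_inv, map_inv]
    exact hinvT _ _ hT'
  · rw [MonoidHom.comp_apply, MonoidHom.comp_apply, theta_T10, theta_T10,
      ← SpecialLinearGroup.transvection_inv, ← SpecialLinearGroup.transvection_inv, map_inv, map_inv,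
      inv_inv]
    exact hinvT _ _ hT

end Verify

section Words

variable (ζ : Fˣ) (w : SpecialLinearGroup (Fin 2) F → FreeGroup (Fin 3))

/-- A letter of `SL_m`. -/
def jψ (g : SLk) : FreeGroup (SLk ⊕ Fin 3) := FreeGroup.of (Sum.inl g)

/-- A word for an element of `SL_2`. -/
def jφ (g : SL2) : FreeGroup (SLk ⊕ Fin 3) := FreeGroup.map Sum.inr (w g)

/-- The upper orbit in words. -/
noncomputable def U1w (x : Fin (k + 2) → F) (c : F) : FreeGroup (SLk ⊕ Fin 3) :=
  orb jψ (fun a => jφ w (H40.CRW.xS (.ofAdd a))) x c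

/-- The lower orbit in words. -/
noncomputable def W1w (x : Fin (k + 2) → F) (c : F) : FreeGroup (SLk ⊕ Fin 3) :=
  orb (fun g => jψ (theta g))
    (fun a => jφ w (H40.CRW.tS * H40.CRW.xS (.ofAdd a) * H40.CRW.tS⁻¹)) x c

open scoped commutatorElement

/-- The single relators. -/
noncomputable def fixedRels : List (FreeGroup (SLk ⊕ Fin 3)) :=
  [jφ (k := k) w (H40.CRW.hS ζ) * jψ (tA (k := k) (1 : F)) *
      (jφ (k := k) w (H40.CRW.hS ζ))⁻¹ *
      (jψ (tA (k := k) (ζ : F)))⁻¹,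
    jφ (k := k) w (H40.CRW.hS ζ) * jψ (tB (k := k) (1 : F)) *
      (jφ (k := k) w (H40.CRW.hS ζ))⁻¹ *
      (jψ (tB (k := k) ((ζ⁻¹ : Fˣ) : F)))⁻¹,
    ⁅jψ (tA (k := k) (1 : F)),
      jφ (k := k) w (H40.CRW.xS (Multiplicative.ofAdd (1 : F)))⁆,
    ⁅jψ (theta (tA (k := k) (1 : F))),
      jφ (k := k) w (H40.CRW.tS * H40.CRW.xS (Multiplicative.ofAdd (1 : F)) * H40.CRW.tS⁻¹)⁆,
    ⁅U1w (k := k) w (δ 0) 1, U1w (k := k) w (δ 1) 1⁆,
    ⁅W1w (k := k) w (δ 0) 1, W1w (k := k) w (δ 1) 1⁆,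
    polar (U1w (k := k) w) ((ζ : F) • δ 0) (δ 1) 1 * (polar (U1w (k := k) w) (δ 0) (δ 1) (ζ : F))⁻¹,
    polar (W1w (k := k) w) (((ζ⁻¹ : Fˣ) : F) • δ 0) (δ 1) 1 *
      (polar (W1w (k := k) w) (δ 0) (δ 1) ((ζ⁻¹ : Fˣ) : F))⁻¹,
    ⁅jφ (k := k) w (H40.CRW.xS (Multiplicative.ofAdd (1 : F))), W1w (k := k) w (δ 1) 1⁆,
    polar (W1w (k := k) w) (δ 0) (δ 1) (-1) * jφ (k := k) w (H40.CRW.xS (Multiplicative.ofAdd (1 : F))) * polar (W1w (k := k) w) (δ 0) (δ 1) 1 *
      (polar (U1w (k := k) w) (δ 0) (δ 1) 1 * W1w (k := k) w (δ 1) 1 * polar (U1w (k := k) w) (δ 0) (δ 1) (-1))⁻¹,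
    jψ (tA (k := k) (1 : F)) *
      (polar (W1w (k := k) w) (δ 0) (δ 1) (-1) * jφ (k := k) w (H40.CRW.xS (.ofAdd (-1))) *
        polar (W1w (k := k) w) (δ 0) (δ 1) 1 * jφ (k := k) w (H40.CRW.xS (Multiplicative.ofAdd (1 : F))) * W1w (k := k) w (δ 1) 1)⁻¹]

/-- The relators needed for three or more coordinates. -/
noncomputable def triRels : List (FreeGroup (SLk ⊕ Fin 3)) :=
  if h : 2 < k + 2 then
    [polar (U1w w) (δ 0) (δ 1 + δ ⟨2, h⟩) 1 *
        (polar (U1w w) (δ 0) (δ 1) 1 * polar (U1w w) (δ 0) (δ ⟨2, h⟩) 1)⁻¹,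
      polar (W1w w) (δ 0) (δ 1 + δ ⟨2, h⟩) 1 *
        (polar (W1w w) (δ 0) (δ 1) 1 * polar (W1w w) (δ 0) (δ ⟨2, h⟩) 1)⁻¹]
  else []

theorem triRels_length : (triRels (k := k) w).length ≤ (if k = 0 then 0 else 2) := by
  unfold triRels
  split_ifs with h h' h'' <;> simp
  omega

open Classical in
/-- All relators. -/
noncomputable def allRels (rels2 : Finset (FreeGroup (Fin 3))) (Sm : Finset (SpecialLinearGroup (Fin (k + 1)) F))
    (S2 : Finset SL2) : Finset (FreeGroup (SLk ⊕ Fin 3)) :=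
  rels2.image (FreeGroup.map Sum.inr) ∪
    (Sm ×ˢ S2).image (fun p => ⁅jψ (iota p.1), jφ w p.2⁆) ∪
    S2.image (fun s => ⁅(jψ (kd (k := k) ζ))⁻¹ * jφ w (H40.CRW.hS ζ), jφ (k := k) w s⁆) ∪
    (fixedRels ζ w ++ triRels w).toFinset

theorem card_allRels (rels2 : Finset (FreeGroup (Fin 3)))
    (Sm : Finset (SpecialLinearGroup (Fin (k + 1)) F)) (S2 : Finset SL2) :
    (allRels ζ w rels2 Sm S2).card ≤
      rels2.card + Sm.card * S2.card + S2.card + (11 + (if k = 0 then 0 else 2)) := by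
  classical
  unfold allRels
  refine (Finset.card_union_le _ _).trans (add_le_add ((Finset.card_union_le _ _).trans (add_le_add
    ((Finset.card_union_le _ _).trans (add_le_add Finset.card_image_le ?_)) Finset.card_image_le)) ?_)
  · exact Finset.card_image_le.trans (Finset.card_product _ _).le
  · refine (List.toFinset_card_le _).trans ?_
    rw [List.length_append]
    exact add_le_add (by simp [fixedRels]) (triRels_length w)

variable {ζ w} {π0 : FreeGroup (Fin 3) →* SpecialLinearGroup (Fin 2) F} (hw : ∀ g, π0 (w g) = g)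
  {G : Type*} [Group G] (ψ : SpecialLinearGroup (Fin (k + 2)) F →* G) (φ : SpecialLinearGroup (Fin 2) F →* G) (a : Fin 3 → G)
  (hφ : φ.comp π0 = FreeGroup.lift a)


include hw hφ

theorem ev_jψ (g : SLk) : (FreeGroup.lift (Sum.elim ψ a)) (jψ g) = ψ g := by simp [jψ]

theorem ev_jφ (g : SL2) : (FreeGroup.lift (Sum.elim ψ a)) (jφ w g) = φ g := by
  have e : (FreeGroup.lift (Sum.elim ⇑ψ a)).comp (FreeGroup.map Sum.inr) = φ.comp π0 := by
    rw [hφ]
    exact FreeGroup.ext_hom _ _ fun i => by simp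
  rw [jφ, ← MonoidHom.comp_apply, e, MonoidHom.comp_apply, hw]

theorem ev_U (x : Fin (k + 2) → F) (c : F) :
    (FreeGroup.lift (Sum.elim ψ a)) (U1w w x c) = U1 ψ (φ.comp H40.CRW.xS) x c := by
  rw [U1w, H40.SpQuad.map_orb]
  simp only [ev_jψ hw ψ φ a hφ, ev_jφ hw ψ φ a hφ]
  rfl

theorem ev_W (x : Fin (k + 2) → F) (c : F) :
    (FreeGroup.lift (Sum.elim ψ a)) (W1w w x c) = U1 (ψ.comp theta) (yHom φ) x c := by
  rw [W1w, H40.SpQuad.map_orb]
  simp only [ev_jψ hw ψ φ a hφ, ev_jφ hw ψ φ a hφ, map_mul, map_inv]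
  rfl

theorem ev_BU (x y : Fin (k + 2) → F) (c : F) :
    (FreeGroup.lift (Sum.elim ψ a)) (polar (U1w w) x y c) = polar (U1 ψ (φ.comp H40.CRW.xS)) x y c := by
  rw [H40.SpQuad.map_polar]
  simp only [ev_U hw ψ φ a hφ]

theorem ev_BW (x y : Fin (k + 2) → F) (c : F) :
    (FreeGroup.lift (Sum.elim ψ a)) (polar (W1w w) x y c) = polar (U1 (ψ.comp theta) (yHom φ)) x y c := by
  rw [H40.SpQuad.map_polar]
  simp only [ev_W hw ψ φ a hφ]

/-- The relators give the relations. -/
theorem of_allRels (hgen : ∀ u : Fˣ, u ∈ Subgroup.zpowers ζ) {rels2 : Finset (FreeGroup (Fin 3))}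
    {Sm : Finset (SpecialLinearGroup (Fin (k + 1)) F)} {S2 : Finset SL2}
    (hSm : Subgroup.closure (Sm : Set (SpecialLinearGroup (Fin (k + 1)) F)) = ⊤)
    (hS2 : Subgroup.closure (S2 : Set SL2) = ⊤)
    (hr : ∀ r ∈ allRels ζ w rels2 Sm S2, (FreeGroup.lift (Sum.elim ψ a)) r = 1) : TRels ψ φ ζ := by
  classical
  have hc : ∀ x y, (FreeGroup.lift (Sum.elim ψ a)) ⁅x, y⁆ = 1 → Commute ((FreeGroup.lift (Sum.elim ψ a)) x) ((FreeGroup.lift (Sum.elim ψ a)) y) := fun x y h => by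
    rwa [map_commutatorElement, commutatorElement_eq_one_iff_mul_comm] at h
  have he : ∀ x y, (FreeGroup.lift (Sum.elim ψ a)) (x * y⁻¹) = 1 → (FreeGroup.lift (Sum.elim ψ a)) x = (FreeGroup.lift (Sum.elim ψ a)) y := fun x y h => by
    rwa [map_mul, map_inv, mul_inv_eq_one] at h
  have E := fun g => ev_jψ hw ψ φ a hφ g
  have E' := fun g => ev_jφ hw ψ φ a hφ g
  have EU := fun x c => ev_U hw ψ φ a hφ x c
  have EW := fun x c => ev_W hw ψ φ a hφ x c
  have EBU := fun x y c => ev_BU hw ψ φ a hφ x y c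
  have EBW := fun x y c => ev_BW hw ψ φ a hφ x y c
  have H : ∀ r ∈ fixedRels (k := k) ζ w, (FreeGroup.lift (Sum.elim ψ a)) r = 1 := fun r h => hr r (by simp [allRels, h])
  have H' : ∀ r ∈ triRels (k := k) w, (FreeGroup.lift (Sum.elim ψ a)) r = 1 := fun r h => hr r (by simp [allRels, h])
  simp only [fixedRels, List.forall_mem_cons, List.not_mem_nil, false_imp_iff, implies_true, and_true]
    at H
  obtain ⟨r1, r2, r3, r4, r5, r6, r7, r8, r9, r10, r11⟩ := H
  have eY : φ (H40.CRW.tS * H40.CRW.xS (.ofAdd 1) * H40.CRW.tS⁻¹) = yHom φ (.ofAdd 1) := by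
    simp [yHom]
  refine trels hgen ?_ ?_ ?_ ?_ ?_ ?_ ?_ ?_ ?_ ?_ ?_ ?_ ?_ ?_ ?_
  · intro A s
    have h1 : ∀ A' ∈ Sm, ∀ s, Commute (ψ (iota A')) (φ s) := fun A' hA' s =>
      commute_closure φ _ _ hS2 (fun s' hs' => by
        have := hc (jψ (iota A')) (jφ w s') (hr _ (by
          simp only [allRels, Finset.mem_union, Finset.mem_image, Finset.mem_product]
          exact Or.inl (Or.inl (Or.inr ⟨(A', s'), ⟨hA', hs'⟩, rfl⟩))))
        rwa [E, E'] at this) s
    exact (commute_closure (ψ.comp iota) (φ s) _ hSm (fun A' hA' => (h1 A' hA' s).symm) A).symm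
  · refine fun s => commute_closure φ _ _ hS2 (fun s' hs' => ?_) s
    have := hc ((jψ (kd ζ))⁻¹ * jφ w (H40.CRW.hS ζ)) (jφ w s') (hr _ (by
      simp only [allRels, Finset.mem_union, Finset.mem_image]
      exact Or.inl (Or.inr ⟨s', hs', rfl⟩)))
    rwa [map_mul, map_inv, E, E', E'] at this
  · have := he _ _ r1
    rwa [map_mul, map_mul, map_inv, E, E, E'] at this
  · have := he _ _ r2
    rwa [map_mul, map_mul, map_inv, E, E, E'] at this
  · have := hc _ _ r3
    rwa [E, E'] at this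
  · have := hc _ _ r4
    rwa [E, E', eY] at this
  · have := hc _ _ r5
    rwa [EU, EU] at this
  · have := hc _ _ r6
    rwa [EW, EW] at this
  · have := he _ _ r7
    rwa [EBU, EBU] at this
  · have := he _ _ r8
    rwa [EBW, EBW] at this
  · intro j hj
    have h2 : 2 < k + 2 := by have := j.isLt; omega
    obtain rfl : j = ⟨2, h2⟩ := Fin.ext hj
    rw [triRels, dif_pos h2] at H'
    have := he _ _ (H' _ List.mem_cons_self)
    rwa [map_mul, EBU, EBU, EBU] at this
  · intro j hj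
    have h2 : 2 < k + 2 := by have := j.isLt; omega
    obtain rfl : j = ⟨2, h2⟩ := Fin.ext hj
    rw [triRels, dif_pos h2] at H'
    have := he _ _ (H' _ (List.mem_cons_of_mem _ List.mem_cons_self))
    rwa [map_mul, EBW, EBW, EBW] at this
  · have := hc _ _ r9
    rwa [E', EW] at this
  · have := he _ _ r10
    simpa only [map_mul, E', EW, EBU, EBW] using this
  · have := he _ _ r11
    simpa only [map_mul, E, E', EW, EBU, EBW] using this

/-- The relations give the relators. -/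
theorem ev_eq_one {rels2 : Finset (FreeGroup (Fin 3))} {Sm : Finset (SpecialLinearGroup (Fin (k + 1)) F)}
    {S2 : Finset SL2} (hrels2 : ∀ r ∈ rels2, π0 r = 1) (R : TRels ψ φ ζ)
    (hA : ∀ (A : SpecialLinearGroup (Fin (k + 1)) F) (s : SL2), Commute (ψ (iota A)) (φ s))
    (hu : ∀ s : SL2, Commute ((ψ (kd ζ))⁻¹ * φ (H40.CRW.hS ζ)) (φ s)) :
    ∀ r ∈ allRels ζ w rels2 Sm S2, (FreeGroup.lift (Sum.elim ψ a)) r = 1 := by
  classical
  intro r hr
  simp only [allRels, Finset.mem_union, Finset.mem_image, List.mem_toFinset, List.mem_append,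
    Finset.mem_product] at hr
  have E := fun g => ev_jψ hw ψ φ a hφ g
  have E' := fun g => ev_jφ hw ψ φ a hφ g
  have hc : ∀ {x y : G}, Commute x y → ⁅x, y⁆ = 1 := fun h =>
    commutatorElement_eq_one_iff_mul_comm.2 h
  have eY : φ (H40.CRW.tS * H40.CRW.xS (.ofAdd 1) * H40.CRW.tS⁻¹) = yHom φ (.ofAdd 1) := by
    simp [yHom]
  rcases hr with ((⟨r₀, h₀, rfl⟩ | ⟨⟨A, s⟩, -, rfl⟩) | ⟨s, -, rfl⟩) | (h | h)
  · have e : (FreeGroup.lift (Sum.elim ⇑ψ a)).comp (FreeGroup.map Sum.inr) = φ.comp π0 := by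
      rw [hφ]
      exact FreeGroup.ext_hom _ _ fun i => by simp
    rw [← MonoidHom.comp_apply, e, MonoidHom.comp_apply, hrels2 r₀ h₀, map_one]
  · rw [map_commutatorElement, E, E']; exact hc (hA A s)
  · rw [map_commutatorElement, map_mul, map_inv, E, E', E']; exact hc (hu s)
  · simp only [fixedRels, List.mem_cons, List.not_mem_nil, or_false] at h
    rcases h with rfl | rfl | rfl | rfl | rfl | rfl | rfl | rfl | rfl | rfl | rfl
    · rw [map_mul, map_mul, map_mul, map_inv, map_inv, E, E, E', mul_inv_eq_one]; exact R.RU.hT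
    · rw [map_mul, map_mul, map_mul, map_inv, map_inv, E, E, E', mul_inv_eq_one]; exact R.RU.hT'
    · rw [map_commutatorElement, E, E']; exact hc R.RU.XT
    · rw [map_commutatorElement, E, E', eY]; exact hc R.RW.XT
    · rw [map_commutatorElement, ev_U hw ψ φ a hφ, ev_U hw ψ φ a hφ]; exact hc R.RU.comm1
    · rw [map_commutatorElement, ev_W hw ψ φ a hφ, ev_W hw ψ φ a hφ]; exact hc R.RW.comm1
    · rw [map_mul, map_inv, ev_BU hw ψ φ a hφ, ev_BU hw ψ φ a hφ, mul_inv_eq_one]; exact R.RU.lin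
    · rw [map_mul, map_inv, ev_BW hw ψ φ a hφ, ev_BW hw ψ φ a hφ, mul_inv_eq_one]; exact R.RW.lin
    · rw [map_commutatorElement, E', ev_W hw ψ φ a hφ]; exact hc R.mixed
    · simp only [map_mul, map_inv, E', ev_W hw ψ φ a hφ, ev_BU hw ψ φ a hφ, ev_BW hw ψ φ a hφ,
        mul_inv_eq_one]
      exact R.cons
    · simp only [map_mul, map_inv, E, E', ev_W hw ψ φ a hφ, ev_BW hw ψ φ a hφ, mul_inv_eq_one]
      exact R.link
  · unfold triRels at h
    split_ifs at h with h2
    · simp only [List.mem_cons, List.not_mem_nil, or_false] at h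
      rcases h with rfl | rfl
      · rw [map_mul, map_inv, map_mul, ev_BU hw ψ φ a hφ, ev_BU hw ψ φ a hφ, ev_BU hw ψ φ a hφ,
          mul_inv_eq_one]
        exact R.RU.tri _ rfl
      · rw [map_mul, map_inv, map_mul, ev_BW hw ψ φ a hφ, ev_BW hw ψ φ a hφ, ev_BW hw ψ φ a hφ,
          mul_inv_eq_one]
        exact R.RW.tri _ rfl
    · simp at h

end Words

/-- Commuting of the two factors in the symplectic group. -/
theorem lev_iota_em (A : SpecialLinearGroup (Fin (k + 1)) F) (s : SL2) :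
    Commute (H40.SpModel.lev (iota A) : Spk) (H40.SpModel.em s) := by
  refine H40.SpModel.ext_vec fun x y => ?_
  simp only [mul_smul, H40.SpModel.lev, MonoidHom.comp_apply, H40.SpModel.levGL_smul,
    H40.SpModel.em_smul, H40.SpTrans.gT_toGL, H40.SpModel.theta_iota]
  have key : ∀ (B : SpecialLinearGroup (Fin (k + 1)) F) (v : Fin (k + 2) → F) (t : F),
      ((SpecialLinearGroup.toGL (iota B) : GL (Fin (k + 2)) F).1 *ᵥ v) 0 = v 0 ∧
      (SpecialLinearGroup.toGL (iota B) : GL (Fin (k + 2)) F).1 *ᵥ Function.update v 0 t =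
        Function.update ((SpecialLinearGroup.toGL (iota B) : GL (Fin (k + 2)) F).1 *ᵥ v) 0 t := by
    intro B v t
    have h0 : ∀ u : Fin (k + 2) → F, (H40.PresStep.lowM 0 B.1 *ᵥ u) 0 = u 0 := fun u => by
      simp [H40.PresStep.lowM, mulVec, dotProduct, Fin.sum_univ_succ]
    refine ⟨h0 v, funext fun i => ?_⟩
    show (H40.PresStep.lowM 0 B.1 *ᵥ Function.update v 0 t) i =
      Function.update (H40.PresStep.lowM 0 B.1 *ᵥ v) 0 t i
    refine Fin.cases ?_ (fun i => ?_) i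
    · rw [h0]; simp
    · rw [Function.update_of_ne (Fin.succ_ne_zero i)]
      simp [H40.PresStep.lowM, mulVec, dotProduct, Fin.sum_univ_succ]
  rw [(key A x _).2, (key (theta A) y _).2, (key A x 0).1, (key (theta A) y 0).1]

/-- The torus difference commutes with the hyperbolic pair factor. -/
theorem kh_em (ζ : Fˣ) (s : SL2) :
    Commute ((H40.SpModel.lev (kd ζ))⁻¹ * H40.SpModel.em (H40.CRW.hS ζ) : Spk)
      (H40.SpModel.em s) := by
  rw [H40.SpModel.em_hS, H40.SpModel.lev, MonoidHom.comp_apply, ← map_inv, ← map_inv, ← map_mul]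
  have e : (SpecialLinearGroup.toGL (kd (k := k) ζ)⁻¹ * H40.SpQuad.Dg ζ : GL (Fin (k + 2)) F).1 =
      diagonal (Function.update 1 1 (ζ : F)) := by
    show (SpecialLinearGroup.toGL (kd (k := k) ζ)⁻¹ : GL (Fin (k + 2)) F).1 *
      diagonal (Function.update 1 0 (ζ : F)) = _
    have e1 : (kd (k := k) ζ)⁻¹ = kd ζ⁻¹ := inv_eq_of_mul_eq_one_right (Subtype.ext (by
      show diagonal _ * diagonal _ = 1
      rw [diagonal_mul_diagonal, ← diagonal_one]
      congr 1
      funext i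
      by_cases h1 : i = 1
      · subst h1; simp
      · by_cases h0 : i = 0
        · subst h0; simp
        · simp [h0, h1]))
    rw [e1]
    show diagonal _ * diagonal _ = _
    rw [diagonal_mul_diagonal]
    congr 1
    funext i
    by_cases h1 : i = 1
    · subst h1; simp
    · by_cases h0 : i = 0
      · subst h0; simp
      · simp [h0, h1]
  generalize SpecialLinearGroup.toGL (kd (k := k) ζ)⁻¹ * H40.SpQuad.Dg ζ = g at e
  have e' : (H40.SpTrans.gT g).1 = diagonal (Function.update 1 1 ((ζ⁻¹ : Fˣ) : F)) := by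
    have h1 : (g⁻¹ : GL (Fin (k + 2)) F).1 = diagonal (Function.update 1 1 ((ζ⁻¹ : Fˣ) : F)) := by
      refine Units.inv_eq_of_mul_eq_one_right ?_
      rw [e, diagonal_mul_diagonal, ← diagonal_one]
      congr 1
      funext i
      by_cases h1 : i = 1
      · subst h1; simp
      · simp [h1]
    show (g⁻¹ : GL (Fin (k + 2)) F).1ᵀ = _
    rw [h1, diagonal_transpose]
  refine H40.SpModel.ext_vec fun x y => ?_
  simp only [mul_smul, H40.SpModel.levGL_smul, H40.SpModel.em_smul, e, e', mulVec_diagonal]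
  funext i
  rcases i with i | i <;> by_cases h0 : i = 0 <;> simp [mulVec_diagonal, h0]

/-- A presentation of `Sp_{2m}` from one of `SL_m`. -/
theorem hasPresN_Sp {n R : ℕ} (hH : HasPresN SLk n R) :
    HasPresN Spk (n + 3) (R + ((if k = 0 then 0 else 6) + 22)) := by
  classical
  haveI : Finite F := Finite.of_fintype F
  obtain ⟨⟨rels2, hc2, ⟨e2⟩⟩, -, -⟩ := Cfsg.Agent.S2286.result (F := F)
  let π0 : FreeGroup (Fin 3) →* SL2 :=
    e2.toMonoidHom.comp (PresentedGroup.mk (↑rels2 : Set (FreeGroup (Fin 3))))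
  have hπ0 : Function.Surjective π0 := e2.surjective.comp (PresentedGroup.mk_surjective _)
  choose w hw using hπ0
  have hrels2 : ∀ r ∈ rels2, π0 r = 1 := fun r hr => by
    simp only [π0, MonoidHom.comp_apply]
    rw [PresentedGroup.one_of_mem (Finset.mem_coe.2 hr), map_one]
  obtain ⟨ζ, hgen⟩ := IsCyclic.exists_generator (α := Fˣ)
  obtain ⟨Sm, hSmc, hSm⟩ := gens_small (F := F) k
  obtain ⟨a2, b2, hS2'⟩ := two_gen_any (F := F)
  set S2 : Finset SL2 := {a2, b2}
  have hS2 : Subgroup.closure (S2 : Set SL2) = ⊤ := by simpa [S2] using hS2'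
  let q : Fin 3 → Spk := fun i => H40.SpModel.em (π0 (FreeGroup.of i))
  have hq : (H40.SpModel.em (k := k)).comp π0 = FreeGroup.lift q :=
    FreeGroup.ext_hom _ _ fun i => by simp [q]
  have hcard : R + (allRels ζ w rels2 Sm S2).card ≤ R + ((if k = 0 then 0 else 6) + 22) := by
    have h1 := card_allRels ζ w rels2 Sm S2
    have h2 : S2.card ≤ 2 := Finset.card_le_two
    have h3 : Sm.card * S2.card ≤ (if k = 0 then 0 else 2) * 2 := Nat.mul_le_mul hSmc h2
    split_ifs at h1 h3 ⊢ <;> omega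
  refine HasPresN.mono (H40.PresN.HasPresN.extend hH H40.SpModel.lev q (allRels ζ w rels2 Sm S2)
    ?_ ?_ ?_) hcard
  · exact ev_eq_one hw H40.SpModel.lev H40.SpModel.em q hq hrels2 (H40.SpModel.rels hgen) lev_iota_em
      (kh_em ζ)
  · have hπ0' : (H40.SpModel.em (k := k) (F := F)).range ≤
        Subgroup.closure (Set.range (H40.SpModel.lev (k := k) (F := F)) ∪ Set.range q) := by
      rintro _ ⟨g, rfl⟩
      rw [← hw g, ← MonoidHom.comp_apply, hq]
      have : (FreeGroup.lift q).range ≤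
          Subgroup.closure (Set.range (H40.SpModel.lev (k := k) (F := F)) ∪ Set.range q) := by
        exact FreeGroup.range_lift_le (fun x hx => Subgroup.subset_closure (Or.inr hx))
      exact this ⟨_, rfl⟩
    rw [eq_top_iff, ← H48.transGroup_eq_top, H48.transGroup, H48.transSet_eq, Subgroup.closure_le]
    rintro _ ⟨v, c, rfl⟩
    set C := Subgroup.closure (Set.range (H40.SpModel.lev (k := k) (F := F)) ∪ Set.range q)
    have hlev : (H40.SpModel.lev (k := k) (F := F)).range ≤ C := by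
      rintro _ ⟨g, rfl⟩; exact Subgroup.subset_closure (Or.inl ⟨g, rfl⟩)
    let ψ' : SLk →* C := H40.SpModel.lev.codRestrict C fun g => hlev ⟨g, rfl⟩
    let φ' : SL2 →* C := H40.SpModel.em.codRestrict C fun g => hπ0' ⟨g, rfl⟩
    let a' : Fin 3 → C := fun i => φ' (π0 (FreeGroup.of i))
    have hφ' : φ'.comp π0 = FreeGroup.lift a' := FreeGroup.ext_hom _ _ fun i => by simp [a']
    have hR : TRels ψ' φ' ζ := of_allRels hw ψ' φ' a' hφ' hgen hSm hS2 fun r hr => by
      apply C.subtype_injective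
      have e : C.subtype.comp (FreeGroup.lift (Sum.elim ⇑ψ' a')) =
          FreeGroup.lift (Sum.elim (⇑(H40.SpModel.lev (k := k) (F := F))) q) :=
        FreeGroup.ext_hom _ _ fun x => by rcases x with x | x <;> simp [ψ', φ', a', q]
      rw [← MonoidHom.comp_apply, e, map_one]
      exact ev_eq_one hw H40.SpModel.lev H40.SpModel.em q hq hrels2 (H40.SpModel.rels hgen)
        lev_iota_em (kh_em ζ) r hr
    obtain ⟨z, hz⟩ := H40.SpKill.surjective hR C.subtype (MonoidHom.ext fun _ => rfl)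
      (MonoidHom.ext fun _ => rfl) (H48.tv v c)
    exact hz ▸ z.2
  · intro G _ ψ a hr htop
    let h0 : ∀ r ∈ (↑rels2 : Set (FreeGroup (Fin 3))), FreeGroup.lift a r = 1 := by
      intro r hr'
      have e : (FreeGroup.lift (Sum.elim ⇑ψ a)).comp (FreeGroup.map Sum.inr) = FreeGroup.lift a :=
        FreeGroup.ext_hom _ _ fun i => by simp
      rw [← e, MonoidHom.comp_apply]
      exact hr _ (by
        simp only [allRels, Finset.mem_union, Finset.mem_image]
        exact Or.inl (Or.inl (Or.inl ⟨r, Finset.mem_coe.1 hr', rfl⟩)))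
    let φ : SL2 →* G := (PresentedGroup.toGroup h0).comp e2.symm.toMonoidHom
    have hφ : φ.comp π0 = FreeGroup.lift a := FreeGroup.ext_hom _ _ fun i => by
      simp only [φ, π0, MonoidHom.comp_apply, MulEquiv.coe_toMonoidHom, MulEquiv.symm_apply_apply,
        FreeGroup.lift_apply_of]
      exact PresentedGroup.toGroup.of h0
    let ψ2 : SLk →* G × Spk := ψ.prod H40.SpModel.lev
    let φ2 : SL2 →* G × Spk := φ.prod H40.SpModel.em
    set D := ψ2.range ⊔ φ2.range
    let ψ' : SLk →* D := ψ2.codRestrict D fun g => Subgroup.mem_sup_left ⟨g, rfl⟩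
    let φ' : SL2 →* D := φ2.codRestrict D fun g => Subgroup.mem_sup_right ⟨g, rfl⟩
    let a' : Fin 3 → D := fun i => φ' (π0 (FreeGroup.of i))
    have hφ' : φ'.comp π0 = FreeGroup.lift a' := FreeGroup.ext_hom _ _ fun i => by simp [a']
    have hR : TRels ψ' φ' ζ := of_allRels hw ψ' φ' a' hφ' hgen hSm hS2 fun r hr' => by
      apply D.subtype_injective
      refine Prod.ext ?_ ?_
      · have e : ((MonoidHom.fst G Spk).comp D.subtype).comp (FreeGroup.lift (Sum.elim ⇑ψ' a')) =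
            FreeGroup.lift (Sum.elim ⇑ψ a) := FreeGroup.ext_hom _ _ fun x => by
          rcases x with x | i
          · simp [ψ', ψ2]
          · have := DFunLike.congr_fun hφ (FreeGroup.of i)
            simpa [φ', φ2, a'] using this
        show ((MonoidHom.fst G Spk).comp D.subtype).comp (FreeGroup.lift (Sum.elim ⇑ψ' a')) r = 1
        rw [e]; exact hr r hr'
      · have e : ((MonoidHom.snd G Spk).comp D.subtype).comp (FreeGroup.lift (Sum.elim ⇑ψ' a')) =
            FreeGroup.lift (Sum.elim (⇑(H40.SpModel.lev (k := k) (F := F))) q) :=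
          FreeGroup.ext_hom _ _ fun x => by
            rcases x with x | i <;> simp [ψ', ψ2, φ', φ2, a', q]
        show ((MonoidHom.snd G Spk).comp D.subtype).comp (FreeGroup.lift (Sum.elim ⇑ψ' a')) r = 1
        rw [e]
        exact ev_eq_one hw H40.SpModel.lev H40.SpModel.em q hq hrels2 (H40.SpModel.rels hgen)
          lev_iota_em (kh_em ζ) r hr'
    have hDtop : ψ'.range ⊔ φ'.range = ⊤ := by
      apply Subgroup.map_injective D.subtype_injective
      rw [Subgroup.map_sup, MonoidHom.map_range, MonoidHom.map_range, ← MonoidHom.range_eq_map,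
        Subgroup.range_subtype]
      rfl
    have hbij := H40.SpKill.bijective hR ((MonoidHom.snd G Spk).comp D.subtype)
      (MonoidHom.ext fun _ => rfl) (MonoidHom.ext fun _ => rfl) hDtop
    let e := MulEquiv.ofBijective ((MonoidHom.snd G Spk).comp D.subtype) hbij
    refine ⟨((MonoidHom.fst G Spk).comp D.subtype).comp e.symm.toMonoidHom, ?_⟩
    have hs : Function.Surjective ((MonoidHom.fst G Spk).comp D.subtype) := by
      rw [← MonoidHom.range_eq_top, eq_top_iff, ← htop, Subgroup.closure_le]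
      rintro x (⟨g, rfl⟩ | ⟨i, rfl⟩)
      · exact ⟨ψ' g, rfl⟩
      · refine ⟨a' i, ?_⟩
        have := DFunLike.congr_fun hφ (FreeGroup.of i)
        simpa [a', φ', φ2] using this
    exact hs.comp e.symm.surjective

end H40.SpPres

namespace H40.SpPres

open Matrix
open H40.PresN (HasPresN)

variable {F : Type*} [Field F] [Fintype F]

/-- The symplectic group of rank two on six generators with thirty-one relations. -/
theorem hasPresN_Sp_two : HasPresN (Matrix.symplecticGroup (Fin 2) F) 6 31 := by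
  obtain ⟨⟨rels, hc, he⟩, -, -⟩ := Cfsg.Agent.S2286.result (F := F)
  exact hasPresN_Sp (F := F) (k := 0) (n := 3) (R := 9) ⟨rels, hc, he⟩

/-- Symplectic groups with boundedly many relations. -/
theorem hasPres_Sp (m : ℕ) (hm : 2 ≤ m) : H40.Pres.HasPres (Matrix.symplecticGroup (Fin m) F) 73 := by
  obtain ⟨k, rfl⟩ : ∃ k, m = k + 2 := ⟨m - 2, by omega⟩
  rcases k with _ | k
  · exact (hasPresN_Sp_two (F := F)).hasPres.mono (by norm_num)
  · obtain ⟨n, h⟩ := H40.PSLPres.hasPres_SL (F := F) (k + 1 + 2) (by omega)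
    exact (hasPresN_Sp (F := F) (k := k + 1) h).hasPres.mono (by simp)

theorem center_normalClosure (m : ℕ) (hm : 1 ≤ m) :
    ∃ z : Matrix.symplecticGroup (Fin m) F,
      Subgroup.center (Matrix.symplecticGroup (Fin m) F) = Subgroup.normalClosure {z} := by
  haveI := H50.SpMult.isCyclic_center (F := F) (m := m) hm
  obtain ⟨⟨z, hz⟩, hgen⟩ :=
    IsCyclic.exists_generator (α := Subgroup.center (Matrix.symplecticGroup (Fin m) F))
  refine ⟨z, le_antisymm (fun x hx => ?_)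
    (Subgroup.normalClosure_le_normal (Set.singleton_subset_iff.2 hz))⟩
  obtain ⟨k, hk⟩ := Subgroup.mem_zpowers_iff.1 (hgen ⟨x, hx⟩)
  have hk' : z ^ k = x := (SubgroupClass.coe_zpow _ k).symm.trans (congrArg Subtype.val hk)
  rw [← hk']
  exact Subgroup.zpow_mem _ (Subgroup.subset_normalClosure (Set.mem_singleton z)) k

end H40.SpPres
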