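import Cfsg.Agent.H40.GluePres
import Cfsg.Agent.H40.PSLPres
import Cfsg.Agent.H40.SpPres

/-!
Short presentations of special linear groups of every degree.
-/

set_option autoImplicit false
set_option linter.unusedSectionVars false
set_option linter.style.haveILetI false
set_option linter.unusedVariables false

namespace H40.BlockPres

open Matrix H40.SL3
open scoped commutatorElement
open H40.PresN (HasPresN)

/-- `SL_{3m}` on five generators and twenty relations. -/
theorem hasPresN_block (F : Type*) [Field F] [Fintype F] (m : ℕ) [NeZero m] :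
    HasPresN (SpecialLinearGroup (Fin (3 * m)) F) 5 20 := by
  classical
  obtain ⟨p, hchar⟩ := CharP.exists F
  haveI := hchar
  haveI : Fact p.Prime := ⟨CharP.char_is_prime F p⟩
  let K := FiniteField.Extension F p m
  haveI : Fintype K := Fintype.ofFinite K
  obtain ⟨P, σ, ν, hdet, hσ, hP, hPm, hbij⟩ :=
    exists_skew (Module.finBasisOfFinrankEq F K (FiniteField.finrank_extension F p m))
  let S : Skew K (Matrix (Fin m) (Fin m) F) m σ ν :=
    { M := (Algebra.leftMulMatrix
        (Module.finBasisOfFinrankEq F K (FiniteField.finrank_extension F p m))).toRingHom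
      P := P, hP := hP, hPm := hPm, bij := hbij }
  obtain ⟨ζ, hgen⟩ := IsCyclic.exists_generator (α := Kˣ)
  have hR := rels S hdet hσ hgen
  obtain ⟨w, hw⟩ : fgen S hdet ∈ (FreeGroup.lift fun x : Fin 3 × Fin 3 × ℕ × K =>
      Rels.U (iota S) (fgen S hdet) x.1 x.2.1 x.2.2.1 x.2.2.2).range := by
    rw [FreeGroup.range_lift_eq_closure, closure_U S hdet hR]; exact Subgroup.mem_top _
  have h := HasPresN.extend (k := 1) (show HasPresN (SpecialLinearGroup (Fin 3) K) 4 12 from H40.SL3.exists_pres_short.imp fun _ h => ⟨h.1, h.2.2⟩) (iota S) ![fgen S hdet]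
    (relset m (Fintype.card F) ν ζ w) (fun r hr => by
      refine (relset_iff (iota S) ![fgen S hdet] hσ hgen w).2 ⟨?_, ?_⟩ r hr
      · exact hR
      · exact hw) (by
      rw [eq_top_iff, ← closure_U S hdet hR, Subgroup.closure_le]
      rintro _ ⟨x, rfl⟩
      have hf : fgen S hdet ∈ Subgroup.closure (Set.range (iota S) ∪ Set.range ![fgen S hdet]) :=
        Subgroup.subset_closure (Or.inr ⟨0, rfl⟩)
      have hi : ∀ g, iota S g ∈ Subgroup.closure (Set.range (iota S) ∪ Set.range ![fgen S hdet]) :=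
        fun g => Subgroup.subset_closure (Or.inl ⟨g, rfl⟩)
      have hfi : ∀ i, fi (iota S) (fgen S hdet) i ∈
          Subgroup.closure (Set.range (iota S) ∪ Set.range ![fgen S hdet]) := by
        intro i
        have h1 := mul_mem (mul_mem (hi cT) hf) (inv_mem (hi cT))
        fin_cases i
        · exact hf
        · exact h1
        · exact mul_mem (mul_mem (hi cT) h1) (inv_mem (hi cT))
      exact mul_mem (mul_mem (pow_mem (hfi _) _) (hi _)) (inv_mem (pow_mem (hfi _) _))) ?_
  · exact (h.mono (Nat.add_le_add_left (card_relset _ _ _ _ _) 12)).of_equiv (reidx finProdFinEquiv)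
  intro G _ ψ a hr htop
  obtain ⟨hG, hwG⟩ := (relset_iff ψ a hσ hgen w).1 hr
  have A := ax S hG
  let e : Fin 3 × Fin m ≃ Fin (3 * m) := finProdFinEquiv
  have S' : StRel fun u v t => A.y (e.symm u) (e.symm v) t :=
    { add := fun u v h => A.strel.add _ _ (e.symm.injective.ne h)
      comm := fun u v r s h1 h2 h3 h4 => A.strel.comm _ _ _ _ (e.symm.injective.ne h1)
        (e.symm.injective.ne h2) (e.symm.injective.ne h3) (e.symm.injective.ne h4)
      chev := fun u v r h1 h2 h3 => A.strel.chev _ _ _ (e.symm.injective.ne h1)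
        (e.symm.injective.ne h2) (e.symm.injective.ne h3) }
  haveI : Finite F := Finite.of_fintype F
  let st := MulEquiv.ofBijective (H40.stHom (3 * m) F)
    (H40.stHom_bijective (by have := NeZero.pos m; omega))
  let Φ : SpecialLinearGroup (Fin 3 × Fin m) F →* G :=
    (PresentedGroup.toGroup (H40.lift_stRels S')).comp
      (st.symm.toMonoidHom.comp (reidx e).toMonoidHom)
  refine ⟨Φ, ?_⟩
  have hx : ∀ {i j : Fin 3} (h : i ≠ j) (u v : Fin m) (c : F),
      S.XR hG h (.ofAdd (Matrix.single u v c)) ∈ Φ.range := by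
    intro i j h u v c
    have hne : e (i, u) ≠ e (j, v) := fun he => h (congrArg Prod.fst (e.injective he))
    refine ⟨(reidx e).symm (st (PresentedGroup.of (⟨(e (i, u), e (j, v)), hne⟩, c))), ?_⟩
    simp only [Φ, MonoidHom.comp_apply, MulEquiv.coe_toMonoidHom, MulEquiv.apply_symm_apply,
      MulEquiv.symm_apply_apply]
    refine (PresentedGroup.toGroup.of (H40.lift_stRels S')).trans ?_
    show A.y (e.symm (e (i, u))) (e.symm (e (j, v))) c = _
    rw [e.symm_apply_apply, e.symm_apply_apply, A.y_eq (p := (i, u)) (q := (j, v)) h]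
    exact dif_pos h
  have hU : ∀ (i j : Fin 3) (l : ℕ) (b : K), Rels.U ψ (a 0) i j l b ∈ Φ.range := by
    intro i j l b
    by_cases h : i ≠ j
    · rw [← S.XR_mono hG h]
      induction S.P ^ l * S.M b using Matrix.induction_on' with
      | h_zero => rw [S.XR_zero]; exact one_mem _
      | h_add A B hA hB => rw [S.XR_add]; exact mul_mem hA hB
      | h_std_basis u v c => exact hx h u v c
    · simp [Rels.U, T, h]
  rw [← MonoidHom.range_eq_top, eq_top_iff, ← htop, Subgroup.closure_le]
  rintro g (⟨g, rfl⟩ | ⟨i, rfl⟩)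
  · induction g using H37.SL_transvection_induction with
    | h1 => rw [map_one]; exact one_mem _
    | htransvec i j hij c =>
      have := hU i j 0 c
      rwa [Rels.U, pow_zero, one_mul, inv_one, mul_one, T_of hij] at this
    | hmul A B hA hB => rw [map_mul]; exact mul_mem hA hB
  · rw [Subsingleton.elim i 0, ← hwG]
    have : (FreeGroup.lift fun x : Fin 3 × Fin 3 × ℕ × K =>
        Rels.U ψ (a 0) x.1 x.2.1 x.2.2.1 x.2.2.2).range ≤ Φ.range := by
      rw [FreeGroup.range_lift_eq_closure, Subgroup.closure_le]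
      rintro _ ⟨x, rfl⟩
      exact hU _ _ _ _
    exact this ⟨w, rfl⟩


end H40.BlockPres

namespace H40.SLShort

open Matrix
open H40.Glue
open H40.PresN (HasPresN)

variable {F : Type*} [Field F] [Fintype F]

/-- One generator more costs one relation. -/
theorem pad {Q : Type*} [Group Q] [Finite Q] {n R : ℕ} (h : HasPresN Q n R) :
    HasPresN Q (n + 1) (R + 1) := by
  classical
  have := HasPresN.extend (k := 1) h (MonoidHom.id Q) ![1] ({FreeGroup.of (Sum.inr 0)} : Finset (FreeGroup (Q ⊕ Fin 1)))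
    (by simp) (by
      rw [eq_top_iff]
      intro x _
      exact Subgroup.subset_closure (Or.inl ⟨x, rfl⟩)) (by
      intro G _ ψ a hr htop
      refine ⟨ψ, ?_⟩
      have ha : a 0 = 1 := by simpa using hr _ (Finset.mem_singleton_self _)
      rw [← MonoidHom.range_eq_top, eq_top_iff, ← htop, Subgroup.closure_le]
      rintro g (⟨x, rfl⟩ | ⟨i, rfl⟩)
      · exact ⟨x, rfl⟩
      · rw [Subsingleton.elim i 0, ha]; exact one_mem _)
  exact this.mono (by simp)

theorem gens_of_two {ι : Type*} [Fintype ι] [DecidableEq ι] {k : ℕ} (e : Fin k ≃ ι)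
    (h : ∃ a b : SpecialLinearGroup (Fin k) F, Subgroup.closure {a, b} = ⊤) :
    ∃ S : Finset (SpecialLinearGroup ι F), S.card ≤ 2 ∧
      Subgroup.closure (S : Set (SpecialLinearGroup ι F)) = ⊤ := by
  classical
  obtain ⟨a, b, hab⟩ := h
  refine ⟨{H40.BlockPres.reidx e a, H40.BlockPres.reidx e b}, Finset.card_le_two, ?_⟩
  rw [Finset.coe_pair, ← Set.image_pair, ← MulEquiv.coe_toMonoidHom, ← MonoidHom.map_closure, hab]
  exact Subgroup.map_top_of_surjective _ (H40.BlockPres.reidx e).surjective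

/-- The index bijection. -/
def sumE {r s N : ℕ} (h : r + s + r = N) : (Fin r ⊕ Fin s) ⊕ Fin r ≃ Fin N :=
  ((Equiv.sumCongr finSumFinEquiv (Equiv.refl _)).trans finSumFinEquiv).trans (finCongr h)

theorem exists_sigma (r : ℕ) (hr : r = 1 ∨ r = 2) :
    ∃ σ : Equiv.Perm (Fin r ⊕ Unit), ∀ O : Set (Fin r ⊕ Unit),
      Sum.inr () ∈ O → (∀ p ∈ O, σ p ∈ O) → ∀ y, y ∈ O := by
  rcases hr with rfl | rfl
  · refine ⟨Equiv.swap (.inl 0) (.inr ()), fun O h0 hc y => ?_⟩
    rcases y with y | ⟨⟩
    · rw [Subsingleton.elim y 0]; simpa using hc _ h0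
    · exact h0
  · refine ⟨Equiv.swap (.inl 0) (.inr ()) * Equiv.swap (.inl 1) (.inr ()), fun O h0 hc y => ?_⟩
    have h1 : Sum.inl 1 ∈ O := by simpa [Equiv.swap_apply_def] using hc _ h0
    rcases y with y | ⟨⟩
    · fin_cases y
      · simpa [Equiv.swap_apply_def] using hc _ h1
      · exact h1
    · exact h0

/-- From `SL_N` to `SL_{N+r}` with four relations. -/
theorem step {r s g R : ℕ} (hr : r = 1 ∨ r = 2) (hs : 3 ≤ s)
    (h : HasPresN (SpecialLinearGroup (Fin (r + s)) F) g R) :
    HasPresN (SpecialLinearGroup (Fin (r + s + r)) F) (g + 1) (R + 4) := by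
  haveI : Nonempty (Fin r) := ⟨⟨0, by omega⟩⟩
  haveI : Nonempty (Fin s) := ⟨⟨0, by omega⟩⟩
  obtain ⟨σ, hσ⟩ := exists_sigma r hr
  obtain ⟨SM, hc, hSM⟩ := gens_of_two (F := F) (Equiv.refl (Fin s)) (H40.PSLPres.two_gen s hs)
  refine (hasPresN_glue_one (h.of_equiv (H40.BlockPres.reidx finSumFinEquiv).symm) (fun a b => ?_)
    (sumE rfl) (by omega) SM hSM σ hσ).mono (by omega)
  have : ({a, b} : Finset (Fin s)).card < (Finset.univ : Finset (Fin s)).card := by
    rw [Finset.card_univ, Fintype.card_fin]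
    exact lt_of_le_of_lt Finset.card_le_two (by omega)
  obtain ⟨c, -, hc⟩ := Finset.exists_mem_notMem_of_card_lt_card this
  exact ⟨c, fun e => hc (by simp [e]), fun e => hc (by simp [e])⟩

theorem hasPresN_four : HasPresN (SpecialLinearGroup (Fin 4) F) 5 25 := by
  have h3 : HasPresN (SpecialLinearGroup (Fin 3) F) 4 14 := H40.SL3.exists_pres (F := F)
  obtain ⟨SM, hc, hSM⟩ := gens_of_two (F := F) (Equiv.refl (Fin 2)) H40.SpPres.two_gen_any
  obtain ⟨S, hc', hS⟩ := gens_of_two (F := F)
    ((finSumFinEquiv (m := 1) (n := 1)).symm.trans (Equiv.sumCongr (Equiv.refl _) finOneEquiv))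
    H40.SpPres.two_gen_any
  refine (hasPresN_glue_gens (T := Fin 1) (M := Fin 2)
    (h3.of_equiv (H40.BlockPres.reidx (finSumFinEquiv (m := 1) (n := 2))).symm)
    (fun m => exists_ne m) (sumE (N := 4) rfl) (by norm_num) SM hSM S hS).mono ?_
  have := Nat.mul_le_mul hc' hc'
  simp only [Fintype.card_fin]
  omega

theorem hasPresN_five : HasPresN (SpecialLinearGroup (Fin 5) F) 6 29 :=
  step (r := 1) (s := 3) (Or.inl rfl) le_rfl hasPresN_four

/-- `SL_n` on few generators and few relations. -/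
theorem hasPresN_SL (n : ℕ) (hn : 6 ≤ n) :
    HasPresN (SpecialLinearGroup (Fin n) F) 6 24 := by
  obtain ⟨m, r, hr, rfl⟩ : ∃ m r, r < 3 ∧ n = 3 * m + r :=
    ⟨n / 3, n % 3, Nat.mod_lt _ (by norm_num), (Nat.div_add_mod n 3).symm⟩
  haveI : NeZero m := ⟨by omega⟩
  have h := H40.BlockPres.hasPresN_block F m
  rcases Nat.eq_zero_or_pos r with rfl | hr0
  · haveI : Finite F := Finite.of_fintype F
    exact (pad h).mono (by norm_num)
  · obtain ⟨s, hs⟩ : ∃ s, 3 * m = r + s := ⟨3 * m - r, by omega⟩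
    rw [hs] at h ⊢
    exact step (by omega) (by omega) h

end H40.SLShort
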