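import Cfsg.Agent.H40.OmTarget
import Cfsg.Agent.H40.OmKill
import Cfsg.Agent.H40.PresN
import Cfsg.Agent.H40.GlueSmall
import Cfsg.Agent.H40.SLShort
import Cfsg.Agent.H43.Simple

/-!
Presentations of `Ω` and `PΩ` of plus type with few relations.
-/

set_option autoImplicit false
set_option linter.unusedSectionVars false
set_option linter.style.haveILetI false
set_option linter.unusedSimpArgs false

namespace H40.OmPres

open Matrix
open H40.Glue (tv embL)
open H40.OmModel (δ altM aM congrA thT lev radU radW)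
open H40.OmOrbit (GData Pr blk)
open H40.PresN (HasPresN)
open H43 (orthGroup qPlus)
open scoped commutatorElement

universe u

/-- A presented group on the generators of another and some new ones. -/
theorem exists_univ {H : Type u} [Group H] {n R : ℕ} (hH : HasPresN H n R) {k : ℕ}
    (E : Finset (FreeGroup (H ⊕ Fin k))) :
    ∃ (G : Type) (_ : Group G) (ψ : H →* G) (a : Fin k → G),
      HasPresN G (n + k) (R + E.card) ∧
      (∀ r ∈ E, FreeGroup.lift (Sum.elim ψ a) r = 1) ∧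
      Subgroup.closure (Set.range ψ ∪ Set.range a) = ⊤ ∧
      ∀ {Q : Type u} [Group Q] (ι : H →* Q) (q : Fin k → Q),
        (∀ r ∈ E, FreeGroup.lift (Sum.elim ι q) r = 1) →
        ∃ φ : G →* Q, φ.comp ψ = ι ∧ ∀ i, φ (a i) = q i := by
  classical
  obtain ⟨rels, hc, ⟨e⟩⟩ := hH
  let π : FreeGroup (Fin n) →* H :=
    e.toMonoidHom.comp (PresentedGroup.mk (↑rels : Set (FreeGroup (Fin n))))
  have hπ : Function.Surjective π := e.surjective.comp (PresentedGroup.mk_surjective _)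
  choose w hw using hπ
  let inc : FreeGroup (Fin n) →* FreeGroup (Fin (n + k)) :=
    FreeGroup.lift fun i => FreeGroup.of (Fin.castAdd k i)
  let sub : FreeGroup (H ⊕ Fin k) →* FreeGroup (Fin (n + k)) :=
    FreeGroup.lift (Sum.elim (fun h => inc (w h)) fun i => FreeGroup.of (Fin.natAdd n i))
  let rels' : Finset (FreeGroup (Fin (n + k))) := rels.image inc ∪ E.image sub
  let mk' := PresentedGroup.mk (↑rels' : Set (FreeGroup (Fin (n + k))))
  have h0 : ∀ r ∈ (↑rels : Set (FreeGroup (Fin n))),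
      FreeGroup.lift (fun i => mk' (FreeGroup.of (Fin.castAdd k i))) r = 1 := by
    intro r hr
    have e' : FreeGroup.lift (fun i => mk' (FreeGroup.of (Fin.castAdd k i))) = mk'.comp inc :=
      FreeGroup.ext_hom _ _ fun i => by simp [inc]
    rw [e', MonoidHom.comp_apply]
    exact PresentedGroup.one_of_mem (Finset.mem_coe.2
      (Finset.mem_union_left _ (Finset.mem_image_of_mem _ (Finset.mem_coe.1 hr))))
  let ψ : H →* PresentedGroup (↑rels' : Set (FreeGroup (Fin (n + k)))) :=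
    (PresentedGroup.toGroup h0).comp e.symm.toMonoidHom
  let a : Fin k → PresentedGroup (↑rels' : Set (FreeGroup (Fin (n + k)))) :=
    fun i => mk' (FreeGroup.of (Fin.natAdd n i))
  have hψπ : ∀ z, ψ (π z) = mk' (inc z) := by
    intro z
    have h1 : ψ.comp π = mk'.comp inc := FreeGroup.ext_hom _ _ fun i => by
      simp only [ψ, π, inc, MonoidHom.comp_apply, MulEquiv.coe_toMonoidHom,
        MulEquiv.symm_apply_apply, FreeGroup.lift_apply_of]
      exact PresentedGroup.toGroup.of h0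
    exact DFunLike.congr_fun h1 z
  have hsub' : FreeGroup.lift (Sum.elim ψ a) = mk'.comp sub := FreeGroup.ext_hom _ _ fun x => by
    rcases x with h | i
    · simp only [FreeGroup.lift_apply_of, Sum.elim_inl, MonoidHom.comp_apply, sub]
      rw [← hψπ, hw]
    · simp [sub, a]
  refine ⟨_, inferInstance, ψ, a, ⟨rels', (Finset.card_union_le _ _).trans
    (add_le_add (Finset.card_image_le.trans hc) Finset.card_image_le), ⟨MulEquiv.refl _⟩⟩,
    fun r hr => ?_, ?_, fun {Q} _ ι q hE => ?_⟩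
  · rw [hsub']
    exact PresentedGroup.one_of_mem (Finset.mem_coe.2
      (Finset.mem_union_right _ (Finset.mem_image_of_mem _ hr)))
  · rw [eq_top_iff, ← PresentedGroup.closure_range_of (↑rels' : Set (FreeGroup (Fin (n + k)))),
      Subgroup.closure_le]
    rintro _ ⟨i, rfl⟩
    refine Fin.addCases (fun i => ?_) (fun i => ?_) i
    · exact Subgroup.subset_closure (Or.inl ⟨π (FreeGroup.of i),
        (hψπ _).trans (by simp [inc, mk']; rfl)⟩)
    · exact Subgroup.subset_closure (Or.inr ⟨i, rfl⟩)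
  let val : Fin (n + k) → Q := Fin.append (fun i => ι (π (FreeGroup.of i))) q
  have hinc : (FreeGroup.lift val).comp inc = ι.comp π := FreeGroup.ext_hom _ _ fun i => by
    simp [inc, val]
  have hsub : (FreeGroup.lift val).comp sub = FreeGroup.lift (Sum.elim ι q) :=
    FreeGroup.ext_hom _ _ fun x => by
      rcases x with h | i
      · simp only [MonoidHom.comp_apply, sub, FreeGroup.lift_apply_of, Sum.elim_inl]
        rw [← MonoidHom.comp_apply, hinc, MonoidHom.comp_apply, hw]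
      · simp [sub, val]
  have hrel : ∀ r ∈ (↑rels' : Set (FreeGroup (Fin (n + k)))), FreeGroup.lift val r = 1 := by
    intro r hr
    rcases Finset.mem_union.1 (Finset.mem_coe.1 hr) with hr | hr
    · obtain ⟨r₀, hr₀, rfl⟩ := Finset.mem_image.1 hr
      rw [← MonoidHom.comp_apply, hinc, MonoidHom.comp_apply, show π r₀ = 1 by
        simp only [π, MonoidHom.comp_apply]
        rw [PresentedGroup.one_of_mem (Finset.mem_coe.2 hr₀), map_one], map_one]
    · obtain ⟨r₀, hr₀, rfl⟩ := Finset.mem_image.1 hr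
      rw [← MonoidHom.comp_apply, hsub]
      exact hE r₀ hr₀
  have hφ : (PresentedGroup.toGroup hrel).comp mk' = FreeGroup.lift val :=
    FreeGroup.ext_hom _ _ fun i => by
      simp only [MonoidHom.comp_apply, FreeGroup.lift_apply_of]
      exact PresentedGroup.toGroup.of hrel
  refine ⟨PresentedGroup.toGroup hrel, MonoidHom.ext fun h => ?_, fun i => ?_⟩
  · rw [← hw h, MonoidHom.comp_apply, hψπ, ← MonoidHom.comp_apply _ mk', hφ, ← MonoidHom.comp_apply,
      hinc, MonoidHom.comp_apply, hw]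
  · show (PresentedGroup.toGroup hrel) (mk' (FreeGroup.of (Fin.natAdd n i))) = q i
    rw [← MonoidHom.comp_apply _ mk', hφ]
    simp [val]

section Frame

variable {F : Type u} [Field F] {k : ℕ} [NeZero k]

local notation "SLn" => SpecialLinearGroup (Fin (k + 2)) F
local notation "SLk" => SpecialLinearGroup (Fin k) F
local notation "SL2" => SpecialLinearGroup (Fin 2) F

/-- The first top index. -/
abbrev T0 (k : ℕ) : Fin (k + 2) := Fin.natAdd k 0

/-- The second top index. -/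
abbrev T1 (k : ℕ) : Fin (k + 2) := Fin.natAdd k 1

/-- A middle index. -/
abbrev mid {k : ℕ} (i : Fin k) : Fin (k + 2) := Fin.castAdd 2 i

theorem T_ne : T0 k ≠ T1 k := by simp [Fin.ext_iff]

theorem mid_ne (i : Fin k) : mid i ≠ T0 k ∧ mid i ≠ T1 k := by
  have := i.isLt
  simp [Fin.ext_iff]
  omega

theorem eq_mid (m : Fin (k + 2)) (h0 : m ≠ T0 k) (h1 : m ≠ T1 k) : ∃ i, m = mid i := by
  revert h0 h1
  refine Fin.addCases (fun i _ _ => ⟨i, rfl⟩) (fun j h0 h1 => ?_) m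
  fin_cases j
  · exact absurd rfl h0
  · exact absurd rfl h1

/-- The middle block. -/
def midH : SLk →* SLn := embL finSumFinEquiv

theorem midH_tv {i j : Fin k} (h : i ≠ j) (t : F) : midH (tv i j t) = (tv (mid i) (mid j) t : SLn) :=
  H40.Glue.embL_tv _ h t

/-- The top block. -/
def topH : SL2 →* SLn := blk (T0 k) (T1 k) T_ne

theorem commute_homs {ι κ : Type*} [Fintype ι] [DecidableEq ι] [Fintype κ] [DecidableEq κ]
    {G : Type*} [Group G] (f : SpecialLinearGroup ι F →* G) (g : SpecialLinearGroup κ F →* G)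
    (h : ∀ i j, i ≠ j → ∀ (t : F) (p q : κ), p ≠ q → ∀ s : F, Commute (f (tv i j t)) (g (tv p q s)))
    (x : SpecialLinearGroup ι F) (y : SpecialLinearGroup κ F) : Commute (f x) (g y) := by
  refine (Subgroup.mem_centralizer_singleton_iff.1 (H40.Glue.hom_mem f (Subgroup.centralizer {g y})
    (fun i j hij t => Subgroup.mem_centralizer_singleton_iff.2 ?_) x) :)
  exact (Subgroup.mem_centralizer_singleton_iff.1 (H40.Glue.hom_mem g
    (Subgroup.centralizer {f (tv i j t)})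
    (fun p q hpq s => Subgroup.mem_centralizer_singleton_iff.2 (h i j hij t p q hpq s).eq.symm) y) :).symm

theorem mid_top (g : SLk) (h : SL2) : Commute (midH (k := k) g) (topH (k := k) h) := by
  refine commute_homs midH topH (fun i j hij t p q hpq s => ?_) g h
  rw [midH_tv hij, topH]
  fin_cases p <;> fin_cases q <;> first | exact absurd rfl hpq | skip
  all_goals
    simp only [Fin.zero_eta, Fin.mk_one, H40.OmOrbit.blk_tv01, H40.OmOrbit.blk_tv10]
    refine H40.Glue.tv_strel.comm _ _ _ _ ?_ ?_ ?_ ?_ t s <;>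
      simp [T_ne, T_ne.symm, hij, (mid_ne i).1, (mid_ne i).2, (mid_ne j).1, (mid_ne j).2,
        Ne.symm (mid_ne i).1, Ne.symm (mid_ne i).2, Ne.symm (mid_ne j).1, Ne.symm (mid_ne j).2]

/-- The overlap. -/
def hov : SLk × SL2 →* SLn := MonoidHom.noncommCoprod midH topH mid_top

/-- The twist on the overlap. -/
def tw : SLk × SL2 →* SLk × SL2 := MonoidHom.prodMap (MonoidHom.id _) thT

theorem hov_apply (g : SLk) (h : SL2) : hov (k := k) (g, h) = midH g * topH h := rfl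

/-- The first block of a pair. -/
def P1 : SL2 →* SLn := blk (mid 0) (T0 k) (mid_ne 0).1

/-- The second block of a pair. -/
def P2 (i1 : Fin k) : SL2 →* SLn := blk (mid i1) (T1 k) (mid_ne i1).2

/-- The finitely many relations. -/
structure Rel4 {G : Type*} [Group G] (ψ : SLn →* G) (c : G) (i1 : Fin k)
    (S : Set (SLk × SL2)) (a b : SL2) : Prop where
  ovl : ∀ x ∈ S, c * ψ (hov x) * c⁻¹ = ψ (hov (tw x))
  r1 : Commute (ψ (P1 a * P2 i1 b)) (c * ψ (P1 a * P2 i1 b) * c⁻¹)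
  r2 : Commute (ψ (P1 a * P2 i1 b)) (c * ψ (P1 b * P2 i1 a) * c⁻¹)

variable {G : Type*} [Group G] {ψ : SpecialLinearGroup (Fin (k + 2)) F →* G} {c : G}

theorem hov_all {S : Set (SLk × SL2)} (hS : Subgroup.closure S = ⊤)
    (h : ∀ x ∈ S, c * ψ (hov x) * c⁻¹ = ψ (hov (tw x))) (x : SLk × SL2) :
    c * ψ (hov x) * c⁻¹ = ψ (hov (tw x)) := by
  have e := MonoidHom.eq_of_eqOn_dense hS
    (f := (MulAut.conj c).toMonoidHom.comp (ψ.comp hov)) (g := ψ.comp (hov.comp tw))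
    (fun x hx => by
      simp only [MonoidHom.comp_apply, MulEquiv.coe_toMonoidHom, MulAut.conj_apply]
      exact h x hx)
  have e' := DFunLike.congr_fun e x
  simp only [MonoidHom.comp_apply, MulEquiv.coe_toMonoidHom, MulAut.conj_apply] at e'
  exact e'

theorem Rel4.gdata (hk : 2 ≤ k) {i1 : Fin k} (hi : (0 : Fin k) ≠ i1) {S : Set (SLk × SL2)}
    (hS : Subgroup.closure S = ⊤) {a b : SL2} (hab : Subgroup.closure {a, b} = ⊤)
    (hco : Nat.Coprime (orderOf a) (orderOf b)) (R : Rel4 ψ c i1 S a b) :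
    GData ψ c (T0 k) (T1 k) := by
  classical
  have O := hov_all hS R.ovl
  have Omid : ∀ g : SLk, Commute c (ψ (midH g)) := by
    intro g
    have := O (g, 1)
    rw [tw, MonoidHom.prodMap] at this
    simp only [MonoidHom.prod_apply, MonoidHom.comp_apply, MonoidHom.coe_fst, MonoidHom.coe_snd,
      MonoidHom.id_apply, map_one, hov_apply, mul_one] at this
    exact mul_inv_eq_iff_eq_mul.1 this
  have Otop : ∀ h : SL2, c * ψ (topH h) * c⁻¹ = ψ (topH (thT h)) := by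
    intro h
    have := O (1, h)
    rw [tw, MonoidHom.prodMap] at this
    simpa [hov_apply] using this
  have fixm : ∀ m m', m ≠ T0 k → m ≠ T1 k → m' ≠ T0 k → m' ≠ T1 k → m ≠ m' → ∀ s : F,
      Commute c (ψ (tv m m' s)) := by
    intro m m' h1 h2 h3 h4 hne s
    obtain ⟨i, rfl⟩ := eq_mid m h1 h2
    obtain ⟨j, rfl⟩ := eq_mid m' h3 h4
    rw [← midH_tv (fun e => hne (by rw [e]))]
    exact Omid _
  have topm : ∀ t t', Pr t t' (T0 k) (T1 k) → ∀ s : F,
      c * ψ (tv t t' s) * c⁻¹ = ψ (tv t' t (-s)) := by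
    rintro t t' (⟨rfl, rfl⟩ | ⟨rfl, rfl⟩) s
    · have := Otop (tv 0 1 s)
      rwa [H40.OmOrbit.thT_tv (show (0 : Fin 2) ≠ 1 by decide), topH, H40.OmOrbit.blk_tv01,
        H40.OmOrbit.blk_tv10] at this
    · have := Otop (tv 1 0 s)
      rwa [H40.OmOrbit.thT_tv (show (1 : Fin 2) ≠ 0 by decide), topH, H40.OmOrbit.blk_tv01,
        H40.OmOrbit.blk_tv10] at this
  -- the elements moving indices
  let Mv : SLn → Prop := fun g => Commute c (ψ g)
  let Snd : SLn → Fin (k + 2) → Fin (k + 2) → Prop := fun g p q =>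
    ∃ e : F, g.1 *ᵥ δ p = e • δ q ∧ (thT g).1 *ᵥ δ p = e • δ q
  have snd_mul : ∀ {g h : SLn} {p q r}, Snd g q r → Snd h p q → Snd (g * h) p r := by
    rintro g h p q r ⟨e, e1, e2⟩ ⟨f, f1, f2⟩
    refine ⟨f * e, ?_, ?_⟩
    · rw [H40.OmModel.cmul, ← mulVec_mulVec, f1, mulVec_smul, e1, smul_smul]
    · rw [map_mul, H40.OmModel.cmul, ← mulVec_mulVec, f2, mulVec_smul, e2, smul_smul]
  have snd_one : ∀ p, Snd 1 p p := fun p => ⟨1, by rw [H40.OmModel.cone, one_mulVec, one_smul],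
    by rw [map_one, H40.OmModel.cone, one_mulVec, one_smul]⟩
  have tmat : ((H40.CRW.tS : SL2)⁻¹).1 = !![0, -1; 1, 0] := by
    show adjugate (H40.CRW.tS : SL2).1 = _
    rw [H40.CRW.coe_tS, adjugate_fin_two_of]; simp
  have blk_snd : ∀ (p q : Fin (k + 2)) (h : p ≠ q),
      Snd (blk p q h (H40.CRW.tS : SL2)) p q ∧ Snd (blk p q h (H40.CRW.tS : SL2)) q p ∧
      ∀ r, r ≠ p → r ≠ q → Snd (blk p q h (H40.CRW.tS : SL2)) r r := by
    intro p q h
    have bm := fun x => H40.OmOrbit.blk_mulVec (F := F) h (H40.CRW.tS) x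
    have bi := fun x => H40.OmOrbit.blk_mulVec (F := F) h (H40.CRW.tS)⁻¹ x
    refine ⟨⟨-1, ?_, ?_⟩, ⟨1, ?_, ?_⟩, fun r hrp hrq => ⟨1, ?_, ?_⟩⟩
    all_goals
      funext i
      first
        | rw [H40.OmOrbit.thT_blk_mulVec]
        | skip
    · obtain ⟨e1, e2, e3⟩ := bm (δ p)
      by_cases hi : i = p
      · subst hi; rw [e1, H40.CRW.coe_tS]; simp [h, h.symm]
      by_cases hi' : i = q
      · subst hi'; rw [e2, H40.CRW.coe_tS]; simp [h, h.symm]
      rw [e3 i hi hi']; simp [hi, hi']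
    · obtain ⟨e1, e2, e3⟩ := bi (δ i)
      rw [e1, tmat]
      by_cases hi' : i = q
      · subst hi'; simp [h, h.symm]
      · simp [hi', Ne.symm hi']
    · obtain ⟨e1, e2, e3⟩ := bm (δ q)
      by_cases hi : i = p
      · subst hi; rw [e1, H40.CRW.coe_tS]; simp [h, h.symm]
      by_cases hi' : i = q
      · subst hi'; rw [e2, H40.CRW.coe_tS]; simp [h, h.symm]
      rw [e3 i hi hi']; simp [hi, hi']
    · obtain ⟨e1, e2, e3⟩ := bi (δ i)
      rw [e2, tmat]
      by_cases hi' : i = p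
      · subst hi'; simp [h, h.symm]
      · simp [hi', Ne.symm hi']
    · obtain ⟨e1, e2, e3⟩ := bm (δ r)
      by_cases hi : i = p
      · subst hi; rw [e1]; simp [hrp.symm, hrq.symm]
      by_cases hi' : i = q
      · subst hi'; rw [e2]; simp [hrp.symm, hrq.symm]
      rw [e3 i hi hi']; simp
    · obtain ⟨e1, e2, e3⟩ := bi (δ i)
      rw [e3 r hrp hrq]
      by_cases hi' : i = r
      · subst hi'; simp
      · simp [hi', Ne.symm hi']
  have mvT : Mv (blk (T0 k) (T1 k) T_ne (H40.CRW.tS : SL2)) := by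
    have e : thT (H40.CRW.tS : SL2) = H40.CRW.tS := by
      apply Subtype.ext
      rw [H40.OmModel.coe_thT, tmat, H40.CRW.coe_tS]
      ext i j; fin_cases i <;> fin_cases j <;> simp
    have := Otop H40.CRW.tS
    rw [e] at this
    exact mul_inv_eq_iff_eq_mul.1 this
  have mvM : ∀ (p q : Fin (k + 2)) (h : p ≠ q), p ≠ T0 k → p ≠ T1 k → q ≠ T0 k → q ≠ T1 k →
      Mv (blk p q h (H40.CRW.tS : SL2)) := by
    intro p q h h1 h2 h3 h4
    refine (Subgroup.mem_centralizer_singleton_iff.1 (H40.OmOrbit.blk_mem h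
      (C := (Subgroup.centralizer {c}).comap ψ) (fun s => ?_) (fun s => ?_) _)).symm
    · exact Subgroup.mem_centralizer_singleton_iff.2 (fixm p q h1 h2 h3 h4 h s).eq.symm
    · exact Subgroup.mem_centralizer_singleton_iff.2 (fixm q p h3 h4 h1 h2 h.symm s).eq.symm
  have mvmul : ∀ {g h : SLn}, Mv g → Mv h → Mv (g * h) := fun {g h} hg hh => by
    show Commute c (ψ (g * h))
    rw [map_mul]; exact hg.mul_right hh
  have cjm : ∀ {g : SLn}, Mv g → ∀ x : SLn, ψ g * (c * ψ x * c⁻¹) * (ψ g)⁻¹ =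
      c * ψ (g * x * g⁻¹) * c⁻¹ := by
    intro g hg x
    have e : ψ g = c * ψ g * c⁻¹ := by rw [hg.eq, mul_inv_cancel_right]
    calc ψ g * (c * ψ x * c⁻¹) * (ψ g)⁻¹
        = (c * ψ g * c⁻¹) * (c * ψ x * c⁻¹) * (c * ψ g * c⁻¹)⁻¹ := by rw [← e]
      _ = _ := H40.OmOrbit.cj_conj g x
  -- the standard commutation
  have hm01 : mid (k := k) 0 ≠ mid i1 := fun e => hi (Fin.castAdd_injective k 2 e)
  set m0 := mid (k := k) 0 with hm0
  set m1 := mid i1 with hm1
  have std : ∀ s s', Commute (ψ (P1 s)) (c * ψ (P1 s') * c⁻¹) ∧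
      Commute (ψ (P1 s)) (c * ψ (P2 i1 s') * c⁻¹) := by
    set w : SLn := blk m0 m1 hm01 H40.CRW.tS * blk (T0 k) (T1 k) T_ne H40.CRW.tS with hw
    have hmw : Mv w := mvmul (mvM _ _ _ (mid_ne _).1 (mid_ne _).2 (mid_ne _).1 (mid_ne _).2) mvT
    have Pc : ∀ x y, Commute (P1 (k := k) x) (P2 i1 (y : SL2)) := by
      refine commute_homs P1 (P2 i1) fun i j hij t p q hpq u => ?_
      rw [P1, P2]
      fin_cases i <;> fin_cases j <;> fin_cases p <;> fin_cases q <;>
        first | exact absurd rfl hij | exact absurd rfl hpq | skip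
      all_goals
        simp only [Fin.zero_eta, Fin.mk_one, H40.OmOrbit.blk_tv01, H40.OmOrbit.blk_tv10]
        refine H40.Glue.tv_strel.comm _ _ _ _ ?_ ?_ ?_ ?_ t u <;>
          simp [T_ne, T_ne.symm, hm01, hm01.symm, hi, hi.symm, Fin.castAdd_inj, (mid_ne (0 : Fin k)).1, (mid_ne (0 : Fin k)).2,
            (mid_ne i1).1, (mid_ne i1).2, Ne.symm (mid_ne (0 : Fin k)).1,
            Ne.symm (mid_ne (0 : Fin k)).2, Ne.symm (mid_ne i1).1, Ne.symm (mid_ne i1).2]
    -- separation by powers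
    have split : ∀ (x y : SL2), Nat.Coprime (orderOf x) (orderOf y) → ∀ z : G,
        Commute (ψ (P1 x * P2 i1 y)) z → Commute (ψ (P1 x)) z ∧ Commute (ψ (P2 i1 y)) z := by
      intro x y hxy z hz
      obtain ⟨e, he1, he2⟩ := Nat.chineseRemainder hxy 1 0
      have hx : (P1 (k := k) x * P2 i1 y) ^ e = P1 x := by
        rw [(Pc x y).mul_pow, ← map_pow, ← map_pow, pow_eq_pow_iff_modEq.2 he1, pow_one,
          pow_eq_pow_iff_modEq.2 he2, pow_zero, map_one, mul_one]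
      have h1 : Commute (ψ (P1 x)) z := by rw [← hx, map_pow]; exact hz.pow_left e
      refine ⟨h1, ?_⟩
      have : ψ (P2 i1 y) = (ψ (P1 x))⁻¹ * ψ (P1 x * P2 i1 y) := by rw [map_mul]; group
      rw [this]
      exact h1.inv_left.mul_left hz
    have split2 : ∀ (x y x' y' : SL2), Nat.Coprime (orderOf x) (orderOf y) →
        Nat.Coprime (orderOf x') (orderOf y') →
        Commute (ψ (P1 x * P2 i1 y)) (c * ψ (P1 x' * P2 i1 y') * c⁻¹) →
        Commute (ψ (P1 x)) (c * ψ (P1 x') * c⁻¹) ∧ Commute (ψ (P1 x)) (c * ψ (P2 i1 y') * c⁻¹) ∧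
        Commute (ψ (P2 i1 y)) (c * ψ (P1 x') * c⁻¹) ∧ Commute (ψ (P2 i1 y)) (c * ψ (P2 i1 y') * c⁻¹) := by
      intro x y x' y' h h' hc'
      obtain ⟨a1, a2⟩ := split x y h _ hc'
      have sw : ∀ {z : G}, Commute z (c * ψ (P1 x' * P2 i1 y') * c⁻¹) →
          Commute z (c * ψ (P1 x') * c⁻¹) ∧ Commute z (c * ψ (P2 i1 y') * c⁻¹) := by
        intro z hz
        have hz' : Commute (ψ (P1 x' * P2 i1 y')) (c⁻¹ * z * c) := by
          have := (H40.Glue.commute_conj_iff c⁻¹).2 hz.symm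
          simpa [mul_assoc] using this
        obtain ⟨b1, b2⟩ := split x' y' h' _ hz'
        have f : ∀ {u : G}, Commute u (c⁻¹ * z * c) → Commute z (c * u * c⁻¹) := fun hu => by
          have := ((H40.Glue.commute_conj_iff c).2 hu).symm
          simpa [mul_assoc] using this
        exact ⟨f b1, f b2⟩
      exact ⟨(sw a1).1, (sw a1).2, (sw a2).1, (sw a2).2⟩
    have q1 := split2 a b a b hco hco R.r1
    have q2 := split2 a b b a hco hco.symm R.r2
    -- exchange of the two blocks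
    have swap : ∀ s : SL2, w * P1 s * w⁻¹ = P2 i1 s ∧ w * P2 i1 s * w⁻¹ = P1 s := by
      have n1 := blk_snd m0 m1 hm01
      have n2 := blk_snd (T0 k) (T1 k) T_ne
      have w0 : Snd w m0 m1 := snd_mul n1.1 (n2.2.2 m0 (mid_ne _).1 (mid_ne _).2)
      have w1 : Snd w m1 m0 := snd_mul n1.2.1 (n2.2.2 m1 (mid_ne _).1 (mid_ne _).2)
      have w2 : Snd w (T0 k) (T1 k) :=
        snd_mul (n1.2.2 _ (mid_ne _).2.symm (mid_ne _).2.symm) n2.1
      have w3 : Snd w (T1 k) (T0 k) :=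
        snd_mul (n1.2.2 _ (mid_ne _).1.symm (mid_ne _).1.symm) n2.2.1
      have key : ∀ {p q p' q' : Fin (k + 2)}, p ≠ q → p' ≠ q' → ∀ e e' : F,
          w.1 *ᵥ δ p = e • δ p' → (thT w).1 *ᵥ δ q = e' • δ q' → ∀ t : F, e * e' = 1 →
          w * tv p q t * w⁻¹ = tv p' q' t := by
        intro p q p' q' h h' e e' h1 h2 t he
        rw [H40.OmOrbit.conj_tv h h' w h1 h2, mul_right_comm, he, one_mul]
      have bm0 := fun x => H40.OmOrbit.blk_mulVec (F := F) hm01 (H40.CRW.tS) x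
      obtain ⟨e0, a0, a0'⟩ := w0
      obtain ⟨e1, a1, a1'⟩ := w1
      obtain ⟨e2, a2, a2'⟩ := w2
      obtain ⟨e3, a3, a3'⟩ := w3
      -- the scalars
      have sc : ∀ {p q : Fin (k + 2)} {e : F}, w.1 *ᵥ δ p = e • δ q →
          (w.1 *ᵥ δ p) q = e := fun h => by rw [h]; simp
      have v0 : e0 = -1 := by
        rw [← sc a0, hw, H40.OmModel.cmul, ← mulVec_mulVec]
        obtain ⟨f, f1, -⟩ := n2.2.2 m0 (mid_ne _).1 (mid_ne _).2
        have hf : f = 1 := by
          have := congrFun f1 m0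
          obtain ⟨-, -, e3'⟩ := H40.OmOrbit.blk_mulVec (F := F) T_ne (H40.CRW.tS) (δ m0)
          rw [e3' m0 (mid_ne _).1 (mid_ne _).2] at this
          simpa using this.symm
        rw [f1, hf, one_smul, (bm0 (δ m0)).2.1, H40.CRW.coe_tS]
        simp [hm01]
      have v1 : e1 = 1 := by
        rw [← sc a1, hw, H40.OmModel.cmul, ← mulVec_mulVec]
        obtain ⟨f, f1, -⟩ := n2.2.2 m1 (mid_ne _).1 (mid_ne _).2
        have hf : f = 1 := by
          have := congrFun f1 m1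
          obtain ⟨-, -, e3'⟩ := H40.OmOrbit.blk_mulVec (F := F) T_ne (H40.CRW.tS) (δ m1)
          rw [e3' m1 (mid_ne _).1 (mid_ne _).2] at this
          simpa using this.symm
        rw [f1, hf, one_smul, (bm0 (δ m1)).1, H40.CRW.coe_tS]
        simp [hm01.symm]
      have bmT := fun x => H40.OmOrbit.blk_mulVec (F := F) (T_ne (k := k)) (H40.CRW.tS) x
      have v2 : e2 = -1 := by
        rw [← sc a2, hw, H40.OmModel.cmul, ← mulVec_mulVec]
        have : (blk (T0 k) (T1 k) T_ne (H40.CRW.tS : SL2)).1 *ᵥ δ (T0 k) =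
            (-1 : F) • δ (T1 k) := by
          funext i
          obtain ⟨x1, x2, x3⟩ := bmT (δ (T0 k))
          by_cases hi : i = T0 k
          · subst hi; rw [x1, H40.CRW.coe_tS]; simp [T_ne, T_ne.symm]
          by_cases hi' : i = T1 k
          · subst hi'; rw [x2, H40.CRW.coe_tS]; simp [T_ne, T_ne.symm]
          rw [x3 i hi hi']; simp [hi, hi']
        rw [this, mulVec_smul, Pi.smul_apply,
          (bm0 (δ (T1 k))).2.2 _ (mid_ne _).2.symm (mid_ne _).2.symm]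
        simp
      have v3 : e3 = 1 := by
        rw [← sc a3, hw, H40.OmModel.cmul, ← mulVec_mulVec]
        have : (blk (T0 k) (T1 k) T_ne (H40.CRW.tS : SL2)).1 *ᵥ δ (T1 k) = δ (T0 k) := by
          funext i
          obtain ⟨x1, x2, x3⟩ := bmT (δ (T1 k))
          by_cases hi : i = T0 k
          · subst hi; rw [x1, H40.CRW.coe_tS]; simp [T_ne, T_ne.symm]
          by_cases hi' : i = T1 k
          · subst hi'; rw [x2, H40.CRW.coe_tS]; simp [T_ne, T_ne.symm]
          rw [x3 i hi hi']; simp [hi, hi']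
        rw [this, (bm0 (δ (T0 k))).2.2 _ (mid_ne _).1.symm (mid_ne _).1.symm]
        simp
      subst v0 v1 v2 v3
      intro s
      constructor
      · refine DFunLike.congr_fun (H40.GlueSmall.hom_ext_tv
          ((MulAut.conj w).toMonoidHom.comp P1) (P2 i1) (fun t => ?_) (fun t => ?_)) s
        · show w * P1 (tv 0 1 t) * w⁻¹ = P2 i1 (tv 0 1 t)
          rw [P1, P2, H40.OmOrbit.blk_tv01, H40.OmOrbit.blk_tv01]
          exact key (mid_ne _).1 (mid_ne _).2 _ _ a0 a2' t (by norm_num)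
        · show w * P1 (tv 1 0 t) * w⁻¹ = P2 i1 (tv 1 0 t)
          rw [P1, P2, H40.OmOrbit.blk_tv10, H40.OmOrbit.blk_tv10]
          exact key (mid_ne _).1.symm (mid_ne _).2.symm _ _ a2 a0' t (by norm_num)
      · refine DFunLike.congr_fun (H40.GlueSmall.hom_ext_tv
          ((MulAut.conj w).toMonoidHom.comp (P2 i1)) P1 (fun t => ?_) (fun t => ?_)) s
        · show w * P2 i1 (tv 0 1 t) * w⁻¹ = P1 (tv 0 1 t)
          rw [P1, P2, H40.OmOrbit.blk_tv01, H40.OmOrbit.blk_tv01]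
          exact key (mid_ne _).2 (mid_ne _).1 _ _ a1 a3' t (by norm_num)
        · show w * P2 i1 (tv 1 0 t) * w⁻¹ = P1 (tv 1 0 t)
          rw [P1, P2, H40.OmOrbit.blk_tv10, H40.OmOrbit.blk_tv10]
          exact key (mid_ne _).2.symm (mid_ne _).1.symm _ _ a3 a1' t (by norm_num)
    have conjw : ∀ {x y : SLn}, Commute (ψ x) (c * ψ y * c⁻¹) →
        Commute (ψ (w * x * w⁻¹)) (c * ψ (w * y * w⁻¹) * c⁻¹) := by
      intro x y h
      rw [← cjm hmw, map_mul, map_mul, map_inv]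
      exact (H40.Glue.commute_conj_iff (ψ w)).2 h
    have bb1 : Commute (ψ (P1 b)) (c * ψ (P1 b) * c⁻¹) := by
      have := conjw q1.2.2.2; rwa [(swap b).2] at this
    have ba1 : Commute (ψ (P1 b)) (c * ψ (P1 a) * c⁻¹) := by
      have := conjw q2.2.2.2; rwa [(swap b).2, (swap a).2] at this
    have ba2 : Commute (ψ (P1 b)) (c * ψ (P2 i1 a) * c⁻¹) := by
      have := conjw q1.2.2.1; rwa [(swap b).2, (swap a).1] at this
    have bb2 : Commute (ψ (P1 b)) (c * ψ (P2 i1 b) * c⁻¹) := by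
      have := conjw q2.2.2.1; rwa [(swap b).2, (swap b).1] at this
    have ext : ∀ (f g : SL2 →* G), (∀ x ∈ ({a, b} : Set SL2), ∀ y ∈ ({a, b} : Set SL2),
        Commute (f x) (g y)) → ∀ x y, Commute (f x) (g y) := by
      intro f g h x y
      refine H40.SpPres.commute_closure g (f x) _ hab (fun y hy => ?_) y
      exact (H40.SpPres.commute_closure f (g y) _ hab (fun x hx => (h x hx y hy).symm) x).symm
    intro s s'
    refine ⟨ext (ψ.comp P1) ((MulAut.conj c).toMonoidHom.comp (ψ.comp P1)) ?_ s s',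
      ext (ψ.comp P1) ((MulAut.conj c).toMonoidHom.comp (ψ.comp (P2 i1))) ?_ s s'⟩
    · rintro x (rfl | rfl) y (rfl | rfl)
      exacts [q1.1, q2.1, ba1, bb1]
    · rintro x (rfl | rfl) y (rfl | rfl)
      exacts [q2.2.1, q1.2.1, ba2, bb2]
  refine ⟨T_ne, by omega, fixm, topm, ?_⟩
  intro m m' t t' p q r s h1 h2 h3 h4 ht ht' hiff hp hr α β
  -- moving to the standard indices
  have mvtop : ∀ u, u = T0 k ∨ u = T1 k → ∃ g, Mv g ∧ Snd g (T0 k) u ∧
      (∀ u', (u' = T0 k ∨ u' = T1 k) → u' ≠ u → Snd g (T1 k) u') ∧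
      ∀ x, x ≠ T0 k → x ≠ T1 k → Snd g x x := by
    rintro u (rfl | rfl)
    · exact ⟨1, by show Commute c (ψ 1); rw [map_one]; exact Commute.one_right _, snd_one _,
        fun u' hu' hne => by rw [hu'.resolve_left hne]; exact snd_one _, fun x _ _ => snd_one x⟩
    · obtain ⟨n1, n2, n3⟩ := blk_snd (T0 k) (T1 k) T_ne
      exact ⟨_, mvT, n1, fun u' hu' hne => by rw [hu'.resolve_right hne]; exact n2, n3⟩
  have mvmid : ∀ p p' : Fin (k + 2), p ≠ T0 k → p ≠ T1 k → p' ≠ T0 k → p' ≠ T1 k →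
      ∃ g, Mv g ∧ Snd g p p' ∧ (∀ x, x ≠ p → x ≠ p' → Snd g x x) ∧
        ∀ x, x ≠ T0 k → x ≠ T1 k → x ≠ p → ∃ y, y ≠ T0 k ∧ y ≠ T1 k ∧ y ≠ p' ∧ Snd g x y := by
    intro p p' a1 a2 a3 a4
    by_cases h : p = p'
    · subst h
      exact ⟨1, by show Commute c (ψ 1); rw [map_one]; exact Commute.one_right _, snd_one _,
        fun x _ _ => snd_one x, fun x b1 b2 b3 => ⟨x, b1, b2, b3, snd_one x⟩⟩
    obtain ⟨n1, n2, n3⟩ := blk_snd p p' h
    refine ⟨_, mvM p p' h a1 a2 a3 a4, n1, n3, fun x b1 b2 b3 => ?_⟩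
    by_cases hx : x = p'
    · subst hx; exact ⟨p, a1, a2, h, n2⟩
    · exact ⟨x, b1, b2, hx, n3 x b3 hx⟩
  obtain ⟨gT, hgT, sT0, sT1, sTm⟩ := mvtop t ht
  obtain ⟨gA, hgA, sA, sAf, sAm⟩ := mvmid m0 m (mid_ne _).1 (mid_ne _).2 h1 h2
  obtain ⟨mx, tx, hmx, htx, g, hgMv, sm, st, sm', st', hstd⟩ : ∃ (mx tx : Fin (k + 2)) (_ : mx ≠ T0 k ∧ mx ≠ T1 k)
      (_ : tx = T0 k ∨ tx = T1 k) (g : SLn), Mv g ∧ Snd g m0 m ∧ Snd g (T0 k) t ∧ Snd g mx m' ∧
        Snd g tx t' ∧ ∀ s s' : SL2, ∀ h : mx ≠ tx,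
          Commute (ψ (P1 s)) (c * ψ (blk mx tx h s') * c⁻¹) := by
    have sAT : ∀ {u}, (u = T0 k ∨ u = T1 k) → Snd gA u u := fun {u} hu => sAf u
      (fun e => hu.elim (fun e' => (mid_ne (0 : Fin k)).1 (e.symm.trans e'))
        fun e' => (mid_ne (0 : Fin k)).2 (e.symm.trans e'))
      (fun e => hu.elim (fun e' => h1 (e.symm.trans e')) fun e' => h2 (e.symm.trans e'))
    by_cases hm : m = m'
    · obtain rfl := hiff.1 hm
      subst hm
      refine ⟨m0, T0 k, mid_ne _, Or.inl rfl, gA * gT, mvmul hgA hgT,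
        snd_mul sA (sTm _ (mid_ne _).1 (mid_ne _).2), snd_mul (sAT ht) sT0,
        snd_mul sA (sTm _ (mid_ne _).1 (mid_ne _).2), snd_mul (sAT ht) sT0, fun s s' h => ?_⟩
      exact (std s s').1
    · have htt : t ≠ t' := fun e => hm (hiff.2 e)
      obtain ⟨y, y0, y1, ym, sy⟩ := sAm m1 (mid_ne _).1 (mid_ne _).2 hm01.symm
      obtain ⟨gB, hgB, sB, sBf, -⟩ := mvmid y m' y0 y1 h3 h4
      have top' : ∀ u, (u = T0 k ∨ u = T1 k) → Snd gB u u := fun u hu => sBf u
        (fun e => hu.elim (fun e' => y0 (e.symm.trans e')) fun e' => y1 (e.symm.trans e'))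
        (fun e => hu.elim (fun e' => h3 (e.symm.trans e')) fun e' => h4 (e.symm.trans e'))
      refine ⟨m1, T1 k, mid_ne _, Or.inr rfl, gB * (gA * gT), mvmul hgB (mvmul hgA hgT), ?_, ?_,
        ?_, ?_, fun s s' h => ?_⟩
      · exact snd_mul (sBf m (Ne.symm ym) hm) (snd_mul sA (sTm _ (mid_ne _).1 (mid_ne _).2))
      · exact snd_mul (top' t ht) (snd_mul (sAT ht) sT0)
      · exact snd_mul sB (snd_mul sy (sTm _ (mid_ne _).1 (mid_ne _).2))
      · exact snd_mul (top' t' ht') (snd_mul (sAT ht') (sT1 t' ht' (Ne.symm htt)))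
      · exact (std s s').2
  have hmt : ∀ {x y : Fin (k + 2)}, x ≠ T0 k → x ≠ T1 k → (y = T0 k ∨ y = T1 k) → x ≠ y :=
    fun hx hx' hy e => hy.elim (fun e' => hx (e.trans e')) fun e' => hx' (e.trans e')
  have hne0 : m0 ≠ T0 k := (mid_ne _).1
  have hnex : mx ≠ tx := hmt hmx.1 hmx.2 htx
  obtain ⟨em, am, am'⟩ := sm
  obtain ⟨et, at', at''⟩ := st
  obtain ⟨em', bm, bm'⟩ := sm'
  obtain ⟨et', bt, bt'⟩ := st'
  have nz : ∀ {h : SLn} {p q : Fin (k + 2)} {e : F}, h.1 *ᵥ δ p = e • δ q → e ≠ 0 := by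
    intro h p q e he he0
    rw [he0, zero_smul] at he
    have := H40.OmOrbit.mulVec_inv he
    rw [mulVec_zero] at this
    simpa using congrFun this p
  have hmtne := hmt h1 h2 ht
  have hmtne' := hmt h3 h4 ht'
  have pre : ∀ α : F, ∃ x : SL2, ψ (tv p q α) = ψ g * ψ (P1 x) * (ψ g)⁻¹ := by
    intro α
    have hz := mul_ne_zero (nz am) (nz at')
    rcases hp with ⟨rfl, rfl⟩ | ⟨rfl, rfl⟩
    · refine ⟨tv 0 1 (α / (em * et)), ?_⟩
      rw [P1, H40.OmOrbit.blk_tv01, ← map_inv, ← map_mul, ← map_mul,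
        H40.OmOrbit.conj_tv hne0 hmtne g am at'']
      congr 2
      field_simp [hz, nz am, nz at']
    · refine ⟨tv 1 0 (α / (em * et)), ?_⟩
      rw [P1, H40.OmOrbit.blk_tv10, ← map_inv, ← map_mul, ← map_mul,
        H40.OmOrbit.conj_tv hne0.symm hmtne.symm g at' am']
      congr 2
      field_simp [hz, nz am, nz at']
  have pre' : ∀ β : F, ∃ x : SL2, c * ψ (tv r s β) * c⁻¹ =
      ψ g * (c * ψ (blk mx tx hnex x) * c⁻¹) * (ψ g)⁻¹ := by
    intro β
    have hz := mul_ne_zero (nz bm) (nz bt)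
    rcases hr with ⟨rfl, rfl⟩ | ⟨rfl, rfl⟩
    · refine ⟨tv 0 1 (β / (em' * et')), ?_⟩
      rw [cjm hgMv, H40.OmOrbit.blk_tv01, H40.OmOrbit.conj_tv hnex hmtne' g bm bt']
      congr 3
      field_simp [hz, nz bm, nz bt]
    · refine ⟨tv 1 0 (β / (em' * et')), ?_⟩
      rw [cjm hgMv, H40.OmOrbit.blk_tv10, H40.OmOrbit.conj_tv hnex.symm hmtne'.symm g bt bm']
      congr 3
      field_simp [hz, nz bm, nz bt]
  obtain ⟨x, ex⟩ := pre α
  obtain ⟨x', ex'⟩ := pre' β
  rw [ex, ex']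
  exact (H40.Glue.commute_conj_iff (ψ g)).2 (hstd x x' hnex)

/-- The sum of the two copies. -/
def two {G : Type*} [Group G] (ψ : SLn →* G) (c : G) : Subgroup G :=
  ψ.range ⊔ ((MulAut.conj c).toMonoidHom.comp ψ).range

theorem psi_two (g : SLn) : ψ g ∈ two ψ c := Subgroup.mem_sup_left ⟨g, rfl⟩

theorem cj_two (g : SLn) : c * ψ g * c⁻¹ ∈ two ψ c := Subgroup.mem_sup_right ⟨g, rfl⟩

theorem m0_ne : mid (k := k) 0 ≠ T0 k ∧ mid (k := k) 0 ≠ T1 k := mid_ne 0

/-- The upper radical. -/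
noncomputable def UU (D : GData ψ c (T0 k) (T1 k)) : Multiplicative (altM (k + 2) F) →* G :=
  H40.OmOrbit.U D m0_ne.1 m0_ne.2

/-- The lower radical. -/
noncomputable def WW (D : GData ψ c (T0 k) (T1 k)) : Multiplicative (altM (k + 2) F) →* G :=
  H40.OmOrbit.W D m0_ne.1 m0_ne.2

theorem UU_mem (D : GData ψ c (T0 k) (T1 k)) {K : Subgroup G} (hψ : ∀ g, ψ g ∈ K)
    (hc : ∀ g, c * ψ g * c⁻¹ ∈ K) (S : Multiplicative (altM (k + 2) F)) : UU D S ∈ K := by
  classical
  induction S using Multiplicative.rec with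
  | ofAdd S =>
  rw [← H40.OmOrbit.sum_aM S]
  refine Finset.sum_induction _ (fun S : altM (k + 2) F => UU D (.ofAdd S) ∈ K)
    (fun a b ha hb => by rw [ofAdd_add, map_mul]; exact mul_mem ha hb)
    (by rw [ofAdd_zero, map_one]; exact one_mem _) (fun p _ => ?_)
  rw [UU, H40.OmOrbit.U_basis D m0_ne.1 m0_ne.2 p.2.ne, H40.OmOrbit.O]
  split_ifs
  · exact mul_mem (mul_mem (hψ _) (hc _)) (inv_mem (hψ _))
  · exact one_mem _

theorem WW_mem (D : GData ψ c (T0 k) (T1 k)) {K : Subgroup G} (hψ : ∀ g, ψ g ∈ K)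
    (hc : ∀ g, c * ψ g * c⁻¹ ∈ K) (S : Multiplicative (altM (k + 2) F)) : WW D S ∈ K :=
  UU_mem D.dual (fun g => hψ _) (fun g => hc _) S

theorem U_congr {n : ℕ} {t0 t1 m0 : Fin n} {ψ ψ' : SpecialLinearGroup (Fin n) F →* G} (e : ψ' = ψ)
    (D : GData ψ c t0 t1) (D' : GData ψ' c t0 t1) (h0 : m0 ≠ t0) (h1 : m0 ≠ t1) :
    H40.OmOrbit.U D' h0 h1 = H40.OmOrbit.U D h0 h1 := by
  subst e; rfl

theorem rdata (D : GData ψ c (T0 k) (T1 k)) (π : G →* orthGroup (qPlus (k + 2) F))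
    (hψ : π.comp ψ = lev) (hc : π c = H40.OmTarget.cm F (T0 k) (T1 k)) :
    H40.OmFamily.RData ψ (UU D) (WW D) π := by
  have hn := D.hn
  have hbb : ∀ x, π (c * ψ x * c⁻¹) =
      H40.OmTarget.cm F (T0 k) (T1 k) * lev x * (H40.OmTarget.cm F (T0 k) (T1 k))⁻¹ := by
    intro x
    rw [map_mul, map_mul, map_inv, hc, ← MonoidHom.comp_apply, hψ]
  have eU := H40.OmOrbit.pi_U D m0_ne.1 m0_ne.2 π hψ (by
    rw [H40.OmOrbit.bb, hbb, H40.OmTarget.bb_U m0_ne.1 m0_ne.2 (Or.inl rfl), one_smul])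
  have eW := H40.OmOrbit.pi_W D m0_ne.1 m0_ne.2 π hψ (by
    rw [H40.OmOrbit.bb, hbb, H40.OmTarget.bb_W m0_ne.1 m0_ne.2 (Or.inl rfl)]
    congr 2
    apply Subtype.ext
    ext i j
    simp [H40.OmModel.aM_coe, vecMulVec_apply]
    ring)
  refine
    { hn := hn
      psi := fun g => DFunLike.congr_fun hψ g
      upper := fun S => DFunLike.congr_fun eU S
      lower := fun S => DFunLike.congr_fun eW S
      conjU := H40.OmOrbit.U_conj D m0_ne.1 m0_ne.2
      conjW := H40.OmOrbit.W_conj D m0_ne.1 m0_ne.2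
      mixU := fun p q r s h1 h2 h3 a b => H40.OmOrbit.mixed D m0_ne.1 m0_ne.2 h1 h2 h3 a b
      mixW := fun p q r s h1 h2 h3 a b => ?_
      pair := fun p q hpq z hz hz1 => ?_ }
  · obtain ⟨g, S, e⟩ := H40.OmOrbit.mixed D.dual m0_ne.1 m0_ne.2 h1 h2 h3 a b
    have e2 : H40.OmOrbit.W D.dual m0_ne.1 m0_ne.2 = UU D := by
      rw [H40.OmOrbit.W]
      exact U_congr (MonoidHom.ext fun x => by simp [H40.OmModel.thT_thT]) D _ _ _
    rw [e2] at e
    exact ⟨thT g, S, e⟩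
  classical
  set m0 := mid (k := k) 0
  obtain ⟨f, hf, a0, a1, -⟩ := H40.OmOrbit.exists_four D m0_ne.1 m0_ne.2 m0_ne.1 m0_ne.2 T_ne
  obtain ⟨r, hr1, hr2⟩ : ∃ r, p ≠ r ∧ q ≠ r := by
    have h : ({p, q} : Finset (Fin (k + 2))).card < (Finset.univ : Finset (Fin (k + 2))).card := by
      rw [Finset.card_univ, Fintype.card_fin]
      exact lt_of_le_of_lt Finset.card_le_two (by omega)
    obtain ⟨r, -, hr⟩ := Finset.exists_mem_notMem_of_card_lt_card h
    simp only [Finset.mem_insert, Finset.mem_singleton, not_or] at hr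
    exact ⟨r, Ne.symm hr.1, Ne.symm hr.2⟩
  obtain ⟨f', hf', b0, b1, -⟩ := H40.OmOrbit.exists_four D m0_ne.1 m0_ne.2 hpq hr1 hr2
  obtain ⟨g, d, -, hd, hg⟩ := H40.OmOrbit.exists_mono4 (F := F) f hf f' hf'
  obtain ⟨g0, g0'⟩ := hg 0
  obtain ⟨g1, g1'⟩ := hg 1
  rw [hd 0 (by decide), one_smul, a0, b0] at g0
  rw [hd 1 (by decide), one_smul, a1, b1] at g1
  rw [hd 0 (by decide), inv_one, one_smul, a0, b0] at g0'
  rw [hd 1 (by decide), inv_one, one_smul, a1, b1] at g1'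
  let Φ : SpecialLinearGroup (Fin 2) F →* G := (MulAut.conj (ψ g)).toMonoidHom.comp
    ((MulAut.conj c).toMonoidHom.comp (ψ.comp (blk m0 (T0 k) m0_ne.1)))
  have hΦ : ∀ x, Φ x = ψ g * (c * ψ (blk m0 (T0 k) m0_ne.1 x) * c⁻¹) * (ψ g)⁻¹ := fun x => rfl
  have hle : Subgroup.closure (Set.range (fun v : F => UU D (.ofAdd (aM (δ p) (v • δ q)))) ∪
      Set.range (fun v : F => WW D (.ofAdd (aM (δ p) (v • δ q))))) ≤ Φ.range := by
    rw [Subgroup.closure_le]
    rintro _ (⟨v, rfl⟩ | ⟨v, rfl⟩)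
    · refine ⟨tv 0 1 v, ?_⟩
      show Φ _ = UU D _
      rw [hΦ, H40.OmOrbit.blk_tv01, ← g0, ← g1, ← mulVec_smul, ← H40.OmModel.aM_congr, UU,
        ← H40.OmOrbit.U_conj, H40.OmOrbit.U_mt D m0_ne.1 m0_ne.2 m0_ne.1 m0_ne.2 (Or.inl rfl),
        H40.OmOrbit.bb]
    · refine ⟨tv 1 0 (-v), ?_⟩
      show Φ _ = WW D _
      rw [hΦ, H40.OmOrbit.blk_tv10, ← g0', ← g1', ← mulVec_smul, ← H40.OmModel.aM_congr, WW,
        ← H40.OmOrbit.W_conj, H40.OmOrbit.W_mt D m0_ne.1 m0_ne.2 m0_ne.1 m0_ne.2 (Or.inl rfl)]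
  obtain ⟨x, rfl⟩ := hle hz
  rw [hΦ, map_mul, map_mul, map_inv, hbb] at hz1
  rw [mul_inv_eq_one, mul_eq_left, mul_inv_eq_one, mul_eq_left] at hz1
  have hx : blk m0 (T0 k) m0_ne.1 x = 1 := H40.OmModel.lev_injective (by rw [hz1, map_one])
  rw [hΦ, hx, map_one, mul_one, mul_inv_cancel, mul_one, mul_inv_cancel]

theorem two_le_gen (D : GData ψ c (T0 k) (T1 k)) :
    two ψ c ≤ ψ.range ⊔ (UU D).range ⊔ (WW D).range := by
  refine sup_le (le_sup_of_le_left le_sup_left) ?_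
  set K := ψ.range ⊔ (UU D).range ⊔ (WW D).range
  have hψ : ∀ g, ψ g ∈ K := fun g => Subgroup.mem_sup_left (Subgroup.mem_sup_left ⟨g, rfl⟩)
  have hU : ∀ g, UU D g ∈ K := fun g => Subgroup.mem_sup_left (Subgroup.mem_sup_right ⟨g, rfl⟩)
  have hW : ∀ g, WW D g ∈ K := fun g => Subgroup.mem_sup_right ⟨g, rfl⟩
  rintro _ ⟨g, rfl⟩
  refine H40.Glue.hom_mem _ K (fun i j hij t => ?_) g
  show c * ψ (tv i j t) * c⁻¹ ∈ K
  by_cases hi : i = T0 k ∨ i = T1 k
  · by_cases hj : j = T0 k ∨ j = T1 k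
    · rw [D.top i j ?_ t]
      · exact hψ _
      · rcases hi with rfl | rfl <;> rcases hj with rfl | rfl
        exacts [absurd rfl hij, Or.inl ⟨rfl, rfl⟩, Or.inr ⟨rfl, rfl⟩, absurd rfl hij]
    · rw [not_or] at hj
      have := H40.OmOrbit.W_mt D m0_ne.1 m0_ne.2 hj.1 hj.2 hi (-t)
      rw [neg_neg] at this
      rw [← this]
      exact hW _
  · rw [not_or] at hi
    by_cases hj : j = T0 k ∨ j = T1 k
    · have := H40.OmOrbit.U_mt D m0_ne.1 m0_ne.2 hi.1 hi.2 hj t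
      rw [H40.OmOrbit.bb] at this
      rw [← this]
      exact hU _
    · rw [not_or] at hj
      rw [(D.fix i j hi.1 hi.2 hj.1 hj.2 hij t).eq, mul_inv_cancel_right]
      exact hψ _

/-- The exchange is a word in the two copies. -/
theorem cm_two [Finite F] (hn : 4 ≤ k + 2) :
    H40.OmTarget.cm F (T0 k) (T1 k) ∈ two (lev (n := k + 2) (F := F)) (H40.OmTarget.cm F (T0 k) (T1 k)) := by
  set cq := H40.OmTarget.cm F (T0 k) (T1 k)
  have D := H40.OmTarget.gdata (F := F) (T_ne (k := k)) hn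
  have R := rdata D (MonoidHom.id _) (MonoidHom.id_comp _) rfl
  set K := two (lev (n := k + 2) (F := F)) cq
  have hU : ∀ S, UU D S ∈ K := UU_mem D psi_two cj_two
  have hW : ∀ S, WW D S ∈ K := WW_mem D psi_two cj_two
  refine (?_ : commutator (orthGroup (qPlus (k + 2) F)) ≤ K) (H40.OmTarget.cm_mem_commutator T_ne)
  rw [H43.commutator_eq_eichlerSub (H43.qPlus_nondeg (k + 2)) (by rw [H43.finrank_qPlus]; omega),
    H43.eichlerSub, Subgroup.closure_le]
  rintro e ⟨u, w, hu, hw, rfl⟩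
  have := H40.OmFamily.pi_E R (u := u) (v := w) ⟨hu, hw⟩
  rw [MonoidHom.id_apply] at this
  rw [← this]
  have m0' : ∀ x v, H40.OmFamily.E0 (lev (n := k + 2) (F := F)) (UU D) x v ∈ K := fun x v => by
    rw [H40.OmFamily.E0]; exact mul_mem (psi_two _) (hU _)
  have m0'' : ∀ x v, H40.OmFamily.E0 ((lev (n := k + 2) (F := F)).comp thT) (WW D) x v ∈ K :=
    fun x v => by rw [H40.OmFamily.E0]; exact mul_mem (psi_two _) (hW _)
  show _ ∈ K
  rw [H40.OmFamily.E]
  split_ifs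
  · rw [H40.OmFamily.EN, H40.OmFamily.EM]
    exact mul_mem (mul_mem (hU _) (m0'' _ _)) (inv_mem (hU _))
  · rw [H40.OmFamily.EM]
    exact mul_mem (mul_mem (hW _) (m0' _ _)) (inv_mem (hW _))

theorem GData.rels {i1 : Fin k} (hi : (0 : Fin k) ≠ i1) (D : GData ψ c (T0 k) (T1 k))
    (S : Set (SLk × SL2)) (a b : SL2) : Rel4 ψ c i1 S a b := by
  have hm01 : mid (k := k) 0 ≠ mid i1 := fun e => hi (Fin.castAdd_injective k 2 e)
  have Omid : ∀ g : SLk, c * ψ (midH g) * c⁻¹ = ψ (midH g) := by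
    intro g
    have h := H40.Glue.hom_mem (ψ.comp midH) (Subgroup.centralizer {c}) (fun i j hij t => ?_) g
    · have h' : ψ (midH g) * c = c * ψ (midH g) := Subgroup.mem_centralizer_singleton_iff.1 h
      rw [← h', mul_inv_cancel_right]
    refine Subgroup.mem_centralizer_singleton_iff.2 ?_
    rw [MonoidHom.comp_apply, midH_tv hij]
    exact ((D.fix _ _ (mid_ne i).1 (mid_ne i).2 (mid_ne j).1 (mid_ne j).2
      (fun e => hij (Fin.castAdd_injective k 2 e)) t).eq).symm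
  have Otop : ∀ h : SL2, c * ψ (topH h) * c⁻¹ = ψ (topH (thT h)) := by
    intro h
    refine DFunLike.congr_fun (H40.GlueSmall.hom_ext_tv
      ((MulAut.conj c).toMonoidHom.comp (ψ.comp topH)) ((ψ.comp topH).comp thT)
      (fun t => ?_) (fun t => ?_)) h
    · show c * ψ (topH (tv 0 1 t)) * c⁻¹ = ψ (topH (thT (tv 0 1 t)))
      rw [H40.OmOrbit.thT_tv (show (0 : Fin 2) ≠ 1 by decide), topH, H40.OmOrbit.blk_tv01,
        H40.OmOrbit.blk_tv10, D.top _ _ (Or.inl ⟨rfl, rfl⟩)]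
    · show c * ψ (topH (tv 1 0 t)) * c⁻¹ = ψ (topH (thT (tv 1 0 t)))
      rw [H40.OmOrbit.thT_tv (show (1 : Fin 2) ≠ 0 by decide), topH, H40.OmOrbit.blk_tv01,
        H40.OmOrbit.blk_tv10, D.top _ _ (Or.inr ⟨rfl, rfl⟩)]
  have base : ∀ (m m' t t' : Fin (k + 2)) (h : m ≠ t) (h' : m' ≠ t'), m ≠ T0 k → m ≠ T1 k →
      m' ≠ T0 k → m' ≠ T1 k → (t = T0 k ∨ t = T1 k) → (t' = T0 k ∨ t' = T1 k) →
      (m = m' ↔ t = t') → ∀ x y : SL2,
      Commute (ψ (blk m t h x)) (c * ψ (blk m' t' h' y) * c⁻¹) := by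
    intro m m' t t' h h' a1 a2 a3 a4 a5 a6 hiff x y
    refine commute_homs (ψ.comp (blk m t h))
      ((MulAut.conj c).toMonoidHom.comp (ψ.comp (blk m' t' h'))) (fun i j hij u p q hpq v => ?_) x y
    show Commute (ψ (blk m t h (tv i j u))) (c * ψ (blk m' t' h' (tv p q v)) * c⁻¹)
    fin_cases i <;> fin_cases j <;> fin_cases p <;> fin_cases q <;>
      first | exact absurd rfl hij | exact absurd rfl hpq | skip
    all_goals
      simp only [Fin.zero_eta, Fin.mk_one, H40.OmOrbit.blk_tv01, H40.OmOrbit.blk_tv10]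
      refine D.comm m m' t t' _ _ _ _ a1 a2 a3 a4 a5 a6 hiff ?_ ?_ u v <;>
        first | exact Or.inl ⟨rfl, rfl⟩ | exact Or.inr ⟨rfl, rfl⟩
  have prod : ∀ x y x' y' : SL2,
      Commute (ψ (P1 x * P2 i1 y)) (c * ψ (P1 x' * P2 i1 y') * c⁻¹) := by
    intro x y x' y'
    have e : c * ψ (P1 x' * P2 i1 y') * c⁻¹ =
        (c * ψ (P1 x') * c⁻¹) * (c * ψ (P2 i1 y') * c⁻¹) := by rw [map_mul]; group
    have i11 : (mid (k := k) 0 = mid 0 ↔ T0 k = T0 k) := iff_of_true rfl rfl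
    have i12 : (mid (k := k) 0 = mid i1 ↔ T0 k = T1 k) := iff_of_false hm01 T_ne
    have i21 : (mid i1 = mid (k := k) 0 ↔ T1 k = T0 k) := iff_of_false hm01.symm T_ne.symm
    have i22 : (mid i1 = mid i1 ↔ T1 k = T1 k) := iff_of_true rfl rfl
    obtain ⟨n0, n0'⟩ := mid_ne (0 : Fin k)
    obtain ⟨n1, n1'⟩ := mid_ne i1
    rw [map_mul ψ, e]
    refine Commute.mul_left (Commute.mul_right ?_ ?_) (Commute.mul_right ?_ ?_)
    · exact base _ _ _ _ _ _ n0 n0' n0 n0' (Or.inl rfl) (Or.inl rfl) i11 x x'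
    · exact base _ _ _ _ _ _ n0 n0' n1 n1' (Or.inl rfl) (Or.inr rfl) i12 x y'
    · exact base _ _ _ _ _ _ n1 n1' n0 n0' (Or.inr rfl) (Or.inl rfl) i21 y x'
    · exact base _ _ _ _ _ _ n1 n1' n1 n1' (Or.inr rfl) (Or.inr rfl) i22 y y'
  refine ⟨fun x _ => ?_, prod a b a b, prod a b b a⟩
  obtain ⟨g, h⟩ := x
  rw [tw, MonoidHom.prodMap]
  simp only [MonoidHom.prod_apply, MonoidHom.comp_apply, MonoidHom.coe_fst, MonoidHom.coe_snd,
    MonoidHom.id_apply, hov_apply, map_mul]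
  calc c * (ψ (midH g) * ψ (topH h)) * c⁻¹
      = (c * ψ (midH g) * c⁻¹) * (c * ψ (topH h) * c⁻¹) := by group
    _ = _ := by rw [Omid g, Otop h]

/-- A presentation of the derived subgroup. -/
theorem hasPresN_commutator [Fintype F] (hn : 4 ≤ k + 2) {n R0 : ℕ}
    (hH : HasPresN (SpecialLinearGroup (Fin (k + 2)) F) n R0) (S : Finset (SLk × SL2))
    (hS : Subgroup.closure (S : Set (SLk × SL2)) = ⊤) :
    HasPresN (commutator (orthGroup (qPlus (k + 2) F))) (n + 1) (R0 + S.card + 4) := by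
  classical
  haveI : Finite F := Finite.of_fintype F
  obtain ⟨a, b, hab, hco⟩ := H40.CoprimeGens.exists_gens (F := F)
  obtain ⟨i1, hi⟩ : ∃ i1 : Fin k, (0 : Fin k) ≠ i1 := ⟨⟨1, by omega⟩, by simp [Fin.ext_iff]⟩
  set cq := H40.OmTarget.cm F (T0 k) (T1 k)
  have Dq := H40.OmTarget.gdata (F := F) (T_ne (k := k)) hn
  have Rq := GData.rels hi Dq (S : Set (SLk × SL2)) a b
  -- the word
  set ev : FreeGroup (SLn ⊕ SLn) →* orthGroup (qPlus (k + 2) F) :=
    FreeGroup.lift (Sum.elim lev fun g => cq * lev g * cq⁻¹)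
  obtain ⟨w, hw⟩ : ∃ w, ev w = cq := by
    refine (?_ : two (lev (n := k + 2) (F := F)) cq ≤ ev.range) (cm_two hn)
    refine sup_le ?_ ?_ <;> rintro _ ⟨g, rfl⟩
    · exact ⟨FreeGroup.of (.inl g), by simp [ev]⟩
    · exact ⟨FreeGroup.of (.inr g), by simp [ev]⟩
  let C : FreeGroup (SLn ⊕ Fin 1) := FreeGroup.of (.inr 0)
  let J : SLn → FreeGroup (SLn ⊕ Fin 1) := fun g => FreeGroup.of (.inl g)
  let E : Finset (FreeGroup (SLn ⊕ Fin 1)) :=
    S.image (fun x => C * J (hov x) * C⁻¹ * (J (hov (tw x)))⁻¹) ∪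
      {⁅J (P1 a * P2 i1 b), C * J (P1 a * P2 i1 b) * C⁻¹⁆,
       ⁅J (P1 a * P2 i1 b), C * J (P1 b * P2 i1 a) * C⁻¹⁆,
       C⁻¹ * FreeGroup.lift (Sum.elim J fun g => C * J g * C⁻¹) w}
  have hcard : E.card ≤ S.card + 3 :=
    (Finset.card_union_le _ _).trans (add_le_add Finset.card_image_le Finset.card_le_three)
  have hE : ∀ {Q : Type u} [Group Q] (ι : SLn →* Q) (q : Fin 1 → Q),
      (∀ r ∈ E, FreeGroup.lift (Sum.elim ι q) r = 1) ↔
        Rel4 ι (q 0) i1 (S : Set (SLk × SL2)) a b ∧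
          FreeGroup.lift (Sum.elim ι fun g => q 0 * ι g * (q 0)⁻¹) w = q 0 := by
    intro Q _ ι q
    have hl : (FreeGroup.lift (Sum.elim ι q)).comp (FreeGroup.lift (Sum.elim J fun g => C * J g * C⁻¹)) =
        FreeGroup.lift (Sum.elim ι fun g => q 0 * ι g * (q 0)⁻¹) :=
      FreeGroup.ext_hom _ _ fun x => by rcases x with g | g <;> simp [C, J]
    simp only [E, Finset.mem_union, Finset.mem_image, Finset.mem_insert, Finset.mem_singleton]
    constructor
    · intro h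
      refine ⟨⟨fun x hx => ?_, ?_, ?_⟩, ?_⟩
      · have := h _ (Or.inl ⟨x, hx, rfl⟩)
        simpa [C, J, mul_inv_eq_one] using this
      · have := h _ (Or.inr (Or.inl rfl))
        simpa [C, J, map_commutatorElement, commutatorElement_eq_one_iff_commute] using this
      · have := h _ (Or.inr (Or.inr (Or.inl rfl)))
        simpa [C, J, map_commutatorElement, commutatorElement_eq_one_iff_commute] using this
      · have := h _ (Or.inr (Or.inr (Or.inr rfl)))
        rw [map_mul, ← MonoidHom.comp_apply, hl] at this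
        simp only [C, map_inv, FreeGroup.lift_apply_of, Sum.elim_inr] at this
        exact (inv_mul_eq_one.1 this).symm
    · rintro ⟨R', hw'⟩ r (⟨x, hx, rfl⟩ | rfl | rfl | rfl)
      · simpa [C, J, mul_inv_eq_one] using R'.ovl x hx
      · simpa [C, J, map_commutatorElement, commutatorElement_eq_one_iff_commute] using R'.r1
      · simpa [C, J, map_commutatorElement, commutatorElement_eq_one_iff_commute] using R'.r2
      · rw [map_mul, ← MonoidHom.comp_apply, hl, hw']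
        simp [C]
  obtain ⟨G, _, ψ, av, hG, hrel, htop, huniv⟩ := exists_univ hH E
  set c := av 0
  obtain ⟨π, hπψ, hπc⟩ := huniv (lev (n := k + 2) (F := F)) (fun _ => cq)
    ((hE (lev (n := k + 2) (F := F)) fun _ => cq).2 ⟨Rq, hw⟩)
  -- the universe of the presented group
  have hrel' : ∀ {Q : Type u} [Group Q] (e : G ≃* Q),
      Rel4 (e.toMonoidHom.comp ψ) (e c) i1 (S : Set (SLk × SL2)) a b ∧
        FreeGroup.lift (Sum.elim (e.toMonoidHom.comp ψ)
          fun g => e c * e.toMonoidHom.comp ψ g * (e c)⁻¹) w = e c := by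
    intro Q _ e
    refine (hE (e.toMonoidHom.comp ψ) (fun i => e (av i))).1 fun r hr => ?_
    have : FreeGroup.lift (Sum.elim (e.toMonoidHom.comp ψ) fun i => e (av i)) =
        e.toMonoidHom.comp (FreeGroup.lift (Sum.elim ψ av)) :=
      FreeGroup.ext_hom _ _ fun x => by rcases x with g | g <;> simp
    rw [this, MonoidHom.comp_apply, hrel r hr, map_one]
  let G' := ULift.{u} G
  let e : G ≃* G' := MulEquiv.ulift.symm
  set ψ' := e.toMonoidHom.comp ψ
  set c' := e c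
  obtain ⟨R4, hw'⟩ := hrel' e
  set π' : G' →* orthGroup (qPlus (k + 2) F) := π.comp e.symm.toMonoidHom
  have hψ' : π'.comp ψ' = lev := by
    rw [← hπψ]; ext g : 1; simp [π', ψ']
  have hc' : π' c' = cq := by simp [π', c', c, hπc]
  have D := R4.gdata (by omega) hi hS hab hco
  have R := rdata D π' hψ' hc'
  have hgen : ψ'.range ⊔ (UU D).range ⊔ (WW D).range = ⊤ := by
    rw [eq_top_iff]
    refine le_trans ?_ (two_le_gen D)
    have hcm : c' ∈ two ψ' c' := by
      have : (FreeGroup.lift (Sum.elim ψ' fun g => c' * ψ' g * c'⁻¹)).range ≤ two ψ' c' := by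
        rw [FreeGroup.range_lift_eq_closure, Subgroup.closure_le]
        rintro _ ⟨g | g, rfl⟩
        · exact psi_two g
        · exact cj_two g
      have h2 := this ⟨w, rfl⟩
      rwa [hw'] at h2
    intro x _
    have hx : e.symm x ∈ (two ψ' c').comap e.toMonoidHom := by
      refine (?_ : (⊤ : Subgroup G) ≤ _) (Subgroup.mem_top _)
      rw [← htop, Subgroup.closure_le]
      rintro _ (⟨g, rfl⟩ | ⟨i, rfl⟩)
      · exact psi_two (ψ := ψ') (c := c') g
      · rw [Subsingleton.elim i 0]; exact hcm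
    show x ∈ two ψ' c'
    simpa using hx
  haveI := H40.OmFamily.finite R hgen
  obtain ⟨z, hz⟩ := H40.OmKill.exists_kill R hgen
  have h0 : HasPresN G' (n + 1) (R0 + E.card) := hG.of_equiv e
  have h1 := HasPresN.quotient_one h0 π'.ker z hz
  refine (h1.of_equiv ((QuotientGroup.quotientKerEquivRange π').trans
    (MulEquiv.subgroupCongr (H40.OmFamily.range_eq R hgen)))).mono ?_
  omega

end Frame

end H40.OmPres
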