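import Cfsg.Agent.H40.OmPres

/-!
The short presentations of `Ω` and `PΩ` of plus type.
-/

set_option autoImplicit false
set_option linter.unusedSectionVars false
set_option linter.style.haveILetI false

namespace H40.OmShort

open Matrix
open H40.PresN (HasPresN)
open H43 (orthGroup qPlus)

universe u

variable {F : Type u} [Field F] [Fintype F]

local notation "SL2" => SpecialLinearGroup (Fin 2) F

/-- Generators of the overlap. -/
theorem gens_overlap (k : ℕ) (hk : 2 ≤ k) :
    ∃ S : Finset (SpecialLinearGroup (Fin k) F × SL2), S.card ≤ (if k = 2 then 4 else 2) ∧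
      Subgroup.closure (S : Set (SpecialLinearGroup (Fin k) F × SL2)) = ⊤ := by
  classical
  haveI : Finite F := Finite.of_fintype F
  obtain ⟨a, b, hab, -⟩ := H40.CoprimeGens.exists_gens (F := F)
  by_cases h2 : k = 2
  · subst h2
    refine ⟨{(a, 1), (b, 1), (1, a), (1, b)}, by rw [if_pos rfl]; exact Finset.card_le_four, ?_⟩
    set H := Subgroup.closure
      ((({(a, 1), (b, 1), (1, a), (1, b)} : Finset (SL2 × SL2))) : Set (SL2 × SL2))
    have h1 : (⊤ : Subgroup SL2) ≤ H.comap (MonoidHom.inl SL2 SL2) := by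
      rw [← hab, Subgroup.closure_le]
      rintro x (rfl | rfl) <;> exact Subgroup.subset_closure (by simp)
    have h2 : (⊤ : Subgroup SL2) ≤ H.comap (MonoidHom.inr SL2 SL2) := by
      rw [← hab, Subgroup.closure_le]
      rintro x (rfl | rfl) <;> exact Subgroup.subset_closure (by simp)
    rw [eq_top_iff]
    rintro ⟨x, y⟩ -
    have hx : (x, (1 : SL2)) ∈ H := h1 (Subgroup.mem_top x)
    have hy : ((1 : SL2), y) ∈ H := h2 (Subgroup.mem_top y)
    simpa using mul_mem hx hy
  · have h3 : 3 ≤ k := by omega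
    obtain ⟨u, v, huv⟩ := H40.PSLPres.two_gen (F := F) k h3
    refine ⟨{(u, a), (v, b)}, by rw [if_neg h2]; exact Finset.card_le_two, ?_⟩
    rw [Finset.coe_pair]
    exact H40.CoprimeGens.closure_pairs huv hab fun N hn hT =>
      H40.CoprimeGens.normal_small h3 N hn hT

/-- A presentation of the derived subgroup with eight generators. -/
theorem hasPresN_omega (n : ℕ) (hn : 4 ≤ n) :
    HasPresN (commutator (orthGroup (qPlus n F))) 8 (if n ≤ 5 then 29 else 31) := by
  classical
  obtain ⟨k, rfl⟩ : ∃ k, n = k + 2 := ⟨n - 2, by omega⟩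
  haveI : NeZero k := ⟨by omega⟩
  obtain ⟨S, hc, hS⟩ := gens_overlap (F := F) k (by omega)
  haveI : Finite F := Finite.of_fintype F
  haveI : Finite (orthGroup (qPlus (k + 2) F)) :=
    Finite.of_injective (fun g => (⇑g.1 : (Fin (k + 2) ⊕ Fin (k + 2) → F) → _)) fun g h e =>
      H43.orth_ext (congrFun e)
  by_cases h6 : 6 ≤ k + 2
  · have h := H40.OmPres.hasPresN_commutator (F := F) hn (H40.SLShort.hasPresN_SL (k + 2) h6) S hS
    rw [if_neg (by omega)]
    rw [if_neg (by omega)] at hc
    exact (H40.SLShort.pad h).mono (by omega)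
  rw [if_pos (by omega)]
  rcases (show k = 2 ∨ k = 3 by omega) with rfl | rfl
  · have h := H40.OmPres.hasPresN_commutator (k := 2) (F := F) hn
      H40.GlueSmall.hasPresN_four_short S hS
    rw [if_pos rfl] at hc
    exact (H40.SLShort.pad (H40.SLShort.pad h)).mono (by omega)
  · have h4 : HasPresN (SpecialLinearGroup (Fin 5) F) 6 22 :=
      H40.SLShort.step (r := 1) (s := 3) (Or.inl rfl) le_rfl H40.GlueSmall.hasPresN_four_short
    have h := H40.OmPres.hasPresN_commutator (k := 3) (F := F) hn h4 S hS
    rw [if_neg (by omega)] at hc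
    exact (H40.SLShort.pad h).mono (by omega)

/-- The centre is the normal closure of one element. -/
theorem exists_center_gen (n : ℕ) (hn : 4 ≤ n) :
    ∃ z : commutator (orthGroup (qPlus n F)),
      Subgroup.center (commutator (orthGroup (qPlus n F))) = Subgroup.normalClosure {z} := by
  classical
  haveI : Finite F := Finite.of_fintype F
  set Z := Subgroup.center (commutator (orthGroup (qPlus n F)))
  have hs := fun g (hg : g ∈ Z) => H43.center_scalar (H43.qPlus_nondeg n)
    (by rw [H43.finrank_qPlus]; omega) g hg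
  by_cases h : ∃ g ∈ Z, g ≠ 1
  · obtain ⟨g, hg, hg1⟩ := h
    refine ⟨g, le_antisymm (fun x hx => ?_)
      (Subgroup.normalClosure_le_normal (Set.singleton_subset_iff.2 hg))⟩
    by_cases hx1 : x = 1
    · rw [hx1]; exact one_mem _
    have e1 := (hs g hg).resolve_left fun e => hg1 (Subtype.ext e)
    have e2 := (hs x hx).resolve_left fun e => hx1 (Subtype.ext e)
    rw [show x = g from Subtype.ext (e2.trans e1.symm)]
    exact Subgroup.subset_normalClosure rfl
  · push Not at h
    exact ⟨1, le_antisymm (fun x hx => by rw [h x hx]; exact one_mem _)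
      (Subgroup.normalClosure_le_normal (Set.singleton_subset_iff.2 (one_mem _)))⟩

/-- Both presentations. -/
theorem hasPresN_both (n : ℕ) (hn : 4 ≤ n) :
    HasPresN (Cfsg.Omega F (Cfsg.quadFormPlus n F)) 8 (if n ≤ 5 then 29 else 31) ∧
    HasPresN (Cfsg.POmega F (Cfsg.quadFormPlus n F)) 8 ((if n ≤ 5 then 29 else 31) + 1) := by
  classical
  haveI : Finite F := Finite.of_fintype F
  haveI : Finite (orthGroup (qPlus n F)) :=
    Finite.of_injective (fun g => (⇑g.1 : (Fin n ⊕ Fin n → F) → _)) fun g h e =>
      H43.orth_ext (congrFun e)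
  have h := hasPresN_omega (F := F) n hn
  obtain ⟨z, hz⟩ := exists_center_gen (F := F) n hn
  rw [← H43.coe_qPlus]
  exact ⟨h.of_equiv (H43.omegaEquiv (qPlus n F)).symm,
    (HasPresN.quotient_one h _ z hz).of_equiv (H43.pomegaEquiv (qPlus n F)).symm⟩

end H40.OmShort
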