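import Cfsg.Agent.H40.OmFamily

/-!
The orthogonal group contains two overlapping copies of `SL_n`.
-/

set_option autoImplicit false
set_option linter.unusedSectionVars false
set_option linter.style.haveILetI false
set_option linter.unusedSimpArgs false

namespace H40.OmTarget

open Matrix
open H40.Glue (tv)
open H40.OmModel (δ altM aM congrA lev radU radW)
open H43 (orthGroup qPlus)
open H40.OmOrbit (GData Pr)
open scoped commutatorElement

variable {F : Type*} [Field F] {n : ℕ}

local notation "II" => Fin n ⊕ Fin n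
local notation "OO" => orthGroup (qPlus n F)
local notation "SLn" => SpecialLinearGroup (Fin n) F

/-- An isometry permuting the coordinates. -/
noncomputable def permO (σ : II → II) (h : ∀ v : II → F, qPlus n F (v ∘ σ) = qPlus n F v) : OO :=
  H40.OmModel.ofPair (LinearMap.funLeft F F σ) h

theorem permO_apply (σ : II → II) (h : ∀ v : II → F, qPlus n F (v ∘ σ) = qPlus n F v) (v : II → F) :
    (permO σ h).1 v = v ∘ σ := rfl

/-- Exchange of the halves at some indices. -/
def flipI (J : Fin n → Bool) : II → II :=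
  Sum.elim (fun i => if J i then .inr i else .inl i) (fun i => if J i then .inl i else .inr i)

theorem flipI_invol (J : Fin n → Bool) (i : II) : flipI J (flipI J i) = i := by
  rcases i with i | i <;> by_cases h : J i <;> simp [flipI, h]

theorem q_flip (J : Fin n → Bool) (v : II → F) : qPlus n F (v ∘ flipI J) = qPlus n F v := by
  simp only [H43.coe_qPlus, Cfsg.quadFormPlus, Function.comp_apply]
  refine Finset.sum_congr rfl fun i _ => ?_
  by_cases h : J i <;> simp [flipI, h, mul_comm]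

theorem q_perm (p : Equiv.Perm (Fin n)) (v : II → F) :
    qPlus n F (v ∘ Sum.map p p) = qPlus n F v := by
  simp only [H43.coe_qPlus, Cfsg.quadFormPlus, Function.comp_apply, Sum.map_inl, Sum.map_inr]
  exact Equiv.sum_comp p fun i => v (.inl i) * v (.inr i)

variable (F) in
/-- Exchange of the halves at two indices. -/
noncomputable def cm (t0 t1 : Fin n) : OO :=
  permO (flipI fun i => decide (i = t0 ∨ i = t1)) (q_flip _)

variable {t0 t1 : Fin n}

/-- The index permutation of `cm`. -/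
abbrev fl (t0 t1 : Fin n) : II → II := flipI fun i => decide (i = t0 ∨ i = t1)

theorem fl_fl (i : II) : fl t0 t1 (fl t0 t1 i) = i := flipI_invol _ i

theorem fl_top {t : Fin n} (h : t = t0 ∨ t = t1) :
    fl t0 t1 (.inl t) = .inr t ∧ fl t0 t1 (.inr t) = .inl t := by
  simp [flipI, h]

theorem fl_mid {m : Fin n} (h0 : m ≠ t0) (h1 : m ≠ t1) :
    fl t0 t1 (.inl m) = .inl m ∧ fl t0 t1 (.inr m) = .inr m := by
  simp [flipI, h0, h1]

theorem cm_cm : cm F t0 t1 * cm F t0 t1 = 1 := H43.orth_ext fun v => by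
  rw [H43.orth_mul_apply, H43.orth_one_apply]
  funext i
  exact congrArg v (flipI_invol _ i)

theorem cm_inv : (cm F t0 t1)⁻¹ = cm F t0 t1 := inv_eq_of_mul_eq_one_left cm_cm

theorem cm_mem_commutator (h : t0 ≠ t1) : cm F t0 t1 ∈ commutator OO := by
  classical
  set s := permO (F := F) (flipI fun i : Fin n => decide (i = t0)) (q_flip _)
  set p := permO (F := F) (Sum.map (Equiv.swap t0 t1) (Equiv.swap t0 t1)) (q_perm _)
  have hs : s⁻¹ = s := inv_eq_of_mul_eq_one_left (H43.orth_ext fun v => by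
    rw [H43.orth_mul_apply, H43.orth_one_apply]
    funext i
    exact congrArg v (flipI_invol _ i))
  have hp : p⁻¹ = p := inv_eq_of_mul_eq_one_left (H43.orth_ext fun v => by
    rw [H43.orth_mul_apply, H43.orth_one_apply]
    funext i
    rcases i with i | i <;> exact congrArg v (by simp))
  have e : ⁅s, p⁆ = cm F t0 t1 := by
    rw [commutatorElement_def, hs, hp]
    refine H43.orth_ext fun v => ?_
    rw [H43.orth_mul_apply, H43.orth_mul_apply, H43.orth_mul_apply]
    funext i
    simp only [s, p, cm, permO_apply, Function.comp_apply]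
    congr 1
    rcases i with i | i <;>
    · rcases eq_or_ne i t0 with rfl | h0
      · simp [flipI, h, h.symm]
      rcases eq_or_ne i t1 with rfl | h1
      · simp [flipI, h, h.symm]
      simp [flipI, h0, h1, Equiv.swap_apply_of_ne_of_ne h0 h1]
  rw [← e]
  exact Subgroup.commutator_mem_commutator (Subgroup.mem_top _) (Subgroup.mem_top _)

/-- An elementary isometry. -/
def Elt (g : OO) (a : F) (b c d e : II) : Prop :=
  ∀ v : II → F, g.1 v = v + (a * v b) • (Pi.single c 1 : II → F) - (a * v d) • (Pi.single e 1 : II → F)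

theorem Elt.unique {g g' : OO} {a : F} {b c d e : II} (h : Elt g a b c d e) (h' : Elt g' a b c d e) :
    g = g' := H43.orth_ext fun v => by rw [h v, h' v]

theorem Elt.conj {g : OO} {a : F} {b c d e : II} (h : Elt g a b c d e) :
    Elt (cm F t0 t1 * g * (cm F t0 t1)⁻¹) a (fl t0 t1 b) (fl t0 t1 c) (fl t0 t1 d) (fl t0 t1 e) := by
  intro v
  rw [cm_inv, H43.orth_mul_apply, H43.orth_mul_apply, h]
  funext i
  simp only [cm, permO_apply, Function.comp_apply, Pi.add_apply, Pi.sub_apply, Pi.smul_apply,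
    smul_eq_mul, Pi.single_apply]
  have e : ∀ x, (fl t0 t1 i = x) = (i = fl t0 t1 x) := fun x => propext
    ⟨fun e => by rw [← e, fl_fl], fun e => by rw [e, fl_fl]⟩
  simp only [e, fl_fl, flipI_invol]

theorem elt_lev {p q : Fin n} (h : p ≠ q) (s : F) :
    Elt (lev (tv p q s)) s (.inl q) (.inl p) (.inr p) (.inr q) := by
  intro v
  rw [← H40.OmModel.vec_eta v, H40.OmModel.lev_vec, H40.OmOrbit.thT_tv h, H40.Glue.coe_tv h,
    H40.Glue.coe_tv h.symm]
  funext i
  rcases i with i | i <;>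
    simp [add_mulVec, Matrix.single_mulVec, Pi.single_apply, Function.update_apply] <;>
    split_ifs <;> simp_all [sub_eq_add_neg]

theorem elt_radU (p q : Fin n) (s : F) :
    Elt (radU (.ofAdd (aM (δ p) (s • δ q)))) s (.inr q) (.inl p) (.inr p) (.inl q) := by
  intro v
  rw [← H40.OmModel.vec_eta v, H40.OmModel.radU_vec, H40.OmModel.aM_mulVec]
  funext i
  rcases i with i | i <;> simp [Pi.single_apply] <;> ring

theorem elt_radW (p q : Fin n) (s : F) :
    Elt (radW (.ofAdd (aM (δ p) (s • δ q)))) s (.inl q) (.inr p) (.inl p) (.inr q) := by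
  intro v
  rw [← H40.OmModel.vec_eta v, H40.OmModel.radW_vec, H40.OmModel.aM_mulVec]
  funext i
  rcases i with i | i <;> simp [Pi.single_apply] <;> ring

theorem bb_mid {p q : Fin n} (hp0 : p ≠ t0) (hp1 : p ≠ t1) (hq0 : q ≠ t0) (hq1 : q ≠ t1)
    (h : p ≠ q) (s : F) : cm F t0 t1 * lev (tv p q s) * (cm F t0 t1)⁻¹ = lev (tv p q s) := by
  refine Elt.unique ?_ (elt_lev h s)
  have := (elt_lev (F := F) h s).conj (t0 := t0) (t1 := t1)
  rwa [(fl_mid hq0 hq1).1, (fl_mid hp0 hp1).1, (fl_mid hq0 hq1).2, (fl_mid hp0 hp1).2] at this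

theorem bb_top {p q : Fin n} (hp : p = t0 ∨ p = t1) (hq : q = t0 ∨ q = t1) (h : p ≠ q) (s : F) :
    cm F t0 t1 * lev (tv p q s) * (cm F t0 t1)⁻¹ = lev (tv q p (-s)) := by
  have h1 := (elt_lev (F := F) h s).conj (t0 := t0) (t1 := t1)
  rw [(fl_top hq).1, (fl_top hp).1, (fl_top hq).2, (fl_top hp).2] at h1
  refine H43.orth_ext fun v => ?_
  rw [h1 v, elt_lev h.symm (-s) v]
  funext i
  simp
  ring

theorem bb_U {m t : Fin n} (hm0 : m ≠ t0) (hm1 : m ≠ t1) (ht : t = t0 ∨ t = t1) (s : F) :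
    cm F t0 t1 * lev (tv m t s) * (cm F t0 t1)⁻¹ = radU (.ofAdd (aM (δ m) (s • δ t))) := by
  have hne : m ≠ t := fun e => ht.elim (fun e' => hm0 (e.trans e')) fun e' => hm1 (e.trans e')
  have h1 := (elt_lev (F := F) hne s).conj (t0 := t0) (t1 := t1)
  rw [(fl_top ht).1, (fl_mid hm0 hm1).1, (fl_top ht).2, (fl_mid hm0 hm1).2] at h1
  exact Elt.unique h1 (elt_radU m t s)

theorem bb_W {m t : Fin n} (hm0 : m ≠ t0) (hm1 : m ≠ t1) (ht : t = t0 ∨ t = t1) (s : F) :
    cm F t0 t1 * lev (tv t m s) * (cm F t0 t1)⁻¹ = radW (.ofAdd (aM (δ t) (s • δ m))) := by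
  have hne : t ≠ m := fun e => ht.elim (fun e' => hm0 (e.symm.trans e')) fun e' => hm1 (e.symm.trans e')
  have h1 := (elt_lev (F := F) hne s).conj (t0 := t0) (t1 := t1)
  rw [(fl_mid hm0 hm1).1, (fl_top ht).1, (fl_mid hm0 hm1).2, (fl_top ht).2] at h1
  exact Elt.unique h1 (elt_radW t m s)

theorem commute_radU {g : SLn} {S : altM n F} (h : congrA g S = S) :
    Commute (lev g) (radU (.ofAdd S)) := by
  have := H40.OmModel.lev_radU g S
  rw [h, mul_inv_eq_iff_eq_mul] at this
  exact this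

theorem commute_radW {g : SLn} {S : altM n F} (h : congrA (H40.OmModel.thT g) S = S) :
    Commute (lev g) (radW (.ofAdd S)) := by
  have := H40.OmModel.lev_radW g S
  rw [h, mul_inv_eq_iff_eq_mul] at this
  exact this

theorem congr_root {p q x y : Fin n} (h : p ≠ q) (a s : F)
    (hxy : (q ≠ x ∧ q ≠ y) ∨ (p = x ∧ q = y) ∨ (p = y ∧ q = x)) :
    congrA (tv p q a) (aM (δ x) (s • δ y)) = (aM (δ x) (s • δ y) : altM n F) := by
  rw [H40.OmModel.aM_congr, mulVec_smul, H40.OmOrbit.tv_delta h, H40.OmOrbit.tv_delta h]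
  rcases hxy with ⟨h1, h2⟩ | ⟨rfl, rfl⟩ | ⟨rfl, rfl⟩
  · rw [if_neg (Ne.symm h1), if_neg (Ne.symm h2), add_zero, add_zero]
  · rw [if_neg h, if_pos rfl, add_zero, smul_add, H40.OmModel.aM_add_right, smul_smul,
      H40.OmFamily.aM_zero_of, add_zero]
  · rw [if_pos rfl, if_neg h, add_zero, H40.OmModel.aM_add_left, H40.OmModel.aM_smul, smul_smul,
      H40.OmFamily.aM_zero_of, add_zero]

/-- The orthogonal group has the data. -/
theorem gdata (h : t0 ≠ t1) (hn : 4 ≤ n) : GData (lev (n := n) (F := F)) (cm F t0 t1) t0 t1 where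
  hne := h
  hn := hn
  fix m m' h1 h2 h3 h4 hne s := mul_inv_eq_iff_eq_mul.1 (bb_mid h1 h2 h3 h4 hne s)
  top t t' ht s := by
    rcases ht with ⟨rfl, rfl⟩ | ⟨rfl, rfl⟩
    · exact bb_top (Or.inl rfl) (Or.inr rfl) h s
    · exact bb_top (Or.inr rfl) (Or.inl rfl) h.symm s
  comm m m' t t' p q r s h1 h2 h3 h4 ht ht' hiff hp hr a b := by
    have hmt : ∀ {x y : Fin n}, x ≠ t0 → x ≠ t1 → (y = t0 ∨ y = t1) → x ≠ y := fun hx hx' hy e =>
      hy.elim (fun e' => hx (e.trans e')) fun e' => hx' (e.trans e')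
    have hpq : p ≠ q := by
      rcases hp with ⟨rfl, rfl⟩ | ⟨rfl, rfl⟩
      · exact hmt h1 h2 ht
      · exact (hmt h1 h2 ht).symm
    by_cases hm : m = m'
    · obtain rfl := hiff.1 hm
      subst hm
      rcases hr with ⟨rfl, rfl⟩ | ⟨rfl, rfl⟩
      · rw [bb_U h1 h2 ht]
        refine commute_radU (congr_root hpq a b (Or.inr ?_))
        rcases hp with ⟨rfl, rfl⟩ | ⟨rfl, rfl⟩
        · exact Or.inl ⟨rfl, rfl⟩
        · exact Or.inr ⟨rfl, rfl⟩
      · rw [bb_W h1 h2 ht]
        refine commute_radW ?_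
        rw [H40.OmOrbit.thT_tv hpq]
        refine congr_root hpq.symm (-a) b (Or.inr ?_)
        rcases hp with ⟨rfl, rfl⟩ | ⟨rfl, rfl⟩
        · exact Or.inl ⟨rfl, rfl⟩
        · exact Or.inr ⟨rfl, rfl⟩
    · have htt : t ≠ t' := fun e => hm (hiff.2 e)
      have hd : ∀ z, z = p ∨ z = q → z ≠ m' ∧ z ≠ t' := by
        rintro z (rfl | rfl) <;> rcases hp with ⟨rfl, rfl⟩ | ⟨rfl, rfl⟩ <;>
          first
            | exact ⟨hm, hmt h1 h2 ht'⟩
            | exact ⟨(hmt h3 h4 ht).symm, htt⟩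
      have hq := hd q (Or.inr rfl)
      have hp' := hd p (Or.inl rfl)
      rcases hr with ⟨rfl, rfl⟩ | ⟨rfl, rfl⟩
      · rw [bb_U h3 h4 ht']
        exact commute_radU (congr_root hpq a b (Or.inl ⟨hq.1, hq.2⟩))
      · rw [bb_W h3 h4 ht']
        refine commute_radW ?_
        rw [H40.OmOrbit.thT_tv hpq]
        exact congr_root hpq.symm (-a) b (Or.inl ⟨hp'.2, hp'.1⟩)

end H40.OmTarget
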