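import Cfsg.Agent.H40.MinDegree

/-!
# The irreducible part of the permutation module on the points
-/

set_option autoImplicit false
set_option linter.unusedSectionVars false

open Matrix Module
open scoped commutatorElement

namespace H40.MinDeg

variable {F : Type*} [Field F] [Fintype F] [DecidableEq F]

/-- functions on non-zero vectors, constant on lines, extended by zero, with zero sum -/
def sumZero (F : Type*) [Field F] [Fintype F] (n : ℕ) : Submodule ℂ ((Fin n → F) → ℂ) where
  carrier := {f | f 0 = 0 ∧ (∀ (s : F) w, s ≠ 0 → f (s • w) = f w) ∧ ∑ w, f w = 0}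
  add_mem' := fun {f g} hf hg => ⟨by simp [hf.1, hg.1],
    fun s w hs => by simp [hf.2.1 s w hs, hg.2.1 s w hs],
    by simp [Finset.sum_add_distrib, hf.2.2, hg.2.2]⟩
  zero_mem' := ⟨rfl, fun _ _ _ => rfl, by simp⟩
  smul_mem' := fun c f hf => ⟨by simp [hf.1], fun s w hs => by simp [hf.2.1 s w hs],
    by simp [← Finset.mul_sum, hf.2.2]⟩

theorem finrank_sumZero {n : ℕ} (hn : 2 ≤ n) :
    finrank ℂ (sumZero F n) = (Fintype.card F ^ n - Fintype.card F) / (Fintype.card F - 1) := by
  classical
  let P := Projectivization F (Fin n → F)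
  have : Fintype P := Fintype.ofFinite P
  let Φ : (P → ℂ) →ₗ[ℂ] ((Fin n → F) → ℂ) :=
    { toFun := fun f w => if h : w = 0 then 0 else f (Projectivization.mk F w h)
      map_add' := fun f g => by funext w; simp only [Pi.add_apply]; split_ifs <;> simp
      map_smul' := fun c f => by funext w; simp only [Pi.smul_apply, RingHom.id_apply]; split_ifs <;> simp }
  have hΦ : Function.Injective Φ := by
    intro f g h
    funext x
    have := congrFun h x.rep
    simpa [Φ, x.rep_nonzero, Projectivization.mk_rep] using this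
  let S : Module.Dual ℂ (P → ℂ) := (∑ w, LinearMap.proj w).comp Φ
  have hmap : Submodule.map Φ (LinearMap.ker S) = sumZero F n := by
    apply le_antisymm
    · rintro _ ⟨f, hf, rfl⟩
      refine ⟨by simp [Φ], fun s w hs => ?_, by simpa [S] using hf⟩
      by_cases hw : w = 0
      · simp [hw]
      · simp only [Φ, LinearMap.coe_mk, AddHom.coe_mk, dif_neg (smul_ne_zero hs hw), dif_neg hw]
        congr 1
        exact (Projectivization.mk_eq_mk_iff' F _ _ _ _).2 ⟨s, rfl⟩
    · rintro g ⟨h0, hs, hsum⟩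
      have hΦg : Φ (fun x => g x.rep) = g := by
        funext w
        by_cases hw : w = 0
        · simp [Φ, hw, h0]
        · simp only [Φ, LinearMap.coe_mk, AddHom.coe_mk, dif_neg hw]
          obtain ⟨a, ha⟩ := (Projectivization.mk_eq_mk_iff' F _ _
            (Projectivization.rep_nonzero _) hw).1 (Projectivization.mk_rep (Projectivization.mk F w hw))
          have ha0 : a ≠ 0 := fun h => (Projectivization.rep_nonzero (Projectivization.mk F w hw))
            (by rw [← ha, h, zero_smul])
          rw [← ha, hs a w ha0]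
      refine ⟨fun x => g x.rep, ?_, hΦg⟩
      simp [S, hΦg, hsum]
  have hS : S ≠ 0 := by
    intro h
    let e : Fin n → F := Pi.single ⟨0, by omega⟩ 1
    have he : e ≠ 0 := by simp [e]
    have h1 := LinearMap.congr_fun h (fun _ => (1 : ℂ))
    simp only [S, LinearMap.comp_apply, LinearMap.sum_apply, LinearMap.proj_apply,
      LinearMap.zero_apply, Φ, LinearMap.coe_mk, AddHom.coe_mk] at h1
    rw [← Finset.add_sum_erase _ _ (Finset.mem_univ (0 : Fin n → F)), dif_pos rfl, zero_add,
      Finset.sum_congr rfl fun w hw => dif_neg (Finset.ne_of_mem_erase hw), Finset.sum_const,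
      nsmul_eq_mul, mul_one, Nat.cast_eq_zero, Finset.card_eq_zero] at h1
    have := Finset.mem_erase.2 ⟨he, Finset.mem_univ e⟩
    rw [h1] at this
    exact Finset.notMem_empty _ this
  rw [← hmap, ← (Submodule.equivMapOfInjective Φ hΦ _).finrank_eq]
  have h1 := Module.Dual.finrank_ker_add_one_of_ne_zero hS
  have hP : Nat.card P = (Fintype.card F ^ n - 1) / (Fintype.card F - 1) := by
    rw [Projectivization.card'', Nat.card_eq_fintype_card, Nat.card_eq_fintype_card,
      Fintype.card_fun, Fintype.card_fin]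
  rw [Module.finrank_pi, ← Nat.card_eq_fintype_card, hP] at h1
  have hq := Fintype.one_lt_card (α := F)
  have hle := Nat.le_self_pow (show n ≠ 0 by omega) (Fintype.card F)
  have : (Fintype.card F ^ n - 1) / (Fintype.card F - 1) =
      (Fintype.card F ^ n - Fintype.card F) / (Fintype.card F - 1) + 1 := by
    rw [show Fintype.card F ^ n - 1 = Fintype.card F ^ n - Fintype.card F + (Fintype.card F - 1) by
      omega, Nat.add_div_right _ (by omega)]
  omega

/-- the representation on `sumZero` -/
noncomputable def pointRep (n : ℕ) :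
    Representation ℂ (SpecialLinearGroup (Fin n) F) (sumZero F n) where
  toFun g := LinearMap.restrict
    (LinearMap.funLeft ℂ ℂ fun w => (↑(g⁻¹) : Matrix (Fin n) (Fin n) F) *ᵥ w)
    (p := sumZero F n) (q := sumZero F n) (by
      rintro f ⟨h0, hs, hsum⟩
      refine ⟨by simp [LinearMap.funLeft, h0], fun s w hs' => by
        simp only [LinearMap.funLeft_apply, mulVec_smul]; exact hs s _ hs', ?_⟩
      rw [← hsum]
      refine Fintype.sum_bijective _ (Finite.injective_iff_bijective.1 fun a b h => ?_) _ _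
        fun _ => rfl
      have := congrArg ((g : Matrix (Fin n) (Fin n) F) *ᵥ ·) h
      simp only [mulVec_mulVec, show (g : Matrix (Fin n) (Fin n) F) *
        (↑(g⁻¹) : Matrix (Fin n) (Fin n) F) = 1 from congrArg Subtype.val (mul_inv_cancel g),
        one_mulVec] at this
      exact this)
  map_one' := by
    ext f w
    show f.1 ((↑((1 : SpecialLinearGroup (Fin n) F)⁻¹) : Matrix (Fin n) (Fin n) F) *ᵥ w) = f.1 w
    rw [inv_one]
    show f.1 ((1 : Matrix (Fin n) (Fin n) F) *ᵥ w) = f.1 w
    rw [one_mulVec]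
  map_mul' g h := by
    ext f w
    show f.1 ((↑((g * h)⁻¹) : Matrix (Fin n) (Fin n) F) *ᵥ w) =
      f.1 ((↑(h⁻¹) : Matrix (Fin n) (Fin n) F) *ᵥ ((↑(g⁻¹) : Matrix (Fin n) (Fin n) F) *ᵥ w))
    rw [mulVec_mulVec, _root_.mul_inv_rev]
    rfl

theorem pointRep_apply {n : ℕ} (g : SpecialLinearGroup (Fin n) F) (f : sumZero F n)
    (w : Fin n → F) :
    (pointRep n g f).1 w = f.1 ((↑(g⁻¹) : Matrix (Fin n) (Fin n) F) *ᵥ w) := rfl

theorem eq_top_of_invariant {m : ℕ} (hm : 2 ≤ m) :
    ∀ (U : Submodule ℂ (sumZero F (m + 1))),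
      (∀ g, ∀ f ∈ U, pointRep (m + 1) g f ∈ U) → U ≠ ⊥ → U = ⊤ := by
  classical
  intro U hU hne
  obtain ⟨U', ⟨hU'le, hU'inv, hU'ne⟩, hmin⟩ :=
    (wellFounded_lt (α := Submodule ℂ (sumZero F (m + 1)))).has_min
      {W | W ≤ U ∧ (∀ g, ∀ f ∈ W, pointRep (m + 1) g f ∈ W) ∧ W ≠ ⊥} ⟨U, le_rfl, hU, hne⟩
  let a : Subrepresentation (pointRep (F := F) (m + 1)) := ⟨U', fun g f hf => hU'inv g f hf⟩
  let σ : Representation ℂ (SpecialLinearGroup (Fin (m + 1)) F) U' := a.toRepresentation
  have : Nontrivial U' := Submodule.nontrivial_iff_ne_bot.2 hU'ne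
  have hirr : Representation.IsIrreducible (k := ℂ) (V := U') σ := by
    have : Nontrivial (Subrepresentation σ) := ⟨⊥, ⊤, fun h =>
      bot_ne_top (α := Submodule ℂ U') (congrArg Subrepresentation.toSubmodule h)⟩
    refine IsSimpleOrder.mk fun b => ?_
    by_cases hb : b.toSubmodule = ⊥
    · exact Or.inl (Subrepresentation.toSubmodule_injective hb)
    right
    apply Subrepresentation.toSubmodule_injective
    show b.toSubmodule = ⊤
    by_contra hbt
    refine hmin (Submodule.map U'.subtype b.toSubmodule)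
      ⟨le_trans (Submodule.map_subtype_le _ _) hU'le, ?_, ?_⟩ ?_
    · rintro g _ ⟨x, hx, rfl⟩
      exact ⟨σ g x, b.apply_mem_toSubmodule g hx, rfl⟩
    · exact fun h => hb (Submodule.map_injective_of_injective U'.injective_subtype
        (h.trans (Submodule.map_bot _).symm))
    · refine lt_of_le_of_ne (Submodule.map_subtype_le _ _) fun h => hbt ?_
      apply Submodule.map_injective_of_injective U'.injective_subtype
      rw [h, Submodule.map_subtype_top]
  -- not one-dimensional
  have hd : 2 ≤ finrank ℂ U' := by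
    by_contra hlt
    have hd1 : finrank ℂ U' = 1 := by
      have := Module.finrank_pos (R := ℂ) (M := U')
      omega
    have hcomm : ∀ g h, σ g * σ h = σ h * σ g := by
      intro g h
      obtain ⟨v, hv, hspan⟩ : ∃ v : U', v ≠ 0 ∧ ∀ w : U', ∃ c : ℂ, c • v = w := by
        have : Module.Free ℂ U' := Module.Free.of_divisionRing ℂ U'
        exact (finrank_eq_one_iff' (K := ℂ) (V := U')).1 hd1
      apply LinearMap.ext
      intro x
      obtain ⟨c, rfl⟩ := hspan x
      obtain ⟨α, hα⟩ := hspan (σ g v)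
      obtain ⟨β, hβ⟩ := hspan (σ h v)
      simp only [Module.End.mul_apply, map_smul, ← hα, ← hβ, smul_smul]
      congr 1
      ring
    have htriv : ∀ g, σ g = 1 := by
      intro g
      have hker : commutator (SpecialLinearGroup (Fin (m + 1)) F) ≤ σ.ker := by
        rw [commutator_eq_closure, Subgroup.closure_le]
        rintro _ ⟨x, y, rfl⟩
        show σ ⁅x, y⁆ = 1
        rw [commutatorElement_def, map_mul, map_mul, map_mul, hcomm x y, mul_assoc (σ y) (σ x),
          ← map_mul σ x x⁻¹, mul_inv_cancel, map_one, mul_one, ← map_mul, mul_inv_cancel, map_one]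
      rw [H37.commutator_SL_eq_top (by simp; omega)] at hker
      exact hker (Subgroup.mem_top g)
    obtain ⟨⟨⟨f, hf0, hfs, hfsum⟩, hfU⟩, hf⟩ := exists_ne (0 : U')
    apply hf
    let e : Fin (m + 1) → F := Fin.cons 1 0
    have he : e ≠ 0 := fun h => by simpa [e] using congrFun h 0
    have hconst : ∀ w, w ≠ 0 → f w = f e := by
      intro w hw
      obtain ⟨g, hg⟩ := exists_SL_mulVec_eq (m := m + 1) (by omega) hw he
      have h2 := congrArg (fun x : U' => x.1.1 w) (LinearMap.congr_fun (htriv g⁻¹) ⟨⟨f, hf0, hfs, hfsum⟩, hfU⟩)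
      change f ((↑(g⁻¹⁻¹) : Matrix (Fin (m + 1)) (Fin (m + 1)) F) *ᵥ w) = f w at h2
      rw [inv_inv, hg] at h2
      exact h2.symm
    rw [← Finset.add_sum_erase _ _ (Finset.mem_univ (0 : Fin (m + 1) → F)), hf0, zero_add,
      Finset.sum_congr rfl fun w hw => hconst w (Finset.ne_of_mem_erase hw), Finset.sum_const,
      nsmul_eq_mul, mul_eq_zero, Nat.cast_eq_zero, Finset.card_eq_zero] at hfsum
    have hfe : f e = 0 := hfsum.resolve_left fun h =>
      Finset.notMem_empty e (h ▸ Finset.mem_erase.2 ⟨he, Finset.mem_univ e⟩)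
    apply Subtype.ext; apply Subtype.ext; funext w
    by_cases hw : w = 0
    · subst hw; exact hf0
    · exact (hconst w hw).trans hfe
  -- a vector fixed by the stabiliser of a point
  let e : Fin (m + 1) → F := Fin.cons 1 0
  have he : e ≠ 0 := fun h => by simpa [e] using congrFun h 0
  obtain ⟨f, hfe⟩ : ∃ f : U', f.1.1 e ≠ 0 := by
    by_contra hall
    push Not at hall
    obtain ⟨f, hf⟩ := exists_ne (0 : U')
    apply hf
    apply Subtype.ext; apply Subtype.ext; funext w
    by_cases hw : w = 0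
    · subst hw; exact f.1.2.1
    · obtain ⟨g, hg⟩ := exists_SL_mulVec_eq (m := m + 1) (by omega) he hw
      have h1 := hall (σ g⁻¹ f)
      change f.1.1 ((↑(g⁻¹⁻¹) : Matrix (Fin (m + 1)) (Fin (m + 1)) F) *ᵥ e) = 0 at h1
      rw [inv_inv, hg] at h1
      exact h1
  let K : Finset (SpecialLinearGroup (Fin (m + 1)) F) :=
    Finset.univ.filter fun g => (g : Matrix (Fin (m + 1)) (Fin (m + 1)) F) *ᵥ e = e
  let v : U' := ∑ k ∈ K, σ k f
  have hv : v ≠ 0 := by
    intro h
    have h1 : (v.1.1 : (Fin (m + 1) → F) → ℂ) e = 0 := by rw [h]; rfl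
    have h2 : v.1.1 e = ∑ k ∈ K, (σ k f).1.1 e := by simp [v, Finset.sum_apply]
    rw [h2, Finset.sum_congr rfl (g := fun _ => f.1.1 e) (fun k hk => ?_), Finset.sum_const,
      nsmul_eq_mul, mul_eq_zero, Nat.cast_eq_zero, Finset.card_eq_zero] at h1
    · rcases h1 with h1 | h1
      · have h3 : (1 : SpecialLinearGroup (Fin (m + 1)) F) ∈ K := by
          simp only [K, Finset.mem_filter, Finset.mem_univ, true_and]
          show (1 : Matrix (Fin (m + 1)) (Fin (m + 1)) F) *ᵥ e = e
          rw [one_mulVec]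
        rw [h1] at h3
        exact Finset.notMem_empty _ h3
      · exact hfe h1
    · show f.1.1 ((↑(k⁻¹) : Matrix (Fin (m + 1)) (Fin (m + 1)) F) *ᵥ e) = f.1.1 e
      simp only [K, Finset.mem_filter, Finset.mem_univ, true_and] at hk
      conv_lhs => rw [← hk, mulVec_mulVec, show (↑(k⁻¹) : Matrix (Fin (m + 1)) (Fin (m + 1)) F) *
        (k : Matrix (Fin (m + 1)) (Fin (m + 1)) F) = 1 from congrArg Subtype.val (inv_mul_cancel k),
        one_mulVec]
  have hfix : ∀ g : SpecialLinearGroup (Fin (m + 1)) F,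
      (g : Matrix (Fin (m + 1)) (Fin (m + 1)) F) *ᵥ e = e → σ g v = v := by
    intro g hg
    have hginv : (↑(g⁻¹) : Matrix (Fin (m + 1)) (Fin (m + 1)) F) *ᵥ e = e := by
      conv_lhs => rw [← hg, mulVec_mulVec, show (↑(g⁻¹) : Matrix (Fin (m + 1)) (Fin (m + 1)) F) *
        (g : Matrix (Fin (m + 1)) (Fin (m + 1)) F) = 1 from congrArg Subtype.val (inv_mul_cancel g),
        one_mulVec]
    simp only [v, map_sum]
    refine Finset.sum_nbij' (g * ·) (g⁻¹ * ·) ?_ ?_ ?_ ?_ ?_
    · intro k hk
      simp only [K, Finset.mem_filter, Finset.mem_univ, true_and] at hk ⊢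
      show ((g : Matrix (Fin (m + 1)) (Fin (m + 1)) F) * (k : Matrix (Fin (m + 1)) (Fin (m + 1)) F))
        *ᵥ e = e
      rw [← mulVec_mulVec, hk, hg]
    · intro k hk
      simp only [K, Finset.mem_filter, Finset.mem_univ, true_and] at hk ⊢
      show ((↑(g⁻¹) : Matrix (Fin (m + 1)) (Fin (m + 1)) F) *
        (k : Matrix (Fin (m + 1)) (Fin (m + 1)) F)) *ᵥ e = e
      rw [← mulVec_mulVec, hk, hginv]
    · intros; simp
    · intros; simp
    · intro k _; rw [map_mul, Module.End.mul_apply]
  have hdeg := degree_of_stab_fixed (V := U') hm σ hd hv hfix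
  have hle : finrank ℂ U' ≤ finrank ℂ (sumZero F (m + 1)) := Submodule.finrank_le U'
  have htot := finrank_sumZero (F := F) (n := m + 1) (by omega)
  have hq := Fintype.one_lt_card (α := F)
  have hmul : (Fintype.card F - 1) * finrank ℂ U' ≤ Fintype.card F ^ (m + 1) - Fintype.card F :=
    le_trans (Nat.mul_le_mul_left _ (hle.trans htot.le)) (Nat.mul_div_le _ _)
  have hpow := Nat.le_self_pow (show m + 1 ≠ 0 by omega) (Fintype.card F)
  have heq : finrank ℂ U' = finrank ℂ (sumZero F (m + 1)) := by
    rw [htot]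
    rcases hdeg with h | h
    · rw [← h, Nat.mul_div_cancel_left _ (by omega)]
    · omega
  exact top_le_iff.1 ((Submodule.eq_top_of_finrank_eq heq).symm.le.trans hU'le)

theorem exists_min_irreducible {m : ℕ} (hm : 2 ≤ m) :
    ∃ ρ : Representation ℂ (SpecialLinearGroup (Fin (m + 1)) F)
      (Fin ((Fintype.card F ^ (m + 1) - Fintype.card F) / (Fintype.card F - 1)) → ℂ),
      ρ.IsIrreducible := by
  classical
  have htot := finrank_sumZero (F := F) (n := m + 1) (by omega)
  have hq := Fintype.one_lt_card (α := F)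
  have hpos : 0 < finrank ℂ (sumZero F (m + 1)) := by
    rw [htot]
    refine Nat.div_pos ?_ (by omega)
    have h2 := Nat.pow_le_pow_right (show 1 ≤ Fintype.card F by omega) (show 2 ≤ m + 1 by omega)
    have h3 : 2 * Fintype.card F ≤ Fintype.card F ^ 2 := by rw [pow_two]; exact Nat.mul_le_mul_right _ hq
    omega
  have : Nontrivial (sumZero F (m + 1)) := Module.nontrivial_of_finrank_pos hpos
  have hirr : (pointRep (F := F) (m + 1)).IsIrreducible := by
    have : Nontrivial (Subrepresentation (pointRep (F := F) (m + 1))) := ⟨⊥, ⊤, fun h =>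
      bot_ne_top (α := Submodule ℂ (sumZero F (m + 1))) (congrArg Subrepresentation.toSubmodule h)⟩
    refine IsSimpleOrder.mk fun b => ?_
    by_cases hb : b.toSubmodule = ⊥
    · exact Or.inl (Subrepresentation.toSubmodule_injective hb)
    exact Or.inr (Subrepresentation.toSubmodule_injective
      (eq_top_of_invariant hm _ (fun g f hf => b.apply_mem_toSubmodule g hf) hb))
  let e : sumZero F (m + 1) ≃ₗ[ℂ] (Fin ((Fintype.card F ^ (m + 1) - Fintype.card F) /
      (Fintype.card F - 1)) → ℂ) :=
    LinearEquiv.ofFinrankEq _ _ (by rw [htot, Module.finrank_fin_fun])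
  exact ⟨H12.transportRep (pointRep (m + 1)) e,
    H12.isIrreducible_of_equiv (H12.transportEquiv _ e)⟩

end H40.MinDeg
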