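import Cfsg.Agent.H40.BlockAbstract
import Cfsg.Agent.H40.BlockSteinberg
import Cfsg.Agent.H40.PresTools

/-!
`SL_{3m}(q)` with boundedly many relations, from `SL₃(q^m)` and one more generator.
-/

set_option autoImplicit false
set_option linter.unusedSectionVars false
set_option linter.style.haveILetI false
set_option linter.unusedVariables false

namespace H40.BlockPres

open Matrix H40.SL3
open scoped commutatorElement

/-! ### Semilinear maps of an extension field -/

section Skew

variable {F : Type*} [Field F] [Fintype F] {K : Type*} [Field K] [Algebra F K] [Finite K]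

theorem exists_skew {m : ℕ} (b : Module.Basis (Fin m) F K) :
    ∃ (P : Matrix (Fin m) (Fin m) F) (σ : K ≃+* K) (ν : K), P.det = 1 ∧
      (∀ a, σ a = a ^ Fintype.card F) ∧
      (∀ a, P * Algebra.leftMulMatrix b a = Algebra.leftMulMatrix b (σ a) * P) ∧
      P ^ m = Algebra.leftMulMatrix b ν ∧
      Function.Bijective fun a : Fin m → K =>
        ∑ l : Fin m, P ^ (l : ℕ) * Algebra.leftMulMatrix b (a l) := by
  classical
  haveI : Module.Finite F K := Module.Finite.of_basis b
  have hfin : Module.finrank F K = m := by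
    rw [Module.finrank_eq_card_basis b, Fintype.card_fin]
  set σ := FiniteField.frobeniusAlgEquivOfAlgebraic F K
  set s : Module.End F K := σ.toLinearMap
  set L := Algebra.lmul F K
  have hsL : ∀ a, s * L a = L (σ a) * s := fun a => LinearMap.ext fun y => by
    simp [s, L]
  -- the twist
  have hsdet : LinearMap.det s ≠ 0 :=
    ((LinearEquiv.isUnit_det' σ.toLinearEquiv)).ne_zero
  obtain ⟨μ, hμ⟩ := FiniteField.unitsMap_norm_surjective F K (Units.mk0 _ hsdet)⁻¹
  set P : Module.End F K := L (μ : K) * s with hP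
  have hPdet : LinearMap.det P = 1 := by
    rw [hP, map_mul, ← Algebra.norm_apply]
    have := congrArg Units.val hμ
    rw [Units.coe_map, Units.val_inv_eq_inv_val, Units.val_mk0] at this
    rw [show Algebra.norm F (μ : K) = (LinearMap.det s)⁻¹ from this, inv_mul_cancel₀ hsdet]
  have hPL : ∀ a, P * L a = L (σ a) * P := fun a => by
    rw [hP, mul_assoc, hsL, ← mul_assoc, ← map_mul, mul_comm (μ : K), map_mul, mul_assoc]
  have hspow : ∀ (j : ℕ) (y : K), (s ^ j) y = (FiniteField.frobeniusAlgHom F K ^ j) y := by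
    intro j y
    rw [Module.End.pow_apply, AlgHom.coe_pow]
    rfl
  have hsm : s ^ m = 1 := LinearMap.ext fun y => by
    rw [hspow, ← hfin, ← FiniteField.orderOf_frobeniusAlgHom F K, pow_orderOf_eq_one]
    rfl
  have hpow : ∀ j : ℕ, ∃ c : K, c ≠ 0 ∧ P ^ j = L c * s ^ j := by
    intro j
    induction j with
    | zero => exact ⟨1, one_ne_zero, by simp⟩
    | succ j ih =>
      obtain ⟨c, hc, e⟩ := ih
      refine ⟨(μ : K) * σ c, mul_ne_zero μ.ne_zero (by simpa using hc), ?_⟩
      rw [pow_succ', e, hP, mul_assoc, ← mul_assoc s, hsL, map_mul, mul_assoc, mul_assoc,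
        pow_succ']
  choose c hc0 hc using hpow
  have hs' : ∀ (j : ℕ) (a : K), s ^ j * L a = L ((FiniteField.frobeniusAlgHom F K ^ j) a) * s ^ j := by
    intro j a
    refine LinearMap.ext fun y => ?_
    simp only [Module.End.mul_apply, hspow, L, Algebra.lmul, AlgHom.coe_mk]
    simp
  have hinj : Function.Injective fun a : Fin m → K => ∑ l : Fin m, P ^ (l : ℕ) * L (a l) := by
    intro a a' h
    have h0 : ∑ l : Fin m, P ^ (l : ℕ) * L ((a - a') l) = 0 := by
      simp only [Pi.sub_apply, map_sub, mul_sub, Finset.sum_sub_distrib, sub_eq_zero]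
      exact h
    simp only [hc, mul_assoc, hs'] at h0
    simp only [← mul_assoc, ← map_mul] at h0
    have hli := ((linearIndependent_algHom_toLinearMap F K K).comp _
      ((FiniteField.bijective_frobeniusAlgHom_pow F K).1.comp (finCongr hfin.symm).injective))
    rw [Fintype.linearIndependent_iff] at hli
    funext l
    refine sub_eq_zero.1 ?_
    have := hli (fun l => c l * (FiniteField.frobeniusAlgHom F K ^ (l : ℕ)) ((a - a') l)) (by
      refine LinearMap.ext fun y => ?_
      have hy := LinearMap.congr_fun h0 y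
      simp only [LinearMap.sum_apply, Module.End.mul_apply, hspow, L] at hy
      simpa [LinearMap.sum_apply, mul_assoc] using hy) l
    rw [mul_eq_zero, or_iff_right (hc0 _), map_eq_zero] at this
    exact this
  have hcard : Nat.card (Fin m → K) = Nat.card (Module.End F K) :=
    Nat.card_congr (b.constr F (M' := K)).toEquiv
  haveI : Finite (Module.End F K) := Finite.of_equiv _ (b.constr F (M' := K)).toEquiv
  have hbij := (Nat.bijective_iff_injective_and_card _).2 ⟨hinj, hcard⟩
  -- transfer to matrices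
  set Te := LinearMap.toMatrixAlgEquiv b
  have hTe : ∀ a, Te (L a) = Algebra.leftMulMatrix b a := fun a => rfl
  refine ⟨Te P, σ.toRingEquiv, c m, ?_, fun a => rfl, fun a => ?_, ?_, ?_⟩
  · rw [← hPdet]; exact LinearMap.det_toMatrix b P
  · rw [← hTe, ← hTe, ← map_mul, ← map_mul, hPL]; rfl
  · rw [← map_pow, hc, hsm, mul_one, hTe]
  · convert Te.bijective.comp hbij using 1
    funext a
    simp [map_sum, hTe]

end Skew

/-! ### The root groups over the ring -/

/-- A skew group ring. -/
structure Skew (K : Type*) [Field K] (R : Type*) [Ring R] (m : ℕ) (σ : K ≃+* K) (ν : K) where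
  /-- the scalars -/
  M : K →+* R
  /-- the semilinear element -/
  P : R
  hP : ∀ a, P * M a = M (σ a) * P
  hPm : P ^ m = M ν
  bij : Function.Bijective fun a : Fin m → K => ∑ l : Fin m, P ^ (l : ℕ) * M (a l)

namespace Skew

variable {K : Type*} [Field K] {R : Type*} [Ring R] {m q : ℕ} {σ : K ≃+* K} {ν : K}
  (S : Skew K R m σ ν)

theorem pow_M (s : ℕ) (a : K) : S.P ^ s * S.M a = S.M (σ^[s] a) * S.P ^ s := by
  induction s with
  | zero => simp
  | succ s ih =>
    rw [pow_succ', mul_assoc, ih, ← mul_assoc, S.hP, Function.iterate_succ_apply', mul_assoc]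

theorem mul_mono (l s : ℕ) (a b : K) :
    S.P ^ l * S.M (σ^[s] a) * (S.P ^ s * S.M b) = S.P ^ (l + s) * S.M (a * b) := by
  rw [mul_assoc, ← mul_assoc (S.M _), ← S.pow_M, pow_add, map_mul]
  simp only [mul_assoc]

/-- The coordinates. -/
noncomputable def e : (Fin m → K) ≃+ R :=
  AddEquiv.ofBijective
    ({ toFun := fun a => ∑ l : Fin m, S.P ^ (l : ℕ) * S.M (a l)
       map_zero' := by simp
       map_add' := fun a b => by simp [mul_add, Finset.sum_add_distrib] } : (Fin m → K) →+ R)
    S.bij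

include S in
theorem induction {Q : R → Prop} (h0 : Q 0) (hadd : ∀ A B, Q A → Q B → Q (A + B))
    (hmono : ∀ (l : ℕ) (a : K), Q (S.P ^ l * S.M a)) (A : R) : Q A := by
  obtain ⟨a, rfl⟩ := S.bij.2 A
  exact Finset.sum_induction _ Q hadd h0 fun l _ => hmono l (a l)

variable [Finite K] {ζ : Kˣ} {G : Type*} [Group G] {ψ : SpecialLinearGroup (Fin 3) K →* G} {f : G}
  (hR : Rels m q σ ν ζ ψ f)

/-- One layer. -/
def layer {i j : Fin 3} (h : i ≠ j) (l : ℕ) : Multiplicative K →* G :=
  MonoidHom.mk' (fun a => Rels.U ψ f i j l a.toAdd) fun a b => by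
    rw [toAdd_mul, hR.U_add h]

/-- A root group over the ring. -/
noncomputable def XR {i j : Fin 3} (h : i ≠ j) : Multiplicative R →* G :=
  (MonoidHom.noncommPiCoprod (N := fun _ : Fin m => Multiplicative K) (fun l : Fin m => layer hR h l)
    (fun l l' _ a b => hR.same h l l' a.toAdd b.toAdd)).comp
    (MonoidHom.mk' (fun A l => Multiplicative.ofAdd (S.e.symm A.toAdd l)) fun A B => by
      funext l; simp [ofAdd_add])

theorem XR_mono [NeZero m] {i j : Fin 3} (h : i ≠ j) (l : ℕ) (a : K) :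
    S.XR hR h (.ofAdd (S.P ^ l * S.M a)) = Rels.U ψ f i j l a := by
  induction l using Nat.strong_induction_on generalizing a with
  | _ l ih =>
    by_cases hl : l < m
    · have e : S.e.symm (S.P ^ l * S.M a) = Pi.single (⟨l, hl⟩ : Fin m) a := by
        rw [AddEquiv.symm_apply_eq]
        show _ = ∑ k : Fin m, S.P ^ (k : ℕ) * S.M _
        rw [Finset.sum_eq_single ⟨l, hl⟩ (fun k _ hk => by simp [hk]) (by simp), Pi.single_eq_same]
      simp only [XR, MonoidHom.comp_apply, MonoidHom.mk'_apply, toAdd_ofAdd, e]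
      have : (fun k => Multiplicative.ofAdd ((Pi.single (⟨l, hl⟩ : Fin m) a : Fin m → K) k)) =
          Pi.mulSingle (⟨l, hl⟩ : Fin m) (Multiplicative.ofAdd a) := by
        funext k
        by_cases hk : k = ⟨l, hl⟩
        · subst hk; simp
        · simp [hk]
      rw [this]
      exact MonoidHom.noncommPiCoprod_mulSingle _ _ _
    · obtain ⟨k, rfl⟩ : ∃ k, l = k + m := ⟨l - m, by omega⟩
      rw [pow_add, mul_assoc, S.hPm, ← map_mul,
        ih k (by have := NeZero.pos m; omega), hR.U_period h]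

theorem XR_add {i j : Fin 3} (h : i ≠ j) (A B : R) :
    S.XR hR h (.ofAdd (A + B)) = S.XR hR h (.ofAdd A) * S.XR hR h (.ofAdd B) := by
  rw [ofAdd_add, map_mul]

theorem XR_zero {i j : Fin 3} (h : i ≠ j) : S.XR hR h (.ofAdd 0) = 1 := map_one _

theorem XR_commute [NeZero m] {i j k l : Fin 3} (h : i ≠ j) (h' : k ≠ l)
    (hU : ∀ (s t : ℕ) (a b : K), Commute (Rels.U ψ f i j s a) (Rels.U ψ f k l t b)) (A B : R) :
    Commute (S.XR hR h (.ofAdd A)) (S.XR hR h' (.ofAdd B)) := by
  induction A using S.induction with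
  | h0 => rw [S.XR_zero]; exact Commute.one_left _
  | hadd A A' hA hA' => rw [S.XR_add]; exact hA.mul_left hA'
  | hmono s a =>
    induction B using S.induction with
    | h0 => rw [S.XR_zero]; exact Commute.one_right _
    | hadd B B' hB hB' => rw [S.XR_add]; exact hB.mul_right hB'
    | hmono t b => rw [S.XR_mono, S.XR_mono]; exact hU s t a b

theorem XR_chev [NeZero m] {i j k : Fin 3} (hij : i ≠ j) (hjk : j ≠ k) (hik : i ≠ k) (A B : R) :
    ⁅S.XR hR hij (.ofAdd A), S.XR hR hjk (.ofAdd B)⁆ = S.XR hR hik (.ofAdd (A * B)) := by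
  have c1 : ∀ X Y : R, Commute (S.XR hR hij (.ofAdd X)) (S.XR hR hik (.ofAdd Y)) :=
    S.XR_commute hR hij hik (hR.row hij hjk hik)
  have c2 : ∀ X Y : R, Commute (S.XR hR hjk (.ofAdd X)) (S.XR hR hik (.ofAdd Y)) :=
    S.XR_commute hR hjk hik (hR.col hjk hik hij.symm)
  induction A using S.induction with
  | h0 => rw [zero_mul, S.XR_zero, S.XR_zero, commutatorElement_def]; group
  | hadd A A' hA hA' =>
    rw [S.XR_add, add_mul, add_comm, S.XR_add, ← hA, ← hA']
    have e : ⁅S.XR hR hij (.ofAdd A) * S.XR hR hij (.ofAdd A'), S.XR hR hjk (.ofAdd B)⁆ =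
        S.XR hR hij (.ofAdd A) * ⁅S.XR hR hij (.ofAdd A'), S.XR hR hjk (.ofAdd B)⁆ *
          (S.XR hR hij (.ofAdd A))⁻¹ * ⁅S.XR hR hij (.ofAdd A), S.XR hR hjk (.ofAdd B)⁆ := by
      simp only [commutatorElement_def]; group
    rw [e, hA', (c1 A (A' * B)).eq, mul_inv_cancel_right]
  | hmono l a =>
    induction B using S.induction with
    | h0 => rw [mul_zero, S.XR_zero, S.XR_zero, commutatorElement_def]; group
    | hadd B B' hB hB' =>
      rw [S.XR_add, mul_add, S.XR_add, ← hB, ← hB']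
      have e : ∀ X Y Z : G, ⁅X, Y * Z⁆ = ⁅X, Y⁆ * (Y * ⁅X, Z⁆ * Y⁻¹) := fun X Y Z => by
        simp only [commutatorElement_def]; group
      rw [e, hB', (c2 B (S.P ^ l * S.M a * B')).eq, mul_inv_cancel_right]
    | hmono s b =>
      obtain ⟨a, rfl⟩ := (σ.bijective.iterate s).surjective a
      rw [S.mul_mono, S.XR_mono, S.XR_mono, S.XR_mono, hR.chev hij hjk hik]

end Skew

/-! ### Scalar root elements -/

section Scalar

variable {F : Type*} [Field F] {K : Type*} [Field K] [Finite K] {m q : ℕ} [NeZero m]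
  {σ : K ≃+* K} {ν : K} (S : Skew K (Matrix (Fin m) (Fin m) F) m σ ν) {ζ : Kˣ}
  {G : Type*} [Group G] {ψ : SpecialLinearGroup (Fin 3) K →* G} {f : G}
  (hR : Rels m q σ ν ζ ψ f)

/-- The root elements that cross blocks. -/
noncomputable def xc (u v : Fin 3 × Fin m) (t : F) : G :=
  if h : u.1 ≠ v.1 then S.XR hR h (.ofAdd (Matrix.single u.2 v.2 t)) else 1

theorem ax : Block.Ax Prod.fst (xc S hR) where
  ne i := ⟨(i, 0), rfl⟩
  room := by
    rintro ⟨i, a⟩ ⟨i', a'⟩ hpq (rfl : i = i') u v
    have hne : a ≠ a' := fun e => hpq (by rw [e])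
    obtain ⟨j, hj, -⟩ := Block.exists_third i i
    obtain ⟨k, hk, hkj⟩ := Block.exists_third i j
    by_cases h : (j, a) ≠ u ∧ (j, a) ≠ v
    · exact ⟨(j, a), hj, h⟩
    by_cases h' : (j, a') ≠ u ∧ (j, a') ≠ v
    · exact ⟨(j, a'), hj, h'⟩
    refine ⟨(k, a), hk, ?_⟩
    simp only [not_and_or, not_not] at h h'
    constructor <;> intro e <;> rcases h with h | h <;> rcases h' with h' | h' <;>
      simp_all [Prod.ext_iff]
  add u v h t t' := by
    simp only [xc, dif_pos h, Matrix.single_add, S.XR_add]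
  comm p u r v hpu hrv hpv hur hop t t' := by
    simp only [xc, dif_pos hpu, dif_pos hrv]
    by_cases h1 : p.1 = r.1
    · by_cases h2 : u.1 = v.1
      · exact S.XR_commute hR hpu hrv (fun s s' a a' => by rw [← h1, ← h2]; exact hR.same hpu s s' a a') _ _
      · exact S.XR_commute hR hpu hrv (fun s s' a a' => by
          rw [← h1]; exact hR.row hpu h2 (h1 ▸ hrv) s s' a a') _ _
    · by_cases h2 : u.1 = v.1
      · exact S.XR_commute hR hpu hrv (fun s s' a a' => by
          rw [← h2]; exact hR.col hpu (h2 ▸ hrv) h1 s s' a a') _ _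
      · by_cases h3 : u.1 = r.1
        · have h4 : p.1 ≠ v.1 := fun e => hop ⟨e, h3⟩
          obtain ⟨r1, r2⟩ := r
          simp only at h3
          subst h3
          have e := S.XR_chev hR hpu hrv h4 (Matrix.single p.2 u.2 t) (Matrix.single r2 v.2 t')
          rw [Matrix.single_mul_single_of_ne _ _ _ _ (fun e => hur (Prod.ext rfl e)), S.XR_zero] at e
          exact commutatorElement_eq_one_iff_commute.1 e
        · have h4 : p.1 = v.1 := by
            revert h1 h2 h3 hpu hrv; generalize p.1 = a, u.1 = b, r.1 = c, v.1 = d; decide +revert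
          obtain ⟨v1, v2⟩ := v
          simp only at h4
          subst h4
          have e := S.XR_chev hR hrv hpu (Ne.symm h3) (Matrix.single r.2 v2 t')
            (Matrix.single p.2 u.2 t)
          rw [Matrix.single_mul_single_of_ne _ _ _ _ (fun e => hpv (Prod.ext rfl e.symm)), S.XR_zero] at e
          exact (commutatorElement_eq_one_iff_commute.1 e).symm
  chev p u v hpu huv hpv t t' := by
    simp only [xc, dif_pos hpu, dif_pos huv, dif_pos hpv]
    rw [S.XR_chev hR hpu huv hpv, Matrix.single_mul_single_same]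

end Scalar

/-! ### The target -/

section Target

variable {F : Type*} [Field F] {K : Type*} [Field K] {m q : ℕ} {σ : K ≃+* K} {ν : K}
  (S : Skew K (Matrix (Fin m) (Fin m) F) m σ ν)

/-- Blocks. -/
noncomputable abbrev Bl (m : ℕ) (F : Type*) [Field F] :
    Matrix (Fin 3) (Fin 3) (Matrix (Fin m) (Fin m) F) ≃+* Matrix (Fin 3 × Fin m) (Fin 3 × Fin m) F :=
  Matrix.compRingEquiv (Fin 3) (Fin m) F

theorem det_elem {i j : Fin 3} (h : i ≠ j) (A : Matrix (Fin m) (Fin m) F) :
    (Bl m F (1 + Matrix.single i j A)).det = 1 := by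
  have hmul : ∀ A B : Matrix (Fin m) (Fin m) F,
      1 + Matrix.single i j (A + B) = (1 + Matrix.single i j A) * (1 + Matrix.single i j B) := by
    intro A B
    rw [add_mul, mul_add, mul_add, one_mul, one_mul, mul_one,
      Matrix.single_mul_single_of_ne _ _ _ _ h.symm, add_zero, Matrix.single_add]
    abel
  induction A using Matrix.induction_on' with
  | h_zero => rw [Matrix.single_zero, add_zero, map_one, det_one]
  | h_add A B hA hB => rw [hmul, map_mul, det_mul, hA, hB, one_mul]
  | h_std_basis a b c =>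
    rw [map_add, map_one, compRingEquiv_apply, comp_single_single]
    exact Matrix.det_transvection_of_ne _ _ (fun e => h (Prod.ext_iff.1 e).1) c

theorem det_diag (v : Fin 3 → Matrix (Fin m) (Fin m) F) :
    (Bl m F (diagonal v)).det = ∏ i, (v i).det := by
  rw [← det_blockDiagonal, ← det_submatrix_equiv_self (Equiv.prodComm (Fin 3) (Fin m))]
  congr 1
  ext ⟨i, k⟩ ⟨j, l⟩
  by_cases h : i = j
  · subst h; simp
  · simp [h, blockDiagonal_apply]

/-- The group elements as block matrices. -/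
noncomputable def val : SpecialLinearGroup (Fin 3 × Fin m) F →* Matrix (Fin 3) (Fin 3) (Matrix (Fin m) (Fin m) F) where
  toFun g := (Bl m F).symm g.1
  map_one' := map_one (Bl m F).symm
  map_mul' a b := map_mul (Bl m F).symm _ _

theorem val_inj : Function.Injective (val (F := F) (m := m)) := fun _ _ h =>
  Subtype.ext ((Bl m F).symm.injective h)

theorem val_mk (A : Matrix (Fin 3) (Fin 3) (Matrix (Fin m) (Fin m) F)) (h : (Bl m F A).det = 1) :
    val ⟨Bl m F A, h⟩ = A := (Bl m F).symm_apply_apply A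

theorem map_T {i j : Fin 3} (h : i ≠ j) (a : K) :
    ((T i j a : SpecialLinearGroup (Fin 3) K) : Matrix (Fin 3) (Fin 3) K).map S.M =
      1 + Matrix.single i j (S.M a) := by
  rw [T_of h, SpecialLinearGroup.transvection_coe, Matrix.map_add _ (map_add S.M),
    Matrix.map_one _ (map_zero S.M) (map_one S.M)]
  congr 1
  ext u v k l
  simp only [Matrix.map_apply, Matrix.single_apply]
  split_ifs <;> simp

/-- `SL₃(K)` inside. -/
noncomputable def iota : SpecialLinearGroup (Fin 3) K →* SpecialLinearGroup (Fin 3 × Fin m) F where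
  toFun A := ⟨Bl m F ((A : Matrix (Fin 3) (Fin 3) K).map S.M), by
    induction A using H37.SL_transvection_induction with
    | h1 =>
      rw [cm1, Matrix.map_one _ (map_zero S.M) (map_one S.M), map_one, det_one]
    | htransvec i j h a => rw [← T_of h, map_T S h, det_elem h]
    | hmul A B hA hB => rw [cm3, Matrix.map_mul, map_mul, det_mul, hA, hB, one_mul]⟩
  map_one' := Subtype.ext (by
    show Bl m F _ = 1
    rw [cm1, Matrix.map_one _ (map_zero S.M) (map_one S.M), map_one])
  map_mul' A B := Subtype.ext (by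
    show Bl m F _ = Bl m F _ * Bl m F _
    rw [← map_mul, cm3, Matrix.map_mul])

theorem val_iota (A : SpecialLinearGroup (Fin 3) K) :
    val (iota S A) = (A : Matrix (Fin 3) (Fin 3) K).map S.M := val_mk _ _

variable (hdet : S.P.det = 1)

/-- The extra generator. -/
noncomputable def fgen : SpecialLinearGroup (Fin 3 × Fin m) F :=
  ⟨Bl m F (diagonal ![S.P, 1, 1]), by rw [det_diag, Fin.prod_univ_three]; simp [hdet]⟩

theorem val_fgen : val (fgen S hdet) = diagonal ![S.P, 1, 1] := val_mk _ _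

theorem val_c : val (iota S cT) = !![0, 0, 1; 1, 0, 0; 0, 1, 0] := by
  rw [val_iota, coe_cT]
  ext u v : 1
  rw [Matrix.map_apply]
  fin_cases u <;> fin_cases v <;> first
    | exact map_zero _
    | exact map_one _

theorem val_t : val (iota S tT) = !![0, 1, 0; -1, 0, 0; 0, 0, 1] := by
  rw [val_iota, coe_tT]
  ext u v : 1
  rw [Matrix.map_apply]
  fin_cases u <;> fin_cases v <;> first
    | exact map_zero _
    | exact map_one _
    | exact (map_neg _ _).trans (congrArg Neg.neg (map_one _))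

theorem val_d (a b : Kˣ) :
    val (iota S (dT (a, b))) = diagonal ![S.M a, S.M b, S.M ((a * b)⁻¹ : Kˣ)] := by
  rw [val_iota, coe_dT, Matrix.diagonal_map (map_zero S.M)]
  congr 1
  funext u
  fin_cases u <;> rfl

theorem conj_c (g : SpecialLinearGroup (Fin 3 × Fin m) F) (v : Fin 3 → Matrix (Fin m) (Fin m) F)
    (h : val g = diagonal v) :
    val (iota S cT * g * (iota S cT)⁻¹) = diagonal ![v 2, v 0, v 1] := by
  have e : val (iota S cT) * diagonal v = diagonal ![v 2, v 0, v 1] * val (iota S cT) := by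
    rw [val_c]
    ext a b : 1
    rw [Matrix.mul_apply, Matrix.mul_apply, Fin.sum_univ_three, Fin.sum_univ_three]
    fin_cases a <;> fin_cases b <;> simp
  rw [map_mul, map_mul, h, e, mul_assoc, ← map_mul, mul_inv_cancel, map_one, mul_one]

theorem val_fi (i : Fin 3) :
    val (fi (iota S) (fgen S hdet) i) = diagonal (Function.update 1 i S.P) := by
  have h0 := val_fgen S hdet
  have h1 := conj_c S _ _ h0
  have h2 := conj_c S _ _ h1
  fin_cases i
  · refine h0.trans (congrArg _ ?_); funext u; fin_cases u <;> simp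
  · refine h1.trans (congrArg _ ?_); funext u; fin_cases u <;> simp
  · refine h2.trans (congrArg _ ?_); funext u; fin_cases u <;> simp

theorem diag_conj_single {i j : Fin 3} (d : Fin 3 → Matrix (Fin m) (Fin m) F) (hj : d j = 1)
    (A : Matrix (Fin m) (Fin m) F) :
    diagonal d * (1 + Matrix.single i j A) = (1 + Matrix.single i j (d i * A)) * diagonal d := by
  rw [mul_add, add_mul, mul_one, one_mul]
  congr 1
  ext a b : 1
  rw [diagonal_mul, mul_diagonal, Matrix.single_apply, Matrix.single_apply]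
  split_ifs with h
  · obtain ⟨rfl, rfl⟩ := h
    rw [hj, mul_one]
  · simp

theorem rels (hq : ∀ a, σ a = a ^ q) {ζ : Kˣ} (hgen : ∀ y : Kˣ, y ∈ Subgroup.zpowers ζ) :
    Rels m q σ ν ζ (iota S) (fgen S hdet) := by
  have e0 := val_fgen S hdet
  have e1 : val (fi (iota S) (fgen S hdet) 1) = diagonal ![1, S.P, 1] := by
    rw [val_fi]; congr 1; funext u; fin_cases u <;> simp
  have e2 : val (fi (iota S) (fgen S hdet) 2) = diagonal ![1, 1, S.P] := by
    rw [val_fi]; congr 1; funext u; fin_cases u <;> simp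
  have eT : ∀ a, val (iota S (T 0 1 a)) = 1 + Matrix.single 0 1 (S.M a) := fun a => by
    rw [val_iota, map_T S (by decide)]
  refine ⟨hq, hgen, val_inj ?_, val_inj ?_, val_inj ?_, ?_, ?_, ?_, val_inj ?_⟩
  · rw [map_mul, map_mul, e0, e1, diagonal_mul_diagonal, diagonal_mul_diagonal]
    congr 1; funext u; fin_cases u <;> simp
  · rw [map_mul, map_mul, e2, eT, diag_conj_single _ (by simp)]
    congr 3
    simp
  · rw [map_mul, map_mul, map_mul, map_mul, e0, e1, eT, diagonal_mul_diagonal]
    ext a b : 1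
    rw [Matrix.mul_apply, Matrix.mul_apply, Fin.sum_univ_three, Fin.sum_univ_three]
    fin_cases a <;> fin_cases b <;> simp
  · rw [mul_inv_eq_iff_eq_mul, ← map_pow, ← map_pow]
    apply val_inj
    rw [map_mul, map_mul, map_mul _ _ (_ * _), map_mul, e0, e1, Prod.pow_mk, val_d, val_d,
      diagonal_mul_diagonal, diagonal_mul_diagonal, diagonal_mul_diagonal]
    congr 1
    funext u
    fin_cases u <;> simp [S.hP, hq]
  · rw [mul_inv_eq_iff_eq_mul]
    apply val_inj
    rw [map_mul, map_mul, map_pow, e0, eT, eT, diagonal_pow, diag_conj_single _ (by simp)]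
    congr 3
    simp [S.hPm]
  · rw [mul_assoc, inv_mul_eq_iff_eq_mul]
    apply val_inj
    rw [map_mul, map_mul, e0, e1, val_t]
    ext a b : 1
    rw [Matrix.mul_apply, Matrix.mul_apply, Fin.sum_univ_three, Fin.sum_univ_three]
    fin_cases a <;> fin_cases b <;> simp
  · rw [map_mul, map_mul, e0, val_d, diagonal_mul_diagonal, diagonal_mul_diagonal]
    congr 1; funext u; fin_cases u <;> simp

theorem val_U {i j : Fin 3} (h : i ≠ j) (l : ℕ) (a : K) :
    val (Rels.U (iota S) (fgen S hdet) i j l a) = 1 + Matrix.single i j (S.P ^ l * S.M a) := by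
  rw [Rels.U, map_mul, map_mul, map_pow, val_fi, diagonal_pow, val_iota, map_T S h,
    diag_conj_single _ (by simp [h.symm]), mul_assoc, ← diagonal_pow, ← val_fi S hdet, ← map_pow,
    ← map_mul, mul_inv_cancel, map_one, mul_one]
  simp

variable [Finite K] [NeZero m] {ζ : Kˣ} (hR : Rels m q σ ν ζ (iota S) (fgen S hdet))

theorem val_XR {i j : Fin 3} (h : i ≠ j) (A : Matrix (Fin m) (Fin m) F) :
    val (S.XR hR h (.ofAdd A)) = 1 + Matrix.single i j A := by
  induction A using S.induction with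
  | h0 => rw [S.XR_zero, map_one, Matrix.single_zero, add_zero]
  | hadd A B hA hB =>
    rw [S.XR_add, map_mul, hA, hB, add_mul, mul_add, mul_add, one_mul, one_mul, mul_one,
      Matrix.single_mul_single_of_ne _ _ _ _ h.symm, add_zero, Matrix.single_add]
    abel
  | hmono l a => rw [S.XR_mono, val_U S hdet h]

include hR in
theorem closure_U :
    Subgroup.closure (Set.range fun x : Fin 3 × Fin 3 × ℕ × K =>
      Rels.U (iota S) (fgen S hdet) x.1 x.2.1 x.2.2.1 x.2.2.2) = ⊤ := by
  set W := Subgroup.closure (Set.range fun x : Fin 3 × Fin 3 × ℕ × K =>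
      Rels.U (iota S) (fgen S hdet) x.1 x.2.1 x.2.2.1 x.2.2.2)
  have hX : ∀ {i j : Fin 3} (h : i ≠ j) A, S.XR hR h (.ofAdd A) ∈ W := by
    intro i j h A
    induction A using S.induction with
    | h0 => rw [S.XR_zero]; exact one_mem _
    | hadd A B hA hB => rw [S.XR_add]; exact mul_mem hA hB
    | hmono l a => rw [S.XR_mono]; exact Subgroup.subset_closure ⟨(i, j, l, a), rfl⟩
  have hcross : ∀ {u v : Fin 3 × Fin m} (h : u.1 ≠ v.1) (huv : u ≠ v) (c : F),
      SpecialLinearGroup.transvection huv c ∈ W := by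
    intro u v h huv c
    have e : SpecialLinearGroup.transvection huv c = S.XR hR h (.ofAdd (Matrix.single u.2 v.2 c)) := by
      apply val_inj
      rw [val_XR]
      show (Bl m F).symm _ = _
      rw [RingEquiv.symm_apply_eq, map_add, map_one, compRingEquiv_apply, comp_single_single,
        SpecialLinearGroup.transvection_coe]
    rw [e]; exact hX h _
  refine H37.eq_top_of_transvection_mem _ fun u v huv c => ?_
  by_cases h : u.1 = v.1
  · obtain ⟨k, hk, -⟩ := Block.exists_third u.1 u.1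
    have h1 : u.1 ≠ ((k, u.2) : Fin 3 × Fin m).1 := hk.symm
    have h2 : ((k, u.2) : Fin 3 × Fin m).1 ≠ v.1 := fun e => hk (e.trans h.symm)
    have e1 : u ≠ (k, u.2) := fun e => h1 (congrArg Prod.fst e)
    have e2 : (k, u.2) ≠ v := fun e => h2 (congrArg Prod.fst e)
    rw [← mul_one c, ← H37.commutator_transvection e1 e2 huv c 1, commutatorElement_def]
    exact mul_mem (mul_mem (mul_mem (hcross h1 e1 c) (hcross h2 e2 1)) (inv_mem (hcross h1 e1 c)))
      (inv_mem (hcross h2 e2 1))
  · exact hcross h huv c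

end Target

/-! ### The presentation -/

section Main

variable {K : Type*} [Field K]

/-- The letter of an element of `SL₃`. -/
def hL (g : SpecialLinearGroup (Fin 3) K) : FreeGroup (SpecialLinearGroup (Fin 3) K ⊕ Fin 1) :=
  FreeGroup.of (Sum.inl g)

/-- The conjugates of the new letter. -/
def fw : Fin 3 → FreeGroup (SpecialLinearGroup (Fin 3) K ⊕ Fin 1) :=
  ![FreeGroup.of (Sum.inr 0), hL cT * FreeGroup.of (Sum.inr 0) * (hL cT)⁻¹,
    hL cT * (hL cT * FreeGroup.of (Sum.inr 0) * (hL cT)⁻¹) * (hL cT)⁻¹]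

/-- A root letter. -/
def uw (x : Fin 3 × Fin 3 × ℕ × K) : FreeGroup (SpecialLinearGroup (Fin 3) K ⊕ Fin 1) :=
  fw x.1 ^ x.2.2.1 * hL (T x.1 x.2.1 x.2.2.2) * (fw x.1 ^ x.2.2.1)⁻¹

variable {G : Type*} [Group G] (ψ : SpecialLinearGroup (Fin 3) K →* G) (a : Fin 1 → G)

theorem lift_hL (g : SpecialLinearGroup (Fin 3) K) :
    FreeGroup.lift (Sum.elim ψ a) (hL g) = ψ g := by simp [hL]

theorem lift_fw (i : Fin 3) : FreeGroup.lift (Sum.elim ψ a) (fw i) = fi ψ (a 0) i := by
  fin_cases i <;> simp [fw, fi, lift_hL]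

theorem lift_uw (w : FreeGroup (Fin 3 × Fin 3 × ℕ × K)) :
    FreeGroup.lift (Sum.elim ψ a) (FreeGroup.lift uw w) =
      FreeGroup.lift (fun x : Fin 3 × Fin 3 × ℕ × K => Rels.U ψ (a 0) x.1 x.2.1 x.2.2.1 x.2.2.2) w := by
  rw [← MonoidHom.comp_apply]
  congr 1
  exact FreeGroup.ext_hom _ _ fun x => by simp [uw, Rels.U, lift_hL, lift_fw]

open Classical in
/-- The relators. -/
noncomputable def relset (m q : ℕ) (ν : K) (ζ : Kˣ) (w : FreeGroup (Fin 3 × Fin 3 × ℕ × K)) :
    Finset (FreeGroup (SpecialLinearGroup (Fin 3) K ⊕ Fin 1)) :=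
  {fw 0 * fw 1 * (fw 0)⁻¹ * (fw 1)⁻¹,
    fw 2 * hL (T 0 1 1) * (fw 2)⁻¹ * (hL (T 0 1 1))⁻¹,
    fw 0 * fw 1 * hL (T 0 1 1) * (fw 0 * fw 1)⁻¹ * (hL (T 0 1 1))⁻¹,
    fw 0 * fw 1 * hL (dT (ζ⁻¹, ζ)) * (fw 0 * fw 1)⁻¹ * (hL (dT (ζ⁻¹, ζ)) ^ q)⁻¹,
    fw 0 ^ m * hL (T 0 1 1) * (fw 0 ^ m)⁻¹ * (hL (T 0 1 ν))⁻¹,
    (hL tT)⁻¹ * fw 0 * hL tT * (fw 1)⁻¹,
    fw 0 * hL (dT (1, ζ⁻¹)) * (fw 0)⁻¹ * (hL (dT (1, ζ⁻¹)))⁻¹,
    fw 0 * (FreeGroup.lift uw w)⁻¹}

open Classical in
theorem card_relset (m q : ℕ) (ν : K) (ζ : Kˣ) (w : FreeGroup (Fin 3 × Fin 3 × ℕ × K)) :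
    (relset m q ν ζ w).card ≤ 8 := by
  unfold relset
  iterate 7 refine le_trans (Finset.card_insert_le _ _) (Nat.succ_le_succ ?_)
  exact le_of_eq (Finset.card_singleton _)

theorem relset_iff {m q : ℕ} {σ : K ≃+* K} {ν : K} {ζ : Kˣ} (hσ : ∀ a, σ a = a ^ q)
    (hgen : ∀ y : Kˣ, y ∈ Subgroup.zpowers ζ) (w : FreeGroup (Fin 3 × Fin 3 × ℕ × K)) :
    (∀ r ∈ relset m q ν ζ w, FreeGroup.lift (Sum.elim ψ a) r = 1) ↔
      Rels m q σ ν ζ ψ (a 0) ∧
        FreeGroup.lift (fun x : Fin 3 × Fin 3 × ℕ × K =>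
          Rels.U ψ (a 0) x.1 x.2.1 x.2.2.1 x.2.2.2) w = a 0 := by
  unfold relset
  simp only [Finset.mem_insert, Finset.mem_singleton, forall_eq_or_imp, forall_eq, map_mul, map_inv,
    map_pow, lift_hL, lift_fw, lift_uw, mul_inv_eq_one]
  have e0 : fi ψ (a 0) 0 = a 0 := rfl
  rw [e0]
  constructor
  · rintro ⟨h1, h2, h3, h4, h5, h6, h8, h9⟩
    exact ⟨⟨hσ, hgen, mul_inv_eq_iff_eq_mul.1 h1, mul_inv_eq_iff_eq_mul.1 h2,
      mul_inv_eq_iff_eq_mul.1 h3, h4, h5, h6, mul_inv_eq_iff_eq_mul.1 h8⟩, h9.symm⟩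
  · rintro ⟨h, h9⟩
    exact ⟨mul_inv_eq_iff_eq_mul.2 h.r1, mul_inv_eq_iff_eq_mul.2 h.r2,
      mul_inv_eq_iff_eq_mul.2 h.r3, h.r4, h.r5, h.r6, mul_inv_eq_iff_eq_mul.2 h.r8, h9.symm⟩

/-- Reindexing the special linear group. -/
def reidx {ι κ : Type*} [Fintype ι] [DecidableEq ι] [Fintype κ] [DecidableEq κ] {F : Type*} [Field F]
    (e : ι ≃ κ) : SpecialLinearGroup ι F ≃* SpecialLinearGroup κ F where
  toFun A := ⟨Matrix.reindex e e A.1, by rw [det_reindex_self, A.2]⟩
  invFun A := ⟨Matrix.reindex e.symm e.symm A.1, by rw [det_reindex_self, A.2]⟩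
  left_inv A := Subtype.ext (by simp)
  right_inv A := Subtype.ext (by simp)
  map_mul' A B := Subtype.ext (by
    show Matrix.reindex e e (A.1 * B.1) = Matrix.reindex e e A.1 * Matrix.reindex e e B.1
    simp [Matrix.reindex_apply, Matrix.submatrix_mul_equiv])

theorem hasPres_three (F : Type*) [Field F] [Fintype F] :
    Pres.HasPres (SpecialLinearGroup (Fin 3) F) 14 := by
  obtain ⟨rels, hc, he⟩ := H40.SL3.exists_pres (F := F)
  exact ⟨4, rels, hc, he⟩

/-- `SL_{3m}` on five generators and twenty-three relations. -/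
theorem hasPres_block (F : Type*) [Field F] [Fintype F] (m : ℕ) [NeZero m] :
    Pres.HasPres (SpecialLinearGroup (Fin (3 * m)) F) 23 := by
  classical
  obtain ⟨p, hchar⟩ := CharP.exists F
  haveI := hchar
  haveI : Fact p.Prime := ⟨CharP.char_is_prime F p⟩
  let K := FiniteField.Extension F p m
  haveI : Fintype K := Fintype.ofFinite K
  obtain ⟨P, σ, ν, hdet, hσ, hP, hPm, hbij⟩ :=
    exists_skew (Module.finBasisOfFinrankEq F K (FiniteField.finrank_extension F p m))
  let S : Skew K (Matrix (Fin m) (Fin m) F) m σ ν :=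
    { M := (Algebra.leftMulMatrix
        (Module.finBasisOfFinrankEq F K (FiniteField.finrank_extension F p m))).toRingHom
      P := P, hP := hP, hPm := hPm, bij := hbij }
  obtain ⟨ζ, hgen⟩ := IsCyclic.exists_generator (α := Kˣ)
  have hR := rels S hdet hσ hgen
  obtain ⟨w, hw⟩ : fgen S hdet ∈ (FreeGroup.lift fun x : Fin 3 × Fin 3 × ℕ × K =>
      Rels.U (iota S) (fgen S hdet) x.1 x.2.1 x.2.2.1 x.2.2.2).range := by
    rw [FreeGroup.range_lift_eq_closure, closure_U S hdet hR]; exact Subgroup.mem_top _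
  have h := Pres.HasPres.extend (k := 1) (hasPres_three K) (iota S) ![fgen S hdet]
    (relset m (Fintype.card F) ν ζ w) (fun r hr => by
      refine (relset_iff (iota S) ![fgen S hdet] hσ hgen w).2 ⟨?_, ?_⟩ r hr
      · exact hR
      · exact hw) (by
      rw [eq_top_iff, ← closure_U S hdet hR, Subgroup.closure_le]
      rintro _ ⟨x, rfl⟩
      have hf : fgen S hdet ∈ Subgroup.closure (Set.range (iota S) ∪ Set.range ![fgen S hdet]) :=
        Subgroup.subset_closure (Or.inr ⟨0, rfl⟩)
      have hi : ∀ g, iota S g ∈ Subgroup.closure (Set.range (iota S) ∪ Set.range ![fgen S hdet]) :=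
        fun g => Subgroup.subset_closure (Or.inl ⟨g, rfl⟩)
      have hfi : ∀ i, fi (iota S) (fgen S hdet) i ∈
          Subgroup.closure (Set.range (iota S) ∪ Set.range ![fgen S hdet]) := by
        intro i
        have h1 := mul_mem (mul_mem (hi cT) hf) (inv_mem (hi cT))
        fin_cases i
        · exact hf
        · exact h1
        · exact mul_mem (mul_mem (hi cT) h1) (inv_mem (hi cT))
      exact mul_mem (mul_mem (pow_mem (hfi _) _) (hi _)) (inv_mem (pow_mem (hfi _) _))) ?_
  · exact (h.mono ((Nat.add_le_add_left (card_relset _ _ _ _ _) 14).trans (by norm_num))).of_equiv (reidx finProdFinEquiv)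
  intro G _ ψ a hr htop
  obtain ⟨hG, hwG⟩ := (relset_iff ψ a hσ hgen w).1 hr
  have A := ax S hG
  let e : Fin 3 × Fin m ≃ Fin (3 * m) := finProdFinEquiv
  have S' : StRel fun u v t => A.y (e.symm u) (e.symm v) t :=
    { add := fun u v h => A.strel.add _ _ (e.symm.injective.ne h)
      comm := fun u v r s h1 h2 h3 h4 => A.strel.comm _ _ _ _ (e.symm.injective.ne h1)
        (e.symm.injective.ne h2) (e.symm.injective.ne h3) (e.symm.injective.ne h4)
      chev := fun u v r h1 h2 h3 => A.strel.chev _ _ _ (e.symm.injective.ne h1)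
        (e.symm.injective.ne h2) (e.symm.injective.ne h3) }
  haveI : Finite F := Finite.of_fintype F
  let st := MulEquiv.ofBijective (H40.stHom (3 * m) F)
    (H40.stHom_bijective (by have := NeZero.pos m; omega))
  let Φ : SpecialLinearGroup (Fin 3 × Fin m) F →* G :=
    (PresentedGroup.toGroup (H40.lift_stRels S')).comp
      (st.symm.toMonoidHom.comp (reidx e).toMonoidHom)
  refine ⟨Φ, ?_⟩
  have hx : ∀ {i j : Fin 3} (h : i ≠ j) (u v : Fin m) (c : F),
      S.XR hG h (.ofAdd (Matrix.single u v c)) ∈ Φ.range := by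
    intro i j h u v c
    have hne : e (i, u) ≠ e (j, v) := fun he => h (congrArg Prod.fst (e.injective he))
    refine ⟨(reidx e).symm (st (PresentedGroup.of (⟨(e (i, u), e (j, v)), hne⟩, c))), ?_⟩
    simp only [Φ, MonoidHom.comp_apply, MulEquiv.coe_toMonoidHom, MulEquiv.apply_symm_apply,
      MulEquiv.symm_apply_apply]
    refine (PresentedGroup.toGroup.of (H40.lift_stRels S')).trans ?_
    show A.y (e.symm (e (i, u))) (e.symm (e (j, v))) c = _
    rw [e.symm_apply_apply, e.symm_apply_apply, A.y_eq (p := (i, u)) (q := (j, v)) h]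
    exact dif_pos h
  have hU : ∀ (i j : Fin 3) (l : ℕ) (b : K), Rels.U ψ (a 0) i j l b ∈ Φ.range := by
    intro i j l b
    by_cases h : i ≠ j
    · rw [← S.XR_mono hG h]
      induction S.P ^ l * S.M b using Matrix.induction_on' with
      | h_zero => rw [S.XR_zero]; exact one_mem _
      | h_add A B hA hB => rw [S.XR_add]; exact mul_mem hA hB
      | h_std_basis u v c => exact hx h u v c
    · simp [Rels.U, T, h]
  rw [← MonoidHom.range_eq_top, eq_top_iff, ← htop, Subgroup.closure_le]
  rintro g (⟨g, rfl⟩ | ⟨i, rfl⟩)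
  · induction g using H37.SL_transvection_induction with
    | h1 => rw [map_one]; exact one_mem _
    | htransvec i j hij c =>
      have := hU i j 0 c
      rwa [Rels.U, pow_zero, one_mul, inv_one, mul_one, T_of hij] at this
    | hmul A B hA hB => rw [map_mul]; exact mul_mem hA hB
  · rw [Subsingleton.elim i 0, ← hwG]
    have : (FreeGroup.lift fun x : Fin 3 × Fin 3 × ℕ × K =>
        Rels.U ψ (a 0) x.1 x.2.1 x.2.2.1 x.2.2.2).range ≤ Φ.range := by
      rw [FreeGroup.range_lift_eq_closure, Subgroup.closure_le]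
      rintro _ ⟨x, rfl⟩
      exact hU _ _ _ _
    exact this ⟨w, rfl⟩

end Main

end H40.BlockPres
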