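import Cfsg.Agent.H40.SL3Short

/-!
`SL₃(q)` on four generators and at most fourteen relations.
-/

set_option autoImplicit false
set_option linter.style.haveILetI false
set_option linter.unusedSectionVars false

namespace H40.SL3

open Matrix H40.CRW

variable {F : Type*} [Field F]

theorem ext3 {A B : SpecialLinearGroup (Fin 3) F}
    (h : (A : Matrix (Fin 3) (Fin 3) F) = (B : Matrix (Fin 3) (Fin 3) F)) : A = B := Subtype.ext h

theorem cm3 (A B : SpecialLinearGroup (Fin 3) F) :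
    ((A * B : SpecialLinearGroup (Fin 3) F) : Matrix (Fin 3) (Fin 3) F) =
      (A : Matrix (Fin 3) (Fin 3) F) * (B : Matrix (Fin 3) (Fin 3) F) := rfl

theorem cm1 : ((1 : SpecialLinearGroup (Fin 3) F) : Matrix (Fin 3) (Fin 3) F) = 1 := rfl

/-- The torus. -/
def dT : Fˣ × Fˣ →* SpecialLinearGroup (Fin 3) F where
  toFun a := ⟨diagonal ![(a.1 : F), (a.2 : F), ((a.1 * a.2)⁻¹ : Fˣ)], by
    rw [det_diagonal, Fin.prod_univ_three]
    show (a.1 : F) * a.2 * ((a.1 * a.2)⁻¹ : Fˣ) = 1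
    rw [← Units.val_mul, ← Units.val_mul, mul_inv_cancel, Units.val_one]⟩
  map_one' := by
    refine ext3 ?_
    show diagonal _ = (1 : Matrix (Fin 3) (Fin 3) F)
    rw [← diagonal_one]
    congr 1
    funext i
    fin_cases i <;> simp
  map_mul' a b := by
    refine ext3 ?_
    show diagonal _ = diagonal _ * diagonal _
    rw [diagonal_mul_diagonal]
    congr 1
    funext i
    fin_cases i <;> simp [mul_comm, mul_left_comm, mul_assoc]

theorem coe_dT (a b : Fˣ) : ((dT (a, b) : SpecialLinearGroup (Fin 3) F) : Matrix (Fin 3) (Fin 3) F) =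
    diagonal ![(a : F), (b : F), ((a * b)⁻¹ : Fˣ)] := rfl

/-- The root group of `(0, 1)`. -/
def xT : Multiplicative F →* SpecialLinearGroup (Fin 3) F where
  toFun z := SpecialLinearGroup.transvection (show (0 : Fin 3) ≠ 1 by decide) z.toAdd
  map_one' := by
    refine ext3 ?_
    show 1 + Matrix.single (0 : Fin 3) 1 (0 : F) = 1
    simp
  map_mul' a b := SpecialLinearGroup.transvection_add _ _ _

theorem coe_xT (a : F) : ((xT (.ofAdd a) : SpecialLinearGroup (Fin 3) F) : Matrix (Fin 3) (Fin 3) F) =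
    1 + Matrix.single 0 1 a := rfl

/-- The transposition. -/
def tT : SpecialLinearGroup (Fin 3) F :=
  ⟨!![0, 1, 0; -1, 0, 0; 0, 0, 1], by simp [det_fin_three]⟩

/-- The three-cycle. -/
def cT : SpecialLinearGroup (Fin 3) F :=
  ⟨!![0, 0, 1; 1, 0, 0; 0, 1, 0], by simp [det_fin_three]⟩

theorem coe_tT : ((tT : SpecialLinearGroup (Fin 3) F) : Matrix (Fin 3) (Fin 3) F) =
    !![0, 1, 0; -1, 0, 0; 0, 0, 1] := rfl

theorem coe_cT : ((cT : SpecialLinearGroup (Fin 3) F) : Matrix (Fin 3) (Fin 3) F) =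
    !![0, 0, 1; 1, 0, 0; 0, 1, 0] := rfl

/-- The inverse of the transposition. -/
def tT' : SpecialLinearGroup (Fin 3) F :=
  ⟨!![0, -1, 0; 1, 0, 0; 0, 0, 1], by simp [det_fin_three]⟩

theorem coe_tT' : ((tT' : SpecialLinearGroup (Fin 3) F) : Matrix (Fin 3) (Fin 3) F) =
    !![0, -1, 0; 1, 0, 0; 0, 0, 1] := rfl

theorem cT_dT (a b : Fˣ) : cT * dT (a, b) * cT⁻¹ = dT ((a * b)⁻¹, a) := by
  rw [mul_inv_eq_iff_eq_mul]
  refine ext3 ?_
  rw [cm3, cm3, coe_cT, coe_dT, coe_dT]
  ext i j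
  fin_cases i <;> fin_cases j <;> simp [Matrix.mul_apply, Fin.sum_univ_three, diagonal_apply]

theorem tT_dT (a b : Fˣ) : tT * dT (b, a) = dT (a, b) * tT := by
  refine ext3 ?_
  rw [cm3, cm3, coe_tT, coe_dT, coe_dT]
  ext i j
  fin_cases i <;> fin_cases j <;>
    simp [Matrix.mul_apply, Fin.sum_univ_three, diagonal_apply, mul_comm]

theorem tT_tT : tT * tT = dT ((-1 : Fˣ), (-1 : Fˣ)) := by
  refine ext3 ?_
  rw [cm3, coe_tT, coe_dT]
  ext i j
  fin_cases i <;> fin_cases j <;> simp [Matrix.mul_apply, Fin.sum_univ_three, diagonal_apply]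

theorem dT_xT (a b : Fˣ) (z : F) :
    dT (a, b) * xT (.ofAdd z) * (dT (a, b))⁻¹ = xT (.ofAdd ((a : F) * (b : F)⁻¹ * z)) := by
  rw [mul_inv_eq_iff_eq_mul]
  refine ext3 ?_
  rw [cm3, cm3, coe_xT, coe_xT, coe_dT]
  have := b.ne_zero
  ext i j
  fin_cases i <;> fin_cases j <;> simp [Matrix.mul_apply, Fin.sum_univ_three, diagonal_apply,
    Matrix.single_apply, Matrix.one_apply] <;> field_simp

theorem cT3 : cT * cT * cT = (1 : SpecialLinearGroup (Fin 3) F) := by
  refine ext3 ?_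
  rw [cm3, cm3, coe_cT, cm1]
  ext i j
  fin_cases i <;> fin_cases j <;> simp [Matrix.mul_apply, Fin.sum_univ_three, Matrix.one_apply]

theorem ctT : cT * tT⁻¹ * (cT * tT⁻¹) = (1 : SpecialLinearGroup (Fin 3) F) := by
  have h : (tT : SpecialLinearGroup (Fin 3) F)⁻¹ = tT' := by
    refine inv_eq_of_mul_eq_one_right ?_
    refine ext3 ?_
    rw [cm3, coe_tT, coe_tT', cm1]
    ext i j
    fin_cases i <;> fin_cases j <;> simp [Matrix.mul_apply, Fin.sum_univ_three, Matrix.one_apply]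
  rw [h]
  refine ext3 ?_
  rw [cm3, cm3, coe_cT, coe_tT', cm1]
  ext i j
  fin_cases i <;> fin_cases j <;> simp [Matrix.mul_apply, Fin.sum_univ_three, Matrix.one_apply]

/-- The Weyl element in root groups. -/
theorem tT_R1 :
    xT (.ofAdd (1 : F)) * (tT * xT (.ofAdd 1) * tT⁻¹) * xT (.ofAdd 1) = (tT : SpecialLinearGroup (Fin 3) F) := by
  have e : tT * xT (.ofAdd (1 : F)) * tT⁻¹ =
      SpecialLinearGroup.transvection (show (1 : Fin 3) ≠ 0 by decide) (-1 : F) := by
    rw [mul_inv_eq_iff_eq_mul]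
    refine ext3 ?_
    rw [cm3, cm3, coe_tT, coe_xT, SpecialLinearGroup.transvection_coe]
    ext i j
    fin_cases i <;> fin_cases j <;>
      simp [Matrix.mul_apply, Fin.sum_univ_three, Matrix.single_apply, Matrix.one_apply]
  rw [e]
  refine ext3 ?_
  rw [cm3, cm3, coe_tT, coe_xT, SpecialLinearGroup.transvection_coe]
  ext i j
  fin_cases i <;> fin_cases j <;>
    simp [Matrix.mul_apply, Fin.sum_univ_three, Matrix.single_apply, Matrix.one_apply]

variable [Fintype F] (ζ : Fˣ) (hgen : ∀ y : Fˣ, y ∈ Subgroup.zpowers ζ) (m : ℕ)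
  (hm : (ζ : F) ^ m = -1)

/-- The standard data in `SL₃`. -/
def stdCtx : Ctx F (SpecialLinearGroup (Fin 3) F) where
  x := xT
  k := dT (1, ζ⁻¹)
  t := tT
  c := cT
  ζ := ζ
  m := m
  hgen := hgen
  c3 := cT3
  ct := ctT
  kk := by
    rw [cT_dT]
    show _ * _ = _ * _
    rw [← map_mul, ← map_mul, mul_comm]
  hP := by
    rw [cT_dT, cT_dT, ← map_mul, ← map_mul]
    simp only [one_mul, mul_one, inv_inv, inv_mul_cancel, mul_inv_cancel, Prod.mk_mul_mk]
    exact (congrArg dT Prod.mk_one_one).trans (map_one dT)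
  hF := by
    rw [cT_dT, mul_assoc, mul_assoc, inv_mul_eq_one]
    simp only [one_mul, inv_inv]
    rw [tT_dT, ← mul_assoc, ← map_mul]
    simp only [Prod.mk_mul_mk, mul_inv_cancel, inv_mul_cancel, one_mul, mul_one]
    rw [(congrArg dT Prod.mk_one_one).trans (map_one dT)]
    simp
  hm := hm
  hG := by
    have h : ζ ^ m = -1 := Units.ext (by rw [Units.val_pow_eq_pow_val, hm]; simp)
    rw [tT_tT, cT_dT, cT_dT, ← map_pow]
    congr 1
    simp [Prod.ext_iff, inv_pow, h]
  hk z := by rw [dT_xT]; simp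
  hk' z := by rw [cT_dT, dT_xT]; simp

theorem stdX {i j : Fin 3} (hij : i ≠ j) (a : F) :
    (stdCtx ζ hgen m hm).X i j a = SpecialLinearGroup.transvection hij a := by
  set C := stdCtx ζ hgen m hm
  have e01 : ∀ a, C.X 0 1 a = SpecialLinearGroup.transvection (show (0 : Fin 3) ≠ 1 by decide) a :=
    fun a => by rw [C.X01]; rfl
  have e10 : ∀ a, C.X 1 0 a = SpecialLinearGroup.transvection (show (1 : Fin 3) ≠ 0 by decide) a := by
    intro a
    rw [C.X10]
    show tT * xT (.ofAdd (-a)) * tT⁻¹ = _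
    rw [mul_inv_eq_iff_eq_mul]
    refine ext3 ?_
    rw [cm3, cm3, coe_tT, coe_xT, SpecialLinearGroup.transvection_coe]
    ext i j
    fin_cases i <;> fin_cases j <;>
      simp [Matrix.mul_apply, Fin.sum_univ_three, Matrix.single_apply, Matrix.one_apply]
  have rot : ∀ {i j : Fin 3} (h : i ≠ j) (a : F),
      C.X i j a = SpecialLinearGroup.transvection h a →
      C.X (i + 1) (j + 1) a = SpecialLinearGroup.transvection
        (show i + 1 ≠ j + 1 from fun e => h (add_right_cancel e)) a := by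
    intro i j h a e
    rw [← C.X_rot, e]
    show cT * _ * cT⁻¹ = _
    rw [mul_inv_eq_iff_eq_mul]
    refine ext3 ?_
    rw [cm3, cm3, coe_cT, SpecialLinearGroup.transvection_coe, SpecialLinearGroup.transvection_coe]
    ext u v
    fin_cases i <;> fin_cases j <;> (try exact absurd rfl h) <;> fin_cases u <;> fin_cases v <;>
      simp [Matrix.mul_apply, Fin.sum_univ_three, Matrix.single_apply, Matrix.one_apply] <;> decide
  fin_cases i <;> fin_cases j <;> (try exact absurd rfl hij)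
  · exact e01 a
  · exact rot _ a (rot _ a (e10 a))
  · exact e10 a
  · exact rot _ a (e01 a)
  · exact rot _ a (rot _ a (e01 a))
  · exact rot _ a (e10 a)

/-- The standard evaluation. -/
def stdHom3 : FreeGroup (Fin 4) →* SpecialLinearGroup (Fin 3) F :=
  FreeGroup.lift ![xT (.ofAdd 1), dT (1, ζ⁻¹), tT, cT]

include hgen hm in
theorem stdHom3_surjective {p : ℕ} [Fact p.Prime] [Algebra (ZMod p) F]
    (hsurj : ∀ z : F, ∃ P : Polynomial (ZMod p), Polynomial.aeval (ζ : F) P = z) :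
    Function.Surjective (stdHom3 (F := F) ζ) := by
  rw [← MonoidHom.range_eq_top]
  refine H37.eq_top_of_transvection_mem _ fun i j hij a => ?_
  set C := stdCtx ζ hgen m hm
  set H := (stdHom3 (F := F) ζ).range
  rw [← stdX ζ hgen m hm hij]
  have hx : ∀ z : F, C.x (.ofAdd z) ∈ H := by
    intro z
    obtain ⟨P, rfl⟩ := hsurj z
    refine ⟨polyWord kV uV P, ?_⟩
    rw [map_polyWord]
    have e1 : stdHom3 ζ kV = C.k := by simp [stdHom3]; rfl
    have e2 : stdHom3 ζ uV = C.x (.ofAdd 1) := by simp [stdHom3]; rfl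
    rw [e1, e2, polyWord_xval C.hk, mul_one]
    rfl
  have hc : C.c ∈ H := ⟨cV, by simp [stdHom3]; rfl⟩
  have ht : C.t ∈ H := ⟨tV, by simp [stdHom3]; rfl⟩
  simp only [Ctx.X, Ctx.y]
  split_ifs
  · exact mul_mem (mul_mem (pow_mem hc _) (hx a)) (inv_mem (pow_mem hc _))
  · exact mul_mem (mul_mem (pow_mem hc _) (mul_mem (mul_mem ht (hx _)) (inv_mem ht)))
      (inv_mem (pow_mem hc _))

theorem closure_gens4 {G : Type*} [Group G] (f : FreeGroup (Fin 4) →* G)
    (hf : Function.Surjective f) : Subgroup.closure {f uV, f kV, f tV, f cV} = ⊤ := by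
  rw [Subgroup.eq_top_iff']
  intro g
  obtain ⟨w, rfl⟩ := hf g
  induction w using FreeGroup.induction_on with
  | C1 => rw [map_one]; exact one_mem _
  | of i => exact Subgroup.subset_closure (by fin_cases i <;> simp)
  | inv_of i hi => rw [map_inv]; exact inv_mem hi
  | mul a b ha hb => rw [map_mul]; exact mul_mem ha hb

/-- A group generated by the data and satisfying the Steinberg relations is a quotient of `SL₃`. -/
theorem finite_card_le {G : Type*} [Group G] (C : Ctx F G) (S : H40.StRel C.X)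
    (hR1 : C.x (.ofAdd 1) * (C.t * C.x (.ofAdd 1) * C.t⁻¹) * C.x (.ofAdd 1) = C.t)
    (hgenG : Subgroup.closure {C.x (.ofAdd 1), C.k, C.t, C.c} = ⊤) :
    Finite G ∧ Nat.card G ≤ Nat.card (SpecialLinearGroup (Fin 3) F) := by
  haveI : Finite F := Finite.of_fintype F
  let e := MulEquiv.ofBijective (H40.stHom 3 F) (H40.stHom_bijective le_rfl)
  let Φ : SpecialLinearGroup (Fin 3) F →* G :=
    (PresentedGroup.toGroup (H40.lift_stRels S)).comp e.symm.toMonoidHom
  set N := Φ.range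
  have hX : ∀ i j, i ≠ j → ∀ a, C.X i j a ∈ N := by
    intro i j hij a
    refine ⟨e (PresentedGroup.of (⟨(i, j), hij⟩, a)), ?_⟩
    simp [Φ, PresentedGroup.toGroup.of]
  have hu : C.x (.ofAdd 1) ∈ N := by
    have := hX 0 1 (by decide) 1
    rwa [C.X01] at this
  have hy : C.t * C.x (.ofAdd 1) * C.t⁻¹ ∈ N := by
    have := hX 1 0 (by decide) (-1)
    rwa [C.X10, Ctx.y, neg_neg] at this
  have ht : C.t ∈ N := hR1 ▸ mul_mem (mul_mem hu hy) hu
  have hnorm : ∀ g, (∀ i j : Fin 3, i ≠ j → ∀ a, g * C.X i j a * g⁻¹ ∈ N) →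
      ∀ n ∈ N, g * n * g⁻¹ ∈ N := by
    intro g hg
    rintro _ ⟨s, rfl⟩
    induction s using H37.SL_transvection_induction with
    | h1 => simpa using one_mem N
    | htransvec i j hij a =>
      have e' : Φ (SpecialLinearGroup.transvection hij a) = C.X i j a := by
        have h := H40.stHom_gen (K := F) hij a
        rw [H40.stGen_of hij] at h
        have : e.symm (SpecialLinearGroup.transvection hij a) =
            PresentedGroup.of (⟨(i, j), hij⟩, a) := e.symm_apply_eq.2 h.symm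
        simp [Φ, this, PresentedGroup.toGroup.of]
      rw [e']; exact hg i j hij a
    | hmul A B hA hB =>
      rw [map_mul, show g * (Φ A * Φ B) * g⁻¹ = (g * Φ A * g⁻¹) * (g * Φ B * g⁻¹) by group]
      exact mul_mem hA hB
  have hct : C.c * C.t * C.c⁻¹ ∈ N := hnorm C.c (fun i j hij a => by
    rw [C.X_rot]; exact hX _ _ (fun h => hij (add_right_cancel h)) a) _ ht
  have hc : C.c ∈ N := by
    have e1 : C.c * C.c = (C.c * C.t * C.c⁻¹) * C.t := by
      have h := eq_inv_of_mul_eq_one_left C.ct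
      rw [_root_.mul_inv_rev, inv_inv] at h
      calc C.c * C.c = C.c * (C.c * C.t⁻¹) * C.t := by group
        _ = _ := by rw [h]; group
    have h2 : C.c * C.c ∈ N := e1 ▸ mul_mem hct ht
    have h4 := mul_mem h2 h2
    rwa [show C.c * C.c * (C.c * C.c) = C.c * C.c * C.c * C.c by group, C.c3, one_mul] at h4
  have hk_norm : ∀ n ∈ N, C.k * n * C.k⁻¹ ∈ N := hnorm C.k fun i j hij a => by
    rw [C.sc_k i j hij]; exact hX i j hij _
  have hkz : ∀ n ∈ N, C.k⁻¹ * n * C.k ∈ N := by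
    refine fun n hn => ?_
    have := hnorm C.k⁻¹ (fun i j hij a => ?_) n hn
    · rwa [inv_inv] at this
    · have h := C.sc_k i j hij ((((![1, C.ζ⁻¹, C.ζ] i / ![1, C.ζ⁻¹, C.ζ] j : Fˣ)⁻¹ : Fˣ) : F) * a)
      rw [Units.mul_inv_cancel_left] at h
      rw [← h, inv_inv, show ∀ g : G, C.k⁻¹ * (C.k * g * C.k⁻¹) * C.k = g from fun g => by group]
      exact hX i j hij _
  have hk : C.k ∈ N := by
    have h1 : C.t * C.k⁻¹ * C.t⁻¹ * C.k ∈ N := by
      have := mul_mem ht (hkz _ (inv_mem ht))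
      rwa [show C.t * (C.k⁻¹ * C.t⁻¹ * C.k) = C.t * C.k⁻¹ * C.t⁻¹ * C.k by group] at this
    have h2 : C.k1 * C.k⁻¹ ∈ N := by
      have := mul_mem hc (hk_norm _ (inv_mem hc))
      rwa [show C.c * (C.k * C.c⁻¹ * C.k⁻¹) = C.k1 * C.k⁻¹ by rw [Ctx.k1]; group] at this
    -- `k₁ = t⁻¹ k⁻¹ t`
    have h3 : C.k * C.k ∈ N := by
      have e : C.k1 = C.t⁻¹ * C.k⁻¹ * C.t := by
        rw [← inv_inv C.k1, ← C.tk]; group
      have h4 : C.t⁻¹ * C.k⁻¹ * C.t * C.k ∈ N := by
        have := mul_mem (inv_mem ht) (hkz _ ht)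
        rwa [show C.t⁻¹ * (C.k⁻¹ * C.t * C.k) = C.t⁻¹ * C.k⁻¹ * C.t * C.k by group] at this
      have h5 := mul_mem (inv_mem h2) h4
      rw [← e, show (C.k1 * C.k⁻¹)⁻¹ * (C.k1 * C.k) = C.k * C.k by group] at h5
      exact h5
    have h3' : C.k * C.k * C.k ∈ N := by
      have e3 : C.k1 * C.k⁻¹ ∈ N := h2
      have e4 : C.k2 * C.k⁻¹ ∈ N := by
        have := mul_mem (hnorm C.c (fun i j hij a => by
          rw [C.X_rot]; exact hX _ _ (fun h => hij (add_right_cancel h)) a) _ h2) h2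
        rwa [show C.c * (C.k1 * C.k⁻¹) * C.c⁻¹ * (C.k1 * C.k⁻¹) = C.k2 * C.k⁻¹ by
          rw [Ctx.k2, Ctx.k1]; group] at this
      have hp : C.k * C.k1 * C.k2 = 1 := C.hP
      have e5 : C.k * C.k * C.k =
          (C.k * (C.k * (C.k2 * C.k⁻¹)⁻¹ * C.k⁻¹) * C.k⁻¹) * (C.k * (C.k1 * C.k⁻¹)⁻¹ * C.k⁻¹) := by
        calc C.k * C.k * C.k = C.k * C.k * C.k * (C.k * C.k1 * C.k2)⁻¹ := by rw [hp, inv_one, mul_one]
          _ = _ := by group
      rw [e5]
      exact mul_mem (hk_norm _ (hk_norm _ (inv_mem e4))) (hk_norm _ (inv_mem e3))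
    have := mul_mem (inv_mem h3) h3'
    rwa [show (C.k * C.k)⁻¹ * (C.k * C.k * C.k) = C.k by group] at this
  have hsurj : Function.Surjective Φ := by
    rw [← MonoidHom.range_eq_top, eq_top_iff, ← hgenG, Subgroup.closure_le]
    rintro g (rfl | rfl | rfl | rfl)
    · exact hu
    · exact hk
    · exact ht
    · exact hc
  exact ⟨Finite.of_surjective _ hsurj, Nat.card_le_card_of_surjective _ hsurj⟩

/-- The word of `(1, 2)`. -/
def wX12 (w : FreeGroup (Fin 4)) : FreeGroup (Fin 4) := cV * w * cV⁻¹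

/-- The word of `(0, 2)`. -/
def wX02 (w : FreeGroup (Fin 4)) : FreeGroup (Fin 4) := cV ^ 2 * (tV * w⁻¹ * tV⁻¹) * (cV ^ 2)⁻¹

theorem evalW {G : Type*} [Group G] (C : Ctx F G) (g : FreeGroup (Fin 4) →* G) (ht : g tV = C.t)
    (hc : g cV = C.c) (w : FreeGroup (Fin 4)) (a : F) (hw : g w = C.x (.ofAdd a)) :
    g (wX12 w) = C.X 1 2 a ∧ g (wX02 w) = C.X 0 2 a := by
  constructor
  · simp only [wX12, map_mul, map_inv, hw, hc, C.X12]
  · simp only [wX02, map_mul, map_inv, map_pow, hw, hc, ht, C.X02, Ctx.y, ofAdd_neg, map_inv]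

/-- The commutator relation at `(1, 1)` implies both commutations. -/
theorem row_col_of_chev [Finite F] {G : Type*} [Group G] (C : Ctx F G) (e : F)
    (h : C.X 0 1 1 * C.X 1 2 e * (C.X 0 1 1)⁻¹ * (C.X 1 2 e)⁻¹ = C.X 0 2 e) :
    Commute (C.X 0 1 1) (C.X 0 2 e) ∧ Commute (C.X 0 2 e) (C.X 1 2 e) := by
  have move : ∀ g : G, ∀ d : Fin 3 → Fˣ, C.Sc g d →
      C.X 0 1 (((d 0 / d 1 : Fˣ) : F) * 1) * C.X 1 2 (((d 1 / d 2 : Fˣ) : F) * e) *
        (C.X 0 1 (((d 0 / d 1 : Fˣ) : F) * 1))⁻¹ * (C.X 1 2 (((d 1 / d 2 : Fˣ) : F) * e))⁻¹ =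
        C.X 0 2 (((d 0 / d 2 : Fˣ) : F) * e) := by
    intro g d hg
    rw [← hg 0 1 (by decide), ← hg 1 2 (by decide), ← hg 0 2 (by decide), ← h]
    group
  obtain ⟨g₁, hg₁⟩ := C.exists_torus ![(-1 : Fˣ), -1, 1] (by simp)
  obtain ⟨g₂, hg₂⟩ := C.exists_torus ![(-1 : Fˣ), 1, -1] (by simp)
  -- the relation at `(1, -e)` and `(-1, -e)`
  have h1 : C.X 0 1 1 * (C.X 1 2 e)⁻¹ * (C.X 0 1 1)⁻¹ * C.X 1 2 e = (C.X 0 2 e)⁻¹ := by
    simpa [← C.X_inv] using move g₁ _ hg₁
  have h2 : (C.X 0 1 1)⁻¹ * (C.X 1 2 e)⁻¹ * C.X 0 1 1 * C.X 1 2 e = C.X 0 2 e := by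
    simpa [← C.X_inv] using move g₂ _ hg₂
  set x := C.X 0 1 1
  set y := C.X 1 2 e
  set z := C.X 0 2 e
  constructor
  · have e1 : z * x = y⁻¹ * x * y := by
      rw [show z = (z⁻¹)⁻¹ from (inv_inv z).symm, ← h1]; group
    have e2 : x * z = y⁻¹ * x * y := by rw [← h2]; group
    show x * z = z * x
    rw [e1, e2]
  · have e1 : x * y * x⁻¹ = z * y := mul_inv_eq_iff_eq_mul.1 h
    have e2 : x * y⁻¹ * x⁻¹ = z⁻¹ * y⁻¹ := by rw [← h1]; group
    have e3 : (z * y)⁻¹ = z⁻¹ * y⁻¹ := by rw [← e1, ← e2]; group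
    rw [_root_.mul_inv_rev] at e3
    exact (Commute.inv_inv_iff.1 (show Commute y⁻¹ z⁻¹ from e3)).symm

/-- The main theorem, in the sharper form. -/
theorem exists_pres_short :
    ∃ rels : Finset (FreeGroup (Fin 4)), rels.card ≤ 12 ∧ (CharP F 2 → rels.card ≤ 11) ∧
      Nonempty (PresentedGroup (↑rels : Set (FreeGroup (Fin 4))) ≃* SpecialLinearGroup (Fin 3) F) := by
  classical
  obtain ⟨p, hchar⟩ := CharP.exists F
  haveI := hchar
  haveI : Fact p.Prime := ⟨CharP.char_is_prime F p⟩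
  letI : Algebra (ZMod p) F := ZMod.algebra F p
  obtain ⟨f₀, -, hcard⟩ := FiniteField.card F p
  obtain ⟨ζ, hgen⟩ := IsCyclic.exists_generator (α := Fˣ)
  obtain ⟨hsurj, L, hL, hL2, hsound, hcomp⟩ := exists_root_data.{_, _} (p := p) hcard ζ hgen
  -- the exponent of `-1`
  obtain ⟨m, hm, hm2⟩ : ∃ m : ℕ, (ζ : F) ^ m = -1 ∧ (p = 2 → m = 0) := by
    by_cases hp : p = 2
    · subst hp; exact ⟨0, by rw [pow_zero, CharTwo.neg_eq], fun _ => rfl⟩
    · obtain ⟨m, hm⟩ := mem_powers_iff_mem_zpowers.2 (hgen (-1))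
      exact ⟨m, by simpa using congrArg Units.val hm, fun h => absurd h hp⟩
  set C₀ := stdCtx ζ hgen m hm with hC₀
  set rChev : FreeGroup (Fin 4) → FreeGroup (Fin 4) := fun w =>
    uV * wX12 w * uV⁻¹ * (wX12 w)⁻¹ * (wX02 w)⁻¹
  set kV'' : FreeGroup (Fin 4) := cV * kV' * cV⁻¹
  set rG : FreeGroup (Fin 4) := tV * tV * (kV'' ^ m)⁻¹
  set W : Finset (FreeGroup (Fin 4)) := {cV * cV * cV, cV * tV⁻¹ * (cV * tV⁻¹),
    kV * kV' * kV⁻¹ * kV'⁻¹, kV * kV' * kV'', tV⁻¹ * kV * tV * kV',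
    uV * (tV * uV * tV⁻¹) * uV * tV⁻¹} with hW
  set X : Finset (FreeGroup (Fin 4)) :=
    if p = 2 then {rChev uV, rChev (kV * uV * kV⁻¹)} else {rG, rChev uV} with hX
  -- the standard evaluation satisfies everything
  set f₁ := stdHom3 (F := F) ζ
  have vu : f₁ uV = C₀.x (.ofAdd 1) := by simp [f₁, stdHom3]; rfl
  have vk : f₁ kV = C₀.k := by simp [f₁, stdHom3]; rfl
  have vt : f₁ tV = C₀.t := by simp [f₁, stdHom3]; rfl
  have vc : f₁ cV = C₀.c := by simp [f₁, stdHom3]; rfl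
  have hle : (L ∪ (W ∪ X)).card ≤ L.card + 8 := by
    refine (Finset.card_union_le _ _).trans ?_
    refine le_trans (Nat.add_le_add_left (Finset.card_union_le _ _) _) ?_
    have hW6 : W.card ≤ 6 := Finset.card_le_six
    have : X.card ≤ 2 := by rw [hX]; split_ifs <;> exact Finset.card_le_two
    omega
  refine ⟨L ∪ (W ∪ X), by omega, fun h2 => ?_, ?_⟩
  · have := hL2 (CharP.eq F hchar h2)
    omega
  have hstd : ∀ r ∈ L ∪ (W ∪ X), f₁ r = 1 := by
    intro r hr
    have hchev : ∀ w (a : F), f₁ w = C₀.x (.ofAdd a) → f₁ (rChev w) = 1 := by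
      intro w a hw
      obtain ⟨h1, h2⟩ := evalW C₀ f₁ vt vc w a hw
      simp only [rChev, map_mul, map_inv, h1, h2]
      rw [vu, ← C₀.X01, stdX, stdX, stdX, mul_inv_eq_one, ← commutatorElement_def]
      · exact (H37.commutator_transvection _ _ (show (0 : Fin 3) ≠ 2 by decide) 1 a).trans (by rw [one_mul])
      all_goals decide
    rcases Finset.mem_union.1 hr with hr | hr
    · exact hsound f₁ C₀.x vu.symm (fun z => by rw [vk]; exact C₀.hk z)
        (fun z => by
          rw [show f₁ kV' = C₀.c * C₀.k * C₀.c⁻¹ by simp only [kV', map_mul, map_inv, vk, vc]]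
          exact C₀.hk' z) r hr
    rcases Finset.mem_union.1 hr with hr | hr
    · simp only [hW, Finset.mem_insert, Finset.mem_singleton] at hr
      rcases hr with rfl | rfl | rfl | rfl | rfl | rfl
      · simp only [map_mul, vc]; exact C₀.c3
      · simp only [map_mul, map_inv, vc, vt]; exact C₀.ct
      · simp only [kV', map_mul, map_inv, vc, vk]; rw [C₀.kk.eq]; group
      · simp only [kV'', kV', map_mul, map_inv, vc, vk]; exact C₀.hP
      · simp only [kV', map_mul, map_inv, vc, vk, vt]; exact C₀.hF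
      · simp only [map_mul, map_inv, vu, vt, mul_inv_eq_one]; exact tT_R1
    · rw [hX] at hr
      split_ifs at hr with hp <;> simp only [Finset.mem_insert, Finset.mem_singleton] at hr
      · rcases hr with rfl | rfl
        · exact hchev _ 1 vu
        · exact hchev _ ((ζ : F) * 1) (by simp only [map_mul, map_inv, vu, vk]; exact C₀.hk 1)
      · rcases hr with rfl | rfl
        · simp only [rG, kV'', kV', map_mul, map_inv, map_pow, vc, vk, vt, mul_inv_eq_one]
          exact C₀.hG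
        · exact hchev _ 1 vu
  -- the presented group
  set N := (↑(L ∪ (W ∪ X)) : Set (FreeGroup (Fin 4)))
  set g := PresentedGroup.mk N
  have hg : Function.Surjective g := PresentedGroup.mk_surjective _
  have hrel : ∀ r ∈ L ∪ (W ∪ X), g r = 1 := fun r hr => PresentedGroup.one_of_mem (show r ∈ N from hr)
  have hWr : ∀ r ∈ W, g r = 1 := fun r hr =>
    hrel r (Finset.mem_union_right _ (Finset.mem_union_left _ hr))
  simp only [hW, Finset.mem_insert, Finset.mem_singleton, forall_eq_or_imp, forall_eq] at hWr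
  obtain ⟨wc3, wct, wkk, wP, wF, wR1⟩ := hWr
  simp only [kV'', kV', map_mul, map_inv] at wc3 wct wkk wP wF wR1
  rw [mul_inv_eq_one] at wR1
  have hkk : Commute (g kV) (g cV * g kV * (g cV)⁻¹) := by
    rw [mul_inv_eq_one, mul_inv_eq_iff_eq_mul] at wkk
    exact wkk
  obtain ⟨x, hx1, hxk, hxk'⟩ := hcomp g (fun r hr => hrel r (Finset.mem_union_left _ hr))
    (by simpa only [kV', map_mul, map_inv] using hkk)
  simp only [kV', map_mul, map_inv] at hxk'
  rw [← hx1] at wR1
  have hXr : ∀ r ∈ X, g r = 1 := fun r hr =>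
    hrel r (Finset.mem_union_right _ (Finset.mem_union_right _ hr))
  have htt : g tV * g tV = (g cV * (g cV * g kV * (g cV)⁻¹) * (g cV)⁻¹) ^ m := by
    by_cases hp : p = 2
    · rw [hm2 hp, pow_zero]
      have hu : x (.ofAdd (1 : F)) * x (.ofAdd 1) = 1 := by
        subst hp
        rw [← map_mul, ← ofAdd_add, CharTwo.add_self_eq_zero, ofAdd_zero, map_one]
      have e : g tV = (x (.ofAdd 1) * g tV) * x (.ofAdd 1) * (x (.ofAdd 1) * g tV)⁻¹ := by
        rw [_root_.mul_inv_rev, inv_eq_of_mul_eq_one_right hu]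
        conv_lhs => rw [← wR1]
        group
      calc g tV * g tV = ((x (.ofAdd 1) * g tV) * x (.ofAdd 1) * (x (.ofAdd 1) * g tV)⁻¹) *
            ((x (.ofAdd 1) * g tV) * x (.ofAdd 1) * (x (.ofAdd 1) * g tV)⁻¹) := by rw [← e]
        _ = (x (.ofAdd 1) * g tV) * (x (.ofAdd 1) * x (.ofAdd 1)) * (x (.ofAdd 1) * g tV)⁻¹ := by
            group
        _ = 1 := by rw [hu]; group
    · have := hXr rG (by rw [hX, if_neg hp]; simp)
      simp only [rG, kV'', kV', map_mul, map_inv, map_pow, mul_inv_eq_one] at this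
      exact this
  let C : Ctx F (PresentedGroup N) :=
    { x := x, k := g kV, t := g tV, c := g cV, ζ := ζ, m := m, hgen := hgen, c3 := wc3, ct := wct,
      kk := hkk, hP := wP, hF := wF, hm := hm, hG := htt, hk := hxk, hk' := hxk' }
  have gu : g uV = C.x (.ofAdd 1) := hx1.symm
  have gchev : ∀ w (a : F), g w = C.x (.ofAdd a) → g (rChev w) = 1 →
      C.X 0 1 1 * C.X 1 2 a * (C.X 0 1 1)⁻¹ * (C.X 1 2 a)⁻¹ = C.X 0 2 a := by
    intro w a hw h
    obtain ⟨h1, h2⟩ := evalW C g rfl rfl w a hw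
    simp only [rChev, map_mul, map_inv, h1, h2] at h
    rw [gu, ← C.X01, mul_inv_eq_one] at h
    exact h
  have hS : H40.StRel C.X := by
    by_cases hp : p = 2
    · subst hp
      have hk1 : g (kV * uV * kV⁻¹) = C.x (.ofAdd (ζ : F)) := by
        simp only [map_mul, map_inv, ← hx1]; rw [hxk, mul_one]
      have hE : ∀ e ∈ ({1, (ζ : F)} : Set F),
          C.X 0 1 1 * C.X 1 2 e * (C.X 0 1 1)⁻¹ * (C.X 1 2 e)⁻¹ = C.X 0 2 e := by
        rintro e (rfl | rfl)
        · exact gchev uV 1 gu (hXr _ (by rw [hX, if_pos rfl]; simp))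
        · exact gchev _ _ hk1 (hXr _ (by rw [hX, if_pos rfl]; simp))
      have h4 : Fintype.card F = 4 → (ζ : F) ≠ 0 ∧ (ζ : F) ≠ 1 ∧ (ζ : F) * ζ ≠ 1 := by
        intro h4
        have hord : orderOf ζ = 3 := by
          rw [orderOf_eq_card_of_forall_mem_zpowers hgen, Nat.card_eq_fintype_card,
            Fintype.card_units, h4]
        refine ⟨ζ.ne_zero, fun h => ?_, fun h => ?_⟩
        · rw [orderOf_eq_one_iff.2 (Units.ext h)] at hord; omega
        · have := orderOf_dvd_of_pow_eq_one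
            (show ζ ^ 2 = 1 from Units.ext (by rw [pow_two, Units.val_mul]; exact h))
          rw [hord] at this; norm_num at this
      have hrow := C.row_of {1, (ζ : F)} (fun e he => (row_col_of_chev C e (hE e he)).1)
        (spanning _ (Or.inl rfl) (fun h => ⟨(ζ : F), Or.inr rfl, (h4 h).1, (h4 h).2.1⟩))
      have hcol := C.col_of {1, (ζ : F) * ζ} (fun e he => by
        -- from the relation at `(1, a)`, moved by the torus
        obtain ⟨a, ha, ha0, rfl⟩ : ∃ a : F, a ∈ ({1, (ζ : F)} : Set F) ∧ a ≠ 0 ∧ a * a = e := by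
          rcases he with rfl | rfl
          · exact ⟨1, Or.inl rfl, one_ne_zero, one_mul 1⟩
          · exact ⟨ζ, Or.inr rfl, ζ.ne_zero, rfl⟩
        have hcm : Commute (C.X 0 2 a) (C.X 1 2 a) := (row_col_of_chev C a (hE a ha)).2
        obtain ⟨t, ht⟩ := C.exists_torus ![(Units.mk0 a ha0)⁻¹, Units.mk0 a ha0, 1] (by simp)
        have h' := Ctx.Sc.commute C ht (show (0 : Fin 3) ≠ 2 by decide)
          (show (1 : Fin 3) ≠ 2 by decide) hcm
        simpa [ha0] using h')
        (spanning _ (Or.inl rfl) (fun h => ⟨(ζ : F) * ζ, Or.inr rfl,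
          mul_ne_zero (h4 h).1 (h4 h).1, (h4 h).2.2⟩))
      exact C.strel hrow hcol (C.chev_of hcol _ hE
        (spanning _ (Or.inl rfl) (fun h => ⟨(ζ : F), Or.inr rfl, (h4 h).1, (h4 h).2.1⟩)))
    · have hXr' := hXr
      simp only [hX, if_neg hp, Finset.mem_insert, Finset.mem_singleton, forall_eq_or_imp,
        forall_eq] at hXr'
      obtain ⟨-, hch⟩ := hXr'
      obtain ⟨hr, hc⟩ := row_col_of_chev C 1 (gchev uV 1 gu hch)
      have hspan := spanning (F := F) ({1} : Set F) rfl (fun h => absurd (by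
        have hdvd : p ∣ 2 ^ 2 := by
          rw [show (2 : ℕ) ^ 2 = Fintype.card F by rw [h]; rfl, hcard]; exact dvd_pow_self p f₀.pos.ne'
        exact (Nat.prime_dvd_prime_iff_eq Fact.out Nat.prime_two).1
          ((Fact.out : p.Prime).dvd_of_dvd_pow hdvd)) hp)
      have hcol := C.col_of {1} (by rintro e rfl; exact hc) hspan
      exact C.strel (C.row_of {1} (by rintro e rfl; exact hr) hspan) hcol
        (C.chev_of hcol {1} (by rintro e rfl; exact gchev uV 1 gu hch) hspan)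
  have hfin := finite_card_le C hS wR1 (by
    show Subgroup.closure {x (.ofAdd 1), g kV, g tV, g cV} = ⊤
    rw [hx1]; exact closure_gens4 g hg)
  haveI := hfin.1
  have elift : FreeGroup.lift (fun i => f₁ (FreeGroup.of i)) = f₁ := FreeGroup.ext_hom _ _ (by simp)
  let φ : PresentedGroup N →* SpecialLinearGroup (Fin 3) F :=
    PresentedGroup.toGroup (f := fun i => f₁ (FreeGroup.of i)) fun r hr => by
      rw [elift]; exact hstd r hr
  have hφ : φ.comp g = f₁ := FreeGroup.ext_hom _ _ fun i => by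
    show φ (PresentedGroup.of i) = f₁ (FreeGroup.of i)
    exact PresentedGroup.toGroup.of (f := fun i => f₁ (FreeGroup.of i)) _
  have hφs : Function.Surjective φ := fun q => by
    obtain ⟨w, rfl⟩ := stdHom3_surjective ζ hgen m hm hsurj q
    exact ⟨g w, DFunLike.congr_fun hφ w⟩
  exact ⟨MulEquiv.ofBijective φ ((Nat.bijective_iff_surjective_and_card φ).2
    ⟨hφs, le_antisymm hfin.2 (Nat.card_le_card_of_surjective _ hφs)⟩)⟩

/-- `SL₃` on four generators and fourteen relations. -/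
theorem exists_pres :
    ∃ rels : Finset (FreeGroup (Fin 4)), rels.card ≤ 14 ∧
      Nonempty (PresentedGroup (↑rels : Set (FreeGroup (Fin 4))) ≃* SpecialLinearGroup (Fin 3) F) := by
  obtain ⟨rels, h12, -, he⟩ := exists_pres_short (F := F)
  exact ⟨rels, by omega, he⟩

end H40.SL3
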