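import Cfsg.Agent.H40.StPresentation

/-!
The six root groups of `SL₃` from one root group, a torus element and two Weyl elements.
-/

set_option autoImplicit false
set_option linter.style.haveILetI false
set_option linter.unusedSectionVars false

namespace H40.SL3

variable {F : Type*} [Field F] {G : Type*} [Group G]

/-- The data. -/
structure Ctx (F : Type*) [Field F] (G : Type*) [Group G] where
  /-- a root group -/
  x : Multiplicative F →* G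
  /-- a torus element -/
  k : G
  /-- a transposition -/
  t : G
  /-- a three-cycle -/
  c : G
  /-- a generator of the units -/
  ζ : Fˣ
  /-- the exponent of `-1` -/
  m : ℕ
  hgen : ∀ z : Fˣ, z ∈ Subgroup.zpowers ζ
  c3 : c * c * c = 1
  ct : c * t⁻¹ * (c * t⁻¹) = 1
  kk : Commute k (c * k * c⁻¹)
  hP : k * (c * k * c⁻¹) * (c * (c * k * c⁻¹) * c⁻¹) = 1
  hF : t⁻¹ * k * t * (c * k * c⁻¹) = 1
  hm : (ζ : F) ^ m = -1
  hG : t * t = (c * (c * k * c⁻¹) * c⁻¹) ^ m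
  hk : ∀ z : F, k * x (.ofAdd z) * k⁻¹ = x (.ofAdd ((ζ : F) * z))
  hk' : ∀ z : F, (c * k * c⁻¹) * x (.ofAdd z) * (c * k * c⁻¹)⁻¹ = x (.ofAdd ((ζ : F) * z))

namespace Ctx

variable (C : Ctx F G)

/-- The second torus element. -/
def k1 : G := C.c * C.k * C.c⁻¹

/-- The third torus element. -/
def k2 : G := C.c * C.k1 * C.c⁻¹

theorem hk1 (z : F) : C.k1 * C.x (.ofAdd z) * C.k1⁻¹ = C.x (.ofAdd ((C.ζ : F) * z)) := C.hk' z

theorem k2_eq : C.k2 = (C.k * C.k1)⁻¹ := eq_inv_of_mul_eq_one_right C.hP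

theorem k2_eq' : C.k2 = (C.k1 * C.k)⁻¹ := by
  rw [C.k2_eq]; congr 1; exact C.kk.eq

theorem c_inv : C.c⁻¹ = C.c * C.c := inv_eq_of_mul_eq_one_left C.c3

theorem conj_c_k2 : C.c * C.k2 * C.c⁻¹ = C.k := by
  have e : C.c * C.k2 * C.c⁻¹ = (C.c * C.c * C.c) * C.k * (C.c * C.c * C.c)⁻¹ := by
    rw [k2, k1]; group
  rw [e, C.c3]; group

/-- Scaling the base root group by an inverse. -/
theorem hk_inv {g : G} {w : Fˣ} (hg : ∀ z : F, g * C.x (.ofAdd z) * g⁻¹ = C.x (.ofAdd ((w : F) * z)))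
    (z : F) : g⁻¹ * C.x (.ofAdd z) * g = C.x (.ofAdd (((w⁻¹ : Fˣ) : F) * z)) := by
  have := hg (((w⁻¹ : Fˣ) : F) * z)
  rw [Units.mul_inv_cancel_left] at this
  rw [← this]; group

theorem hk2 (z : F) :
    C.k2 * C.x (.ofAdd z) * C.k2⁻¹ = C.x (.ofAdd (((C.ζ ^ 2)⁻¹ : Fˣ) * z)) := by
  rw [C.k2_eq, inv_inv, show (C.k * C.k1)⁻¹ * C.x (.ofAdd z) * (C.k * C.k1) =
    C.k1⁻¹ * (C.k⁻¹ * C.x (.ofAdd z) * C.k) * C.k1 by group, C.hk_inv C.hk, C.hk_inv C.hk1,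
    ← mul_assoc, ← Units.val_mul, ← _root_.mul_inv_rev, pow_two]

theorem tk : C.t⁻¹ * C.k * C.t = C.k1⁻¹ := eq_inv_of_mul_eq_one_left C.hF

theorem tt_k2 : Commute (C.t * C.t) C.k2 := by
  rw [C.hG]; exact (Commute.refl C.k2).pow_left C.m

theorem tt_k : Commute (C.t * C.t) C.k := by
  rw [C.hG]
  refine Commute.pow_left ?_ _
  show Commute C.k2 C.k
  rw [C.k2_eq]
  exact ((Commute.refl C.k).mul_left C.kk.symm).inv_left

theorem tt_k1 : Commute (C.t * C.t) C.k1 := by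
  rw [C.hG]
  refine Commute.pow_left ?_ _
  show Commute C.k2 C.k1
  rw [C.k2_eq]
  exact (C.kk.mul_left (Commute.refl C.k1)).inv_left

/-- `c t⁻¹` is an involution. -/
theorem tc : C.t * C.c * C.t⁻¹ = C.t * C.t * C.c⁻¹ := by
  have h : C.c * C.t⁻¹ = (C.c * C.t⁻¹)⁻¹ := eq_inv_of_mul_eq_one_left C.ct
  rw [mul_assoc C.t, h]; group

theorem tk1 : C.t⁻¹ * C.k1 * C.t = C.k⁻¹ := by
  have e : C.t⁻¹ * C.c = C.c⁻¹ * C.t := by
    have h : C.c * C.t⁻¹ = (C.c * C.t⁻¹)⁻¹ := eq_inv_of_mul_eq_one_left C.ct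
    calc C.t⁻¹ * C.c = C.c⁻¹ * (C.c * C.t⁻¹) * C.c := by group
      _ = _ := by rw [h]; group
  rw [k1, show C.t⁻¹ * (C.c * C.k * C.c⁻¹) * C.t =
      (C.t⁻¹ * C.c) * C.k * (C.t⁻¹ * C.c)⁻¹ by group, e,
    show C.c⁻¹ * C.t * C.k * (C.c⁻¹ * C.t)⁻¹ =
      C.c⁻¹ * ((C.t * C.t) * (C.t⁻¹ * C.k * C.t) * (C.t * C.t)⁻¹) * C.c by group, C.tk,
    (C.tt_k1.inv_right).eq, mul_assoc C.k1⁻¹, mul_inv_cancel, mul_one, k1]
  group

theorem tk2 : C.t⁻¹ * C.k2 * C.t = C.k2⁻¹ := by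
  rw [C.k2_eq, inv_inv, show C.t⁻¹ * (C.k * C.k1)⁻¹ * C.t =
    ((C.t⁻¹ * C.k * C.t) * (C.t⁻¹ * C.k1 * C.t))⁻¹ by group, C.tk, C.tk1]
  group

/-- The root group of `(1, 0)`. -/
def y (a : F) : G := C.t * C.x (.ofAdd (-a)) * C.t⁻¹

/-- The root groups. -/
def X (i j : Fin 3) (a : F) : G :=
  if j = i + 1 then C.c ^ (i : ℕ) * C.x (.ofAdd a) * (C.c ^ (i : ℕ))⁻¹
  else C.c ^ ((i + 2 : Fin 3) : ℕ) * C.y a * (C.c ^ ((i + 2 : Fin 3) : ℕ))⁻¹

theorem c_pow_succ (i : Fin 3) : C.c * C.c ^ (i : ℕ) = C.c ^ ((i + 1 : Fin 3) : ℕ) := by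
  fin_cases i
  · show C.c * C.c ^ 0 = C.c ^ 1
    group
  · show C.c * C.c ^ 1 = C.c ^ 2
    group
  · show C.c * C.c ^ 2 = C.c ^ 0
    rw [pow_zero, pow_two, ← mul_assoc, C.c3]

theorem X01 (a : F) : C.X 0 1 a = C.x (.ofAdd a) := by simp [X]

theorem X12 (a : F) : C.X 1 2 a = C.c * C.x (.ofAdd a) * C.c⁻¹ := by simp [X]

theorem X20 (a : F) : C.X 2 0 a = C.c ^ 2 * C.x (.ofAdd a) * (C.c ^ 2)⁻¹ := by
  rw [X, if_pos (by decide)]; rfl

theorem X10 (a : F) : C.X 1 0 a = C.y a := by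
  rw [X, if_neg (by decide)]; show C.c ^ 0 * _ * (C.c ^ 0)⁻¹ = _; group

theorem X21 (a : F) : C.X 2 1 a = C.c * C.y a * C.c⁻¹ := by
  rw [X, if_neg (by decide)]; show C.c ^ 1 * _ * (C.c ^ 1)⁻¹ = _; group

theorem X02 (a : F) : C.X 0 2 a = C.c ^ 2 * C.y a * (C.c ^ 2)⁻¹ := by
  rw [X, if_neg (by decide)]; rfl

theorem X_rot (i j : Fin 3) (a : F) :
    C.c * C.X i j a * C.c⁻¹ = C.X (i + 1) (j + 1) a := by
  simp only [X, add_left_inj]
  split_ifs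
  · rw [← C.c_pow_succ i]; group
  · rw [show (i + 1 + 2 : Fin 3) = i + 2 + 1 by abel, ← C.c_pow_succ (i + 2)]; group

theorem X_add {i j : Fin 3} (a b : F) : C.X i j (a + b) = C.X i j a * C.X i j b := by
  simp only [X, y]
  split_ifs
  · rw [ofAdd_add, map_mul]; group
  · rw [neg_add, ofAdd_add, map_mul]; group

theorem X_zero {i j : Fin 3} : C.X i j 0 = 1 := by
  have := C.X_add (i := i) (j := j) 0 0
  rwa [add_zero, left_eq_mul] at this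

theorem X_inv {i j : Fin 3} (a : F) : (C.X i j a)⁻¹ = C.X i j (-a) := by
  rw [inv_eq_iff_mul_eq_one, ← C.X_add, add_neg_cancel, C.X_zero]

theorem X_comm_self {i j : Fin 3} (a b : F) : Commute (C.X i j a) (C.X i j b) := by
  show _ * _ = _ * _
  rw [← C.X_add, ← C.X_add, add_comm]

/-- `g` scales the root groups by the character `d i / d j`. -/
def Sc (g : G) (d : Fin 3 → Fˣ) : Prop :=
  ∀ i j : Fin 3, i ≠ j → ∀ a : F, g * C.X i j a * g⁻¹ = C.X i j (((d i / d j : Fˣ) : F) * a)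

theorem Sc.one : C.Sc 1 1 := fun i j _ a => by simp

theorem Sc.mul {g g' : G} {d d' : Fin 3 → Fˣ} (h : C.Sc g d) (h' : C.Sc g' d') :
    C.Sc (g * g') (d * d') := fun i j hij a => by
  rw [show g * g' * C.X i j a * (g * g')⁻¹ = g * (g' * C.X i j a * g'⁻¹) * g⁻¹ by group,
    h' i j hij, h i j hij, Pi.mul_apply, Pi.mul_apply, mul_div_mul_comm, Units.val_mul, mul_assoc]

theorem Sc.pow {g : G} {d : Fin 3 → Fˣ} (h : C.Sc g d) : ∀ n : ℕ, C.Sc (g ^ n) (d ^ n)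
  | 0 => by rw [pow_zero, pow_zero]; exact Sc.one C
  | n + 1 => by rw [pow_succ, pow_succ]; exact Sc.mul C (Sc.pow h n) h

theorem Sc.rot {g : G} {d : Fin 3 → Fˣ} (h : C.Sc g d) :
    C.Sc (C.c * g * C.c⁻¹) (fun i => d (i + 2)) := fun i j hij a => by
  have hne : i + 2 ≠ j + 2 := fun e => hij (add_right_cancel e)
  have e : ∀ (v : Fin 3) , v + 2 + 1 = v := by decide
  have h1 := congrArg (fun z => C.c * z * C.c⁻¹) (h (i + 2) (j + 2) hne a)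
  simp only [C.X_rot, e] at h1
  rw [← h1]
  have h2 := C.X_rot (i + 2) (j + 2) a
  rw [e, e] at h2
  rw [← h2]; group

/-- Scaling of `y` read off from the base. -/
theorem scale_y {g g' : G} {w : F} (hgg' : C.t⁻¹ * g * C.t = g')
    (hg' : ∀ z : F, g' * C.x (.ofAdd z) * g'⁻¹ = C.x (.ofAdd (w * z))) (a : F) :
    g * C.y a * g⁻¹ = C.y (w * a) := by
  rw [y, y, ← mul_neg, ← hg', ← hgg']; group

theorem sc_k : C.Sc C.k ![1, C.ζ⁻¹, C.ζ] := by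
  have hz := C.ζ.ne_zero
  have e1 : C.c⁻¹ * C.k * C.c = C.k2 := by rw [← C.conj_c_k2]; group
  have e2 : (C.c ^ 2)⁻¹ * C.k * C.c ^ 2 = C.k1 := by
    rw [pow_two, _root_.mul_inv_rev,
      show C.c⁻¹ * C.c⁻¹ * C.k * (C.c * C.c) = C.c⁻¹ * (C.c⁻¹ * C.k * C.c) * C.c by group, e1, k2]
    group
  intro i j hij a
  fin_cases i <;> fin_cases j <;> (try exact absurd rfl hij)
  · show C.k * C.X 0 1 a * C.k⁻¹ = C.X 0 1 _
    rw [X01, C.hk, X01]; simp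
  · show C.k * C.X 0 2 a * C.k⁻¹ = C.X 0 2 _
    rw [X02, show C.k * (C.c ^ 2 * C.y a * (C.c ^ 2)⁻¹) * C.k⁻¹ = C.c ^ 2 *
      (((C.c ^ 2)⁻¹ * C.k * C.c ^ 2) * C.y a * ((C.c ^ 2)⁻¹ * C.k * C.c ^ 2)⁻¹) * (C.c ^ 2)⁻¹ by
        group, e2, C.scale_y (w := ((C.ζ⁻¹ : Fˣ) : F)) C.tk1 (fun z => by
          rw [inv_inv]; exact C.hk_inv C.hk z), X02]
    simp
  · show C.k * C.X 1 0 a * C.k⁻¹ = C.X 1 0 _
    rw [X10, C.scale_y (w := ((C.ζ⁻¹ : Fˣ) : F)) C.tk (fun z => by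
      rw [inv_inv]; exact C.hk_inv C.hk1 z), X10]
    simp
  · show C.k * C.X 1 2 a * C.k⁻¹ = C.X 1 2 _
    rw [X12, show C.k * (C.c * C.x (.ofAdd a) * C.c⁻¹) * C.k⁻¹ = C.c *
      ((C.c⁻¹ * C.k * C.c) * C.x (.ofAdd a) * (C.c⁻¹ * C.k * C.c)⁻¹) * C.c⁻¹ by group, e1, C.hk2,
      X12]
    congr 5
    simp [pow_two, div_eq_mul_inv]
  · show C.k * C.X 2 0 a * C.k⁻¹ = C.X 2 0 _
    rw [X20, show C.k * (C.c ^ 2 * C.x (.ofAdd a) * (C.c ^ 2)⁻¹) * C.k⁻¹ = C.c ^ 2 *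
      (((C.c ^ 2)⁻¹ * C.k * C.c ^ 2) * C.x (.ofAdd a) * ((C.c ^ 2)⁻¹ * C.k * C.c ^ 2)⁻¹) *
        (C.c ^ 2)⁻¹ by group, e2, C.hk1, X20]
    simp
  · show C.k * C.X 2 1 a * C.k⁻¹ = C.X 2 1 _
    rw [X21, show C.k * (C.c * C.y a * C.c⁻¹) * C.k⁻¹ = C.c *
      ((C.c⁻¹ * C.k * C.c) * C.y a * (C.c⁻¹ * C.k * C.c)⁻¹) * C.c⁻¹ by group, e1,
      C.scale_y (w := ((C.ζ ^ 2 : Fˣ) : F)) C.tk2 (fun z => by
        have := C.hk_inv (g := C.k2) (w := (C.ζ ^ 2)⁻¹) C.hk2 z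
        rw [inv_inv] at this ⊢
        exact this), X21]
    congr 3
    simp [pow_two]

theorem exists_torus [Finite F] (d : Fin 3 → Fˣ) (hd : d 0 * d 1 * d 2 = 1) :
    ∃ g, C.Sc g d := by
  obtain ⟨a, ha⟩ := mem_powers_iff_mem_zpowers.2 (C.hgen (d 1)⁻¹)
  obtain ⟨b, hb⟩ := mem_powers_iff_mem_zpowers.2 (C.hgen (d 0))
  simp only at ha hb
  have h1 := Sc.pow C (C.sc_k) a
  have h2 := Sc.pow C (Sc.rot C C.sc_k) b
  refine ⟨C.k ^ a * (C.c * C.k * C.c⁻¹) ^ b, ?_⟩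
  convert Sc.mul C h1 h2 using 1
  funext i
  have hd2 : d 2 = (d 0 * d 1)⁻¹ := eq_inv_of_mul_eq_one_right hd
  fin_cases i
  · show d 0 = (1 : Fˣ) ^ a * (C.ζ) ^ b
    rw [one_pow, one_mul, hb]
  · show d 1 = (C.ζ⁻¹) ^ a * (1 : Fˣ) ^ b
    rw [one_pow, mul_one, inv_pow, ha, inv_inv]
  · show d 2 = C.ζ ^ a * (C.ζ⁻¹) ^ b
    rw [inv_pow, ha, hb, hd2, mul_inv_rev]

/-- The sign of the transposition. -/
def sgn : Fin 3 → F := ![-1, 1, 1]

theorem tt_scale {i j : Fin 3} (hij : i ≠ j) (a : F) :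
    C.t * C.t * C.X i j a * (C.t * C.t)⁻¹ =
      C.X i j ((![-1, -1, 1] i * ![-1, -1, 1] j : F) * a) := by
  have h := Sc.pow C (Sc.rot C (Sc.rot C C.sc_k)) C.m i j hij a
  have hm : C.ζ ^ C.m = -1 := Units.ext (by rw [Units.val_pow_eq_pow_val, C.hm]; simp)
  rw [C.hG]
  refine h.trans ?_
  congr 2
  fin_cases i <;> fin_cases j <;> (try exact absurd rfl hij) <;>
    simp [inv_pow, C.hm]

theorem t_X {i j : Fin 3} (hij : i ≠ j) (a : F) :
    C.t * C.X i j a * C.t⁻¹ =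
      C.X (Equiv.swap 0 1 i) (Equiv.swap 0 1 j) (sgn (F := F) i * sgn j * a) := by
  have e : ∀ g : G, C.t * (C.c * g * C.c⁻¹) * C.t⁻¹ =
      (C.t * C.c * C.t⁻¹) * (C.t * g * C.t⁻¹) * (C.t * C.c * C.t⁻¹)⁻¹ := fun g => by group
  have h01 : ∀ a, C.t * C.X 0 1 a * C.t⁻¹ = C.X 1 0 (-a) := fun a => by
    rw [X01, X10, y, neg_neg]
  have hm' : ∀ a : F, C.t * C.t * C.X 0 2 a * (C.t * C.t)⁻¹ = C.X 0 2 (-a) := fun a => by
    rw [C.tt_scale (by decide)]; simp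
  have hcinv : ∀ i j : Fin 3, ∀ a, C.c⁻¹ * C.X i j a * C.c = C.X (i + 2) (j + 2) a := fun i j a => by
    have e' : ∀ (v : Fin 3), v + 2 + 1 = v := by decide
    have := C.X_rot (i + 2) (j + 2) a
    rw [e', e'] at this
    rw [← this]; group
  have h12 : ∀ a, C.t * C.X 1 2 a * C.t⁻¹ = C.X 0 2 a := fun a => by
    rw [X12, e, C.tc, ← X01, h01, show C.t * C.t * C.c⁻¹ * C.X 1 0 (-a) * (C.t * C.t * C.c⁻¹)⁻¹ =
      C.t * C.t * (C.c⁻¹ * C.X 1 0 (-a) * C.c) * (C.t * C.t)⁻¹ by group, hcinv]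
    show C.t * C.t * C.X 0 2 (-a) * (C.t * C.t)⁻¹ = _
    rw [hm', neg_neg]
  have h20 : ∀ a, C.t * C.X 2 0 a * C.t⁻¹ = C.X 2 1 (-a) := fun a => by
    have h2 : C.X 2 0 a = C.c * C.X 1 2 a * C.c⁻¹ := by rw [C.X_rot]; rfl
    rw [h2, e, C.tc, h12, show C.t * C.t * C.c⁻¹ * C.X 0 2 a * (C.t * C.t * C.c⁻¹)⁻¹ =
      C.t * C.t * (C.c⁻¹ * C.X 0 2 a * C.c) * (C.t * C.t)⁻¹ by group, hcinv]
    show C.t * C.t * C.X 2 1 a * (C.t * C.t)⁻¹ = _
    rw [C.tt_scale (by decide)]; simp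
  have hback : ∀ i j i' j' : Fin 3, i ≠ j → ∀ (s : F),
      (∀ a, C.t * C.X i j a * C.t⁻¹ = C.X i' j' (s * a)) → s * s = 1 →
      ∀ a, C.t * C.X i' j' a * C.t⁻¹ = C.X i j ((![-1, -1, 1] i * ![-1, -1, 1] j : F) * (s * a)) := by
    intro i j i' j' hij s hf hs a
    have := hf (s * a)
    rw [← mul_assoc, hs, one_mul] at this
    rw [← this, ← C.tt_scale hij]; group
  fin_cases i <;> fin_cases j <;> (try exact absurd rfl hij)
  · show C.t * C.X 0 1 a * C.t⁻¹ = C.X 1 0 _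
    rw [h01]; simp [sgn]
  · show C.t * C.X 0 2 a * C.t⁻¹ = C.X 1 2 _
    rw [hback 1 2 0 2 (by decide) 1 (fun a => by rw [h12, one_mul]) (one_mul 1)]; simp [sgn]
  · show C.t * C.X 1 0 a * C.t⁻¹ = C.X 0 1 _
    rw [hback 0 1 1 0 (by decide) (-1) (fun a => by rw [h01, neg_one_mul]) (by ring)]; simp [sgn]
  · show C.t * C.X 1 2 a * C.t⁻¹ = C.X 0 2 _
    rw [h12]; simp [sgn]
  · show C.t * C.X 2 0 a * C.t⁻¹ = C.X 2 1 _
    rw [h20]; simp [sgn]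
  · show C.t * C.X 2 1 a * C.t⁻¹ = C.X 2 0 _
    rw [hback 2 0 2 1 (by decide) (-1) (fun a => by rw [h20, neg_one_mul]) (by ring)]; simp [sgn]

/-! ### The Steinberg relations from three base families -/

/-- The commutator family of `(i, j, l)`. -/
def Chev (i j l : Fin 3) : Prop := ∀ a b : F,
  C.X i j a * C.X j l b * (C.X i j a)⁻¹ * (C.X j l b)⁻¹ = C.X i l (a * b)

theorem Chev.rot {i j l : Fin 3} (h : C.Chev i j l) : C.Chev (i + 1) (j + 1) (l + 1) := by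
  intro a b
  rw [← C.X_rot, ← C.X_rot, ← C.X_rot, ← h a b]; group

theorem strel (hrow : ∀ a b : F, Commute (C.X 0 1 a) (C.X 0 2 b))
    (hcol : ∀ a b : F, Commute (C.X 0 2 a) (C.X 1 2 b)) (hchev : C.Chev 0 1 2) :
    H40.StRel C.X where
  add i j _ := C.X_add
  chev := by
    have h012 := hchev
    have h120 : C.Chev 1 2 0 := Chev.rot C h012
    have h201 : C.Chev 2 0 1 := Chev.rot C h120
    have h102 : C.Chev 1 0 2 := by
      intro a b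
      have h := congrArg (fun g => C.t * g * C.t⁻¹) (h012 (-a) b)
      have hs : ∀ g g' k k' : G, C.t * (g * g' * k⁻¹ * k'⁻¹) * C.t⁻¹ = (C.t * g * C.t⁻¹) *
          (C.t * g' * C.t⁻¹) * (C.t * k * C.t⁻¹)⁻¹ * (C.t * k' * C.t⁻¹)⁻¹ := fun g g' k k' => by group
      rw [hs, C.t_X (by decide), C.t_X (by decide), C.t_X (by decide)] at h
      have es : Equiv.swap (0 : Fin 3) 1 0 = 1 := by decide
      have es' : Equiv.swap (0 : Fin 3) 1 1 = 0 := by decide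
      have es'' : Equiv.swap (0 : Fin 3) 1 2 = 2 := by decide
      rw [es, es', es''] at h
      simpa [sgn] using h
    have h210 : C.Chev 2 1 0 := Chev.rot C h102
    have h021 : C.Chev 0 2 1 := Chev.rot C h210
    intro i j l hij hjl hil t u
    fin_cases i <;> fin_cases j <;> (try exact absurd rfl hij) <;> fin_cases l <;>
      (first | exact absurd rfl hil | exact absurd rfl hjl | exact h012 t u | exact h120 t u |
        exact h201 t u | exact h102 t u | exact h210 t u | exact h021 t u)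
  comm := by
    have rot : ∀ {i j k l : Fin 3}, (∀ a b : F, Commute (C.X i j a) (C.X k l b)) →
        ∀ a b : F, Commute (C.X (i + 1) (j + 1) a) (C.X (k + 1) (l + 1) b) := by
      intro i j k l h a b
      have := (h a b).map (MulAut.conj C.c).toMonoidHom
      simp only [MulEquiv.coe_toMonoidHom, MulAut.conj_apply, C.X_rot] at this
      exact this
    have r0 := hrow
    have r1 : ∀ a b : F, Commute (C.X 1 2 a) (C.X 1 0 b) := rot r0
    have r2 : ∀ a b : F, Commute (C.X 2 0 a) (C.X 2 1 b) := rot r1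
    have c2 := hcol
    have c0 : ∀ a b : F, Commute (C.X 1 0 a) (C.X 2 0 b) := rot c2
    have c1 : ∀ a b : F, Commute (C.X 2 1 a) (C.X 0 1 b) := rot c0
    intro i j k l hij hkl hil hjk t u
    fin_cases i <;> fin_cases j <;> (try exact absurd rfl hij) <;> fin_cases k <;>
      (try exact absurd rfl hjk) <;> fin_cases l <;> (try exact absurd rfl hil) <;>
      (try exact absurd rfl hkl) <;>
      (first | exact C.X_comm_self t u | exact r0 t u | exact r1 t u | exact r2 t u |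
        exact c0 t u | exact c1 t u | exact c2 t u | exact (r0 u t).symm | exact (r1 u t).symm |
        exact (r2 u t).symm | exact (c0 u t).symm | exact (c1 u t).symm | exact (c2 u t).symm)

/-- A relation true at `(1, e)` for a spanning set of `e` is true everywhere. -/
theorem spread (P : F → F → Prop) (hzero : ∀ a, P a 0) (hzero' : ∀ b, P 0 b)
    (hadd : ∀ a b b', P a b → P a b' → P a (b + b'))
    (hcube : ∀ (μ : Fˣ) b, P 1 b → P 1 ((μ : F) ^ 3 * b))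
    (htrans : ∀ a : F, a ≠ 0 → ∃ B : F, B ≠ 0 ∧ ∀ b, P 1 b → P a (B * b))
    (E : Set F) (hE : ∀ e ∈ E, P 1 e)
    (hspan : AddSubmonoid.closure {z : F | ∃ μ : Fˣ, ∃ e ∈ E, (μ : F) ^ 3 * e = z} = ⊤) (a b : F) :
    P a b := by
  have h1 : ∀ b, P 1 b := by
    intro b
    have hb : b ∈ AddSubmonoid.closure {z : F | ∃ μ : Fˣ, ∃ e ∈ E, (μ : F) ^ 3 * e = z} := by
      rw [hspan]; exact AddSubmonoid.mem_top b
    induction hb using AddSubmonoid.closure_induction with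
    | mem z hz => obtain ⟨μ, e, he, rfl⟩ := hz; exact hcube μ e (hE e he)
    | zero => exact hzero 1
    | add y z _ _ hy hz => exact hadd 1 y z hy hz
  rcases eq_or_ne a 0 with rfl | ha
  · exact hzero' b
  obtain ⟨B, hB, h⟩ := htrans a ha
  have := h (B⁻¹ * b) (h1 _)
  rwa [mul_inv_cancel_left₀ hB] at this

theorem Sc.commute {g : G} {d : Fin 3 → Fˣ} (h : C.Sc g d) {i j k l : Fin 3} (hij : i ≠ j)
    (hkl : k ≠ l) {a b : F} (hc : Commute (C.X i j a) (C.X k l b)) :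
    Commute (C.X i j (((d i / d j : Fˣ) : F) * a)) (C.X k l (((d k / d l : Fˣ) : F) * b)) := by
  have := hc.map (MulAut.conj g).toMonoidHom
  simp only [MulEquiv.coe_toMonoidHom, MulAut.conj_apply, h i j hij, h k l hkl] at this
  exact this

variable [Finite F]

theorem row_of (E : Set F) (hE : ∀ e ∈ E, Commute (C.X 0 1 1) (C.X 0 2 e))
    (hspan : AddSubmonoid.closure {z : F | ∃ μ : Fˣ, ∃ e ∈ E, (μ : F) ^ 3 * e = z} = ⊤) (a b : F) :
    Commute (C.X 0 1 a) (C.X 0 2 b) := by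
  refine spread (fun a b => Commute (C.X 0 1 a) (C.X 0 2 b)) ?_ ?_ ?_ ?_ ?_ E hE hspan a b
  · intro a; rw [C.X_zero]; exact Commute.one_right _
  · intro b; rw [C.X_zero]; exact Commute.one_left _
  · intro a b b' h h'; rw [C.X_add]; exact h.mul_right h'
  · intro μ b h
    obtain ⟨g, hg⟩ := C.exists_torus ![μ, μ, (μ ^ 2)⁻¹] (by simp [pow_two])
    have h' := Sc.commute C hg (by decide) (by decide) h
    convert h' using 2
    · simp
    · congr 1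
      simp
      field_simp
  · intro a ha
    let a' := Units.mk0 a ha
    obtain ⟨g, hg⟩ := C.exists_torus ![a', 1, a'⁻¹] (by simp)
    refine ⟨a * a, mul_ne_zero ha ha, fun b h => ?_⟩
    have h' := Sc.commute C hg (by decide) (by decide) h
    simpa [a', div_eq_mul_inv] using h'

theorem col_of (E : Set F) (hE : ∀ e ∈ E, Commute (C.X 0 2 1) (C.X 1 2 e))
    (hspan : AddSubmonoid.closure {z : F | ∃ μ : Fˣ, ∃ e ∈ E, (μ : F) ^ 3 * e = z} = ⊤) (a b : F) :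
    Commute (C.X 0 2 a) (C.X 1 2 b) := by
  refine spread (fun a b => Commute (C.X 0 2 a) (C.X 1 2 b)) ?_ ?_ ?_ ?_ ?_ E hE hspan a b
  · intro a; rw [C.X_zero]; exact Commute.one_right _
  · intro b; rw [C.X_zero]; exact Commute.one_left _
  · intro a b b' h h'; rw [C.X_add]; exact h.mul_right h'
  · intro μ b h
    obtain ⟨g, hg⟩ := C.exists_torus ![μ⁻¹, μ ^ 2, μ⁻¹] (by simp [pow_two])
    have h' := Sc.commute C hg (by decide) (by decide) h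
    convert h' using 2
    · simp
    · congr 1
      simp
      field_simp
  · intro a ha
    let a' := Units.mk0 a ha
    obtain ⟨g, hg⟩ := C.exists_torus ![a', a'⁻¹, 1] (by simp)
    refine ⟨a⁻¹, inv_ne_zero ha, fun b h => ?_⟩
    have h' := Sc.commute C hg (by decide) (by decide) h
    simpa [a'] using h'

theorem chev_of (hcol : ∀ a b : F, Commute (C.X 0 2 a) (C.X 1 2 b)) (E : Set F)
    (hE : ∀ e ∈ E, C.X 0 1 1 * C.X 1 2 e * (C.X 0 1 1)⁻¹ * (C.X 1 2 e)⁻¹ = C.X 0 2 e)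
    (hspan : AddSubmonoid.closure {z : F | ∃ μ : Fˣ, ∃ e ∈ E, (μ : F) ^ 3 * e = z} = ⊤) :
    C.Chev 0 1 2 := by
  have key : ∀ (g : G) (d : Fin 3 → Fˣ), C.Sc g d → ∀ a b : F,
      C.X 0 1 a * C.X 1 2 b * (C.X 0 1 a)⁻¹ * (C.X 1 2 b)⁻¹ = C.X 0 2 (a * b) →
      C.X 0 1 (((d 0 / d 1 : Fˣ) : F) * a) * C.X 1 2 (((d 1 / d 2 : Fˣ) : F) * b) *
        (C.X 0 1 (((d 0 / d 1 : Fˣ) : F) * a))⁻¹ * (C.X 1 2 (((d 1 / d 2 : Fˣ) : F) * b))⁻¹ =
        C.X 0 2 ((((d 0 / d 1 : Fˣ) : F) * a) * (((d 1 / d 2 : Fˣ) : F) * b)) := by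
    intro g d hg a b h
    rw [← hg 0 1 (by decide), ← hg 1 2 (by decide)]
    rw [show ((d 0 / d 1 : Fˣ) : F) * a * (((d 1 / d 2 : Fˣ) : F) * b) =
      ((d 0 / d 2 : Fˣ) : F) * (a * b) by
        rw [← div_mul_div_cancel (d 0) (d 1) (d 2), Units.val_mul]; ring,
      ← hg 0 2 (by decide), ← h]
    group
  intro a b
  refine spread (fun a b =>
    C.X 0 1 a * C.X 1 2 b * (C.X 0 1 a)⁻¹ * (C.X 1 2 b)⁻¹ = C.X 0 2 (a * b)) ?_ ?_ ?_ ?_ ?_ E
    (fun e he => by rw [one_mul]; exact hE e he) hspan a b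
  · intro a; simp [C.X_zero]
  · intro b; simp [C.X_zero]
  · intro a b b' h h'
    have hc : Commute (C.X 1 2 b) (C.X 0 2 (a * b')) := (hcol _ _).symm
    rw [C.X_add, mul_add, C.X_add, ← h,
      show C.X 0 1 a * (C.X 1 2 b * C.X 1 2 b') * (C.X 0 1 a)⁻¹ * (C.X 1 2 b * C.X 1 2 b')⁻¹ =
        (C.X 0 1 a * C.X 1 2 b * (C.X 0 1 a)⁻¹ * (C.X 1 2 b)⁻¹) * (C.X 1 2 b *
          (C.X 0 1 a * C.X 1 2 b' * (C.X 0 1 a)⁻¹ * (C.X 1 2 b')⁻¹) * (C.X 1 2 b)⁻¹) by group,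
      h', hc.eq, mul_inv_cancel_right]
  · intro μ b h
    obtain ⟨g, hg⟩ := C.exists_torus ![μ, μ, (μ ^ 2)⁻¹] (by simp [pow_two])
    have h' := key g _ hg 1 b h
    have e1 : (((![μ, μ, (μ ^ 2)⁻¹] 0 / ![μ, μ, (μ ^ 2)⁻¹] 1 : Fˣ) : F) * 1) = 1 := by simp
    have e2 : (((![μ, μ, (μ ^ 2)⁻¹] 1 / ![μ, μ, (μ ^ 2)⁻¹] 2 : Fˣ) : F) * b) = (μ : F) ^ 3 * b := by
      simp
      left
      ring
    rwa [e1, e2] at h'
  · intro a ha
    let a' := Units.mk0 a ha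
    obtain ⟨g, hg⟩ := C.exists_torus ![a', 1, a'⁻¹] (by simp)
    refine ⟨a, ha, fun b h => ?_⟩
    have h' := key g _ hg 1 b h
    have e1 : (((![a', 1, a'⁻¹] 0 / ![a', 1, a'⁻¹] 1 : Fˣ) : F) * 1) = a := by simp [a']
    have e2 : (((![a', 1, a'⁻¹] 1 / ![a', 1, a'⁻¹] 2 : Fˣ) : F) * b) = a * b := by simp [a']
    rwa [e1, e2] at h'

end Ctx

end H40.SL3
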