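import Cfsg.Agent.H40.SL3Roots
import Cfsg.Agent.H40.CRWBorel
import Mathlib

/-!
Fourteen relations on four generators present `SL₃(q)`.
-/

set_option autoImplicit false
set_option linter.style.haveILetI false
set_option linter.unusedSectionVars false

namespace H40.SL3

open Polynomial H40.CRW

/-- Generators. -/
abbrev uV : FreeGroup (Fin 4) := FreeGroup.of 0

/-- Torus generator. -/
abbrev kV : FreeGroup (Fin 4) := FreeGroup.of 1

/-- Transposition generator. -/
abbrev tV : FreeGroup (Fin 4) := FreeGroup.of 2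

/-- Three-cycle generator. -/
abbrev cV : FreeGroup (Fin 4) := FreeGroup.of 3

/-- The second torus word. -/
abbrev kV' : FreeGroup (Fin 4) := cV * kV * cV⁻¹

/-! ### Spanning by cubes -/

section Span

variable {F : Type*} [Field F] [Fintype F]

/-- A finite field other than `𝔽₄` is spanned by its nonzero cubes. -/
theorem cubes_span (h4 : Fintype.card F ≠ 4) :
    AddSubmonoid.closure {z : F | ∃ μ : Fˣ, (μ : F) ^ 3 = z} = ⊤ := by
  classical
  set M := AddSubmonoid.closure {z : F | ∃ μ : Fˣ, (μ : F) ^ 3 = z}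
  have hone : (1 : F) ∈ M := AddSubmonoid.subset_closure ⟨1, by simp⟩
  have hmul : ∀ a ∈ M, ∀ b ∈ M, a * b ∈ M := by
    intro a ha b hb
    induction ha using AddSubmonoid.closure_induction with
    | mem a ha =>
      obtain ⟨μ, rfl⟩ := ha
      induction hb using AddSubmonoid.closure_induction with
      | mem b hb =>
        obtain ⟨ν, rfl⟩ := hb
        exact AddSubmonoid.subset_closure ⟨μ * ν, by rw [Units.val_mul, mul_pow]⟩
      | zero => rw [mul_zero]; exact zero_mem _
      | add y z _ _ hy hz => rw [mul_add]; exact add_mem hy hz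
    | zero => rw [zero_mul]; exact zero_mem _
    | add y z _ _ hy hz => rw [add_mul]; exact add_mem hy hz
  obtain ⟨p, hchar⟩ := CharP.exists F
  haveI := hchar
  have hp : p.Prime := CharP.char_is_prime F p
  have hneg : ∀ a ∈ M, -a ∈ M := by
    intro a ha
    have h := AddSubmonoid.nsmul_mem M ha (p - 1)
    rwa [nsmul_eq_mul, Nat.cast_sub hp.one_le, CharP.cast_eq_zero, Nat.cast_one, zero_sub,
      neg_one_mul] at h
  have hpow : ∀ a ∈ M, ∀ n : ℕ, a ^ n ∈ M := by
    intro a ha n
    induction n with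
    | zero => rw [pow_zero]; exact hone
    | succ n ih => rw [pow_succ]; exact hmul _ ih _ ha
  have hinv : ∀ a ∈ M, a⁻¹ ∈ M := by
    intro a ha
    rcases eq_or_ne a 0 with rfl | h0
    · rw [inv_zero]; exact zero_mem _
    have : a⁻¹ = a ^ (Fintype.card F - 2) := by
      have h1 := FiniteField.pow_card_sub_one_eq_one a h0
      refine (eq_inv_of_mul_eq_one_left ?_).symm
      rw [← pow_succ,
        show Fintype.card F - 2 + 1 = Fintype.card F - 1 by
          have := Fintype.one_lt_card (α := F); omega, h1]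
    rw [this]; exact hpow a ha _
  let K : Subfield F :=
    { carrier := M
      mul_mem' := fun {a b} ha hb => hmul a ha b hb
      one_mem' := hone
      add_mem' := fun {a b} ha hb => M.add_mem ha hb
      zero_mem' := M.zero_mem
      neg_mem' := fun {a} ha => hneg a ha
      inv_mem' := hinv }
  haveI : Fintype K := Fintype.ofFinite K
  have hcard := Module.card_eq_pow_finrank (K := K) (V := F)
  set r := Module.finrank K F
  rw [eq_top_iff]
  intro z _
  show z ∈ K
  suffices hr : r = 1 by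
    rw [hr, pow_one] at hcard
    have hb : Function.Bijective (Subtype.val : K → F) := by
      rw [Fintype.bijective_iff_injective_and_card]
      exact ⟨Subtype.val_injective, hcard.symm⟩
    obtain ⟨w, rfl⟩ := hb.2 z
    exact w.2
  by_contra hr
  have hr2 : 2 ≤ r := by
    have : 0 < r := Module.finrank_pos
    omega
  -- cubes lie in `K`
  have hcub : Fintype.card F - 1 ≤ 3 * (Fintype.card K - 1) := by
    let f : Fˣ →* Kˣ :=
      { toFun := fun μ => Units.mk0 ⟨(μ : F) ^ 3, show (μ : F) ^ 3 ∈ M from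
          AddSubmonoid.subset_closure ⟨μ, rfl⟩⟩ (fun h => pow_ne_zero 3 μ.ne_zero
            (congrArg Subtype.val h))
        map_one' := by ext; simp
        map_mul' := fun a b => by ext; simp [mul_pow] }
    have h1 := Subgroup.card_mul_index f.ker
    rw [Subgroup.index_ker, Nat.card_eq_fintype_card (α := Fˣ), Fintype.card_units] at h1
    have h2 : Nat.card f.range ≤ Fintype.card K - 1 := by
      refine (Subgroup.card_le_card_group _).trans ?_
      rw [Nat.card_eq_fintype_card, Fintype.card_units]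
    have h3 : Nat.card f.ker ≤ 3 := by
      have hle : f.ker ≤ rootsOfUnity 3 F := by
        intro μ hμ
        rw [mem_rootsOfUnity]
        have := congrArg (fun w : Kˣ => ((w : K) : F)) (MonoidHom.mem_ker.1 hμ)
        exact Units.ext (by simpa [f] using this)
      refine (Subgroup.card_le_of_le hle).trans ?_
      exact card_rootsOfUnity F 3
    rw [← h1]
    calc Nat.card f.ker * Nat.card f.range ≤ 3 * Nat.card f.range := Nat.mul_le_mul_right _ h3
      _ ≤ 3 * (Fintype.card K - 1) := Nat.mul_le_mul_left _ h2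
  have hK : 2 ≤ Fintype.card K := Fintype.one_lt_card
  have hsq : Fintype.card K ^ 2 ≤ Fintype.card F := by
    rw [hcard]; exact Nat.pow_le_pow_right (by omega) hr2
  have h4' : Fintype.card F ≤ 3 * Fintype.card K - 2 := by omega
  have hK2 : Fintype.card K = 2 := by
    by_contra hne
    have : 3 * Fintype.card K ≤ Fintype.card K ^ 2 := by
      rw [pow_two]; exact Nat.mul_le_mul_right _ (by omega)
    omega
  have : Fintype.card F = 4 := by
    rw [hK2] at hsq h4'
    omega
  exact h4 this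

/-- The spanning hypothesis for the relation sets used below. -/
theorem spanning (E : Set F) (h1 : (1 : F) ∈ E)
    (h4 : Fintype.card F = 4 → ∃ e ∈ E, e ≠ 0 ∧ e ≠ 1) :
    AddSubmonoid.closure {z : F | ∃ μ : Fˣ, ∃ e ∈ E, (μ : F) ^ 3 * e = z} = ⊤ := by
  classical
  rw [eq_top_iff]
  by_cases hq : Fintype.card F = 4
  · obtain ⟨e, he, he0, he1⟩ := h4 hq
    set M := AddSubmonoid.closure {z : F | ∃ μ : Fˣ, ∃ e ∈ E, (μ : F) ^ 3 * e = z}
    have m1 : (1 : F) ∈ M := AddSubmonoid.subset_closure ⟨1, 1, h1, by simp⟩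
    have me : e ∈ M := AddSubmonoid.subset_closure ⟨1, e, he, by simp⟩
    haveI : CharP F 2 := by
      haveI : Fact (Nat.Prime 2) := ⟨Nat.prime_two⟩
      exact charP_of_card_eq_prime_pow (f := 2) hq
    intro z _
    have hne : (1 : F) + e ≠ 0 := by
      intro h
      exact he1 (by rw [← CharTwo.neg_eq (1 : F)]; exact eq_neg_of_add_eq_zero_right h)
    have hcard : ({0, 1, e, 1 + e} : Finset F).card = 4 := by
      rw [Finset.card_insert_of_notMem, Finset.card_insert_of_notMem,
        Finset.card_insert_of_notMem, Finset.card_singleton]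
      · simp
      · simp [he1.symm, he0]
      · simp [hne.symm, he0.symm]
    have huniv : ({0, 1, e, 1 + e} : Finset F) = Finset.univ :=
      Finset.eq_univ_of_card _ (hcard.trans hq.symm)
    have hz := Finset.mem_univ z
    rw [← huniv] at hz
    simp only [Finset.mem_insert, Finset.mem_singleton] at hz
    rcases hz with rfl | rfl | rfl | rfl
    · exact zero_mem _
    · exact m1
    · exact me
    · exact add_mem m1 me
  · rw [← cubes_span hq]
    apply AddSubmonoid.closure_mono
    rintro z ⟨μ, rfl⟩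
    exact ⟨μ, 1, h1, mul_one _⟩

end Span

/-! ### The root group data -/

section Data

variable {p : ℕ} [Fact p.Prime] {F : Type*} [Field F] [Algebra (ZMod p) F]

theorem polyWord_xval {Q : Type*} [Group Q] {x : Multiplicative F →* Q} {g : Q} {w : F}
    (hg : ∀ z : F, g * x (.ofAdd z) * g⁻¹ = x (.ofAdd (w * z))) (a : F) (P : (ZMod p)[X]) :
    polyWord g (x (.ofAdd a)) P = x (.ofAdd (aeval w P * a)) := by
  have e := act_polyWord x (Algebra.lmul (ZMod p) F w) g (fun z => (hg z).symm) a P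
  rw [← e]
  congr 2
  rw [aeval_algHom_apply]
  simp

/-- An element scaling `1` like `w` and commuting with `g` scales everything by `w`. -/
theorem scale_of_commute {Q : Type*} [Group Q] {x : Multiplicative F →* Q} {g g' : Q} {w : F}
    (hsurj : ∀ z : F, ∃ P : (ZMod p)[X], aeval w P = z)
    (hg : ∀ z : F, g * x (.ofAdd z) * g⁻¹ = x (.ofAdd (w * z))) (hc : Commute g g')
    (h1 : g' * x (.ofAdd 1) * g'⁻¹ = x (.ofAdd w)) (z : F) :
    g' * x (.ofAdd z) * g'⁻¹ = x (.ofAdd (w * z)) := by
  obtain ⟨P, rfl⟩ := hsurj z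
  have e : x (.ofAdd (aeval w P)) = polyWord g (x (.ofAdd 1)) P := by
    rw [polyWord_xval hg, mul_one]
  rw [e]
  have h := map_polyWord (MulAut.conj g').toMonoidHom g (x (.ofAdd 1)) P
  simp only [MulEquiv.coe_toMonoidHom, MulAut.conj_apply] at h
  rw [h, h1, show g' * g * g'⁻¹ = g by rw [← hc.eq]; group, polyWord_xval hg, mul_comm]

/-- Relators for the root group: at most four, and at most three in characteristic two. -/
def IsRootData.{v, w} {F : Type w} [Field F] (ζ : F) (L : Finset (FreeGroup (Fin 4))) : Prop :=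
  (∀ {Q : Type v} [Group Q] (f : FreeGroup (Fin 4) →* Q) (x : Multiplicative F →* Q),
      x (.ofAdd 1) = f uV → (∀ z : F, f kV * x (.ofAdd z) * (f kV)⁻¹ = x (.ofAdd (ζ * z))) →
      (∀ z : F, f kV' * x (.ofAdd z) * (f kV')⁻¹ = x (.ofAdd (ζ * z))) → ∀ r ∈ L, f r = 1) ∧
  ∀ {G : Type} [Group G] (f : FreeGroup (Fin 4) →* G), (∀ r ∈ L, f r = 1) →
    Commute (f kV) (f kV') →
    ∃ x : Multiplicative F →* G, x (.ofAdd 1) = f uV ∧
      (∀ z : F, f kV * x (.ofAdd z) * (f kV)⁻¹ = x (.ofAdd (ζ * z))) ∧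
      ∀ z : F, f kV' * x (.ofAdd z) * (f kV')⁻¹ = x (.ofAdd (ζ * z))

universe v

theorem exists_root_data [Fintype F] [CharP F p] {f : ℕ} (hcard : Fintype.card F = p ^ f) (ζ : Fˣ)
    (hζ : ∀ y : Fˣ, y ∈ Subgroup.zpowers ζ) :
    (∀ z : F, ∃ P : (ZMod p)[X], aeval (ζ : F) P = z) ∧
    ∃ L : Finset (FreeGroup (Fin 4)), L.card ≤ 4 ∧ (p = 2 → L.card ≤ 3) ∧
      IsRootData.{v} (ζ : F) L := by
  classical
  have hp2 : 2 ≤ p := (Fact.out : p.Prime).two_le
  have hord : orderOf ζ = p ^ f - 1 := by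
    rw [orderOf_eq_card_of_forall_mem_zpowers hζ, Nat.card_eq_fintype_card, Fintype.card_units,
      hcard]
  have hsurj : ∀ z : F, ∃ P : (ZMod p)[X], aeval (ζ : F) P = z := by
    refine aeval_surjective (p := p) hcard _ fun d hd hdf h => ?_
    have hP : 2 ≤ p ^ d := le_trans hp2 (Nat.le_self_pow (by omega) p)
    have h1 : ζ ^ (p ^ d - 1) = 1 := by
      refine mul_right_cancel (b := ζ) ?_
      rw [one_mul, ← pow_succ, Nat.sub_add_cancel (by omega)]
      exact Units.ext (by rw [Units.val_pow_eq_pow_val]; exact h)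
    have h2 := Nat.le_of_dvd (by omega) (hord ▸ orderOf_dvd_iff_pow_eq_one.2 h1)
    have h3 : p ^ d < p ^ f := Nat.pow_lt_pow_right (by omega) hdf
    omega
  refine ⟨hsurj, ?_⟩
  by_cases hq : Fintype.card F = 2
  · have hp : p = 2 := by
      have : p ∣ 2 := by
        rw [← hq, hcard]
        exact dvd_pow_self p (by rintro rfl; rw [hcard, pow_zero] at hq; omega)
      exact (Nat.prime_dvd_prime_iff_eq Fact.out Nat.prime_two).1 this
    subst hp
    have hζ1 : ζ = 1 := orderOf_eq_one_iff.1 (by rw [hord, ← hcard, hq])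
    subst hζ1
    refine ⟨{uV ^ 2, kV * uV * kV⁻¹ * uV⁻¹, kV' * uV * kV'⁻¹ * uV⁻¹},
      le_trans Finset.card_le_three (by norm_num), fun _ => Finset.card_le_three, ?_, ?_⟩
    · intro Q _ g x hx hk hk' r hr
      simp only [Finset.mem_insert, Finset.mem_singleton] at hr
      have hch : (2 : F) = 0 := CharTwo.two_eq_zero
      rcases hr with rfl | rfl | rfl
      · rw [map_pow, ← hx, ← map_pow, ← ofAdd_nsmul, nsmul_eq_mul, Nat.cast_ofNat, hch, zero_mul,
          ofAdd_zero, map_one]
      · rw [map_mul, map_mul, map_mul, map_inv, map_inv, ← hx, hk]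
        simp
      · rw [map_mul (f := g), map_mul (f := g) _ kV'⁻¹, map_mul (f := g) kV', map_inv (f := g),
          map_inv (f := g), ← hx, hk']
        simp
    · intro G _ g hg hc
      simp only [Finset.mem_insert, Finset.mem_singleton, forall_eq_or_imp, forall_eq] at hg
      obtain ⟨h2, hk, hk'⟩ := hg
      rw [map_pow] at h2
      rw [map_mul (f := g), map_mul (f := g) _ kV⁻¹, map_mul (f := g) kV, map_inv (f := g),
        map_inv (f := g), mul_inv_eq_one] at hk
      rw [map_mul (f := g), map_mul (f := g) _ kV'⁻¹, map_mul (f := g) kV', map_inv (f := g),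
        map_inv (f := g), mul_inv_eq_one] at hk'
      set u := g uV
      have hstab : ∀ a ∈ Subgroup.zpowers u, g kV * a * (g kV)⁻¹ ∈ Subgroup.zpowers u := by
        rintro _ ⟨n, rfl⟩
        show g kV * u ^ n * (g kV)⁻¹ ∈ _
        rw [show g kV * u ^ n * (g kV)⁻¹ = (g kV * u * (g kV)⁻¹) ^ n from
          map_zpow (MulAut.conj (g kV)).toMonoidHom u n, hk]
        exact Subgroup.zpow_mem_zpowers u n
      have hexp : ∀ a ∈ Subgroup.zpowers u, a ^ 2 = 1 := by
        rintro _ ⟨n, rfl⟩
        show (u ^ n) ^ 2 = 1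
        rw [← zpow_natCast, ← zpow_mul, mul_comm, zpow_mul, zpow_natCast, h2, one_zpow]
      have hM : polyWord (g kV) u (minpoly (ZMod 2) ((1 : Fˣ) : F)) = 1 := by
        rw [Units.val_one, minpoly.one, polyWord, show (X - 1 : (ZMod 2)[X]) = X - C 1 by simp,
          natDegree_X_sub_C]
        simp [wordN, coeff_X, coeff_C, coeff_one, ZMod.val_one, show (-1 : ZMod 2) = 1 from rfl,
          show g kV * u * (g kV)⁻¹ = u from hk, ← pow_two, h2]
      obtain ⟨x, hx1, hx2⟩ := exists_xhom (p := 2) (Subgroup.zpowers u)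
        (fun a ha b hb => by
          obtain ⟨n, rfl⟩ := ha; obtain ⟨m, rfl⟩ := hb
          exact (Commute.zpow_zpow_self u n m).eq) hexp (g kV) u hstab (Subgroup.mem_zpowers u)
        ((1 : Fˣ) : F) hsurj hM
      refine ⟨x, hx1, hx2, scale_of_commute hsurj hx2 hc ?_⟩
      rw [hx1, hk', Units.val_one, hx1]
  have hz0 : (ζ : F) - 1 ≠ 0 := by
    intro h
    have h1 : ζ = 1 := Units.ext (sub_eq_zero.1 h)
    have := orderOf_eq_one_iff.2 h1
    have h2 := Fintype.one_lt_card (α := F)
    omega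
  obtain ⟨j', hj'⟩ := mem_powers_iff_mem_zpowers.2 (hζ (Units.mk0 _ hz0))
  simp only at hj'
  obtain ⟨j, hj1, hj⟩ : ∃ j : ℕ, 1 ≤ j ∧ (ζ : F) ^ j = ζ - 1 := by
    refine ⟨j' + orderOf ζ, by have := orderOf_pos ζ; omega, ?_⟩
    rw [← Units.val_pow_eq_pow_val, pow_add, pow_orderOf_eq_one, mul_one, hj', Units.val_mk0]
  set bV : FreeGroup (Fin 4) := kV' * kV ^ (j - 1)
  set P := minpoly (ZMod p) (ζ : F)
  set rA : FreeGroup (Fin 4) := kV * uV * kV⁻¹ * (uV * (bV * uV * bV⁻¹))⁻¹
  set rC : FreeGroup (Fin 4) := uV * (bV * uV * bV⁻¹) * uV⁻¹ * (bV * uV * bV⁻¹)⁻¹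
  have sound : ∀ {Q : Type v} [Group Q] (g : FreeGroup (Fin 4) →* Q) (x : Multiplicative F →* Q),
      x (.ofAdd 1) = g uV → (∀ z : F, g kV * x (.ofAdd z) * (g kV)⁻¹ = x (.ofAdd ((ζ : F) * z))) →
      (∀ z : F, g kV' * x (.ofAdd z) * (g kV')⁻¹ = x (.ofAdd ((ζ : F) * z))) →
      g (uV ^ p) = 1 ∧ g rA = 1 ∧ g rC = 1 ∧ g (polyWord kV uV P) = 1 := by
    intro Q _ g x hx hk hk'
    have hkp : ∀ (n : ℕ) (z : F), g kV ^ n * x (.ofAdd z) * (g kV ^ n)⁻¹ =
        x (.ofAdd ((ζ : F) ^ n * z)) := by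
      intro n z
      induction n with
      | zero => simp
      | succ n ih => rw [pow_succ' (ζ : F), mul_assoc (ζ : F), ← hk, ← ih, pow_succ', mul_inv_rev]; group
    have hb : g (bV * uV * bV⁻¹) = x (.ofAdd ((ζ : F) ^ j)) := by
      rw [map_mul, map_mul, map_inv, ← hx, show bV = kV' * kV ^ (j - 1) from rfl, map_mul, map_pow,
        show g kV' * g kV ^ (j - 1) * x (.ofAdd 1) * (g kV' * g kV ^ (j - 1))⁻¹ =
          g kV' * (g kV ^ (j - 1) * x (.ofAdd 1) * (g kV ^ (j - 1))⁻¹) * (g kV')⁻¹ by group,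
        hkp, hk', mul_one, ← pow_succ', Nat.sub_add_cancel hj1]
    refine ⟨?_, ?_, ?_, ?_⟩
    · rw [map_pow, ← hx, ← map_pow, ← ofAdd_nsmul, nsmul_eq_mul, CharP.cast_eq_zero, zero_mul,
        ofAdd_zero, map_one]
    · show g (kV * uV * kV⁻¹ * (uV * (bV * uV * bV⁻¹))⁻¹) = 1
      rw [map_mul, map_inv, map_mul (f := g) uV, hb, map_mul, map_mul, map_inv, ← hx, hk,
        ← map_mul, ← ofAdd_add, mul_one, hj, add_sub_cancel, mul_inv_cancel]
    · show g (uV * (bV * uV * bV⁻¹) * uV⁻¹ * (bV * uV * bV⁻¹)⁻¹) = 1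
      rw [map_mul, map_mul, map_mul, map_inv, map_inv, hb, ← hx,
        ((Commute.all _ _).map x).eq]
      group
    · rw [map_polyWord, ← hx, polyWord_xval hk, mul_one, minpoly.aeval, ofAdd_zero, map_one]
  have complete : ∀ {G : Type} [Group G] (g : FreeGroup (Fin 4) →* G),
      g (uV ^ p) = 1 → g rA = 1 → g rC = 1 → g (polyWord kV uV P) = 1 →
      Commute (g kV) (g kV') →
      ∃ x : Multiplicative F →* G, x (.ofAdd 1) = g uV ∧
        (∀ z : F, g kV * x (.ofAdd z) * (g kV)⁻¹ = x (.ofAdd ((ζ : F) * z))) ∧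
        ∀ z : F, g kV' * x (.ofAdd z) * (g kV')⁻¹ = x (.ofAdd ((ζ : F) * z)) := by
    intro G _ g hp hA hC hM hc
    set u := g uV
    set a := g kV
    set b := g bV with hb
    rw [map_pow] at hp
    rw [map_polyWord] at hM
    have hA' : a * u * a⁻¹ = u * (b * u * b⁻¹) := by
      rw [← mul_inv_eq_one, ← hA]
      show a * u * a⁻¹ * (u * (b * u * b⁻¹))⁻¹ = g (kV * uV * kV⁻¹ * (uV * (bV * uV * bV⁻¹))⁻¹)
      simp only [map_mul, map_inv]
      rfl
    have hC' : Commute u (b * u * b⁻¹) := by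
      show u * (b * u * b⁻¹) = (b * u * b⁻¹) * u
      rw [← mul_inv_eq_iff_eq_mul, ← mul_inv_eq_one, ← hC]
      show u * (b * u * b⁻¹) * u⁻¹ * (b * u * b⁻¹)⁻¹ =
        g (uV * (bV * uV * bV⁻¹) * uV⁻¹ * (bV * uV * bV⁻¹)⁻¹)
      simp only [map_mul, map_inv]
      rfl
    have hbk : b = g kV' * a ^ (j - 1) := by rw [hb, show bV = kV' * kV ^ (j - 1) from rfl, map_mul, map_pow]
    have hab : Commute a b := by
      rw [hbk]; exact hc.mul_right ((Commute.refl a).pow_right _)
    have hU := latGroup_stable (Commute.refl a) hab hab (show a * u * a⁻¹ ∈ latGroup a b u by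
      have := lat_mem a b u 1 0; simpa [lat] using this)
    obtain ⟨x, hx1, hx2⟩ := exists_xhom (p := p) (latGroup a b u) (latGroup_comm hab hA' hC')
      (latGroup_pow hab hA' hC' hp) a u hU (self_mem a b u) (ζ : F) hsurj hM
    refine ⟨x, hx1, hx2, scale_of_commute hsurj hx2 hc ?_⟩
    have e1 : x (.ofAdd ((ζ : F) ^ j)) = b * u * b⁻¹ := by
      have h := hx2 1
      rw [mul_one, hx1, hA', ← hx1] at h
      rw [hj, sub_eq_neg_add, ofAdd_add, map_mul, ← h, ofAdd_neg, map_inv, inv_mul_cancel_left, hx1]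
    have hkp : ∀ (n : ℕ) (z : F), a ^ n * x (.ofAdd z) * (a ^ n)⁻¹ =
        x (.ofAdd ((ζ : F) ^ n * z)) := by
      intro n z
      induction n with
      | zero => simp
      | succ n ih => rw [pow_succ' (ζ : F), mul_assoc (ζ : F), ← hx2, ← ih, pow_succ', mul_inv_rev]; group
    have e2 : g kV' * x (.ofAdd 1) * (g kV')⁻¹ =
        (a ^ (j - 1))⁻¹ * (b * u * b⁻¹) * a ^ (j - 1) := by
      have hc' : Commute (a ^ (j - 1)) (g kV') := hc.pow_left _
      have e : (a ^ (j - 1))⁻¹ * b = g kV' := by rw [hbk, ← hc'.eq]; group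
      rw [← hx1, ← e]; group
    rw [e2, ← e1, show (ζ : F) ^ j = (ζ : F) ^ (j - 1) * ζ by
      rw [← pow_succ, Nat.sub_add_cancel hj1], ← hkp]
    group
  by_cases hp : p = 2
  · subst hp
    refine ⟨{uV ^ 2, rA, polyWord kV uV P}, le_trans Finset.card_le_three (by norm_num),
      fun _ => Finset.card_le_three, ?_, ?_⟩
    · intro Q _ g x hx hk hk' r hr
      obtain ⟨h1, h2, -, h4⟩ := sound g x hx hk hk'
      simp only [Finset.mem_insert, Finset.mem_singleton] at hr
      rcases hr with rfl | rfl | rfl <;> assumption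
    · intro G _ g hg hc
      simp only [Finset.mem_insert, Finset.mem_singleton, forall_eq_or_imp, forall_eq] at hg
      obtain ⟨h1, h2, h4⟩ := hg
      refine complete g h1 h2 ?_ h4 hc
      have hu : g uV * g uV = 1 := by rw [← map_mul, ← pow_two]; exact h1
      set w := g (bV * uV * bV⁻¹) with hw
      have hA' : g kV * g uV * (g kV)⁻¹ = g uV * w := by
        have h2' := h2
        rw [show rA = kV * uV * kV⁻¹ * (uV * (bV * uV * bV⁻¹))⁻¹ from rfl, map_mul, map_inv,
          mul_inv_eq_one, map_mul, map_mul, map_inv, map_mul] at h2'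
        exact h2'
      have hw2 : w * w = 1 := by
        rw [hw, ← map_mul, show bV * uV * bV⁻¹ * (bV * uV * bV⁻¹) = bV * uV ^ 2 * bV⁻¹ by
          rw [pow_two]; group, map_mul, map_mul, h1, map_inv, mul_one, mul_inv_cancel]
      have huw : g uV * w * (g uV * w) = 1 := by
        rw [← hA', show g kV * g uV * (g kV)⁻¹ * (g kV * g uV * (g kV)⁻¹) =
          g kV * (g uV * g uV) * (g kV)⁻¹ by group, hu]
        group
      show g (uV * (bV * uV * bV⁻¹) * uV⁻¹ * (bV * uV * bV⁻¹)⁻¹) = 1
      rw [map_mul, map_inv, map_mul, map_inv, map_mul, ← hw, inv_eq_of_mul_eq_one_right hu,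
        inv_eq_of_mul_eq_one_right hw2, ← huw, mul_assoc]
  · refine ⟨{uV ^ p, rA, rC, polyWord kV uV P}, Finset.card_le_four, fun h => absurd h hp, ?_, ?_⟩
    · intro Q _ g x hx hk hk' r hr
      obtain ⟨h1, h2, h3, h4⟩ := sound g x hx hk hk'
      simp only [Finset.mem_insert, Finset.mem_singleton] at hr
      rcases hr with rfl | rfl | rfl | rfl <;> assumption
    · intro G _ g hg hc
      simp only [Finset.mem_insert, Finset.mem_singleton, forall_eq_or_imp, forall_eq] at hg
      exact complete g hg.1 hg.2.1 hg.2.2.1 hg.2.2.2 hc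

end Data

end H40.SL3
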