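import Cfsg.Agent.H40.SUTwoQLift
import Cfsg.Agent.H69.SUStep

/-!
Gluing the quad windows to a homomorphism defined on `SU_n(2)`.
-/

set_option autoImplicit false
set_option linter.unusedSectionVars false

namespace H40.SUTwoQ

open Matrix Cfsg H50 H37 H69.SUW

universe u v

variable {F : Type u} [Field F] [Fintype F] {n : ℕ} {G : Type v} [Group G] (D : Frame F n G)

namespace Frame

/-- Lifts on far apart small windows commute. -/
def Far : Prop :=
  ∀ (g g' : SU n F 2) (z z' : G), g ∈ Win F 2 (seg n 3) →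
    (g' ∈ Win F 2 (pairFar n) ∨ g' ∈ Win F 2 (tripleFar n)) →
    D.Lifts g z → D.Lifts g' z' → Commute z z'

variable {D} (hfar : D.Far)
include hfar

theorem far_of_map {R P : Finset (Fin n)} (hR : R.card = 3) (hP : P.card = 2 ∨ P.card = 3)
    (hd : Disjoint R P) {g g' : SU n F 2} (hg : g ∈ Win F 2 R) (hg' : g' ∈ Win F 2 P) {z z' : G}
    (h : D.Lifts g z) (h' : D.Lifts g' z') : Commute z z' := by
  classical
  have h4 := D.hn
  have hn' : R.card + P.card ≤ n := by
    rw [← Finset.card_union_of_disjoint hd]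
    simpa using (R ∪ P).card_le_univ
  set far : Finset (Fin n) := Finset.univ.filter fun i => 3 ≤ i.val ∧ i.val < 3 + P.card
  have hfc : far.card = P.card := by
    have : far = seg n (3 + P.card) \ seg n 3 := by ext i; simp [far, mem_seg, and_comm]
    rw [this, Finset.card_sdiff_of_subset (seg_mono (by omega)), card_seg (by omega),
      card_seg (by omega)]
    omega
  obtain ⟨p₁, hp₁⟩ := exists_perm_map (show (seg n 3).card = R.card by rw [card_seg (by omega), hR])
  obtain ⟨p₂, hp₂, hp₂m⟩ := exists_perm_in (S := Finset.univ \ seg n 3) (A := far)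
    (B := P.map p₁.symm.toEmbedding)
    (fun i hi => by simp [far] at hi; simp [mem_seg]; omega)
    (by
      intro i hi
      obtain ⟨j, hj, rfl⟩ := Finset.mem_map.1 hi
      simp only [Finset.mem_sdiff, Finset.mem_univ, true_and]
      intro hm
      refine Finset.disjoint_right.1 hd hj ?_
      rw [← hp₁, Finset.mem_map_equiv]
      exact hm)
    (by rw [hfc, Finset.card_map])
  set p := p₁ * p₂
  have hA : (seg n 3).map p.toEmbedding = R := by
    rw [show p.toEmbedding = p₂.toEmbedding.trans p₁.toEmbedding from rfl, ← Finset.map_map]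
    have : (seg n 3).map p₂.toEmbedding = seg n 3 := by
      refine Finset.eq_of_subset_of_card_le ?_ (by rw [Finset.card_map])
      intro i hi
      obtain ⟨j, hj, rfl⟩ := Finset.mem_map.1 hi
      rwa [Equiv.toEmbedding_apply, hp₂ j (by simpa using hj)]
    rw [this, hp₁]
  have hB : far.map p.toEmbedding = P := by
    rw [show p.toEmbedding = p₂.toEmbedding.trans p₁.toEmbedding from rfl, ← Finset.map_map, hp₂m,
      Finset.map_map,
      show p₁.symm.toEmbedding.trans p₁.toEmbedding = Function.Embedding.refl _ from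
        Function.Embedding.ext fun i => p₁.apply_symm_apply i, Finset.map_refl]
  have hgm : cj D.hF p⁻¹ g ∈ Win F 2 (seg n 3) := cj_mem_symm D.hF p (by rw [hA]; exact hg)
  have hgm' : cj D.hF p⁻¹ g' ∈ Win F 2 far := cj_mem_symm D.hF p (by rw [hB]; exact hg')
  have hc := hfar _ _ _ _ hgm (by
    rcases hP with hP | hP
    · left; rwa [show far = pairFar n by simp only [far, pairFar, hP]] at hgm'
    · right; rwa [show far = tripleFar n by simp only [far, tripleFar, hP]] at hgm')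
    (D.lifts_conj h p⁻¹) (D.lifts_conj h' p⁻¹)
  have := hc.map (MulAut.conj (D.σ p)).toMonoidHom
  simpa [mul_assoc] using this

/-- Lifts on small disjoint windows commute. -/
theorem disjoint_commute {R P : Finset (Fin n)} (hR : R.card ≤ 3) (hP : P.card ≤ 3)
    (hd : Disjoint R P) {g g' : SU n F 2} (hg : g ∈ Win F 2 R) (hg' : g' ∈ Win F 2 P) {z z' : G}
    (h : D.Lifts g z) (h' : D.Lifts g' z') : Commute z z' := by
  by_cases h4 : (R ∪ P).card ≤ 4
  · obtain ⟨Q, hQ, -, hQc⟩ := Finset.exists_subsuperset_card_eq (Finset.subset_univ (R ∪ P)) h4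
      (by simpa using D.hn)
    exact D.lifts_commute hQc (win_mono (Finset.union_subset_left hQ) hg)
      (win_mono (Finset.union_subset_right hQ) hg') h h' (win_commute D.hF hg hg' hd)
  rw [Finset.card_union_of_disjoint hd] at h4
  by_cases hR3 : R.card = 3
  · exact far_of_map hfar hR3 (by omega) hd hg hg' h h'
  · exact (far_of_map hfar (show P.card = 3 by omega) (by omega) hd.symm hg' hg h' h).symm

omit hfar in
/-- A homomorphism on a window agrees with every lift. -/
def Good (D : Frame F n G) (S : Finset (Fin n)) (Φ : Win F 2 S →* G) : Prop :=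
  ∀ Q ⊆ S, Q.card = 4 → ∀ g, g ∈ Win F 2 Q → ∀ (hS : g ∈ Win F 2 S) (z : G),
    D.Lifts g z → Φ ⟨g, hS⟩ = z

theorem good_commute {S : Finset (Fin n)} (hS : 4 ≤ S.card) {Φ : Win F 2 S →* G}
    (hΦ : D.Good S Φ) {R₀ P : Finset (Fin n)} (hR₀ : R₀ ⊆ S) (hP : P.card ≤ 3)
    (hd : Disjoint R₀ P) {g' : SU n F 2} (hg' : g' ∈ Win F 2 P) {z' : G} (h' : D.Lifts g' z')
    (h : Win F 2 S) (hh : h.1 ∈ Win F 2 R₀) : Commute (Φ h) z' := by
  classical
  let H : Subgroup (SU n F 2) :=
    ((Subgroup.centralizer {z'}).comap Φ).map (Win F 2 S).subtype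
  have hle : Win F 2 R₀ ≤ H := by
    refine win_le_of_small D.hF fun R hR hRc g hg => ?_
    obtain ⟨Q, hQ, hQS, hQc⟩ := Finset.exists_subsuperset_card_eq (hR.trans hR₀)
      (show R.card ≤ 4 by omega) hS
    have hgQ : g ∈ Win F 2 Q := win_mono hQ hg
    obtain ⟨z, hz⟩ := D.exists_lift hQc hgQ
    refine ⟨⟨g, win_mono hQS hgQ⟩, ?_, rfl⟩
    show Φ ⟨g, _⟩ ∈ Subgroup.centralizer {z'}
    rw [hΦ Q hQS hQc g hgQ _ z hz, Subgroup.mem_centralizer_singleton_iff]
    exact (disjoint_commute hfar hRc hP (hd.mono_left hR) hg hg' hz h').eq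
  obtain ⟨y, hy, e⟩ := hle hh
  rw [← show y = h from Subtype.ext e]
  exact Subgroup.mem_centralizer_singleton_iff.1 hy

omit hfar in
theorem good_perm {S : Finset (Fin n)} (hS : 4 ≤ S.card) {Φ : Win F 2 S →* G}
    (hΦ : D.Good S Φ) : ∀ p : Equiv.Perm (Fin n), (∀ i, i ∉ S → p i = i) →
      ∀ hp : Pm D.hF p ∈ Win F 2 S, Φ ⟨Pm D.hF p, hp⟩ = D.σ p := by
  classical
  intro p hp
  have hiff : ∀ i, p i ∈ S ↔ i ∈ S := fun i => by
    constructor
    · intro h; by_contra hi; rw [hp i hi] at h; exact hi h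
    · intro h; by_contra hi
      have := p.injective (hp _ hi)
      rw [this] at hi; exact hi h
  rw [← Equiv.Perm.ofSubtype_subtypePerm hiff (fun i hi => by
    by_contra h; exact hi (hp i h))]
  generalize p.subtypePerm hiff = τ
  induction τ using Equiv.Perm.swap_induction_on with
  | one =>
    intro hp
    rw [show (⟨Pm D.hF (Equiv.Perm.ofSubtype (1 : Equiv.Perm {i // i ∈ S})), hp⟩ : Win F 2 S) = 1
      from Subtype.ext (by simp), map_one, map_one, map_one]
  | swap_mul τ x y hxy ih =>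
    intro hp
    have hm : ∀ τ' : Equiv.Perm {i // i ∈ S}, Pm D.hF (Equiv.Perm.ofSubtype τ') ∈ Win F 2 S :=
      fun τ' => Pm_mem D.hF fun i hi => Equiv.Perm.ofSubtype_apply_of_not_mem _ hi
    have hsw : Φ ⟨_, hm (Equiv.swap x y)⟩ = D.σ (Equiv.Perm.ofSubtype (Equiv.swap x y)) := by
      have hne : x.1 ≠ y.1 := fun e => hxy (Subtype.ext e)
      obtain ⟨Q, hQ, hQS, hQc⟩ := Finset.exists_subsuperset_card_eq
        (show ({x.1, y.1} : Finset (Fin n)) ⊆ S by simp [Finset.subset_iff, x.2, y.2])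
        (show ({x.1, y.1} : Finset (Fin n)).card ≤ 4 by rw [Finset.card_pair hne]; omega) hS
      refine hΦ Q hQS hQc _ (Pm_mem D.hF fun i hi => ?_) _ _ ?_
      · rw [Equiv.Perm.ofSubtype_swap_eq]
        exact Equiv.swap_apply_of_ne_of_ne (fun e => hi (hQ (by simp [e])))
          (fun e => hi (hQ (by simp [e])))
      · rw [Equiv.Perm.ofSubtype_swap_eq]; exact D.lifts_swap
    rw [show (⟨_, hp⟩ : Win F 2 S) = ⟨_, hm (Equiv.swap x y)⟩ * ⟨_, hm τ⟩ from
      Subtype.ext (by simp [map_mul]), map_mul, hsw, ih (hm τ), map_mul, map_mul]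

/-- One more coordinate. -/
theorem good_step {m : ℕ} (h4 : 4 ≤ m) (hm : m < n) {Φ : Win F 2 (seg n m) →* G}
    (hΦ : D.Good (seg n m) Φ) : ∃ Ψ : Win F 2 (seg n (m + 1)) →* G, D.Good (seg n (m + 1)) Ψ := by
  classical
  revert Φ
  obtain ⟨S, hSdef⟩ : ∃ S, S = seg n m := ⟨_, rfl⟩
  rw [← hSdef]
  intro Φ hΦ
  set i₁ : Fin n := ⟨m - 3, by omega⟩ with hi₁
  set i₂ : Fin n := ⟨m - 2, by omega⟩ with hi₂
  set i₃ : Fin n := ⟨m - 1, by omega⟩ with hi₃
  set j : Fin n := ⟨m, hm⟩ with hjdef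
  set T : Finset (Fin n) := {i₁, i₂, i₃, j} with hTdef
  have hSc : S.card = m := by rw [hSdef]; exact card_seg hm.le
  have hS4 : 4 ≤ S.card := hSc.symm ▸ h4
  have h1 : i₁ ∈ S := by rw [hSdef, mem_seg, hi₁]; show m - 3 < m; omega
  have h2 : i₂ ∈ S := by rw [hSdef, mem_seg, hi₂]; show m - 2 < m; omega
  have h3 : i₃ ∈ S := by rw [hSdef, mem_seg, hi₃]; show m - 1 < m; omega
  have hj : j ∉ S := by rw [hSdef, mem_seg, hjdef]; show ¬ m < m; omega
  have h12 : i₁ ≠ i₂ := Fin.ne_of_val_ne (show m - 3 ≠ m - 2 by omega)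
  have h13 : i₁ ≠ i₃ := Fin.ne_of_val_ne (show m - 3 ≠ m - 1 by omega)
  have h23 : i₂ ≠ i₃ := Fin.ne_of_val_ne (show m - 2 ≠ m - 1 by omega)
  have hj1 : i₁ ≠ j := fun e => hj (e ▸ h1)
  have hj2 : i₂ ≠ j := fun e => hj (e ▸ h2)
  have hj3 : i₃ ≠ j := fun e => hj (e ▸ h3)
  have hTc : T.card = 4 := by simp [hTdef, h12, h13, h23, hj1, hj2, hj3]
  obtain ⟨b, hb⟩ := D.exists_quadHom hTc
  set π : G × SU n F 2 →* SU n F 2 := MonoidHom.snd G (SU n F 2)
  let a' : Win F 2 S →* G × SU n F 2 := Φ.prod (Win F 2 S).subtype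
  let b' : Win F 2 T →* G × SU n F 2 := b.prod (Win F 2 T).subtype
  set K := a'.range ⊔ b'.range
  let aK : Win F 2 S →* K := a'.codRestrict K fun x => le_sup_left (α := Subgroup _) ⟨x, rfl⟩
  let bK : Win F 2 T →* K := b'.codRestrict K fun x => le_sup_right (α := Subgroup _) ⟨x, rfl⟩
  have hcomm : ∀ {R₀ P : Finset (Fin n)}, R₀ ⊆ S → P ⊆ T → P.card ≤ 3 → Disjoint R₀ P →
      ∀ (h : Win F 2 S) (k : Win F 2 T), h.1 ∈ Win F 2 R₀ → k.1 ∈ Win F 2 P →
        Commute (aK h) (bK k) := by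
    intro R₀ P hR₀ _ hP hd h k hh hk
    refine Subtype.ext (Prod.ext ?_ ?_)
    · exact (good_commute hfar hS4 hΦ hR₀ hP hd hk (hb k) h hh).eq
    · exact (win_commute D.hF hh hk hd).eq
  have hstep := step (q := 2) D.hF (π.comp K.subtype) aK bK (i₁ := i₁) (i₂ := i₂) (i₃ := i₃)
    (j := j) hS4 h1 h2 h3 hj h12 h13 h23 hTdef (fun _ => rfl) (fun _ => rfl) ?_ ?_ ?_ ?_
  · obtain ⟨hinj, hU⟩ := hstep
    obtain ⟨Θ, -, hΘa, hΘb⟩ := exists_ext D.hF (π := π.comp K.subtype) (a := aK) (b := bK)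
      (fun _ => rfl) (fun _ => rfl) hinj (U := insert j S) (Finset.subset_insert _ _)
      (by simp [hTdef, Finset.subset_iff, h1, h2, h3]) hU
    have hins : insert j S = seg n (m + 1) := by rw [hSdef]; exact seg_insert hm
    rw [← hins]
    refine ⟨((MonoidHom.fst G (SU n F 2)).comp K.subtype).comp Θ, ?_⟩
    intro Q hQ hQc g hg hgU z hz
    have hA : ∀ h : Win F 2 S,
        ((MonoidHom.fst G (SU n F 2)).comp K.subtype).comp Θ
          ⟨h.1, win_mono (Finset.subset_insert j S) h.2⟩ = Φ h := fun h => by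
      simp only [MonoidHom.comp_apply, hΘa]
      rfl
    by_cases hjQ : j ∈ Q
    swap
    · have hQS : Q ⊆ S := fun i hi => by
        rcases Finset.mem_insert.1 (hQ hi) with rfl | h
        · exact absurd hi hjQ
        · exact h
      rw [← hΦ Q hQS hQc g hg (win_mono hQS hg) z hz]
      exact hA ⟨g, win_mono hQS hg⟩
    obtain ⟨r, hr, hrm⟩ := exists_perm_in (S := S) (A := Q.erase j)
      (B := {i₁, i₂, i₃}) (fun i hi => by
        rw [Finset.mem_erase] at hi
        exact (Finset.mem_insert.1 (hQ hi.2)).resolve_left hi.1)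
      (by simp [Finset.subset_iff, h1, h2, h3])
      (by rw [Finset.card_erase_of_mem hjQ, hQc]; simp [h12, h13, h23])
    have hQT : Q.map r.toEmbedding = T := by
      refine Finset.eq_of_subset_of_card_le ?_ (by rw [Finset.card_map, hQc, hTc])
      intro i hi
      obtain ⟨k, hk, rfl⟩ := Finset.mem_map.1 hi
      by_cases hkj : k = j
      · rw [hkj, Equiv.toEmbedding_apply, hr j hj]; simp [hTdef]
      · have : r.toEmbedding k ∈ (Q.erase j).map r.toEmbedding :=
          Finset.mem_map_of_mem _ (Finset.mem_erase.2 ⟨hkj, hk⟩)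
        rw [hrm] at this
        simp only [hTdef, Finset.mem_insert, Finset.mem_singleton] at this ⊢
        tauto
    have hgT : cj D.hF r g ∈ Win F 2 T := hQT ▸ cj_mem D.hF r hg
    have hbz : b ⟨_, hgT⟩ = D.σ r * z * (D.σ r)⁻¹ :=
      D.lifts_unique (hb ⟨_, hgT⟩) (D.lifts_conj hz r)
    have hrS : Pm D.hF r ∈ Win F 2 S := Pm_mem D.hF hr
    have hTU : T ⊆ insert j S := by simp [hTdef, Finset.subset_iff, h1, h2, h3]
    have hsplit : (⟨g, hgU⟩ : Win F 2 (insert j S)) =
        (⟨Pm D.hF r, win_mono (Finset.subset_insert j S) hrS⟩)⁻¹ *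
          ⟨cj D.hF r g, win_mono hTU hgT⟩ *
          ⟨Pm D.hF r, win_mono (Finset.subset_insert j S) hrS⟩ := Subtype.ext (by
      simp [cj_apply, mul_assoc])
    rw [hsplit, map_mul, map_mul, map_inv, hA ⟨_, hrS⟩, good_perm hS4 hΦ r hr hrS]
    have : ((MonoidHom.fst G (SU n F 2)).comp K.subtype).comp Θ ⟨cj D.hF r g, win_mono hTU hgT⟩ =
        b ⟨_, hgT⟩ := by
      simp only [MonoidHom.comp_apply]
      rw [hΘb ⟨_, hgT⟩]
      rfl
    rw [this, hbz]
    group
  · intro g hgS hgT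
    refine Subtype.ext (Prod.ext ?_ rfl)
    obtain ⟨Q, hQ, hQS, hQc⟩ := Finset.exists_subsuperset_card_eq
      (Finset.inter_subset_left (s₁ := S) (s₂ := T))
      (show (S ∩ T).card ≤ 4 from (Finset.card_le_card Finset.inter_subset_right).trans hTc.le)
      hS4
    exact hΦ Q hQS hQc g (win_mono hQ (win_inter hgS hgT)) hgS _ (hb ⟨g, hgT⟩)
  · exact fun h k hh hk => hcomm (Finset.erase_subset _ _)
      (by simp [hTdef, Finset.subset_iff]) (by rw [Finset.card_pair hj3]; omega)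
      (by simp [hj]) h k hh hk
  · exact fun h k hh hk => hcomm ((Finset.erase_subset _ _).trans (Finset.erase_subset _ _))
      (by simp [hTdef, Finset.subset_iff]) Finset.card_le_three (by simp [hj]) h k hh hk
  · rw [eq_top_iff]
    intro x _
    refine (show (⊤ : Subgroup K) ≤ aK.range ⊔ bK.range from ?_) (Subgroup.mem_top x)
    rw [← Subgroup.map_le_map_iff_of_injective K.subtype_injective, Subgroup.map_sup,
      MonoidHom.map_range, MonoidHom.map_range, ← MonoidHom.range_eq_map, Subgroup.range_subtype]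
    exact sup_le_sup le_rfl le_rfl

/-- The homomorphism on the whole group. -/
theorem exists_hom : ∃ Φ : SU n F 2 →* G, (∀ p, Φ (Pm D.hF p) = D.σ p) ∧
    ∀ x : Win F 2 (seg n 4), Φ x.1 = D.a x := by
  classical
  have key : ∀ m, 4 ≤ m → m ≤ n → ∃ Φ : Win F 2 (seg n m) →* G, D.Good (seg n m) Φ := by
    intro m hm
    induction m, hm using Nat.le_induction with
    | base =>
      intro _
      refine ⟨D.a, fun Q hQ hQc g hg hS z hz => ?_⟩
      exact D.lifts_unique (D.lifts_self ⟨g, hS⟩) hz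
    | succ m hm ih =>
      intro hmn
      obtain ⟨Φ, hΦ⟩ := ih (by omega)
      exact good_step hfar hm (by omega) hΦ
  obtain ⟨Φ, hΦ⟩ := key n D.hn le_rfl
  have hall : ∀ i : Fin n, i ∈ seg n n := fun i => by rw [mem_seg]; exact i.isLt
  refine ⟨Φ.comp ((MonoidHom.id (SU n F 2)).codRestrict (Win F 2 (seg n n))
    fun g i hi => absurd (hall i) hi), fun p => ?_, fun x => ?_⟩
  · exact good_perm (by rw [card_seg le_rfl]; exact D.hn) hΦ p
      (fun i hi => absurd (hall i) hi) _
  · exact hΦ (seg n 4) (fun i _ => hall i) (card_seg D.hn) x.1 x.2 _ _ (D.lifts_self x)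

end Frame

end H40.SUTwoQ
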