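import Cfsg.Agent.H40.SUTwoQQuad
import Cfsg.Agent.H40.SUTwoQChain
import Cfsg.Agent.H40.PresN
import Cfsg.Agent.H24.AltPresAll

/-!
`SU_n(2)` has a presentation with six generators and thirty relations.
-/

set_option autoImplicit false
set_option linter.unusedSectionVars false

namespace H40.SUTwoQ

open Matrix Cfsg H50 H37 H69.SUW H93.Coset H40.PresN
open scoped commutatorElement

universe u v

theorem hasPresN_perm (n : ℕ) : HasPresN (Equiv.Perm (Fin n)) 2 8 := by
  obtain ⟨gens, hg⟩ := H24.AltPres.sym_two n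
  obtain ⟨R, hR, e, -⟩ := hg.equiv
  exact ⟨R, hR, ⟨e⟩⟩

theorem map_ev {M : Type u} [Group M] {N : Type v} [Group N] (f : M →* N) (g : ℕ → M)
    (w : List ℕ) : f (ev g w) = ev (fun i => f (g i)) w := by
  induction w with
  | nil => exact map_one f
  | cons i w ih => simp only [ev, map_mul, ih]

theorem ev_congr {M : Type u} [Group M] {g g' : ℕ → M} {w : List ℕ}
    (h : ∀ i ∈ w, g i = g' i) : ev g w = ev g' w := by
  induction w with
  | nil => rfl
  | cons i w ih => rw [ev, ev, ih (fun j hj => h j (by simp [hj])), h i (by simp)]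

variable {n : ℕ} (hn : 4 ≤ n)

/-- The involutions of a quad from permutations and further elements. -/
def letterFn {M : Type u} [One M] (σ : Equiv.Perm (Fin n) → M) (q : Fin 4 → M) : ℕ → M
  | 0 => σ (Equiv.swap (ix hn 0) (ix hn 1))
  | 1 => σ (Equiv.swap (ix hn 1) (ix hn 2))
  | 2 => σ (Equiv.swap (ix hn 2) (ix hn 3))
  | 3 => q 0
  | 4 => q 1
  | _ + 5 => 1

theorem map_letterFn {M : Type u} [Group M] {N : Type v} [Group N] (f : M →* N)
    (σ : Equiv.Perm (Fin n) → M) (q : Fin 4 → M) (i : ℕ) :
    f (letterFn hn σ q i) = letterFn hn (fun p => f (σ p)) (fun k => f (q k)) i := by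
  match i with
  | 0 => rfl
  | 1 => rfl
  | 2 => rfl
  | 3 => rfl
  | 4 => rfl
  | _ + 5 => exact map_one f

/-- The relators of the quad not following from those of the permutations. -/
noncomputable def extraRels : List (List ℕ) :=
  [[3, 3], [4, 4]] ++ quadRels.filter fun w => w.any fun g => decide (3 ≤ g)

theorem extraRels_spec :
    quadRels.all (fun w => extraRels.contains w || w.all fun g => decide (g < 3)) = true := by
  decide +kernel

theorem extraRels_length : extraRels.length ≤ 11 := by decide +kernel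

theorem extraRels_run :
    extraRels.all (fun w => decide (∀ k, run w (unitC k) = unitC k)) = true := by decide +kernel

/-- A permutation sending the first pair far away. -/
def farTwo (h : 5 ≤ n) : Equiv.Perm (Fin n) :=
  Equiv.swap ⟨0, by omega⟩ ⟨3, by omega⟩ * Equiv.swap ⟨1, by omega⟩ ⟨4, by omega⟩

/-- A permutation exchanging the first two triples. -/
def farThree (h : 6 ≤ n) : Equiv.Perm (Fin n) :=
  Equiv.swap ⟨0, by omega⟩ ⟨3, by omega⟩ * Equiv.swap ⟨1, by omega⟩ ⟨4, by omega⟩ *
    Equiv.swap ⟨2, by omega⟩ ⟨5, by omega⟩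

theorem farTwo_map (h : 5 ≤ n) : (seg n 2).map (farTwo h).toEmbedding = pairFar n := by
  refine Finset.eq_of_subset_of_card_le ?_ ?_
  · intro i hi
    obtain ⟨j, hj, rfl⟩ := Finset.mem_map.1 hi
    rw [mem_seg] at hj
    simp only [pairFar, Finset.mem_filter, Finset.mem_univ, true_and, Equiv.toEmbedding_apply]
    rcases (show j.val = 0 ∨ j.val = 1 by omega) with h' | h'
    · rw [show j = ⟨0, by omega⟩ from Fin.ext h']
      simp [farTwo, Equiv.swap_apply_def]
    · rw [show j = ⟨1, by omega⟩ from Fin.ext h']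
      simp [farTwo, Equiv.swap_apply_def]
  · rw [Finset.card_map, card_seg (by omega),
      show pairFar n = {⟨3, by omega⟩, ⟨4, by omega⟩} by
        ext i; simp [pairFar, Fin.ext_iff]; omega]
    exact Finset.card_le_two

theorem farThree_map (h : 6 ≤ n) : (seg n 3).map (farThree h).toEmbedding = tripleFar n := by
  refine Finset.eq_of_subset_of_card_le ?_ ?_
  · intro i hi
    obtain ⟨j, hj, rfl⟩ := Finset.mem_map.1 hi
    rw [mem_seg] at hj
    simp only [tripleFar, Finset.mem_filter, Finset.mem_univ, true_and, Equiv.toEmbedding_apply]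
    rcases (show j.val = 0 ∨ j.val = 1 ∨ j.val = 2 by omega) with h' | h' | h'
    · rw [show j = ⟨0, by omega⟩ from Fin.ext h']
      simp [farThree, Equiv.swap_apply_def]
    · rw [show j = ⟨1, by omega⟩ from Fin.ext h']
      simp [farThree, Equiv.swap_apply_def]
    · rw [show j = ⟨2, by omega⟩ from Fin.ext h']
      simp [farThree, Equiv.swap_apply_def]
  · rw [Finset.card_map, card_seg (by omega),
      show tripleFar n = {⟨3, by omega⟩, ⟨4, by omega⟩, ⟨5, by omega⟩} by
        ext i; simp [tripleFar, Fin.ext_iff]; omega]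
    exact Finset.card_le_three

theorem farThree_sq (h : 6 ≤ n) : farThree h * farThree h = 1 := by
  refine Equiv.ext fun i => ?_
  rw [Equiv.Perm.one_apply, Equiv.Perm.mul_apply]
  by_cases h0 : i = ⟨0, by omega⟩
  · subst h0; simp [farThree, Equiv.swap_apply_def]
  by_cases h3 : i = ⟨3, by omega⟩
  · subst h3; simp [farThree, Equiv.swap_apply_def]
  by_cases h1 : i = ⟨1, by omega⟩
  · subst h1; simp [farThree, Equiv.swap_apply_def]
  by_cases h4 : i = ⟨4, by omega⟩
  · subst h4; simp [farThree, Equiv.swap_apply_def]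
  by_cases h2 : i = ⟨2, by omega⟩
  · subst h2; simp [farThree, Equiv.swap_apply_def]
  by_cases h5 : i = ⟨5, by omega⟩
  · subst h5; simp [farThree, Equiv.swap_apply_def]
  simp [farThree, Equiv.swap_apply_def, h0, h1, h2, h3, h4, h5]

theorem exists_fix_gens (n : ℕ) : ∃ g₁ g₂ : Equiv.Perm (Fin n),
    (∀ i ∈ seg n 3, g₁ i = i) ∧ (∀ i ∈ seg n 3, g₂ i = i) ∧
      ∀ p : Equiv.Perm (Fin n), (∀ i ∈ seg n 3, p i = i) → p ∈ Subgroup.closure {g₁, g₂} := by
  classical
  let α := {i : Fin n // i ∉ seg n 3}
  obtain ⟨gens, hg⟩ := H24.AltPres.sym_two (Fintype.card α)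
  let f : Equiv.Perm (Fin (Fintype.card α)) →* Equiv.Perm (Fin n) :=
    Equiv.Perm.ofSubtype.comp (Fintype.equivFin α).symm.permCongrHom.toMonoidHom
  have hfix : ∀ x, ∀ i ∈ seg n 3, f x i = i := fun x i hi =>
    Equiv.Perm.ofSubtype_apply_of_not_mem _ (by simpa using hi)
  refine ⟨f (gens 0), f (gens 1), hfix _, hfix _, fun p hp => ?_⟩
  have hiff : ∀ i, p i ∉ seg n 3 ↔ i ∉ seg n 3 := fun i => by
    constructor
    · intro h hi; rw [hp i hi] at h; exact h hi
    · intro hi h
      exact hi (by rw [p.injective (hp _ h)] at h; exact h)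
  rw [← Equiv.Perm.ofSubtype_subtypePerm hiff (fun i hi h => hi (hp i h))]
  obtain ⟨τ, hτ⟩ := (Fintype.equivFin α).symm.permCongrHom.surjective (p.subtypePerm hiff)
  rw [← hτ]
  obtain ⟨x, rfl⟩ := hg.1 τ
  have hle : ((f.comp (FreeGroup.lift gens))).range ≤ Subgroup.closure {f (gens 0), f (gens 1)} := by
    rw [MonoidHom.range_eq_map, ← FreeGroup.closure_range_of, MonoidHom.map_closure,
      Subgroup.closure_le]
    rintro _ ⟨_, ⟨i, rfl⟩, rfl⟩
    fin_cases i <;> apply Subgroup.subset_closure <;> simp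
  convert hle ⟨x, rfl⟩ using 1
  simp only [f, MonoidHom.comp_apply, MulEquiv.coe_toMonoidHom]
  congr!

section Rels

variable {M : Type u} [Group M] (σ : Equiv.Perm (Fin n) → M) (q : Fin 4 → M)
  (g₁ g₂ : Equiv.Perm (Fin n))

/-- The relator values. -/
noncomputable def relVals : List M :=
  extraRels.map (ev (letterFn hn σ q)) ++
    [(q 2)⁻¹ * ev (letterFn hn σ q) wordE, (q 3)⁻¹ * ev (letterFn hn σ q) wordF,
      ⁅σ g₁, q 2⁆, ⁅σ g₁, q 3⁆, ⁅σ g₂, q 2⁆, ⁅σ g₂, q 3⁆] ++
    (if h : 5 ≤ n then
      [⁅σ (farTwo h) * q 0 * (σ (farTwo h))⁻¹, q 2⁆, ⁅σ (farTwo h) * q 0 * (σ (farTwo h))⁻¹, q 3⁆]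
    else []) ++
    if h : 6 ≤ n then
      [⁅q 2, σ (farThree h) * q 2 * (σ (farThree h))⁻¹⁆,
        ⁅q 2, σ (farThree h) * q 3 * (σ (farThree h))⁻¹⁆,
        ⁅q 3, σ (farThree h) * q 3 * (σ (farThree h))⁻¹⁆]
    else []

theorem relVals_length : (relVals hn σ q g₁ g₂).length ≤ 22 := by
  have := extraRels_length
  unfold relVals
  split_ifs <;> simp <;> omega

theorem map_relVals {N : Type v} [Group N] (f : M →* N) :
    (relVals hn σ q g₁ g₂).map f = relVals hn (fun p => f (σ p)) (fun k => f (q k)) g₁ g₂ := by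
  have he : ∀ w, f (ev (letterFn hn σ q) w) =
      ev (letterFn hn (fun p => f (σ p)) fun k => f (q k)) w := fun w => by
    rw [map_ev]; exact ev_congr fun i _ => map_letterFn hn f σ q i
  unfold relVals
  split_ifs <;> simp [map_commutatorElement, he, Function.comp_def]

end Rels

variable {F : Type u} [Field F] [Fintype F] (hF : Fintype.card F = 2 ^ 2) (C : Code F)

theorem swap_mem_seg {k : ℕ} (a b : Fin 4) (ha : a.val < k) (hb : b.val < k) :
    ∀ i, i ∉ seg n k → Equiv.swap (ix hn a) (ix hn b) i = i := fun i hi => by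
  refine Equiv.swap_apply_of_ne_of_ne ?_ ?_ <;> (intro e; subst e; exact hi (mem_seg.2 ‹_›))

/-- The elements added to the permutation matrices. -/
def Code.added : Fin 4 → SU n F 2 :=
  ![C.gN hF hn 3, C.gN hF hn 4, ev (C.gN hF hn) wordE, ev (C.gN hF hn) wordF]

theorem Code.gN_mem (g : ℕ) : C.gN hF hn g ∈ Win F 2 (seg n 4) := emb_mem hn _

theorem Code.letterFn_eq {g : ℕ} (hg : g < 5) :
    letterFn hn (Pm hF) (C.added hn hF) g = C.gN hF hn g := by
  obtain ⟨e0, e1, e2⟩ := C.gN_swap hF hn
  interval_cases g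
  · exact e0.symm
  · exact e1.symm
  · exact e2.symm
  · rfl
  · rfl

theorem words_lt : ([wordE, wordF] ++ extraRels ++ quadRels ++ triLetters).all
    (fun w => w.all fun g => decide (g < 5)) = true := by decide +kernel

theorem Code.ev_letterFn {w : List ℕ} (hw : w ∈ [wordE, wordF] ++ extraRels ++ quadRels ++ triLetters) :
    ev (letterFn hn (Pm hF) (C.added hn hF)) w = ev (C.gN hF hn) w :=
  ev_congr fun i hi => C.letterFn_eq hn hF
    (by simpa using List.all_eq_true.1 (List.all_eq_true.1 words_lt w hw) i hi)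

theorem word_fix : ([wordE, wordF].all fun w => decide (run w (unitC 3) = unitC 3)) = true := by
  decide +kernel

theorem Code.word_mem {w : List ℕ} (hw : w ∈ [wordE, wordF]) :
    ev (C.gN hF hn) w ∈ Win F 2 (seg n 3) := by
  refine C.ev_mem hF hn fun k hk => ?_
  rw [show k = 3 from Fin.ext (by have := k.isLt; show k.val = 3; omega)]
  simpa using List.all_eq_true.1 word_fix w hw

theorem Code.gN_three_mem : C.gN hF hn 3 ∈ Win F 2 (seg n 2) := by
  simpa [ev] using C.ev_mem hF hn (pair_fix 3 (by simp))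

theorem seg_far {k : ℕ} (hk : k ≤ 3) {S : Finset (Fin n)} (hS : ∀ i ∈ S, 3 ≤ i.val) :
    Disjoint (seg n k) S := Finset.disjoint_left.2 fun i hi hi' => by
  rw [mem_seg] at hi; have := hS i hi'; omega

theorem Code.relVals_one (g₁ g₂ : Equiv.Perm (Fin n)) (h₁ : ∀ i ∈ seg n 3, g₁ i = i)
    (h₂ : ∀ i ∈ seg n 3, g₂ i = i) :
    ∀ x ∈ relVals hn (fun p => Pm hF p) (C.added hn hF) g₁ g₂, x = 1 := by
  have hE : C.added hn hF 2 ∈ Win F 2 (seg n 3) := C.word_mem hn hF (w := wordE) (by simp)
  have hE' : C.added hn hF 3 ∈ Win F 2 (seg n 3) := C.word_mem hn hF (w := wordF) (by simp)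
  have hperm : ∀ g : Equiv.Perm (Fin n), (∀ i ∈ seg n 3, g i = i) →
      ∀ x ∈ Win F 2 (seg n 3), ⁅Pm hF g, x⁆ = 1 := fun g hg x hx =>
    commutatorElement_eq_one_iff_commute.2 (win_commute hF
      (S := Finset.univ \ seg n 3) (Pm_mem hF fun i hi => hg i (by simpa using hi)) hx
      Finset.sdiff_disjoint)
  intro x hx
  simp only [relVals, List.mem_append, List.mem_map] at hx
  rcases hx with ((⟨w, hw, rfl⟩ | hx) | hx) | hx
  · rw [C.ev_letterFn hn hF (by simp [hw])]
    have h := List.all_eq_true.1 extraRels_run w hw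
    simp only [decide_eq_true_eq] at h
    exact C.ev_eq hF hn (w := w) (w' := []) fun k => (h k).trans rfl
  · simp only [List.mem_cons, List.not_mem_nil, or_false] at hx
    rcases hx with rfl | rfl | rfl | rfl | rfl | rfl
    · rw [C.ev_letterFn hn hF (by simp)]; exact inv_mul_cancel _
    · rw [C.ev_letterFn hn hF (by simp)]; exact inv_mul_cancel _
    · exact hperm _ h₁ _ hE
    · exact hperm _ h₁ _ hE'
    · exact hperm _ h₂ _ hE
    · exact hperm _ h₂ _ hE'
  · split_ifs at hx with h5
    · have hu : cj hF (farTwo h5) (C.gN hF hn 3) ∈ Win F 2 (pairFar n) := by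
        rw [← farTwo_map h5]; exact cj_mem hF _ (C.gN_three_mem hn hF)
      have hd : Disjoint (pairFar n) (seg n 3) :=
        (seg_far le_rfl fun i hi => by simp [pairFar] at hi; omega).symm
      simp only [List.mem_cons, List.not_mem_nil, or_false] at hx
      rcases hx with rfl | rfl <;> rw [commutatorElement_eq_one_iff_commute]
      · exact win_commute hF hu hE hd
      · exact win_commute hF hu hE' hd
    · simp at hx
  · split_ifs at hx with h6
    · have hd : Disjoint (seg n 3) (tripleFar n) :=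
        seg_far le_rfl fun i hi => by simp [tripleFar] at hi; omega
      have hu : ∀ y ∈ Win F 2 (seg n 3), cj hF (farThree h6) y ∈ Win F 2 (tripleFar n) :=
        fun y hy => by rw [← farThree_map h6]; exact cj_mem hF _ hy
      simp only [List.mem_cons, List.not_mem_nil, or_false] at hx
      rcases hx with rfl | rfl | rfl <;> rw [commutatorElement_eq_one_iff_commute]
      · exact win_commute hF hE (hu _ hE) hd
      · exact win_commute hF hE (hu _ hE') hd
      · exact win_commute hF hE' (hu _ hE') hd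
    · simp at hx

theorem Pm_injective : Function.Injective (Pm (n := n) hF) := by
  intro p p' h
  ext i
  have h' : (δ (p i) : Fin n → F) = δ (p' i) := by rw [← Pm_single hF p, h, Pm_single]
  by_contra hne
  have := congrFun h' (p i)
  simp [δ, Fin.ext_iff, hne] at this

/-- Commuting with a permutation that fixes a lifted element. -/
theorem Frame.perm_commute {G : Type v} [Group G] (D : Frame F n G) {g : SU n F 2} {z : G}
    (h : D.Lifts g z) {p : Equiv.Perm (Fin n)} (hc : Commute (Pm D.hF p) g) :
    Commute (D.σ p) z := by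
  have h' := D.lifts_conj h p
  rw [cj_apply, hc.eq, mul_inv_cancel_right] at h'
  have := D.lifts_unique h' h
  exact mul_inv_eq_iff_eq_mul.1 this

/-- The universal property. -/
theorem Code.exists_lifted {G : Type v} [Group G] (g₁ g₂ : Equiv.Perm (Fin n))
    (hgen : ∀ p : Equiv.Perm (Fin n), (∀ i ∈ seg n 3, p i = i) → p ∈ Subgroup.closure {g₁, g₂})
    (σ : Equiv.Perm (Fin n) →* G) (q : Fin 4 → G)
    (hrel : ∀ x ∈ relVals hn (fun p => σ p) q g₁ g₂, x = 1) :
    ∃ Φ : SU n F 2 →* G, (∀ p, Φ (Pm hF p) = σ p) ∧ ∀ k, Φ (C.added hn hF k) = q k := by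
  classical
  set e := letterFn hn (fun p => σ p) q with he
  have hx : ∀ x ∈ extraRels, ev e x = 1 := fun w hw => hrel _ (by
    simp only [relVals, List.mem_append, List.mem_map]; exact Or.inl (Or.inl (Or.inl ⟨w, hw, rfl⟩)))
  have hsw : ∀ a b : Fin n, σ (Equiv.swap a b) * σ (Equiv.swap a b) = 1 := fun a b => by
    rw [← map_mul, Equiv.swap_mul_self, map_one]
  have hinv : ∀ g < 5, e g * e g = 1 := by
    intro g hg
    interval_cases g
    · exact hsw _ _
    · exact hsw _ _
    · exact hsw _ _
    · simpa [ev] using hx [3, 3] (by simp [extraRels])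
    · simpa [ev] using hx [4, 4] (by simp [extraRels])
  have hquad : ∀ w ∈ quadRels, ev e w = 1 := by
    intro w hw
    have h := List.all_eq_true.1 extraRels_spec w hw
    simp only [Bool.or_eq_true, List.contains_iff_mem, List.all_eq_true, decide_eq_true_eq] at h
    rcases h with h | h
    · exact hx w h
    let P : ℕ → Equiv.Perm (Fin n) := letterFn hn id fun _ => 1
    have h1 : ev P w = 1 := Pm_injective hF (by
      rw [map_one, ← C.rel_one hF hn hw, map_ev]
      refine ev_congr fun i hi => ?_
      rw [← C.letterFn_eq hn hF (show i < 5 by have := h i hi; omega)]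
      have := h i hi
      interval_cases i <;> rfl)
    have h2 : ev e w = σ (ev P w) := by
      rw [map_ev]
      refine ev_congr fun i hi => ?_
      have := h i hi
      interval_cases i <;> rfl
    rw [h2, h1, map_one]
  obtain ⟨a, ha⟩ := C.exists_quad hF hn e hinv hquad
  have hgw : ∀ w ∈ [wordE, wordF] ++ extraRels ++ quadRels ++ triLetters,
      a ⟨ev (C.gN hF hn) w, C.ev_mem4 hF hn w⟩ = ev e w := by
    intro w hw
    have hlt : ∀ i ∈ w, i < 5 := fun i hi => by
      simpa using List.all_eq_true.1 (List.all_eq_true.1 words_lt w hw) i hi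
    clear hw
    induction w with
    | nil => exact map_one a
    | cons i w ih =>
      have : (⟨ev (C.gN hF hn) (i :: w), C.ev_mem4 hF hn (i :: w)⟩ : Win F 2 (seg n 4)) =
          ⟨ev (C.gN hF hn) w, C.ev_mem4 hF hn w⟩ * ⟨C.gN hF hn i, C.gN_mem hn hF _⟩ := rfl
      rw [this, map_mul, ih (fun j hj => hlt j (by simp [hj]))]
      exact congrArg (ev e w * ·) (ha i (hlt i (by simp)) _)
  have hq2 : ev e wordE = q 2 := (inv_mul_eq_one.1 (hrel _ (by simp [relVals, he]))).symm
  have hq3 : ev e wordF = q 3 := (inv_mul_eq_one.1 (hrel _ (by simp [relVals, he]))).symm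
  obtain ⟨e0, e1, e2⟩ := C.gN_swap hF hn
  -- permutations inside the quad
  have hS : ∀ p, (∀ i, i ∉ seg n 4 → p i = i) → ∀ h : Pm hF p ∈ Win F 2 (seg n 4),
      a ⟨Pm hF p, h⟩ = σ p := by
    let T : Subgroup (Equiv.Perm (Fin n)) :=
      { carrier := {p | ∃ h : Pm hF p ∈ Win F 2 (seg n 4), a ⟨Pm hF p, h⟩ = σ p}
        one_mem' := ⟨by rw [map_one]; exact one_mem _, by
          rw [show (⟨Pm hF 1, _⟩ : Win F 2 (seg n 4)) = 1 from Subtype.ext (map_one _), map_one,
            map_one]⟩
        mul_mem' := by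
          rintro p p' ⟨h, hp⟩ ⟨h', hp'⟩
          refine ⟨by rw [map_mul]; exact mul_mem h h', ?_⟩
          rw [show (⟨Pm hF (p * p'), _⟩ : Win F 2 (seg n 4)) = ⟨_, h⟩ * ⟨_, h'⟩ from
            Subtype.ext (map_mul _ _ _), map_mul, hp, hp', map_mul]
        inv_mem' := by
          rintro p ⟨h, hp⟩
          refine ⟨by rw [map_inv]; exact inv_mem h, ?_⟩
          rw [show (⟨Pm hF p⁻¹, _⟩ : Win F 2 (seg n 4)) = (⟨_, h⟩)⁻¹ from
            Subtype.ext (map_inv _ _), map_inv, hp, map_inv] }
    have hgen3 : ∀ k l : Fin 4, ∀ g, g < 5 →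
        C.gN hF hn g = Pm hF (Equiv.swap (ix hn k) (ix hn l)) →
        e g = σ (Equiv.swap (ix hn k) (ix hn l)) → Equiv.swap (ix hn k) (ix hn l) ∈ T := by
      intro k l g hg hgN heg
      refine ⟨hgN ▸ C.gN_mem hn hF _, ?_⟩
      rw [show (⟨Pm hF (Equiv.swap (ix hn k) (ix hn l)), _⟩ : Win F 2 (seg n 4)) =
        ⟨C.gN hF hn g, C.gN_mem hn hF _⟩ from Subtype.ext hgN.symm, ha g hg, heg]
    have t0 := hgen3 0 1 0 (by omega) e0 rfl
    have t1 := hgen3 1 2 1 (by omega) e1 rfl
    have t2 := hgen3 2 3 2 (by omega) e2 rfl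
    have t02 := SubmonoidClass.swap_mem_trans T t0 t1
    have t03 := SubmonoidClass.swap_mem_trans T t02 t2
    have t13 := SubmonoidClass.swap_mem_trans T t1 t2
    have hall : ∀ k l : Fin 4, Equiv.swap (ix hn k) (ix hn l) ∈ T := by
      intro k l
      fin_cases k <;> fin_cases l <;> first
        | (rw [Equiv.swap_self]; exact one_mem T)
        | assumption
        | (rw [Equiv.swap_comm]; assumption)
    intro p hp
    have hiff : ∀ i, p i ∈ seg n 4 ↔ i ∈ seg n 4 := fun i => by
      constructor
      · intro h; by_contra hi; rw [hp i hi] at h; exact hi h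
      · intro h; by_contra hi
        rw [p.injective (hp _ hi)] at hi; exact hi h
    have hT : p ∈ T := by
      rw [← Equiv.Perm.ofSubtype_subtypePerm hiff (fun i hi => by
        by_contra h; exact hi (hp i h))]
      generalize p.subtypePerm hiff = τ
      induction τ using Equiv.Perm.swap_induction_on with
      | one => rw [map_one]; exact one_mem T
      | swap_mul τ x y hxy ih =>
        rw [map_mul, Equiv.Perm.ofSubtype_swap_eq]
        refine mul_mem ?_ ih
        have := hall ⟨x.1.val, mem_seg.1 x.2⟩ ⟨y.1.val, mem_seg.1 y.2⟩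
        exact this
    obtain ⟨h', hp'⟩ := hT
    exact fun h => hp'
  -- permutations outside the triple
  have hletters : ∀ w ∈ triLetters, a ⟨ev (C.gN hF hn) w, C.ev_mem4 hF hn w⟩ = ev e w :=
    fun w hw => hgw w (by simp [hw])
  have hgc : ∀ k : Fin 4, k = 2 ∨ k = 3 → ∀ p ∈ Subgroup.closure {g₁, g₂},
      Commute (σ p) (q k) := by
    intro k hk p hp
    induction hp using Subgroup.closure_induction with
    | mem g hg =>
      rw [← commutatorElement_eq_one_iff_commute]
      rcases hk with rfl | rfl <;> rcases hg with rfl | rfl <;> exact hrel _ (by simp [relVals])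
    | one => rw [map_one]; exact Commute.one_left _
    | mul x y _ _ h1 h2 => rw [map_mul]; exact h1.mul_left h2
    | inv x _ h1 => rw [map_inv]; exact h1.inv_left
  have hT3 : ∀ p, (∀ i ∈ seg n 3, p i = i) → ∀ x : Win F 2 (seg n 4),
      x.1 ∈ Win F 2 (seg n 3) → Commute (σ p) (a x) := by
    intro p hp x hx
    let H : Subgroup (SU n F 2) :=
      ((Subgroup.centralizer {σ p}).comap a).map (Win F 2 (seg n 4)).subtype
    have hle : Win F 2 (seg n 3) ≤ H := by
      refine C.tri_le hF hn fun w hw => ⟨⟨_, C.ev_mem4 hF hn w⟩, ?_, rfl⟩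
      show a _ ∈ Subgroup.centralizer {σ p}
      rw [hletters w hw, Subgroup.mem_centralizer_singleton_iff]
      suffices h : Commute (σ p) (ev e w) from h.eq.symm
      have hswap : ∀ k l : Fin 4, k.val < 3 → l.val < 3 →
          Commute (σ p) (σ (Equiv.swap (ix hn k) (ix hn l))) := fun k l hk hl => by
        refine (Equiv.Perm.Disjoint.commute fun i => ?_).map σ
        by_cases hi : i ∈ seg n 3
        · exact Or.inl (hp i hi)
        · exact Or.inr (swap_mem_seg hn k l hk hl i hi)
      simp only [triLetters, List.mem_cons, List.not_mem_nil, or_false] at hw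
      rcases hw with rfl | rfl | rfl | rfl
      · simpa [ev, he, letterFn] using hswap 0 1 (by decide) (by decide)
      · simpa [ev, he, letterFn] using hswap 1 2 (by decide) (by decide)
      · rw [hq2]; exact hgc 2 (Or.inl rfl) p (hgen p hp)
      · rw [hq3]; exact hgc 3 (Or.inr rfl) p (hgen p hp)
    obtain ⟨y, hy, ey⟩ := hle hx
    rw [← show y = x from Subtype.ext ey]
    exact (Subgroup.mem_centralizer_singleton_iff.1 hy).symm
  let D : Frame F n G := ⟨hF, hn, σ, a, hS, hT3⟩
  have hlift : ∀ w ∈ triLetters, D.Lifts (ev (C.gN hF hn) w) (ev e w) := fun w hw => by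
    rw [← hletters w hw]; exact D.lifts_self ⟨_, C.ev_mem4 hF hn w⟩
  have hletmem : ∀ w ∈ triLetters, ev (C.gN hF hn) w ∈ Win F 2 (seg n 3) := fun w hw => by
    refine C.ev_mem hF hn fun k hk => ?_
    rw [show k = 3 from Fin.ext (by have := k.isLt; show k.val = 3; omega)]
    simpa using List.all_eq_true.1 tri_fix w hw
  have hu : D.Lifts (C.gN hF hn 3) (q 0) := by
    have := D.lifts_self ⟨C.gN hF hn 3, C.gN_mem hn hF _⟩
    rwa [show D.a ⟨C.gN hF hn 3, C.gN_mem hn hF _⟩ = q 0 from ha 3 (by omega) _] at this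
  -- the far windows
  have hfar : D.Far := by
    have hpair : ∀ h5 : 5 ≤ n, ∀ w ∈ triLetters,
        ∀ g' ∈ Win F 2 (pairFar n), ∀ z', D.Lifts g' z' → Commute (ev e w) z' := by
      intro h5 w hw g' hg' z' hz'
      set c := σ (farTwo h5)
      let H : Subgroup (SU n F 2) :=
        ((Subgroup.centralizer {c⁻¹ * ev e w * c}).comap a).map (Win F 2 (seg n 4)).subtype
      have hd : Disjoint (pairFar n) (seg n 3) :=
        (seg_far le_rfl fun i hi => by simp [pairFar] at hi; omega).symm
      have hle : Win F 2 (seg n 2) ≤ H := by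
        have hput : ∀ g, g = 0 ∨ g = 3 → Commute (c * e g * c⁻¹) (ev e w) →
            C.gN hF hn g ∈ H := by
          intro g hg hc
          refine ⟨⟨C.gN hF hn g, C.gN_mem hn hF _⟩, ?_, rfl⟩
          show a _ ∈ Subgroup.centralizer _
          rw [ha g (by omega), Subgroup.mem_centralizer_singleton_iff]
          have := hc.map (MulAut.conj c⁻¹).toMonoidHom
          simp [mul_assoc] at this
          simpa [mul_assoc] using this.eq
        refine C.pair_le hF hn (hput 0 (Or.inl rfl) ?_) (hput 3 (Or.inr rfl) ?_)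
        · have : c * e 0 * c⁻¹ =
              σ (farTwo h5 * Equiv.swap (ix hn 0) (ix hn 1) * (farTwo h5)⁻¹) := by
            rw [map_mul, map_mul, map_inv]; rfl
          rw [this]
          refine D.perm_commute (hlift w hw) (win_commute hF ?_ (hletmem w hw) hd)
          rw [map_mul, map_mul, map_inv, ← cj_apply, ← farTwo_map h5]
          exact cj_mem hF _ (Pm_mem hF (swap_mem_seg hn 0 1 (by decide) (by decide)))
        · have hl : D.Lifts (cj hF (farTwo h5) (C.gN hF hn 3)) (c * q 0 * c⁻¹) :=
            D.lifts_conj hu _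
          have hum : cj hF (farTwo h5) (C.gN hF hn 3) ∈ Win F 2 (pairFar n) := by
            rw [← farTwo_map h5]; exact cj_mem hF _ (C.gN_three_mem hn hF)
          show Commute (c * q 0 * c⁻¹) (ev e w)
          simp only [triLetters, List.mem_cons, List.not_mem_nil, or_false] at hw
          have hperm : ∀ k l : Fin 4, k.val < 3 → l.val < 3 →
              Commute (c * q 0 * c⁻¹) (σ (Equiv.swap (ix hn k) (ix hn l))) := fun k l hk hl' =>
            (D.perm_commute hl (win_commute hF (Pm_mem hF (swap_mem_seg hn k l hk hl')) hum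
              hd.symm)).symm
          rcases hw with rfl | rfl | rfl | rfl
          · simpa [ev, he, letterFn] using hperm 0 1 (by decide) (by decide)
          · simpa [ev, he, letterFn] using hperm 1 2 (by decide) (by decide)
          all_goals first | rw [hq2] | rw [hq3]
          all_goals rw [← commutatorElement_eq_one_iff_commute]
          all_goals exact hrel _ (by simp [relVals, dif_pos h5, c])
      have hm : cj hF (farTwo h5)⁻¹ g' ∈ Win F 2 (seg n 2) :=
        cj_mem_symm hF _ (by rw [farTwo_map h5]; exact hg')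
      obtain ⟨y, hy, ey⟩ := hle hm
      have ey' : y.1 = cj hF (farTwo h5)⁻¹ g' := ey
      rw [D.lifts_unique hz' ⟨farTwo h5, y, by rw [ey', ← cj_mul, mul_inv_cancel, cj_one], rfl⟩]
      have hc : Commute (c⁻¹ * ev e w * c) (a y) :=
        (Subgroup.mem_centralizer_singleton_iff.1 hy).symm
      have := hc.map (MulAut.conj c).toMonoidHom
      simpa [mul_assoc] using this
    have htriple : ∀ h6 : 6 ≤ n, ∀ w ∈ triLetters,
        ∀ g' ∈ Win F 2 (tripleFar n), ∀ z', D.Lifts g' z' → Commute (ev e w) z' := by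
      intro h6 w hw g' hg' z' hz'
      set c := σ (farThree h6) with hcdef
      let H : Subgroup (SU n F 2) :=
        ((Subgroup.centralizer {c⁻¹ * ev e w * c}).comap a).map (Win F 2 (seg n 4)).subtype
      have hd : Disjoint (seg n 3) (tripleFar n) :=
        seg_far le_rfl fun i hi => by simp [tripleFar] at hi; omega
      have hcj : ∀ w' ∈ triLetters, cj hF (farThree h6) (ev (C.gN hF hn) w') ∈
          Win F 2 (tripleFar n) := fun w' hw' => by
        rw [← farThree_map h6]; exact cj_mem hF _ (hletmem w' hw')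
      have hcc : c * c = 1 := by rw [hcdef, ← map_mul, farThree_sq, map_one]
      have hrels : Commute (q 2) (c * q 2 * c⁻¹) ∧ Commute (q 2) (c * q 3 * c⁻¹) ∧
          Commute (q 3) (c * q 2 * c⁻¹) ∧ Commute (q 3) (c * q 3 * c⁻¹) := by
        have r : ∀ x y, ⁅x, c * y * c⁻¹⁆ ∈ relVals hn (fun p => σ p) q g₁ g₂ →
            Commute x (c * y * c⁻¹) := fun x y h =>
          commutatorElement_eq_one_iff_commute.1 (hrel _ h)
        have r22 := r (q 2) (q 2) (by simp [relVals, dif_pos h6, hcdef])
        have r23 := r (q 2) (q 3) (by simp [relVals, dif_pos h6, hcdef])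
        have r33 := r (q 3) (q 3) (by simp [relVals, dif_pos h6, hcdef])
        refine ⟨r22, r23, ?_, r33⟩
        have h := (r23.map (MulAut.conj c).toMonoidHom).symm
        have hci : c⁻¹ = c := inv_eq_of_mul_eq_one_left hcc
        have hconj : c * (c * q 3 * c⁻¹) * c⁻¹ = q 3 := by
          rw [hci]
          calc c * (c * q 3 * c) * c = (c * c) * q 3 * (c * c) := by group
            _ = q 3 := by rw [hcc, one_mul, mul_one]
        simp only [MulEquiv.coe_toMonoidHom, MulAut.conj_apply] at h
        rwa [hconj] at h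
      have hle : Win F 2 (seg n 3) ≤ H := by
        refine C.tri_le hF hn fun w' hw' => ⟨⟨_, C.ev_mem4 hF hn w'⟩, ?_, rfl⟩
        show a _ ∈ Subgroup.centralizer _
        rw [hletters w' hw', Subgroup.mem_centralizer_singleton_iff]
        have hl' : D.Lifts (cj hF (farThree h6) (ev (C.gN hF hn) w')) (c * ev e w' * c⁻¹) :=
          D.lifts_conj (hlift w' hw') _
        suffices h : Commute (ev e w) (c * ev e w' * c⁻¹) by
          have := h.symm.map (MulAut.conj c⁻¹).toMonoidHom
          simp [mul_assoc] at this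
          simpa [mul_assoc] using this.eq
        have hleft : ∀ k l : Fin 4, k.val < 3 → l.val < 3 →
            Commute (σ (Equiv.swap (ix hn k) (ix hn l))) (c * ev e w' * c⁻¹) := fun k l hk hl =>
          D.perm_commute hl' (win_commute hF (Pm_mem hF (swap_mem_seg hn k l hk hl))
            (hcj w' hw') hd)
        have hright : ∀ k l : Fin 4, k.val < 3 → l.val < 3 →
            Commute (ev e w) (c * σ (Equiv.swap (ix hn k) (ix hn l)) * c⁻¹) := fun k l hk hl => by
          rw [hcdef, ← map_inv, ← map_mul, ← map_mul]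
          refine (D.perm_commute (hlift w hw) (win_commute hF ?_ (hletmem w hw) hd.symm)).symm
          rw [map_mul, map_mul, map_inv, ← cj_apply, ← farThree_map h6]
          exact cj_mem hF _ (Pm_mem hF (swap_mem_seg hn k l hk hl))
        simp only [triLetters, List.mem_cons, List.not_mem_nil, or_false] at hw'
        rcases hw' with rfl | rfl | rfl | rfl
        · simpa [ev, he, letterFn] using hright 0 1 (by decide) (by decide)
        · simpa [ev, he, letterFn] using hright 1 2 (by decide) (by decide)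
        all_goals simp only [triLetters, List.mem_cons, List.not_mem_nil, or_false] at hw
        all_goals rcases hw with rfl | rfl | rfl | rfl
        all_goals first
          | simpa [ev, he, letterFn] using hleft 0 1 (by decide) (by decide)
          | simpa [ev, he, letterFn] using hleft 1 2 (by decide) (by decide)
          | (simp only [hq2, hq3]
             first | exact hrels.1 | exact hrels.2.1 | exact hrels.2.2.1 | exact hrels.2.2.2)
      have hm : cj hF (farThree h6)⁻¹ g' ∈ Win F 2 (seg n 3) :=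
        cj_mem_symm hF _ (by rw [farThree_map h6]; exact hg')
      obtain ⟨y, hy, ey⟩ := hle hm
      have ey' : y.1 = cj hF (farThree h6)⁻¹ g' := ey
      rw [D.lifts_unique hz' ⟨farThree h6, y, by rw [ey', ← cj_mul, mul_inv_cancel, cj_one], rfl⟩]
      have hc : Commute (c⁻¹ * ev e w * c) (a y) :=
        (Subgroup.mem_centralizer_singleton_iff.1 hy).symm
      have := hc.map (MulAut.conj c).toMonoidHom
      simpa [mul_assoc] using this
    intro g g' z z' hg hg' hz hz'
    have key : ∀ w ∈ triLetters, Commute (ev e w) z' := by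
      intro w hw
      have hone : g' ∈ Win F 2 {ix hn 3} → Commute (ev e w) z' := fun h => by
        have e1 := eq_one_of_single hF h
        rw [D.lifts_unique hz' (show D.Lifts g' (D.a 1) by rw [e1]; exact D.lifts_self 1), map_one]
        exact Commute.one_right _
      rcases hg' with hg' | hg'
      · by_cases h5 : 5 ≤ n
        · exact hpair h5 w hw g' hg' z' hz'
        · refine hone (win_mono ?_ hg')
          intro i hi
          simp only [pairFar, Finset.mem_filter, Finset.mem_univ, true_and] at hi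
          rw [Finset.mem_singleton, Fin.ext_iff]
          show i.val = 3
          omega
      · by_cases h6 : 6 ≤ n
        · exact htriple h6 w hw g' hg' z' hz'
        by_cases h5 : 5 ≤ n
        · refine hpair h5 w hw g' (win_mono ?_ hg') z' hz'
          intro i hi
          simp only [pairFar, tripleFar, Finset.mem_filter, Finset.mem_univ, true_and] at hi ⊢
          omega
        · refine hone (win_mono ?_ hg')
          intro i hi
          simp only [tripleFar, Finset.mem_filter, Finset.mem_univ, true_and] at hi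
          rw [Finset.mem_singleton, Fin.ext_iff]
          show i.val = 3
          omega
    let H : Subgroup (SU n F 2) :=
      ((Subgroup.centralizer {z'}).comap a).map (Win F 2 (seg n 4)).subtype
    have hle : Win F 2 (seg n 3) ≤ H := by
      refine C.tri_le hF hn fun w hw => ⟨⟨_, C.ev_mem4 hF hn w⟩, ?_, rfl⟩
      show a _ ∈ Subgroup.centralizer {z'}
      rw [hletters w hw, Subgroup.mem_centralizer_singleton_iff]
      exact (key w hw).eq
    obtain ⟨y, hy, ey⟩ := hle hg
    rw [D.lifts_unique hz (show D.Lifts g (a y) from ey ▸ D.lifts_self y)]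
    exact Subgroup.mem_centralizer_singleton_iff.1 hy
  obtain ⟨Φ, hΦσ, hΦa⟩ := Frame.exists_hom hfar
  refine ⟨Φ, hΦσ, fun k => ?_⟩
  fin_cases k
  · exact (hΦa ⟨C.gN hF hn 3, C.gN_mem hn hF _⟩).trans (ha 3 (by omega) _)
  · exact (hΦa ⟨C.gN hF hn 4, C.gN_mem hn hF _⟩).trans (ha 4 (by omega) _)
  · exact ((hΦa ⟨_, C.ev_mem4 hF hn wordE⟩).trans (hgw wordE (by simp))).trans hq2
  · exact ((hΦa ⟨_, C.ev_mem4 hF hn wordF⟩).trans (hgw wordF (by simp))).trans hq3

/-- Permutation matrices and the added elements generate. -/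
theorem Code.closure_top :
    Subgroup.closure (Set.range (Pm (n := n) hF) ∪ Set.range (C.added hn hF)) = ⊤ := by
  set H := Subgroup.closure (Set.range (Pm (n := n) hF) ∪ Set.range (C.added hn hF))
  have hP : ∀ p, Pm hF p ∈ H := fun p => Subgroup.subset_closure (Or.inl ⟨p, rfl⟩)
  have hA : ∀ k, C.added hn hF k ∈ H := fun k => Subgroup.subset_closure (Or.inr ⟨k, rfl⟩)
  obtain ⟨e0, e1, -⟩ := C.gN_swap hF hn
  have h3 : Win F 2 (seg n 3) ≤ H := C.tri_le hF hn fun w hw => by
    simp only [triLetters, List.mem_cons, List.not_mem_nil, or_false] at hw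
    rcases hw with rfl | rfl | rfl | rfl
    · simpa [ev, e0] using hP _
    · simpa [ev, e1] using hP _
    · exact hA 2
    · exact hA 3
  rw [eq_top_iff]
  intro g _
  refine win_le_of_small hF (fun R _ hR => ?_) (win_univ g)
  intro x hx
  obtain ⟨R', hR', -, hc⟩ := Finset.exists_subsuperset_card_eq (Finset.subset_univ R) hR
    (by simp; omega)
  obtain ⟨p, hp⟩ := exists_perm_map (show (seg n 3).card = R'.card by rw [card_seg (by omega), hc])
  have := h3 (cj_mem_symm hF p (by rw [hp]; exact win_mono hR' hx))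
  rw [cj_apply, map_inv, inv_inv] at this
  have := mul_mem (mul_mem (hP p) this) (inv_mem (hP p))
  simpa [mul_assoc] using this

open Classical in
/-- `SU_n(2)` on six generators with thirty relations. -/
theorem hasPresN_SU_two_thirty {F : Type u} [Field F] [Fintype F] (hF : Fintype.card F = 2 ^ 2)
    {n : ℕ} (hn : 4 ≤ n) : HasPresN (SU n F 2) 6 30 := by
  obtain ⟨C⟩ := exists_code hF
  obtain ⟨g₁, g₂, h₁, h₂, hgen⟩ := exists_fix_gens n
  haveI : Finite (SU n F 2) := Finite.of_injective _ Subtype.val_injective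
  let X : Equiv.Perm (Fin n) → FreeGroup (Equiv.Perm (Fin n) ⊕ Fin 4) :=
    fun p => FreeGroup.of (Sum.inl p)
  let Y : Fin 4 → FreeGroup (Equiv.Perm (Fin n) ⊕ Fin 4) := fun k => FreeGroup.of (Sum.inr k)
  have hE : ∀ r ∈ (relVals hn X Y g₁ g₂).toFinset,
      FreeGroup.lift (Sum.elim (Pm hF) (C.added hn hF)) r = 1 := by
    intro r hr
    have hm := List.mem_map_of_mem (f := FreeGroup.lift (Sum.elim (Pm hF) (C.added hn hF)))
      (List.mem_toFinset.1 hr)
    rw [map_relVals] at hm
    refine C.relVals_one hn hF g₁ g₂ h₁ h₂ _ ?_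
    simpa [X, Y] using hm
  have h := HasPresN.extend (hasPresN_perm n) (Pm hF) (C.added hn hF)
    (relVals hn X Y g₁ g₂).toFinset hE (C.closure_top hn hF) ?_
  · exact h.mono (by
      have := (List.toFinset_card_le (relVals hn X Y g₁ g₂)).trans (relVals_length hn X Y g₁ g₂)
      omega)
  intro G _ ψ a hr htop
  obtain ⟨Φ, hP, hA⟩ := C.exists_lifted hn hF g₁ g₂ hgen ψ a (fun x hx => by
    have e : relVals hn (fun p => ψ p) a g₁ g₂ =
        (relVals hn X Y g₁ g₂).map (FreeGroup.lift (Sum.elim ψ a)) := by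
      rw [map_relVals]; simp [X, Y]
    rw [e, List.mem_map] at hx
    obtain ⟨r, hr', rfl⟩ := hx
    exact hr r (List.mem_toFinset.2 hr'))
  refine ⟨Φ, ?_⟩
  rw [← MonoidHom.range_eq_top, eq_top_iff, ← htop, Subgroup.closure_le]
  rintro _ (⟨p, rfl⟩ | ⟨k, rfl⟩)
  · exact ⟨Pm hF p, hP p⟩
  · exact ⟨C.added hn hF k, hA k⟩

/-- The bounds of the six-generator presentation at `q = 2`. -/
theorem hasPresN_SU_two {F : Type u} [Field F] [Fintype F] (hF : Fintype.card F = 2 ^ 2)
    {n : ℕ} (hn : 4 ≤ n) :
    HasPresN (SU n F 2) 6 39 ∧ (n ≤ 5 → HasPresN (SU n F 2) 6 35) :=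
  ⟨(hasPresN_SU_two_thirty hF hn).mono (by norm_num),
    fun _ => (hasPresN_SU_two_thirty hF hn).mono (by norm_num)⟩

end H40.SUTwoQ
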