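import Cfsg.Agent.H40.SUTwoQPerm
import Cfsg.Agent.H51.SU32
import Cfsg.Agent.H50.Count

/-!
Five unitary involutions of `SU₄(2)` on codes of the field with four elements.
-/

set_option autoImplicit false
set_option linter.unusedSectionVars false

namespace H40.SUTwoQ

open Matrix Cfsg H50 H51.SU32

universe u

variable {F : Type u} [Field F] [Fintype F]

/-- Codes for the field with four elements. -/
structure Code (F : Type u) [Field F] where
  dec : Fin 4 → F
  add : ∀ a b, dec (ad4 a b) = dec a + dec b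
  mul : ∀ a b, dec (mu4 a b) = dec a * dec b
  inj : Function.Injective dec
  surj : Function.Surjective dec
  zero : dec 0 = 0
  one : dec 1 = 1

theorem exists_code (hF : Fintype.card F = 2 ^ 2) : Nonempty (Code F) := by
  have h4 : Fintype.card F = 4 := by rw [hF]; rfl
  obtain ⟨w, hw⟩ := exists_w h4
  have h2 := two_zero hF
  let dec : Fin 4 → F := ![0, 1, w, w + 1]
  have hinj : Function.Injective dec := by
    intro a b
    fin_cases a <;> fin_cases b <;> simp [dec] <;> grind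
  exact ⟨{
    dec := dec
    add := fun a b => by fin_cases a <;> fin_cases b <;> simp [dec, ad4] <;> grind
    mul := fun a b => by fin_cases a <;> fin_cases b <;> simp [dec, mu4] <;> grind
    inj := hinj
    surj := ((Fintype.bijective_iff_injective_and_card _).mpr ⟨hinj, by simp [h4]⟩).2
    zero := rfl
    one := rfl }⟩

/-- Vectors of codes. -/
abbrev V4 := Fin 4 × Fin 4 × Fin 4 × Fin 4

/-- The five involutions on codes. -/
def mv : ℕ → V4 → V4
  | 0, (a, b, c, d) => (b, a, c, d)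
  | 1, (a, b, c, d) => (a, c, b, d)
  | 2, (a, b, c, d) => (a, b, d, c)
  | 3, (a, b, c, d) => (mu4 3 b, mu4 2 a, c, d)
  | 4, (a, b, c, d) => (ad4 (ad4 b c) d, ad4 (ad4 a c) d, ad4 (ad4 a b) d, ad4 (ad4 a b) c)
  | _ + 5, x => x

/-- A word acting on codes, first letter first. -/
def run (w : List ℕ) (x : V4) : V4 := w.foldl (fun x g => mv g x) x

/-- The unit vectors. -/
def units4 : List V4 := [(1, 0, 0, 0), (0, 1, 0, 0), (0, 0, 1, 0), (0, 0, 0, 1)]

theorem mv_invol : ∀ g < 5, ∀ x : V4, mv g (mv g x) = x := by decide +kernel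

variable (C : Code F)

/-- The decoded vector. -/
def Code.vec4 (x : V4) : Fin 4 → F := ![C.dec x.1, C.dec x.2.1, C.dec x.2.2.1, C.dec x.2.2.2]

/-- The matrices of the five involutions. -/
def Code.mat : ℕ → Matrix (Fin 4) (Fin 4) F
  | 0 => !![0, 1, 0, 0; 1, 0, 0, 0; 0, 0, 1, 0; 0, 0, 0, 1]
  | 1 => !![1, 0, 0, 0; 0, 0, 1, 0; 0, 1, 0, 0; 0, 0, 0, 1]
  | 2 => !![1, 0, 0, 0; 0, 1, 0, 0; 0, 0, 0, 1; 0, 0, 1, 0]
  | 3 => !![0, C.dec 3, 0, 0; C.dec 2, 0, 0, 0; 0, 0, 1, 0; 0, 0, 0, 1]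
  | 4 => !![0, 1, 1, 1; 1, 0, 1, 1; 1, 1, 0, 1; 1, 1, 1, 0]
  | _ + 5 => 1

theorem Code.mat_vec (g : ℕ) (x : V4) : C.mat g *ᵥ C.vec4 x = C.vec4 (mv g x) := by
  obtain ⟨a, b, c, d⟩ := x
  match g with
  | 0 => funext i; fin_cases i <;> simp [Code.mat, mv, Code.vec4, vecHead, vecTail]
  | 1 => funext i; fin_cases i <;> simp [Code.mat, mv, Code.vec4, vecHead, vecTail]
  | 2 => funext i; fin_cases i <;> simp [Code.mat, mv, Code.vec4, vecHead, vecTail]
  | 3 => funext i; fin_cases i <;> simp [Code.mat, mv, Code.vec4, C.mul, vecHead, vecTail, mul_comm]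
  | 4 =>
    funext i
    fin_cases i <;> simp [Code.mat, mv, Code.vec4, C.add, vecHead, vecTail] <;> ring
  | _ + 5 => simp [Code.mat, mv]

theorem Code.mat_iso (hF : Fintype.card F = 2 ^ 2) (g : ℕ) : IsIso 2 (C.mat g) := by
  have h2 := two_zero hF
  have h22 : C.dec 2 ^ 3 = 1 := by
    rw [← C.one, show C.dec 2 ^ 3 = C.dec 2 * (C.dec 2 * C.dec 2) by ring, ← C.mul, ← C.mul]
    rfl
  have h33 : C.dec 3 ^ 3 = 1 := by
    rw [← C.one, show C.dec 3 ^ 3 = C.dec 3 * (C.dec 3 * C.dec 3) by ring, ← C.mul, ← C.mul]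
    rfl
  intro u v
  match g with
  | 0 => simp [Code.mat, hermForm, mulVec, dotProduct, Fin.sum_univ_four]; ring
  | 1 => simp [Code.mat, hermForm, mulVec, dotProduct, Fin.sum_univ_four]; ring
  | 2 => simp [Code.mat, hermForm, mulVec, dotProduct, Fin.sum_univ_four]; ring
  | 3 =>
    simp [Code.mat, hermForm, mulVec, dotProduct, Fin.sum_univ_four]
    linear_combination (u 1 * v 1 ^ 2) * h33 + (u 0 * v 0 ^ 2) * h22
  | 4 =>
    simp [Code.mat, hermForm, mulVec, dotProduct, Fin.sum_univ_four]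
    ring_nf
    have h4 : (4 : F) = 0 := by linear_combination 2 * h2
    have h3 : (3 : F) = 1 := by linear_combination h2
    simp [h4, h3, h2]
  | _ + 5 => simp [Code.mat]

theorem Code.vec4_surj (v : Fin 4 → F) : ∃ x, C.vec4 x = v := by
  choose r hr using C.surj
  exact ⟨(r (v 0), r (v 1), r (v 2), r (v 3)), funext fun i => by
    fin_cases i <;> simp [Code.vec4, hr]⟩

theorem Code.vec4_inj {x y : V4} (h : C.vec4 x = C.vec4 y) : x = y := by
  obtain ⟨a, b, c, d⟩ := x
  obtain ⟨a', b', c', d'⟩ := y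
  have h0 := congrFun h 0
  have h1 := congrFun h 1
  have h2 := congrFun h 2
  have h3 := congrFun h 3
  simp only [Code.vec4, cons_val] at h0 h1 h2 h3
  rw [C.inj h0, C.inj h1, C.inj h2, C.inj h3]

theorem Code.vec4_single (i : Fin 4) : ∃ x ∈ units4, C.vec4 x = Pi.single i 1 := by
  fin_cases i
  · exact ⟨(1, 0, 0, 0), by simp [units4], funext fun j => by
      fin_cases j <;> simp [Code.vec4, C.zero, C.one]⟩
  · exact ⟨(0, 1, 0, 0), by simp [units4], funext fun j => by
      fin_cases j <;> simp [Code.vec4, C.zero, C.one]⟩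
  · exact ⟨(0, 0, 1, 0), by simp [units4], funext fun j => by
      fin_cases j <;> simp [Code.vec4, C.zero, C.one]⟩
  · exact ⟨(0, 0, 0, 1), by simp [units4], funext fun j => by
      fin_cases j <;> simp [Code.vec4, C.zero, C.one]⟩

theorem Code.mat_sq (g : ℕ) : C.mat g * C.mat g = 1 := by
  refine Matrix.ext_of_mulVec_single fun i => ?_
  obtain ⟨x, -, hx⟩ := C.vec4_single i
  rw [one_mulVec, ← hx, ← mulVec_mulVec, C.mat_vec, C.mat_vec]
  congr 1
  by_cases h : g < 5
  · exact mv_invol g h x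
  · obtain ⟨k, rfl⟩ : ∃ k, g = k + 5 := ⟨g - 5, by omega⟩
    rfl

theorem Code.mat_det (hF : Fintype.card F = 2 ^ 2) (g : ℕ) : (C.mat g).det = 1 := by
  have h := congrArg Matrix.det (C.mat_sq g)
  rw [det_mul, det_one] at h
  have h0 : ((C.mat g).det - 1) * ((C.mat g).det - 1) = 0 := by
    linear_combination h - ((C.mat g).det - 1) * (two_zero hF)
  exact sub_eq_zero.1 (mul_self_eq_zero.1 h0)

/-- The five involutions of `SU₄(2)`. -/
def Code.gen4 (hF : Fintype.card F = 2 ^ 2) (g : ℕ) : SU 4 F 2 :=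
  mkSU (C.mat g) (C.mat_iso hF g) (C.mat_det hF g)

theorem card_SU_four_two (hF : Fintype.card F = 2 ^ 2) : Nat.card ↥(SU 4 F 2) = 25920 := by
  have h := H50.card_SU_mul (F := F) (n := 4) (q := 2) hF (by norm_num)
  rw [H50.card_GU hF] at h
  norm_num [Finset.prod_range_succ, -Nat.card_eq_fintype_card, parity_simps] at h
  omega

end H40.SUTwoQ
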