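import Cfsg.Agent.H40.SUTwoQPerm

/-!
Lifts of quad windows of `SU_n(2)` into a group with permutations and one quad.
-/

set_option autoImplicit false
set_option linter.unusedSectionVars false

namespace H40.SUTwoQ

open Matrix Cfsg H50 H37 H69.SUW

universe u v

variable {F : Type u} [Field F] [Fintype F] {n : ℕ}

/-- The first `m` coordinates. -/
def seg (n m : ℕ) : Finset (Fin n) := Finset.univ.filter fun i => i.val < m

/-- Coordinates `3` and `4`. -/
def pairFar (n : ℕ) : Finset (Fin n) := Finset.univ.filter fun i => 3 ≤ i.val ∧ i.val < 5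

/-- Coordinates `3`, `4` and `5`. -/
def tripleFar (n : ℕ) : Finset (Fin n) := Finset.univ.filter fun i => 3 ≤ i.val ∧ i.val < 6

theorem mem_seg {m : ℕ} {i : Fin n} : i ∈ seg n m ↔ i.val < m := by simp [seg]

theorem seg_mono {m m' : ℕ} (h : m ≤ m') : seg n m ⊆ seg n m' := fun i => by
  simp only [mem_seg]; omega

theorem card_seg {m : ℕ} (h : m ≤ n) : (seg n m).card = m := by
  rw [show seg n m = Finset.univ.map (Fin.castLEEmb h) by
    ext i
    simp only [mem_seg, Finset.mem_map, Finset.mem_univ, true_and]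
    exact ⟨fun hi => ⟨⟨i, hi⟩, rfl⟩, by rintro ⟨a, rfl⟩; exact a.isLt⟩]
  simp

theorem seg_insert {m : ℕ} (h : m < n) : insert (⟨m, h⟩ : Fin n) (seg n m) = seg n (m + 1) := by
  ext i
  simp only [Finset.mem_insert, mem_seg, Fin.ext_iff]
  omega

/-- The data of a quad and the permutations in an abstract group. -/
structure Frame (F : Type u) [Field F] [Fintype F] (n : ℕ) (G : Type v) [Group G] where
  hF : Fintype.card F = 2 ^ 2
  hn : 4 ≤ n
  σ : Equiv.Perm (Fin n) →* G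
  a : Win F 2 (seg n 4) →* G
  hS : ∀ p, (∀ i, i ∉ seg n 4 → p i = i) → ∀ h : Pm hF p ∈ Win F 2 (seg n 4),
    a ⟨Pm hF p, h⟩ = σ p
  hT3 : ∀ p, (∀ i ∈ seg n 3, p i = i) → ∀ x : Win F 2 (seg n 4), x.1 ∈ Win F 2 (seg n 3) →
    Commute (σ p) (a x)

variable {G : Type v} [Group G] (D : Frame F n G)

namespace Frame

/-- `z` lifts the quad element `g`. -/
def Lifts (g : SU n F 2) (z : G) : Prop :=
  ∃ (p : Equiv.Perm (Fin n)) (x : Win F 2 (seg n 4)),
    g = cj D.hF p x.1 ∧ z = D.σ p * D.a x * (D.σ p)⁻¹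

theorem lifts_conj {g : SU n F 2} {z : G} (h : D.Lifts g z) (r : Equiv.Perm (Fin n)) :
    D.Lifts (cj D.hF r g) (D.σ r * z * (D.σ r)⁻¹) := by
  obtain ⟨p, x, rfl, rfl⟩ := h
  exact ⟨r * p, x, (cj_mul D.hF r p x.1).symm, by rw [map_mul]; group⟩

theorem lifts_self (x : Win F 2 (seg n 4)) : D.Lifts x.1 (D.a x) :=
  ⟨1, x, (cj_one D.hF x.1).symm, by simp⟩

/-- An element fixing the quad pointwise commutes with it. -/
theorem commute_out {r : Equiv.Perm (Fin n)} (hr : ∀ i ∈ seg n 4, r i = i)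
    (x : Win F 2 (seg n 4)) : Commute (D.σ r) (D.a x) := by
  have h4 : 4 ≤ n := D.hn
  set i₀ : Fin n := ⟨0, by omega⟩
  set i₁ : Fin n := ⟨1, by omega⟩
  set i₂ : Fin n := ⟨2, by omega⟩
  set i₃ : Fin n := ⟨3, by omega⟩
  let H : Subgroup (SU n F 2) :=
    ((Subgroup.centralizer {D.σ r}).comap D.a).map (Win F 2 (seg n 4)).subtype
  have h3 : ∀ i ∈ seg n 3, r i = i := fun i hi => hr i (seg_mono (by omega) hi)
  have hmem : ∀ g (hg : g ∈ Win F 2 (seg n 4)), Commute (D.σ r) (D.a ⟨g, hg⟩) → g ∈ H :=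
    fun g hg hc => ⟨⟨g, hg⟩, Subgroup.mem_centralizer_singleton_iff.2 hc.eq.symm, rfl⟩
  have htri : Win F 2 (seg n 3) ≤ H := fun g hg =>
    hmem g (win_mono (seg_mono (by omega)) hg) (D.hT3 r h3 _ hg)
  obtain ⟨τ, hτ, hτm⟩ := exists_perm_in (S := seg n 4) (A := {i₀, i₁}) (B := {i₂, i₃})
    (by simp [Finset.subset_iff, mem_seg, i₀, i₁]) (by simp [Finset.subset_iff, mem_seg, i₂, i₃])
    (by rw [Finset.card_pair (by simp [i₀, i₁]), Finset.card_pair (by simp [i₂, i₃])])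
  have hpair : Win F 2 {i₂, i₃} ≤ H := by
    intro g hg
    have hτ4 : Pm D.hF τ ∈ Win F 2 (seg n 4) := Pm_mem D.hF hτ
    have hy : cj D.hF τ⁻¹ g ∈ Win F 2 {i₀, i₁} := cj_mem_symm D.hF τ (by rw [hτm]; exact hg)
    have hy3 : cj D.hF τ⁻¹ g ∈ Win F 2 (seg n 3) :=
      win_mono (by simp [Finset.subset_iff, mem_seg, i₀, i₁]) hy
    have hy4 := win_mono (seg_mono (n := n) (show 3 ≤ 4 by omega)) hy3
    have hg4 : g ∈ Win F 2 (seg n 4) :=
      win_mono (by simp [Finset.subset_iff, mem_seg, i₂, i₃]) hg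
    refine hmem g hg4 ?_
    have hcτ : Commute (D.σ r) (D.σ τ) := by
      refine (Equiv.Perm.Disjoint.commute fun i => ?_).map D.σ
      by_cases hi : i ∈ seg n 4
      · exact Or.inl (hr i hi)
      · exact Or.inr (hτ i hi)
    have hsplit : (⟨g, hg4⟩ : Win F 2 (seg n 4)) =
        ⟨Pm D.hF τ, hτ4⟩ * ⟨_, hy4⟩ * (⟨Pm D.hF τ, hτ4⟩)⁻¹ := Subtype.ext (by
      show g = Pm D.hF τ * cj D.hF τ⁻¹ g * (Pm D.hF τ)⁻¹
      rw [← cj_apply, ← cj_mul, mul_inv_cancel, cj_one])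
    rw [hsplit, map_mul, map_mul, map_inv, D.hS τ hτ hτ4]
    exact (hcτ.mul_right (D.hT3 r h3 ⟨_, hy4⟩ hy3)).mul_right hcτ.inv_right
  have hgen : Win F 2 (seg n 4) ≤ H := by
    have e4 : seg n 4 = {i₀, i₁, i₂, i₃} := by
      ext i; simp [mem_seg, Fin.ext_iff, i₀, i₁, i₂, i₃]; omega
    have e3 : seg n 3 = {i₀, i₁, i₂} := by
      ext i; simp [mem_seg, Fin.ext_iff, i₀, i₁, i₂]; omega
    rw [e4]
    refine (gen_four D.hF (i₁ := i₀) (i₂ := i₁) (i₃ := i₂) (j := i₃) ?_ ?_ ?_ ?_ ?_ ?_).trans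
      (sup_le ?_ hpair)
    iterate 6 simp [Fin.ext_iff, i₀, i₁, i₂, i₃]
    rw [← e3]; exact htri
  obtain ⟨y, hy, e⟩ := hgen x.2
  rw [← show y = x from Subtype.ext e]
  exact (Subgroup.mem_centralizer_singleton_iff.1 hy).symm

/-- A permutation stabilising `seg n k` acts on a quad element of that window as its matrix. -/
theorem move {k : ℕ} (hk : k = 3 ∨ k = 4) {r : Equiv.Perm (Fin n)}
    (hr : (seg n k).map r.toEmbedding = seg n k) (x y : Win F 2 (seg n 4))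
    (hx : x.1 ∈ Win F 2 (seg n k)) (e : y.1 = cj D.hF r x.1) :
    D.σ r * D.a x * (D.σ r)⁻¹ = D.a y := by
  obtain ⟨r₁, r₂, rfl, h1, h2⟩ := perm_split hr
  have hc : Commute (D.σ r₂) (D.a x) := by
    rcases hk with rfl | rfl
    · exact D.hT3 r₂ h2 x hx
    · exact D.commute_out h2 x
  have hr1 : ∀ i, i ∉ seg n 4 → r₁ i = i := fun i hi =>
    h1 i fun h => hi (seg_mono (by omega) h)
  have hm : Pm D.hF r₁ ∈ Win F 2 (seg n 4) := Pm_mem D.hF hr1
  have hcm : Commute (Pm D.hF r₂) x.1 :=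
    win_commute D.hF (S := Finset.univ \ seg n k) (T := seg n k)
      (Pm_mem D.hF fun i hi => h2 i (by simpa using hi)) hx Finset.sdiff_disjoint
  have ey : y = ⟨Pm D.hF r₁, hm⟩ * x * (⟨Pm D.hF r₁, hm⟩)⁻¹ := Subtype.ext (by
    rw [e, cj_mul, cj_apply D.hF r₂, hcm.eq, mul_inv_cancel_right]
    rfl)
  rw [ey, map_mul D.a, map_mul D.a, map_inv D.a, D.hS r₁ hr1 hm, map_mul, _root_.mul_inv_rev]
  calc D.σ r₁ * D.σ r₂ * D.a x * ((D.σ r₂)⁻¹ * (D.σ r₁)⁻¹)
      = D.σ r₁ * (D.σ r₂ * D.a x * (D.σ r₂)⁻¹) * (D.σ r₁)⁻¹ := by group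
    _ = _ := by rw [hc.eq, mul_inv_cancel_right]

theorem lifts_same {k : ℕ} (hk : k = 3 ∨ k = 4) {p p' : Equiv.Perm (Fin n)}
    (hpp : (seg n k).map p.toEmbedding = (seg n k).map p'.toEmbedding)
    (x x' : Win F 2 (seg n 4)) (hx : x.1 ∈ Win F 2 (seg n k))
    (e : cj D.hF p x.1 = cj D.hF p' x'.1) :
    D.σ p * D.a x * (D.σ p)⁻¹ = D.σ p' * D.a x' * (D.σ p')⁻¹ := by
  have hr : (seg n k).map (p'⁻¹ * p).toEmbedding = seg n k := by
    rw [show (p'⁻¹ * p).toEmbedding = p.toEmbedding.trans (p'⁻¹).toEmbedding from rfl,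
      ← Finset.map_map, hpp, Finset.map_map,
      show p'.toEmbedding.trans (p'⁻¹).toEmbedding = Function.Embedding.refl _ from
        Function.Embedding.ext fun i => p'.symm_apply_apply i, Finset.map_refl]
  rw [← D.move hk hr x x' hx (by rw [cj_mul, e, ← cj_mul, inv_mul_cancel, cj_one]),
    map_mul, map_inv]
  group

/-- The missing coordinate of a triple can be rotated to the last place. -/
theorem lifts_triple {Q : Finset (Fin n)} {p : Equiv.Perm (Fin n)}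
    (hp : (seg n 4).map p.toEmbedding = Q) (x : Win F 2 (seg n 4)) {R : Finset (Fin n)}
    (hRQ : R ⊆ Q) (hR : R.card = 3) (hg : cj D.hF p x.1 ∈ Win F 2 R) :
    ∃ (p' : Equiv.Perm (Fin n)) (x' : Win F 2 (seg n 4)), x'.1 ∈ Win F 2 (seg n 3) ∧
      (seg n 3).map p'.toEmbedding = R ∧ cj D.hF p' x'.1 = cj D.hF p x.1 ∧
      D.σ p' * D.a x' * (D.σ p')⁻¹ = D.σ p * D.a x * (D.σ p)⁻¹ := by
  have h4 := D.hn
  obtain ⟨r, hr, hrm⟩ := exists_perm_in (S := seg n 4) (A := seg n 3)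
    (B := R.map p.symm.toEmbedding) (seg_mono (by omega)) (by
      intro i hi
      obtain ⟨j, hj, rfl⟩ := Finset.mem_map.1 hi
      have := hRQ hj
      rw [← hp, Finset.mem_map_equiv] at this
      exact this)
    (by rw [card_seg (by omega), Finset.card_map, hR])
  have hR' : (seg n 3).map (p * r).toEmbedding = R := by
    rw [show (p * r).toEmbedding = r.toEmbedding.trans p.toEmbedding from rfl, ← Finset.map_map,
      hrm, Finset.map_map,
      show p.symm.toEmbedding.trans p.toEmbedding = Function.Embedding.refl _ from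
        Function.Embedding.ext fun i => p.apply_symm_apply i, Finset.map_refl]
  have hm : Pm D.hF r ∈ Win F 2 (seg n 4) := Pm_mem D.hF hr
  set x' : Win F 2 (seg n 4) := (⟨Pm D.hF r, hm⟩)⁻¹ * x * ⟨Pm D.hF r, hm⟩ with hx'def
  have hcr : cj D.hF r x'.1 = x.1 := by
    rw [cj_apply, hx'def]; simp [mul_assoc]
  have he : cj D.hF (p * r) x'.1 = cj D.hF p x.1 := by rw [cj_mul, hcr]
  refine ⟨p * r, x', ?_, hR', he, ?_⟩
  · have h := cj_mem_symm D.hF (p * r) (S := seg n 3) (g := cj D.hF (p * r) x'.1)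
      (by rw [hR', he]; exact hg)
    rwa [← cj_mul, inv_mul_cancel, cj_one] at h
  · rw [hx'def, map_mul D.a, map_mul D.a, map_inv D.a, D.hS r hr hm, map_mul]
    group

theorem lifts_rep {Q : Finset (Fin n)} (hQ : Q.card = 4) {g : SU n F 2} (hg : g ∈ Win F 2 Q) :
    ∃ (p : Equiv.Perm (Fin n)) (x : Win F 2 (seg n 4)),
      (seg n 4).map p.toEmbedding = Q ∧ cj D.hF p x.1 = g := by
  have h4 := D.hn
  obtain ⟨p, hp⟩ := exists_perm_map (show (seg n 4).card = Q.card by rw [card_seg h4, hQ])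
  exact ⟨p, ⟨_, cj_mem_symm D.hF p (by rw [hp]; exact hg)⟩, hp,
    by rw [← cj_mul, mul_inv_cancel, cj_one]⟩

theorem unique_big {p p' : Equiv.Perm (Fin n)} (x x' : Win F 2 (seg n 4))
    (e : cj D.hF p x.1 = cj D.hF p' x'.1)
    (hc : 3 ≤ ((seg n 4).map p.toEmbedding ∩ (seg n 4).map p'.toEmbedding).card) :
    D.σ p * D.a x * (D.σ p)⁻¹ = D.σ p' * D.a x' * (D.σ p')⁻¹ := by
  set Q := (seg n 4).map p.toEmbedding
  set Q' := (seg n 4).map p'.toEmbedding
  have hQ : Q.card = 4 := by rw [Finset.card_map, card_seg D.hn]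
  have hQ' : Q'.card = 4 := by rw [Finset.card_map, card_seg D.hn]
  have h1 : cj D.hF p x.1 ∈ Win F 2 (Q ∩ Q') :=
    win_inter (cj_mem D.hF p x.2) (e ▸ cj_mem D.hF p' x'.2)
  by_cases h4 : 4 ≤ (Q ∩ Q').card
  · have e1 := Finset.eq_of_subset_of_card_le (Finset.inter_subset_left (s₁ := Q) (s₂ := Q'))
      (by omega)
    have e2 := Finset.eq_of_subset_of_card_le (Finset.inter_subset_right (s₁ := Q) (s₂ := Q'))
      (by omega)
    exact D.lifts_same (Or.inr rfl) (e1.symm.trans e2) x x' x.2 e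
  obtain ⟨s, y, hy, hs, ey, hz⟩ := D.lifts_triple rfl x Finset.inter_subset_left
    (show (Q ∩ Q').card = 3 by omega) h1
  obtain ⟨s', y', hy', hs', ey', hz'⟩ := D.lifts_triple rfl x' Finset.inter_subset_right
    (show (Q ∩ Q').card = 3 by omega) (e ▸ h1)
  rw [← hz, ← hz']
  exact D.lifts_same (Or.inl rfl) (hs.trans hs'.symm) y y' hy (by rw [ey, ey', e])

/-- Lifts are unique. -/
theorem lifts_unique {g : SU n F 2} {z z' : G} (h : D.Lifts g z) (h' : D.Lifts g z') : z = z' := by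
  classical
  obtain ⟨p, x, e, rfl⟩ := h
  obtain ⟨p', x', e', rfl⟩ := h'
  set Q := (seg n 4).map p.toEmbedding
  set Q' := (seg n 4).map p'.toEmbedding
  have hQ : Q.card = 4 := by rw [Finset.card_map, card_seg D.hn]
  have hQ' : Q'.card = 4 := by rw [Finset.card_map, card_seg D.hn]
  by_cases h3 : 3 ≤ (Q ∩ Q').card
  · exact D.unique_big x x' (e.symm.trans e') h3
  have hg : g ∈ Win F 2 (Q ∩ Q') := win_inter (e ▸ cj_mem D.hF p x.2) (e' ▸ cj_mem D.hF p' x'.2)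
  by_cases h2 : (Q ∩ Q').card = 2
  · obtain ⟨a, ha⟩ : (Q \ Q').Nonempty := by
      rw [← Finset.card_pos]; rw [Finset.card_sdiff, Finset.inter_comm]; omega
    obtain ⟨b, hb⟩ : (Q' \ Q).Nonempty := by
      rw [← Finset.card_pos]; rw [Finset.card_sdiff]; omega
    rw [Finset.mem_sdiff] at ha hb
    set Q'' := insert a (insert b (Q ∩ Q'))
    have hQ'' : Q''.card = 4 := by
      rw [Finset.card_insert_of_notMem, Finset.card_insert_of_notMem, h2]
      · simp [hb.2]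
      · simp only [Finset.mem_insert, Finset.mem_inter, not_or, not_and]
        exact ⟨fun h => hb.2 (h ▸ ha.1), fun _ => ha.2⟩
    obtain ⟨s, y, hs, ey⟩ := D.lifts_rep hQ'' (win_mono (by
      intro i hi; simp [Q'', Finset.mem_inter.1 hi]) hg : g ∈ Win F 2 Q'')
    rw [D.unique_big x y (e.symm.trans ey.symm) ?_,
      D.unique_big y x' (ey.trans e') ?_]
    · rw [hs]
      refine le_trans ?_ (Finset.card_le_card (show insert b (Q ∩ Q') ⊆ Q'' ∩ Q' from ?_))
      · rw [Finset.card_insert_of_notMem (by simp [hb.2]), h2]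
      · intro i hi
        simp only [Finset.mem_insert, Finset.mem_inter, Q''] at hi ⊢
        rcases hi with rfl | hi
        · exact ⟨Or.inr (Or.inl rfl), hb.1⟩
        · exact ⟨Or.inr (Or.inr hi), hi.2⟩
    · rw [hs]
      refine le_trans ?_ (Finset.card_le_card (show insert a (Q ∩ Q') ⊆ Q ∩ Q'' from ?_))
      · rw [Finset.card_insert_of_notMem (by simp [ha.2]), h2]
      · intro i hi
        simp only [Finset.mem_insert, Finset.mem_inter, Q''] at hi ⊢
        rcases hi with rfl | hi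
        · exact ⟨ha.1, Or.inl rfl⟩
        · exact ⟨hi.1, Or.inr (Or.inr hi)⟩
  have hg1 : g = 1 := by
    by_cases h0 : (Q ∩ Q').card = 0
    · rw [Finset.card_eq_zero] at h0
      exact eq_one_of_single D.hF (j := ⟨0, by have := D.hn; omega⟩)
        (win_mono (by rw [h0]; exact Finset.empty_subset _) hg)
    · obtain ⟨j, hj⟩ := Finset.card_eq_one.1 (show (Q ∩ Q').card = 1 by omega)
      rw [hj] at hg
      exact eq_one_of_single D.hF hg
  have hx : x = 1 := Subtype.ext (cj_injective D.hF p (by rw [← e, hg1]; simp))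
  have hx' : x' = 1 := Subtype.ext (cj_injective D.hF p' (by rw [← e', hg1]; simp))
  simp [hx, hx']

theorem exists_lift {Q : Finset (Fin n)} (hQ : Q.card = 4) {g : SU n F 2} (hg : g ∈ Win F 2 Q) :
    ∃ z, D.Lifts g z := by
  obtain ⟨p, x, -, e⟩ := D.lifts_rep hQ hg
  exact ⟨_, p, x, e.symm, rfl⟩

theorem lifts_mul {Q : Finset (Fin n)} (hQ : Q.card = 4) {g g' : SU n F 2} (hg : g ∈ Win F 2 Q)
    (hg' : g' ∈ Win F 2 Q) {z z' : G} (h : D.Lifts g z) (h' : D.Lifts g' z') :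
    D.Lifts (g * g') (z * z') := by
  obtain ⟨p, x, hp, e⟩ := D.lifts_rep hQ hg
  have hx' : cj D.hF p⁻¹ g' ∈ Win F 2 (seg n 4) := cj_mem_symm D.hF p (by rw [hp]; exact hg')
  rw [D.lifts_unique h ⟨p, x, e.symm, rfl⟩,
    D.lifts_unique h' ⟨p, ⟨_, hx'⟩, by rw [← cj_mul, mul_inv_cancel, cj_one], rfl⟩]
  refine ⟨p, x * ⟨_, hx'⟩, ?_, ?_⟩
  · rw [Subgroup.coe_mul, map_mul (cj D.hF p), e, ← cj_mul, mul_inv_cancel, cj_one]
  · rw [map_mul D.a]; group

theorem lifts_commute {Q : Finset (Fin n)} (hQ : Q.card = 4) {g g' : SU n F 2}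
    (hg : g ∈ Win F 2 Q) (hg' : g' ∈ Win F 2 Q) {z z' : G} (h : D.Lifts g z)
    (h' : D.Lifts g' z') (hc : Commute g g') : Commute z z' := by
  refine D.lifts_unique (g := g * g') (D.lifts_mul hQ hg hg' h h') ?_
  rw [hc.eq]
  exact D.lifts_mul hQ hg' hg h' h

/-- The lift of a quad window. -/
theorem exists_quadHom {Q : Finset (Fin n)} (hQ : Q.card = 4) :
    ∃ b : Win F 2 Q →* G, ∀ g : Win F 2 Q, D.Lifts g.1 (b g) := by
  choose f hf using fun g : Win F 2 Q => D.exists_lift hQ g.2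
  exact ⟨MonoidHom.mk' f fun g g' => D.lifts_unique (hf _) (D.lifts_mul hQ g.2 g'.2 (hf g) (hf g')),
    hf⟩

theorem lifts_swap {x y : Fin n} : D.Lifts (Pm D.hF (Equiv.swap x y)) (D.σ (Equiv.swap x y)) := by
  classical
  have h4 := D.hn
  by_cases hxy : x = y
  · rw [hxy, Equiv.swap_self, ← Equiv.Perm.one_def, map_one, map_one]
    refine ⟨1, 1, ?_, ?_⟩ <;> simp
  obtain ⟨p, hp⟩ := exists_perm_map (A := ({⟨0, by omega⟩, ⟨1, by omega⟩} : Finset (Fin n)))
    (B := {x, y}) (by rw [Finset.card_pair hxy, Finset.card_pair (Fin.ne_of_val_ne (by norm_num))])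
  have hs : ∀ i, i ∉ seg n 4 → Equiv.swap (p⁻¹ x) (p⁻¹ y) i = i := by
    intro i hi
    have hm : ∀ w ∈ ({x, y} : Finset (Fin n)), p⁻¹ w ∈ seg n 4 := fun w hw => by
      rw [← hp, Finset.mem_map] at hw
      obtain ⟨v, hv, rfl⟩ := hw
      simp only [Finset.mem_insert, Finset.mem_singleton] at hv
      rw [show p⁻¹ (p.toEmbedding v) = v from p.symm_apply_apply v, mem_seg]
      rcases hv with rfl | rfl <;> simp
    refine Equiv.swap_apply_of_ne_of_ne ?_ ?_ <;> intro e <;> subst e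
    · exact hi (hm x (by simp))
    · exact hi (hm y (by simp))
  have hm : Pm D.hF (Equiv.swap (p⁻¹ x) (p⁻¹ y)) ∈ Win F 2 (seg n 4) := Pm_mem D.hF hs
  have he : p * Equiv.swap (p⁻¹ x) (p⁻¹ y) * p⁻¹ = Equiv.swap x y := by
    rw [← Equiv.swap_apply_apply]
    simp
  refine ⟨p, ⟨_, hm⟩, ?_, ?_⟩
  · rw [cj_apply, ← map_inv, ← map_mul, ← map_mul, he]
  · rw [D.hS _ hs hm, ← map_inv, ← map_mul, ← map_mul, he]

end Frame

end H40.SUTwoQ
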