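import Cfsg.Agent.H40.SUTwoQCode
import Cfsg.Agent.H40.SUTwoQLift
import Cfsg.Agent.H93.Coset

/-!
The quad window of `SU_n(2)` through five involutions, and generators of its smaller windows.
-/

set_option autoImplicit false
set_option linter.unusedSectionVars false

namespace H40.SUTwoQ

open Matrix Cfsg H50 H37 H69.SUW H93.Coset

universe u

variable {F : Type u} [Field F] [Fintype F] {n : ℕ}

/-- The first four coordinates and the rest. -/
def splitIdx (hn : 4 ≤ n) : Fin 4 ⊕ Fin (n - 4) ≃ Fin n :=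
  finSumFinEquiv.trans (finCongr (by omega))

variable (hF : Fintype.card F = 2 ^ 2) (hn : 4 ≤ n)

theorem splitIdx_inl (i : Fin 4) : ((splitIdx hn (Sum.inl i) : Fin n) : ℕ) = i := by
  simp [splitIdx]

theorem splitIdx_inr (i : Fin (n - 4)) : ((splitIdx hn (Sum.inr i) : Fin n) : ℕ) = 4 + i := by
  simp [splitIdx]

/-- A vector on four coordinates, padded with zeros. -/
def pad (v : Fin 4 → F) : Fin n → F := Sum.elim v 0 ∘ (splitIdx hn).symm

/-- A block matrix. -/
def embMat (A : Matrix (Fin 4) (Fin 4) F) : Matrix (Fin n) (Fin n) F :=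
  Matrix.reindex (splitIdx hn) (splitIdx hn) (fromBlocks A 0 0 1)

theorem embMat_mulVec (A : Matrix (Fin 4) (Fin 4) F) (v : Fin n → F) :
    embMat hn A *ᵥ v =
      Sum.elim (A *ᵥ fun i => v (splitIdx hn (Sum.inl i))) (fun i => v (splitIdx hn (Sum.inr i))) ∘
        (splitIdx hn).symm := by
  rw [embMat, reindex_apply, submatrix_mulVec_equiv, fromBlocks_mulVec]
  simp [Function.comp_def]

theorem h_split (u v : Fin n → F) :
    hermForm n F 2 u v =
      hermForm 4 F 2 (fun i => u (splitIdx hn (Sum.inl i))) (fun i => v (splitIdx hn (Sum.inl i))) +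
        ∑ i, u (splitIdx hn (Sum.inr i)) * v (splitIdx hn (Sum.inr i)) ^ 2 := by
  rw [hermForm, ← Equiv.sum_comp (splitIdx hn), Fintype.sum_sum_type]
  rfl

/-- The embedding of `SU₄(2)` on the first four coordinates. -/
def emb : SU 4 F 2 →* SU n F 2 where
  toFun g := mkSU (embMat hn (suMat g))
    (fun u v => by
      rw [h_split hn, h_split hn u v, embMat_mulVec, embMat_mulVec]
      simp only [Function.comp_def, Equiv.symm_apply_apply, Sum.elim_inl, Sum.elim_inr]
      rw [suMat_h])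
    (by rw [embMat, det_reindex_self, det_fromBlocks_zero₂₁, g.1.2, det_one, one_mul])
  map_one' := SU_ext (by
    show embMat hn (1 : Matrix (Fin 4) (Fin 4) F) = 1
    rw [embMat, fromBlocks_one, reindex_apply, submatrix_one_equiv])
  map_mul' g g' := SU_ext (by
    show embMat hn (suMat (g * g')) = embMat hn (suMat g) * embMat hn (suMat g')
    simp [embMat, fromBlocks_multiply, submatrix_mul_equiv, suMat_mul])

theorem emb_pad (g : SU 4 F 2) (v : Fin 4 → F) :
    suMat (emb hn g) *ᵥ pad hn v = pad hn (suMat g *ᵥ v) := by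
  show embMat hn (suMat g) *ᵥ _ = _
  rw [embMat_mulVec]
  simp only [pad, Function.comp_def, Equiv.symm_apply_apply, Sum.elim_inl, Sum.elim_inr]

theorem emb_injective : Function.Injective (emb (F := F) hn) := by
  intro g g' h
  have h1 : embMat hn (suMat g) = embMat hn (suMat g') := congrArg suMat h
  exact SU_ext (fromBlocks_inj.1 ((Matrix.reindex _ _).injective h1)).1

theorem emb_mem (g : SU 4 F 2) : emb hn g ∈ Win F 2 (seg n 4) := by
  intro i hi
  obtain ⟨s, rfl⟩ := (splitIdx hn).surjective i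
  rcases s with k | k
  · exact absurd (mem_seg.2 (by rw [splitIdx_inl]; exact k.isLt)) hi
  show embMat hn (suMat g) *ᵥ _ = _
  rw [embMat_mulVec]
  funext j
  obtain ⟨t, rfl⟩ := (splitIdx hn).surjective j
  have h0 : (fun i => (δ (splitIdx hn (Sum.inr k)) : Fin n → F) (splitIdx hn (Sum.inl i))) = 0 := by
    funext i; simp [δ, Pi.single_apply]
  simp only [Function.comp_apply, Equiv.symm_apply_apply, h0, mulVec_zero]
  rcases t with t | t <;> simp [δ, Pi.single_apply]

theorem pad_single (i : Fin 4) :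
    pad (F := F) hn (Pi.single i 1) = δ (splitIdx hn (Sum.inl i)) := by
  funext j
  obtain ⟨t, rfl⟩ := (splitIdx hn).surjective j
  rcases t with t | t <;> simp [pad, δ, Pi.single_apply]

theorem exists_pad {v : Fin n → F} (hv : Supp (seg n 4) v) : ∃ w, pad hn w = v := by
  refine ⟨fun i => v (splitIdx hn (Sum.inl i)), funext fun j => ?_⟩
  obtain ⟨t, rfl⟩ := (splitIdx hn).surjective j
  rcases t with t | t
  · simp [pad]
  · simp only [pad, Function.comp_apply, Equiv.symm_apply_apply, Sum.elim_inr, Pi.zero_apply]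
    exact (hv _ (by rw [mem_seg, splitIdx_inr]; omega)).symm

theorem pad_inl (v : Fin 4 → F) (i : Fin 4) : pad hn v (splitIdx hn (Sum.inl i)) = v i := by
  simp [pad]

theorem pad_norm (v : Fin 4 → F) :
    hermForm n F 2 (pad hn v) (pad hn v) = hermForm 4 F 2 v v := by
  rw [h_split hn]
  simp [pad, Function.comp_def]

/-! ### Words in the five involutions -/

variable (C : Code F)

/-- The five involutions in `SU_n(2)`. -/
def Code.gN (g : ℕ) : SU n F 2 := emb hn (C.gen4 hF g)

/-- The decoded vector, padded. -/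
def Code.vecN (x : V4) : Fin n → F := pad hn (C.vec4 x)

theorem Code.gN_vec (g : ℕ) (x : V4) :
    suMat (C.gN hF hn g) *ᵥ C.vecN hn x = C.vecN hn (mv g x) := by
  rw [Code.gN, Code.vecN, Code.vecN, emb_pad]
  exact congrArg _ (C.mat_vec g x)

theorem Code.ev_vec (w : List ℕ) (x : V4) :
    suMat (ev (C.gN hF hn) w) *ᵥ C.vecN hn x = C.vecN hn (run w x) := by
  induction w generalizing x with
  | nil => simp only [ev, suMat_one, one_mulVec]; rfl
  | cons g w ih =>
    rw [ev, suMat_mulVec_mul, C.gN_vec, ih]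
    rfl

theorem Code.ev_mem4 (w : List ℕ) : ev (C.gN hF hn) w ∈ Win F 2 (seg n 4) := by
  induction w with
  | nil => exact one_mem _
  | cons g w ih => exact mul_mem ih (emb_mem hn _)

/-- The coordinate with the given number. -/
def ix (k : Fin 4) : Fin n := Fin.castLE hn k

theorem ix_eq (k : Fin 4) : ix hn k = splitIdx hn (Sum.inl k) :=
  Fin.ext (by rw [splitIdx_inl]; rfl)

/-- The code of a unit vector. -/
def unitC : Fin 4 → V4 := ![(1, 0, 0, 0), (0, 1, 0, 0), (0, 0, 1, 0), (0, 0, 0, 1)]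

theorem Code.vecN_unit (k : Fin 4) : C.vecN hn (unitC k) = (δ (ix hn k) : Fin n → F) := by
  rw [ix_eq, ← pad_single, Code.vecN]
  refine congrArg _ (funext fun j => ?_)
  fin_cases k <;> fin_cases j <;> simp [unitC, Code.vec4, C.zero, C.one]

theorem Code.ev_fix {w : List ℕ} {k : Fin 4} (h : run w (unitC k) = unitC k) :
    suMat (ev (C.gN hF hn) w) *ᵥ δ (ix hn k) = δ (ix hn k) := by
  rw [← C.vecN_unit hn, C.ev_vec, h]

theorem Code.ev_mem {w : List ℕ} {m : ℕ}
    (h : ∀ k : Fin 4, m ≤ k.val → run w (unitC k) = unitC k) :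
    ev (C.gN hF hn) w ∈ Win F 2 (seg n m) := by
  intro i hi
  rw [mem_seg] at hi
  by_cases h4 : i.val < 4
  · exact C.ev_fix hF hn (k := ⟨i.val, h4⟩) (h _ (by show m ≤ i.val; omega))
  · exact C.ev_mem4 hF hn w i (by rw [mem_seg]; exact h4)

theorem Code.ev_eq {w w' : List ℕ} (h : ∀ k, run w (unitC k) = run w' (unitC k)) :
    ev (C.gN hF hn) w = ev (C.gN hF hn) w' := by
  refine SU_ext (Matrix.ext_of_mulVec_single fun i => ?_)
  by_cases h4 : i.val < 4
  · show suMat _ *ᵥ δ (ix hn ⟨i.val, h4⟩) = suMat _ *ᵥ δ (ix hn ⟨i.val, h4⟩)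
    rw [← C.vecN_unit hn, C.ev_vec, C.ev_vec, h]
  · exact (C.ev_mem4 hF hn w i (by rwa [mem_seg])).trans
      (C.ev_mem4 hF hn w' i (by rwa [mem_seg])).symm

theorem Code.ev_swap {k : Fin 4} {l : Fin 4} {g : ℕ}
    (h : ∀ j, run [g] (unitC j) = unitC (Equiv.swap k l j)) :
    ev (C.gN hF hn) [g] = Pm hF (Equiv.swap (ix hn k) (ix hn l)) := by
  refine SU_ext (Matrix.ext_of_mulVec_single fun i => ?_)
  show suMat _ *ᵥ δ i = suMat _ *ᵥ δ i
  rw [Pm_single]
  by_cases h4 : i.val < 4
  · obtain ⟨j, rfl⟩ : ∃ j, ix hn j = i := ⟨⟨i.val, h4⟩, rfl⟩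
    rw [← C.vecN_unit hn, C.ev_vec, h, C.vecN_unit]
    exact congrArg δ ((Fin.castLE_injective hn).map_swap k l j)
  · rw [C.ev_mem4 hF hn [g] i (by rwa [mem_seg]), Equiv.swap_apply_of_ne_of_ne] <;>
      (intro e; apply h4; rw [e]; simp [ix])

/-- The norm on codes. -/
def norm4 (x : V4) : Fin 4 := 
  let f := fun a => H51.SU32.mu4 a (H51.SU32.mu4 a a)
  H51.SU32.ad4 (H51.SU32.ad4 (f x.1) (f x.2.1)) (H51.SU32.ad4 (f x.2.2.1) (f x.2.2.2))

end H40.SUTwoQ
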