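import Cfsg.Agent.H69.SUGen

/-!
Permutation matrices inside `SU_n(2)` and the windows they permute.
-/

set_option autoImplicit false
set_option linter.unusedSectionVars false

namespace H40.SUTwoQ

open Matrix Cfsg H50 H37 H69.SUW

universe u

variable {F : Type u} [Field F] [Fintype F] {n : ℕ} (hF : Fintype.card F = 2 ^ 2)

include hF in
theorem two_zero : (2 : F) = 0 := by
  have hc := FiniteField.cast_card_eq_zero F
  rw [hF] at hc
  push_cast at hc
  have h : (2 : F) * 2 = 0 := by linear_combination hc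
  exact mul_self_eq_zero.1 h

/-- The matrix of a permutation. -/
def permMatF (p : Equiv.Perm (Fin n)) : Matrix (Fin n) (Fin n) F :=
  (1 : Matrix (Fin n) (Fin n) F).submatrix p.symm id

theorem permMatF_mulVec (p : Equiv.Perm (Fin n)) (v : Fin n → F) (i : Fin n) :
    (permMatF p *ᵥ v) i = v (p.symm i) := by
  simp [permMatF, mulVec, dotProduct, Matrix.one_apply]

theorem permMatF_isIso (p : Equiv.Perm (Fin n)) : IsIso 2 (permMatF (F := F) p) := by
  intro u v
  simp only [hermForm, permMatF_mulVec]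
  exact Equiv.sum_comp p.symm (fun i => u i * v i ^ 2)

include hF in
theorem permMatF_det (p : Equiv.Perm (Fin n)) : (permMatF (F := F) p).det = 1 := by
  rw [permMatF, det_permute, det_one, mul_one]
  rcases Int.units_eq_one_or (Equiv.Perm.sign p.symm) with h | h <;> rw [h]
  · simp
  · simp only [Units.val_neg, Units.val_one, Int.cast_neg, Int.cast_one]
    linear_combination -(two_zero hF)

/-- Permutation matrices as a homomorphism into `SU_n(2)`. -/
def Pm : Equiv.Perm (Fin n) →* SU n F 2 where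
  toFun p := mkSU (permMatF p) (permMatF_isIso p) (permMatF_det hF p)
  map_one' := suMat_ext fun v => funext fun i => by
    show (permMatF 1 *ᵥ v) i = _
    rw [permMatF_mulVec, suMat_one, one_mulVec]
    rfl
  map_mul' p p' := suMat_ext fun v => funext fun i => by
    rw [suMat_mulVec_mul]
    show (permMatF (p * p') *ᵥ v) i = (permMatF p *ᵥ (permMatF p' *ᵥ v)) i
    rw [permMatF_mulVec, permMatF_mulVec, permMatF_mulVec]
    rfl

/-- Conjugation by a permutation matrix. -/
def cj (p : Equiv.Perm (Fin n)) : SU n F 2 →* SU n F 2 := (MulAut.conj (Pm hF p)).toMonoidHom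

theorem cj_apply (p : Equiv.Perm (Fin n)) (g : SU n F 2) :
    cj hF p g = Pm hF p * g * (Pm hF p)⁻¹ := rfl

theorem cj_mul (p p' : Equiv.Perm (Fin n)) (g : SU n F 2) :
    cj hF (p * p') g = cj hF p (cj hF p' g) := by
  simp only [cj_apply, map_mul]
  group

theorem cj_one (g : SU n F 2) : cj hF (1 : Equiv.Perm (Fin n)) g = g := by
  simp [cj_apply]

theorem cj_injective (p : Equiv.Perm (Fin n)) : Function.Injective (cj hF p) :=
  (MulAut.conj (Pm hF p)).injective

theorem Pm_single (p : Equiv.Perm (Fin n)) (i : Fin n) :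
    suMat (Pm hF p) *ᵥ δ i = (δ (p i) : Fin n → F) := by
  funext k
  show (permMatF p *ᵥ δ i) k = _
  rw [permMatF_mulVec]
  simp [δ, Pi.single_apply, Equiv.symm_apply_eq]

theorem Pm_mem {S : Finset (Fin n)} {p : Equiv.Perm (Fin n)} (hp : ∀ i, i ∉ S → p i = i) :
    Pm hF p ∈ Win F 2 S := fun i hi => by rw [Pm_single, hp i hi]

theorem cj_mem {S : Finset (Fin n)} (p : Equiv.Perm (Fin n)) {g : SU n F 2}
    (hg : g ∈ Win F 2 S) : cj hF p g ∈ Win F 2 (S.map p.toEmbedding) := by
  intro i hi
  have hi' : p.symm i ∉ S := fun h => hi (by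
    rw [Finset.mem_map]; exact ⟨_, h, by simp⟩)
  rw [cj_apply, suMat_mulVec_mul, suMat_mulVec_mul, ← map_inv, Pm_single]
  rw [show (p⁻¹ : Equiv.Perm (Fin n)) i = p.symm i from rfl, hg _ hi', Pm_single]
  simp

theorem cj_mem_symm {S : Finset (Fin n)} (p : Equiv.Perm (Fin n)) {g : SU n F 2}
    (hg : g ∈ Win F 2 (S.map p.toEmbedding)) : cj hF p⁻¹ g ∈ Win F 2 S := by
  have h := cj_mem hF p⁻¹ hg
  rwa [Finset.map_map, show p.toEmbedding.trans (p⁻¹).toEmbedding = Function.Embedding.refl _ from
    Function.Embedding.ext fun i => p.symm_apply_apply i, Finset.map_refl] at h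

include hF in
/-- Windows on disjoint sets of coordinates commute. -/
theorem win_commute {S T : Finset (Fin n)} {g g' : SU n F 2} (hg : g ∈ Win F 2 S)
    (hg' : g' ∈ Win F 2 T) (h : Disjoint S T) : Commute g g' := by
  refine SU_ext (Matrix.ext_of_mulVec_single fun i => ?_)
  show suMat (g * g') *ᵥ δ i = suMat (g' * g) *ᵥ δ i
  rw [suMat_mulVec_mul, suMat_mulVec_mul]
  by_cases hi : i ∈ S
  · rw [hg' i (Finset.disjoint_left.1 h hi),
      win_fix_disjoint hF hg' (supp_image hF hg (supp_single hi)) h.symm]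
  · rw [hg i hi]
    by_cases hi' : i ∈ T
    · exact win_fix_disjoint hF hg (supp_image hF hg' (supp_single hi')) h
    · rw [hg' i hi', hg i hi]

include hF in
/-- Induction along windows with at most three coordinates. -/
theorem win_le_of_small {S : Finset (Fin n)} {H : Subgroup (SU n F 2)}
    (h : ∀ R ⊆ S, R.card ≤ 3 → Win F 2 R ≤ H) : Win F 2 S ≤ H := by
  induction S using Finset.strongInduction with
  | _ S ih =>
    by_cases hS : S.card ≤ 3
    · exact h S Finset.Subset.rfl hS
    obtain ⟨i₁, h1, i₂, h2, h12⟩ := Finset.one_lt_card.1 (show 1 < S.card by omega)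
    obtain ⟨i₃, h3, h13, h23⟩ := Finset.exists_mem_notMem_of_card_lt_card
      (show ({i₁, i₂} : Finset (Fin n)).card < S.card by rw [Finset.card_pair h12]; omega) |>
        fun ⟨x, hx, hx'⟩ => (⟨x, hx, fun e => hx' (by simp [e]), fun e => hx' (by simp [e])⟩ :
          ∃ x ∈ S, i₁ ≠ x ∧ i₂ ≠ x)
    refine (gen_big hF (by omega) h1 h2 h3 h12 h13 h23).trans (sup_le ?_ ?_)
    · exact ih _ (Finset.erase_ssubset h3) fun R hR hc =>
        h R (hR.trans (Finset.erase_subset _ _)) hc
    · exact h _ (by simp [Finset.subset_iff, h1, h2, h3]) Finset.card_le_three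

/-! ### Moving sets of coordinates -/

theorem exists_perm_map {A B : Finset (Fin n)} (h : A.card = B.card) :
    ∃ p : Equiv.Perm (Fin n), A.map p.toEmbedding = B := by
  let e : {x // x ∈ A} ≃ {x // x ∈ B} := Finset.equivOfCardEq h
  refine ⟨e.extendSubtype, Finset.eq_of_subset_of_card_le ?_ (by rw [Finset.card_map, h])⟩
  intro x hx
  obtain ⟨a, ha, rfl⟩ := Finset.mem_map.1 hx
  exact e.extendSubtype_mem a ha

theorem exists_perm_in {S A B : Finset (Fin n)} (hA : A ⊆ S) (hB : B ⊆ S) (h : A.card = B.card) :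
    ∃ p : Equiv.Perm (Fin n), (∀ i, i ∉ S → p i = i) ∧ A.map p.toEmbedding = B := by
  classical
  have hc : (A.subtype (· ∈ S)).card = (B.subtype (· ∈ S)).card := by
    rw [Finset.card_subtype, Finset.card_subtype, Finset.filter_true_of_mem fun x hx => hA hx,
      Finset.filter_true_of_mem fun x hx => hB hx, h]
  let e := Finset.equivOfCardEq hc
  refine ⟨Equiv.Perm.ofSubtype e.extendSubtype,
    fun i hi => Equiv.Perm.ofSubtype_apply_of_not_mem _ hi,
    Finset.eq_of_subset_of_card_le ?_ (by rw [Finset.card_map, h])⟩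
  intro x hx
  obtain ⟨a, ha, rfl⟩ := Finset.mem_map.1 hx
  have := e.extendSubtype_mem ⟨a, hA ha⟩ (Finset.mem_subtype.2 ha)
  rw [Finset.mem_subtype] at this
  rw [Equiv.toEmbedding_apply, Equiv.Perm.ofSubtype_apply_of_mem _ (hA ha)]
  exact this

/-- A permutation stabilising a set splits into two parts with disjoint supports. -/
theorem perm_split {A : Finset (Fin n)} {r : Equiv.Perm (Fin n)} (hr : A.map r.toEmbedding = A) :
    ∃ r₁ r₂ : Equiv.Perm (Fin n), r = r₁ * r₂ ∧ (∀ i, i ∉ A → r₁ i = i) ∧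
      ∀ i ∈ A, r₂ i = i := by
  classical
  have hiff : ∀ i, r i ∈ A ↔ i ∈ A := fun i => by
    conv_lhs => rw [← hr]
    rw [Finset.mem_map_equiv, Equiv.symm_apply_apply]
  set r₁ := Equiv.Perm.ofSubtype (r.subtypePerm hiff) with hr1
  refine ⟨r₁, r₁⁻¹ * r, (mul_inv_cancel_left _ _).symm,
    fun i hi => Equiv.Perm.ofSubtype_apply_of_not_mem _ hi, fun i hi => ?_⟩
  rw [Equiv.Perm.mul_apply, Equiv.Perm.inv_eq_iff_eq, hr1,
    Equiv.Perm.ofSubtype_apply_of_mem _ hi]
  rfl

end H40.SUTwoQ
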