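import Cfsg.Agent.H40.SUTwoQEmb
import Cfsg.Agent.H40.SUTwoQTables
import Cfsg.Agent.H93.GroupOrder

/-!
Generators of the small windows and the universal property of the quad window.
-/

set_option autoImplicit false
set_option linter.unusedSectionVars false

namespace H40.SUTwoQ

open Matrix Cfsg H50 H37 H69.SUW H93.Coset

universe u v

variable {F : Type u} [Field F] [Fintype F] {n : ℕ} (hF : Fintype.card F = 2 ^ 2) (hn : 4 ≤ n)
  (C : Code F)

/-- A non-monomial word of the first triple. -/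
def wordE : List ℕ := [3, 4, 1, 3, 2, 1, 0, 3, 4, 1, 3, 2, 1, 0, 3, 4, 1, 2]

/-- Another non-monomial word of the first triple. -/
def wordF : List ℕ := [2, 0, 1, 3, 4, 0, 1, 3, 2, 1, 0, 3, 4, 0, 3, 0]

/-- The generating words of the first triple. -/
def triLetters : List (List ℕ) := [[0], [1], wordE, wordF]

/-- A word in the generating words. -/
def flat (w : List ℕ) : List ℕ := w.flatMap fun i => triLetters.getD i []

def triWords : List (List ℕ) := [[], [1], [1, 0], [1, 0, 2], [1, 0, 2, 3], [1, 0, 2, 3, 0], [1, 0, 3], [1, 0, 3, 0], [1, 2], [1, 2, 0], [1, 2, 0, 1], [1, 2, 0, 1, 2], [1, 2, 0, 2], [1, 2, 0, 2, 3], [1, 2, 0, 3], [1, 2, 0, 3, 2], [1, 3], [1, 3, 0], [1, 3, 0, 2], [1, 3, 0, 2, 3], [1, 3, 0, 3], [2], [2, 0], [2, 0, 1], [2, 0, 1, 2], [2, 0, 1, 2, 0], [2, 0, 1, 3], [2, 0, 2], [2, 0, 2, 3], [2, 0, 3], [2, 3], [3], [3, 2], [3, 2, 0], [3, 2, 0, 2], [3, 2, 0, 3]]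

def fixWords : List (List ℕ) := [[], [0], [3, 0, 1, 3], [0, 3, 0, 1, 3], [2, 3, 0, 3, 2], [3, 0, 1, 3, 0]]

def pairWords : List (List ℕ) := [[], [0], [3], [0, 3], [3, 0], [0, 3, 0]]

/-- All code vectors. -/
def allV4 : List V4 :=
  (List.finRange 4).flatMap fun a => (List.finRange 4).flatMap fun b =>
    (List.finRange 4).flatMap fun c => (List.finRange 4).map fun d => (a, b, c, d)

theorem mem_allV4 (x : V4) : x ∈ allV4 := by
  obtain ⟨a, b, c, d⟩ := x
  simp [allV4]

theorem tri_cover : allV4.all (fun x => decide (x.2.2.2 = 0 ∧ norm4 x = 1) →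
    (triWords.any fun w => decide (run (flat w) (unitC 2) = x))) = true := by decide +kernel

theorem fix_cover : allV4.all (fun x => decide (x.2.2.1 = 0 ∧ x.2.2.2 = 0 ∧ norm4 x = 1) →
    (fixWords.any fun w => decide (run (flat w) (unitC 0) = x ∧
      run (flat w) (unitC 2) = unitC 2))) = true := by decide +kernel

theorem pair_cover : allV4.all (fun x => decide (x.2.2.1 = 0 ∧ x.2.2.2 = 0 ∧ norm4 x = 1) →
    (pairWords.any fun w => decide (run w (unitC 0) = x))) = true := by decide +kernel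

theorem pair_letters : pairWords.all (fun w => w.all fun g => g == 0 || g == 3) = true := by
  decide +kernel

theorem tri_fix : triLetters.all (fun w => decide (run w (unitC 3) = unitC 3)) = true := by
  decide +kernel

theorem pair_fix : ∀ g ∈ [0, 3], ∀ k : Fin 4, 2 ≤ k.val → run [g] (unitC k) = unitC k := by
  decide +kernel

theorem ev_mem_subgroup {G : Type v} [Group G] (g : ℕ → G) (H : Subgroup G) {w : List ℕ}
    (h : ∀ i ∈ w, g i ∈ H) : ev g w ∈ H := H93.Coset.ev_mem H w h

theorem ev_flat_mem {G : Type v} [Group G] (g : ℕ → G) (H : Subgroup G)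
    (h : ∀ w ∈ triLetters, ev g w ∈ H) (w : List ℕ) : ev g (flat w) ∈ H := by
  induction w with
  | nil => exact one_mem H
  | cons i w ih =>
    rw [flat, List.flatMap_cons, ev_append]
    refine mul_mem ih ?_
    rcases lt_or_ge i triLetters.length with hi | hi
    · rw [List.getD_eq_getElem _ _ hi]; exact h _ (List.getElem_mem hi)
    · rw [List.getD_eq_default _ _ hi]; exact one_mem H

theorem Code.norm_vecN (x : V4) :
    hermForm n F 2 (C.vecN hn x) (C.vecN hn x) = C.dec (norm4 x) := by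
  rw [Code.vecN, pad_norm]
  simp [hermForm, Fin.sum_univ_four, Code.vec4, norm4, C.add, C.mul]
  ring

include hF in
/-- The code of the image of a unit vector. -/
theorem Code.exists_image {m : ℕ} (hm : m ≤ 4) {g : SU n F 2} (hg : g ∈ Win F 2 (seg n m))
    {k : Fin 4} (hk : k.val < m) :
    ∃ x : V4, suMat g *ᵥ δ (ix hn k) = C.vecN hn x ∧ norm4 x = 1 ∧
      (m ≤ 3 → x.2.2.2 = 0) ∧ (m ≤ 2 → x.2.2.1 = 0) := by
  have hs : Supp (seg n m) (suMat g *ᵥ δ (ix hn k)) :=
    supp_image hF hg (supp_single (mem_seg.2 hk))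
  obtain ⟨v, hv⟩ := exists_pad hn (hs.mono (seg_mono hm))
  obtain ⟨x, hx⟩ := C.vec4_surj v
  have e : C.vecN hn x = suMat g *ᵥ δ (ix hn k) := by rw [Code.vecN, hx, hv]
  have hz : ∀ l : Fin 4, m ≤ l.val → C.vec4 x l = 0 := fun l hl => by
    rw [← pad_inl hn (C.vec4 x) l, ← Code.vecN, e]
    exact hs _ (by rw [mem_seg, splitIdx_inl]; omega)
  refine ⟨x, e.symm, C.inj ?_, fun h => C.inj ?_, fun h => C.inj ?_⟩
  · rw [← C.norm_vecN hn, e, suMat_h, h_single_single hF, if_pos rfl, C.one]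
  · rw [C.zero]; exact hz 3 (by show m ≤ 3; omega)
  · rw [C.zero]; exact hz 2 (by show m ≤ 2; omega)

theorem seg_erase_two : (seg n 3).erase (ix hn 2) = seg n 2 := by
  ext i
  simp only [Finset.mem_erase, mem_seg, ne_eq, Fin.ext_iff]
  show ¬ i.val = 2 ∧ i.val < 3 ↔ i.val < 2
  omega

theorem seg_erase_zero : (seg n 2).erase (ix hn 0) = {ix hn 1} := by
  ext i
  simp only [Finset.mem_erase, mem_seg, Finset.mem_singleton, ne_eq, Fin.ext_iff]
  show ¬ i.val = 0 ∧ i.val < 2 ↔ i.val = 1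
  omega

theorem Code.pair_le {H : Subgroup (SU n F 2)} (h0 : C.gN hF hn 0 ∈ H) (h3 : C.gN hF hn 3 ∈ H) :
    Win F 2 (seg n 2) ≤ H := by
  intro g hg
  obtain ⟨x, hx, hx1, hx2, hx3⟩ := C.exists_image hF hn (by omega) hg (k := 0) (by decide)
  have h := List.all_eq_true.1 pair_cover x (mem_allV4 x)
  simp only [decide_eq_true_eq, List.any_eq_true] at h
  obtain ⟨w, hw, hwx⟩ := h ⟨hx3 le_rfl, hx2 (by omega), hx1⟩
  have hl := List.all_eq_true.1 (List.all_eq_true.1 pair_letters w hw)
  have hwH : ev (C.gN hF hn) w ∈ H := ev_mem_subgroup _ _ fun i hi => by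
    have := hl i hi
    simp only [Bool.or_eq_true, beq_iff_eq] at this
    rcases this with rfl | rfl <;> assumption
  have hwW : ev (C.gN hF hn) w ∈ Win F 2 (seg n 2) := ev_mem_subgroup _ _ fun i hi => by
    have := hl i hi
    simp only [Bool.or_eq_true, beq_iff_eq] at this
    have hi' : i ∈ [0, 3] := by rcases this with rfl | rfl <;> simp
    simpa [ev] using C.ev_mem hF hn (pair_fix i hi')
  have he : suMat ((ev (C.gN hF hn) w)⁻¹ * g) *ᵥ δ (ix hn 0) = δ (ix hn 0) := by
    rw [suMat_mulVec_mul, hx, ← hwx, ← C.ev_vec hF hn, suMat_inv_mulVec, C.vecN_unit]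
  have hmem := win_erase (mul_mem (inv_mem hwW) hg) he
  rw [seg_erase_zero] at hmem
  rw [inv_mul_eq_one.1 (eq_one_of_single hF hmem)] at hwH
  exact hwH

theorem Code.tri_le {H : Subgroup (SU n F 2)} (h : ∀ w ∈ triLetters, ev (C.gN hF hn) w ∈ H) :
    Win F 2 (seg n 3) ≤ H := by
  intro g hg
  have hW : ∀ w, ev (C.gN hF hn) (flat w) ∈ Win F 2 (seg n 3) := ev_flat_mem _ _ fun w hw => by
    refine C.ev_mem hF hn fun k hk => ?_
    have hk3 : k = 3 := Fin.ext (by have := k.isLt; show k.val = 3; omega)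
    rw [hk3]
    simpa using List.all_eq_true.1 tri_fix w hw
  obtain ⟨x, hx, hx1, hx2, -⟩ := C.exists_image hF hn (by omega) hg (k := 2) (by decide)
  have hc := List.all_eq_true.1 tri_cover x (mem_allV4 x)
  simp only [decide_eq_true_eq, List.any_eq_true] at hc
  obtain ⟨w, -, hwx⟩ := hc ⟨hx2 le_rfl, hx1⟩
  set g₁ := (ev (C.gN hF hn) (flat w))⁻¹ * g
  have h1 : g₁ ∈ Win F 2 (seg n 3) := mul_mem (inv_mem (hW w)) hg
  have he1 : suMat g₁ *ᵥ δ (ix hn 2) = δ (ix hn 2) := by
    rw [suMat_mulVec_mul, hx, ← hwx, ← C.ev_vec hF hn, suMat_inv_mulVec, C.vecN_unit]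
  have h2 := win_erase h1 he1
  rw [seg_erase_two] at h2
  obtain ⟨y, hy, hy1, hy2, hy3⟩ := C.exists_image hF hn (by omega) h2 (k := 0) (by decide)
  have hc2 := List.all_eq_true.1 fix_cover y (mem_allV4 y)
  simp only [decide_eq_true_eq, List.any_eq_true] at hc2
  obtain ⟨w', -, hwy, hw2⟩ := hc2 ⟨hy3 le_rfl, hy2 (by omega), hy1⟩
  set g₂ := (ev (C.gN hF hn) (flat w'))⁻¹ * g₁
  have h3 : g₂ ∈ Win F 2 (seg n 2) := by
    rw [← seg_erase_two hn]
    refine win_erase (mul_mem (inv_mem (hW w')) h1) ?_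
    rw [suMat_mulVec_mul, he1, suMat_inv_fix (C.ev_fix hF hn hw2)]
  have he2 : suMat g₂ *ᵥ δ (ix hn 0) = δ (ix hn 0) := by
    rw [suMat_mulVec_mul, hy, ← hwy, ← C.ev_vec hF hn, suMat_inv_mulVec, C.vecN_unit]
  have h4 := win_erase h3 he2
  rw [seg_erase_zero] at h4
  have e2 : g₁ = ev (C.gN hF hn) (flat w') := (inv_mul_eq_one.1 (eq_one_of_single hF h4)).symm
  have e1 : g = ev (C.gN hF hn) (flat w) * g₁ := (mul_inv_cancel_left _ _).symm
  rw [e1, e2]
  exact mul_mem (ev_flat_mem _ _ h w) (ev_flat_mem _ _ h w')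

theorem swap_words :
    (∀ j, run [0] (unitC j) = unitC (Equiv.swap 0 1 j)) ∧
    (∀ j, run [1] (unitC j) = unitC (Equiv.swap 1 2 j)) ∧
    (∀ j, run [2] (unitC j) = unitC (Equiv.swap 2 3 j)) := by decide +kernel

theorem Code.gN_swap :
    C.gN hF hn 0 = Pm hF (Equiv.swap (ix hn 0) (ix hn 1)) ∧
    C.gN hF hn 1 = Pm hF (Equiv.swap (ix hn 1) (ix hn 2)) ∧
    C.gN hF hn 2 = Pm hF (Equiv.swap (ix hn 2) (ix hn 3)) := by
  refine ⟨?_, ?_, ?_⟩
  · simpa [ev] using C.ev_swap hF hn swap_words.1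
  · simpa [ev] using C.ev_swap hF hn swap_words.2.1
  · simpa [ev] using C.ev_swap hF hn swap_words.2.2

/-- The five involutions generate the quad window. -/
theorem Code.quad_le {H : Subgroup (SU n F 2)} (h : ∀ g < 5, C.gN hF hn g ∈ H) :
    Win F 2 (seg n 4) ≤ H := by
  obtain ⟨e0, e1, e2⟩ := C.gN_swap hF hn
  set τ := Equiv.swap (ix hn 1) (ix hn 2) * Equiv.swap (ix hn 0) (ix hn 1) *
    Equiv.swap (ix hn 2) (ix hn 3) * Equiv.swap (ix hn 1) (ix hn 2)
  have hτ : Pm hF τ ∈ H := by
    rw [map_mul, map_mul, map_mul, ← e0, ← e1, ← e2]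
    exact mul_mem (mul_mem (mul_mem (h 1 (by omega)) (h 0 (by omega))) (h 2 (by omega)))
      (h 1 (by omega))
  have hne : ∀ k l : Fin 4, k ≠ l → ix hn k ≠ ix hn l := fun k l hkl e =>
    hkl (Fin.castLE_injective hn e)
  have hmap : (seg n 2).map τ.toEmbedding = {ix hn 2, ix hn 3} := by
    have e2' : seg n 2 = {ix hn 0, ix hn 1} := by
      ext i
      simp only [mem_seg, Finset.mem_insert, Finset.mem_singleton, Fin.ext_iff]
      show i.val < 2 ↔ i.val = 0 ∨ i.val = 1
      omega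
    rw [e2', Finset.map_insert, Finset.map_singleton]
    simp [τ, Equiv.swap_apply_def, hne]
  have e4 : seg n 4 = {ix hn 0, ix hn 1, ix hn 2, ix hn 3} := by
    ext i
    simp only [mem_seg, Finset.mem_insert, Finset.mem_singleton, Fin.ext_iff]
    show i.val < 4 ↔ i.val = 0 ∨ i.val = 1 ∨ i.val = 2 ∨ i.val = 3
    omega
  have e3 : seg n 3 = {ix hn 0, ix hn 1, ix hn 2} := by
    ext i
    simp only [mem_seg, Finset.mem_insert, Finset.mem_singleton, Fin.ext_iff]
    show i.val < 3 ↔ i.val = 0 ∨ i.val = 1 ∨ i.val = 2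
    omega
  rw [e4]
  refine (gen_four hF (i₁ := ix hn 0) (i₂ := ix hn 1) (i₃ := ix hn 2) (j := ix hn 3)
    (hne _ _ (by decide)) (hne _ _ (by decide)) (hne _ _ (by decide)) (hne _ _ (by decide))
    (hne _ _ (by decide)) (hne _ _ (by decide))).trans (sup_le ?_ ?_)
  · rw [← e3]
    refine C.tri_le hF hn fun w hw => ?_
    refine ev_mem_subgroup _ _ fun i hi => h i ?_
    have : triLetters.all (fun w => w.all fun g => decide (g < 5)) = true := by decide +kernel
    simpa using List.all_eq_true.1 (List.all_eq_true.1 this w hw) i hi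
  · intro g hg
    rw [← hmap] at hg
    have := C.pair_le hF hn (h 0 (by omega)) (h 3 (by omega)) (cj_mem_symm hF τ hg)
    rw [cj_apply, map_inv, inv_inv] at this
    have := mul_mem (mul_mem hτ this) (inv_mem hτ)
    simpa [mul_assoc] using this

/-! ### The universal property -/

/-- The relators of the quad. -/
noncomputable def quadRels : List (List ℕ) := TabG.words.take TabG.nrel

theorem rels_small : (TabS.words.take TabS.nrel ++ TabM.words.take TabM.nrel).all
    (fun w => quadRels.contains w) = true := by decide +kernel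

theorem rels_run : quadRels.all (fun w => decide (∀ k, run w (unitC k) = unitC k)) = true := by
  decide +kernel

theorem Code.rel_one {w : List ℕ} (hw : w ∈ quadRels) : ev (C.gN hF hn) w = 1 := by
  have h := List.all_eq_true.1 rels_run w hw
  simp only [decide_eq_true_eq] at h
  exact C.ev_eq hF hn (w := w) (w' := []) fun k => (h k).trans rfl

theorem Code.gN_invol {g : ℕ} (hg : g < 5) : C.gN hF hn g * C.gN hF hn g = 1 := by
  have := C.ev_eq hF hn (w := [g, g]) (w' := []) fun k => by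
    show mv g (mv g (unitC k)) = unitC k
    exact mv_invol g hg _
  simpa [ev] using this

/-- Five elements with the relations of the quad define a homomorphism on its window. -/
theorem Code.exists_quad {G : Type v} [Group G] (e : ℕ → G) (hinv : ∀ g < 5, e g * e g = 1)
    (hrel : ∀ w ∈ quadRels, ev e w = 1) :
    ∃ a : Win F 2 (seg n 4) →* G,
      ∀ g < 5, ∀ h : C.gN hF hn g ∈ Win F 2 (seg n 4), a ⟨C.gN hF hn g, h⟩ = e g := by
  classical
  haveI : Finite (SU n F 2) := Finite.of_injective _ Subtype.val_injective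
  let P : ℕ → G × SU n F 2 := fun g => (e g, C.gN hF hn g)
  have hPinv : ∀ g < 5, P g * P g = 1 := fun g hg => Prod.ext (hinv g hg) (C.gN_invol hF hn hg)
  have hev : ∀ w, ev P w = (ev e w, ev (C.gN hF hn) w) := by
    intro w
    induction w with
    | nil => rfl
    | cons g w ih => simp only [ev, ih]; rfl
  have hPrel : ∀ w ∈ quadRels, ev P w = 1 := fun w hw => by
    rw [hev, hrel w hw, C.rel_one hF hn hw]; rfl
  let K : ℕ → Subgroup (G × SU n F 2) := fun k => Subgroup.closure (P '' {g | g < k})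
  have hsub : ∀ w ∈ TabS.words.take TabS.nrel ++ TabM.words.take TabM.nrel, ev P w = 1 :=
    fun w hw => hPrel w (by simpa using List.all_eq_true.1 rels_small w hw)
  have hmem : ∀ (k : ℕ) (i : ℕ), i < k → ev P [i] ∈ K k := fun k i hi =>
    show 1 * P i ∈ K k from mul_mem (one_mem _) (Subgroup.subset_closure ⟨i, hi, rfl⟩)
  obtain ⟨f3, c3⟩ := card_le_of_table TabS_tables (fun g hg => hPinv g (lt_trans hg (by decide)))
    (fun w hw => hsub w (List.mem_append_left _ hw)) (L := (⊥ : Subgroup (G × SU n F 2)))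
    (fun w hw => by simp [TabS] at hw)
  have c3' : Nat.card (K 3) ≤ 24 := c3.trans (by simp [TabS, Subgroup.card_bot])
  haveI : Finite (K 3) := f3
  obtain ⟨f4, c4⟩ := card_le_of_table TabM_tables (fun g hg => hPinv g (lt_trans hg (by decide)))
    (fun w hw => hsub w (List.mem_append_right _ hw)) (L := K 3)
    (fun w hw => by
      have : w ∈ [[0], [1], [2]] := by simpa [TabM] using hw
      fin_cases this <;> exact hmem 3 _ (by decide))
  have c4' : Nat.card (K 4) ≤ 27 * 24 := c4.trans (Nat.mul_le_mul le_rfl c3')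
  haveI : Finite (K 4) := f4
  obtain ⟨f5, c5⟩ := card_le_of_table TabG_tables (fun g hg => hPinv g hg)
    (fun w hw => hPrel w hw) (L := K 4)
    (fun w hw => by
      have : w ∈ [[0], [1], [2], [3]] := by simpa [TabG] using hw
      fin_cases this <;> exact hmem 4 _ (by decide))
  have c5' : Nat.card (K 5) ≤ 40 * (27 * 24) := c5.trans (Nat.mul_le_mul le_rfl c4')
  haveI : Finite (K 5) := f5
  let π : K 5 →* Win F 2 (seg n 4) :=
    ((MonoidHom.snd G (SU n F 2)).comp (K 5).subtype).codRestrict _ (fun x => by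
      have : K 5 ≤ (Win F 2 (seg n 4)).comap (MonoidHom.snd G (SU n F 2)) := by
        rw [Subgroup.closure_le]
        rintro _ ⟨g, -, rfl⟩
        exact emb_mem hn _
      exact this x.2)
  have hsurj : Function.Surjective π := by
    intro x
    have hle := C.quad_le hF hn (H := (K 5).map (MonoidHom.snd G (SU n F 2)))
      fun g hg => ⟨P g, Subgroup.subset_closure ⟨g, hg, rfl⟩, rfl⟩
    obtain ⟨y, hy, ey⟩ := hle x.2
    exact ⟨⟨y, hy⟩, Subtype.ext ey⟩
  have hlow : 25920 ≤ Nat.card (Win F 2 (seg n 4)) := by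
    rw [← card_SU_four_two (F := F) hF]
    exact Nat.card_le_card_of_injective (fun g => (⟨emb hn g, emb_mem hn g⟩ : Win F 2 (seg n 4)))
      fun a b h => emb_injective hn (congrArg Subtype.val h)
  have hbij : Function.Bijective π := (Nat.bijective_iff_surjective_and_card π).2
    ⟨hsurj, le_antisymm (le_trans c5' (le_trans (by norm_num) hlow))
      (Nat.card_le_card_of_surjective π hsurj)⟩
  let E := MulEquiv.ofBijective π hbij
  refine ⟨((MonoidHom.fst G (SU n F 2)).comp (K 5).subtype).comp E.symm.toMonoidHom,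
    fun g hg h => ?_⟩
  have hE : E ⟨P g, Subgroup.subset_closure ⟨g, hg, rfl⟩⟩ = ⟨C.gN hF hn g, h⟩ := rfl
  rw [← hE]
  simp only [MonoidHom.comp_apply, MulEquiv.coe_toMonoidHom, MulEquiv.symm_apply_apply]
  rfl

end H40.SUTwoQ
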