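import Mathlib
import Cfsg.Agent.H37.Generation

/-!
# Generation of `SL_{n+1}` by a monomial cycle and root elements.
-/

set_option autoImplicit false

namespace H40

open Matrix
open scoped commutatorElement

variable {K : Type*} [Field K] {n : ℕ}

local notation "Tv" => Matrix.SpecialLinearGroup.transvection

/-- The sign attached to column `b` of the signed cycle matrix. -/
def cycSign (K : Type*) [Field K] (n : ℕ) (b : Fin (n + 1)) : K :=
  if b = 0 then (-1) ^ n else 1

theorem cycSign_ne_zero (b : Fin (n + 1)) : cycSign K n b ≠ 0 := by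
  unfold cycSign; split_ifs <;> simp

theorem cycMatrix_apply (hn : 1 ≤ n) (a b : Fin (n + 1)) :
    (Matrix.of (fun i j : Fin (n + 1) => if j.val = i.val + 1 then (1 : K)
      else if i.val = n ∧ j.val = 0 then (-1) ^ n else 0)) a b =
      if a + 1 = b then cycSign K n b else 0 := by
  simp only [Matrix.of_apply, cycSign]
  rcases eq_or_ne a.val n with ha | ha
  · have hb := b.isLt
    have : a + 1 = 0 := Fin.ext (by simp [Fin.val_add, ha, Nat.mod_eq_of_lt, show 1 % (n+1) = 1 from Nat.mod_eq_of_lt (by omega)])
    rw [this, if_neg (by omega)]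
    by_cases hb0 : b = 0
    · subst hb0; simp [ha]
    · have : b.val ≠ 0 := fun h => hb0 (Fin.ext h)
      simp [this, Ne.symm hb0]
  · have ha' : a.val < n := by have := a.isLt; omega
    have hv : (a + 1).val = a.val + 1 := by
      simp [Fin.val_add, Nat.mod_eq_of_lt (show a.val + 1 < n + 1 by omega),
        show 1 % (n+1) = 1 from Nat.mod_eq_of_lt (by omega)]
    by_cases hb : a + 1 = b
    · subst hb
      rw [if_pos hv, if_pos rfl, if_neg]
      intro h; rw [h] at hv; simp at hv
    · have : b.val ≠ a.val + 1 := fun h => hb (Fin.ext (by rw [hv, h]))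
      simp [hb, this, ha]

/-- Conjugation by the signed cycle lowers both indices of a root element. -/
theorem cyc_mul_transvection {w : Matrix.SpecialLinearGroup (Fin (n + 1)) K}
    (hw : ∀ a b, (w : Matrix (Fin (n + 1)) (Fin (n + 1)) K) a b =
      if a + 1 = b then cycSign K n b else 0)
    {i j : Fin (n + 1)} (hij : i ≠ j) (c : K) :
    w * Tv hij c * w⁻¹ = Tv (show i - 1 ≠ j - 1 by simpa using hij) (cycSign K n i * c / cycSign K n j) := by
  rw [mul_inv_eq_iff_eq_mul]
  apply Subtype.ext
  rw [Matrix.SpecialLinearGroup.coe_mul, Matrix.SpecialLinearGroup.coe_mul]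
  change (w : Matrix (Fin (n + 1)) (Fin (n + 1)) K) * (1 + Matrix.single i j c) =
    (1 + Matrix.single (i - 1) (j - 1) (cycSign K n i * c / cycSign K n j)) * (w : Matrix (Fin (n + 1)) (Fin (n + 1)) K)
  rw [mul_add, add_mul, one_mul, mul_one]
  congr 1
  ext a b
  simp only [Matrix.mul_apply, Matrix.single_apply, hw]
  rw [Finset.sum_eq_single i (fun l _ hl => by simp [Ne.symm hl]) (by simp),
    Finset.sum_eq_single (j - 1) (fun l _ hl => by simp [Ne.symm hl]) (by simp)]
  have hi : (i - 1 = a) ↔ (a + 1 = i) := ⟨fun h => by rw [← h]; simp, fun h => by rw [← h]; simp⟩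
  have hs := cycSign_ne_zero (K := K) j
  by_cases h1 : a + 1 = i <;> by_cases h2 : j = b <;> simp [h1, h2, hi]
  · subst h2; field_simp

/-- A subgroup containing the signed cycle and the root group `X₀₁` is everything. -/
theorem eq_top_of_cyc_mem (hn : 1 ≤ n) {w : Matrix.SpecialLinearGroup (Fin (n + 1)) K}
    (hw : ∀ a b, (w : Matrix (Fin (n + 1)) (Fin (n + 1)) K) a b =
      if a + 1 = b then cycSign K n b else 0)
    (H : Subgroup (Matrix.SpecialLinearGroup (Fin (n + 1)) K)) (hwH : w ∈ H)
    (h01 : ∀ (h : (0 : Fin (n + 1)) ≠ 1) (t : K), Tv h t ∈ H) : H = ⊤ := by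
  have hcongr : ∀ {i i' j j' : Fin (n + 1)} (h : i ≠ j) (h' : i' ≠ j') (t : K),
      i = i' → j = j' → Tv h t = Tv h' t := by
    intro i i' j j' h h' t e1 e2; subst e1; subst e2; rfl
  have hadj : ∀ (i : Fin (n + 1)) (h : i ≠ i + 1) (t : K), Tv h t ∈ H := by
    intro i
    induction i using Fin.induction with
    | zero =>
      intro h t
      have h' : (0 : Fin (n + 1)) ≠ 1 := by simpa using h
      rw [hcongr h h' t rfl (zero_add 1)]
      exact h01 h' t
    | succ i ih =>
      intro h t
      have e : i.succ - 1 = i.castSucc := by rw [sub_eq_iff_eq_add, Fin.coeSucc_eq_succ]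
      have h' : i.castSucc ≠ i.castSucc + 1 := by rw [Fin.coeSucc_eq_succ]; exact Fin.castSucc_lt_succ.ne
      have e' : i.succ + 1 - 1 = i.castSucc + 1 := by rw [Fin.coeSucc_eq_succ]; simp
      have key := cyc_mul_transvection hw h t
      rw [hcongr (show i.succ - 1 ≠ i.succ + 1 - 1 by simpa using h) h' _ e e'] at key
      have hm := ih h' (cycSign K n i.succ * t / cycSign K n (i.succ + 1))
      rw [← key] at hm
      have := mul_mem (mul_mem (inv_mem hwH) hm) hwH
      simpa [mul_assoc] using this
  have hall : ∀ (d i : Fin (n + 1)) (h : i ≠ i + d) (t : K), Tv h t ∈ H := by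
    intro d
    induction d using Fin.induction with
    | zero => intro i h; simp at h
    | succ d ih =>
      intro i h t
      have e : i + d.succ = i + d.castSucc + 1 := by rw [add_assoc, Fin.coeSucc_eq_succ]
      have h1 : i + d.castSucc ≠ i + d.castSucc + 1 := by
        intro hh
        have : (1 : Fin (n + 1)) = 0 := left_eq_add.1 hh
        rw [Fin.ext_iff] at this
        simp [Nat.mod_eq_of_lt (show 1 < n + 1 by omega)] at this
      by_cases hd : d.castSucc = 0
      · have h' : i ≠ i + 1 := by
          have := h; rw [e, hd, add_zero] at this; exact this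
        rw [hcongr h h' t rfl (by rw [e, hd, add_zero])]
        exact hadj i h' t
      · have h2 : i ≠ i + d.castSucc := by simpa using hd
        have h3 : i ≠ i + d.castSucc + 1 := e ▸ h
        rw [hcongr h h3 t rfl e, ← mul_one t, ← H37.commutator_transvection h2 h1 h3,
          commutatorElement_def]
        exact mul_mem (mul_mem (mul_mem (ih i h2 t) (hadj _ h1 1)) (inv_mem (ih i h2 t)))
          (inv_mem (hadj _ h1 1))
  refine H37.eq_top_of_transvection_mem H fun i j hij c => ?_
  have h' : i ≠ i + (j - i) := by simpa using hij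
  rw [hcongr hij h' c rfl (by simp)]
  exact hall _ _ h' c

end H40
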