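import Cfsg.Agent.H40.SpModel
import Cfsg.Agent.H40.PSLPres
import Cfsg.Agent.H50.SpCovering
import Cfsg.Agent.H50.CExtCrit
import Cfsg.Agent.H76.CoverLift
import Cfsg.Agent.H37.Card
import Cfsg.Agent.S0247

/-!
A group satisfying the Steinberg type relations maps isomorphically onto the symplectic group.
-/

set_option autoImplicit false
set_option linter.unusedSectionVars false
set_option linter.style.haveILetI false

namespace H40.SpKill

open Matrix
open H48 (sf sp_ext tv)
open H40.SpQuad (δ Rels U1 polar quad Egrp Dg kd orb)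
open H40.SpTrans (gT TRels BU BW yHom A qU qW)
open H40.SpModel (jU jW lev levGL radU radW)

local notation "vv" => H40.SpModel.vec
local notation "emb" => H40.SpModel.em
open H40.PresStep (theta iota low lowM)
open scoped commutatorElement

variable {F : Type*} [Field F] [Fintype F] {k : ℕ}
  {G : Type*} [Group G] {ψ : SpecialLinearGroup (Fin (k + 2)) F →* G}
  {φ : SpecialLinearGroup (Fin 2) F →* G} {ζ : Fˣ}

local notation "XX" => MonoidHom.comp φ H40.CRW.xS
local notation "A1" => U1 ψ XX
local notation "W1" => U1 (MonoidHom.comp ψ theta) (yHom φ)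
local notation "hh" => φ (H40.CRW.hS ζ)
local notation "Sy" => H48.symMat (k + 2) F
local notation "Vk" => (Fin (k + 2) ⊕ Fin (k + 2) → F)
local notation "Spk" => Matrix.symplecticGroup (Fin (k + 2)) F

/-- The Weyl element is a product of root elements. -/
theorem tS_eq : H40.CRW.xS (.ofAdd (1 : F)) * H40.SpTrans.lowS (1 : F) * H40.CRW.xS (.ofAdd (1 : F)) =
    H40.CRW.tS := by
  refine H40.CRW.slExt ?_
  show !![(1 : F), 1; 0, 1] * !![1, 0; -1, 1] * !![1, 1; 0, 1] = !![0, 1; -1, 0]
  simp

/-- A normal subgroup of `SL_m` containing the basic root group is everything. -/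
theorem eq_top_of_T01 {N : Subgroup (SpecialLinearGroup (Fin (k + 2)) F)} [hN : N.Normal]
    (h : ∀ t, SpecialLinearGroup.transvection (show (0 : Fin (k + 2)) ≠ 1 by simp) t ∈ N) : N = ⊤ := by
  set T01 := fun t => SpecialLinearGroup.transvection (show (0 : Fin (k + 2)) ≠ 1 by simp) (t : F)
  set T10 := fun t => SpecialLinearGroup.transvection (show (1 : Fin (k + 2)) ≠ 0 by simp) (t : F)
  have h10 : ∀ t, T10 t ∈ N := by
    intro t
    have e : T01 1 * T10 (-1) * T01 1 * T01 (-t) = T10 t * (T01 1 * T10 (-1) * T01 1) := by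
      refine H37.SL_ext_smul fun v => funext fun l => ?_
      simp only [T01, T10, mul_smul, H37.transvection_smul]
      by_cases h0 : l = 0
      · subst h0; simp; ring
      · by_cases h1 : l = 1
        · subst h1; simp; ring
        · simp [h0, h1]
    show T10 t ∈ N
    rw [eq_mul_inv_of_mul_eq e.symm]
    exact hN.conj_mem _ (h (-t)) _
  have c1 : ∀ {a b c : Fin (k + 2)} (hab : a ≠ b) (hbc : b ≠ c) (hac : a ≠ c) (t : F),
      (∀ u, SpecialLinearGroup.transvection hab u ∈ N) → SpecialLinearGroup.transvection hac t ∈ N := by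
    intro a b c hab hbc hac t hm
    rw [← mul_one t, ← H37.commutator_transvection hab hbc hac t 1, commutatorElement_def, mul_assoc,
      mul_assoc]
    exact mul_mem (hm t) (by rw [← mul_assoc]; exact hN.conj_mem _ (inv_mem (hm t)) _)
  have c2 : ∀ {a b c : Fin (k + 2)} (hab : a ≠ b) (hbc : b ≠ c) (hac : a ≠ c) (t : F),
      (∀ u, SpecialLinearGroup.transvection hbc u ∈ N) → SpecialLinearGroup.transvection hac t ∈ N := by
    intro a b c hab hbc hac t hm
    rw [← one_mul t, ← H37.commutator_transvection hab hbc hac 1 t, commutatorElement_def]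
    exact mul_mem (hN.conj_mem _ (hm t) _) (inv_mem (hm t))
  have row0 : ∀ (j : Fin (k + 2)) (hj : (0 : Fin (k + 2)) ≠ j) (t : F),
      SpecialLinearGroup.transvection hj t ∈ N := by
    intro j hj t
    by_cases h1 : j = 1
    · subst h1; exact h t
    · exact c1 (show (0 : Fin (k + 2)) ≠ 1 by simp) (Ne.symm h1) hj t h
  have col0 : ∀ (i : Fin (k + 2)) (hi : i ≠ 0) (t : F), SpecialLinearGroup.transvection hi t ∈ N := by
    intro i hi t
    by_cases h1 : i = 1
    · subst h1; exact h10 t
    · exact c2 h1 (show (1 : Fin (k + 2)) ≠ 0 by simp) hi t h10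
  refine H37.eq_top_of_transvection_mem N fun i j hij t => ?_
  by_cases hi : i = 0
  · subst hi; exact row0 j hij t
  by_cases hj : j = 0
  · subst hj; exact col0 i hij t
  exact c1 hi (Ne.symm hj) hij t (col0 i hi)

variable (R : TRels ψ φ ζ) (π : G →* Matrix.symplecticGroup (Fin (k + 2)) F)
  (hψ : π.comp ψ = H40.SpModel.lev) (hφ : π.comp φ = H40.SpModel.em)

/-- The family indexed by vectors. -/
noncomputable def Av (R : TRels ψ φ ζ) (v : Vk) (c : F) : G := A R (v ∘ Sum.inl) (v ∘ Sum.inr) c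

theorem Av_vec (x y : Fin (k + 2) → F) (c : F) : Av R (vv x y) c = A R x y c := rfl

/-- The elements permuting the family as their images do. -/
noncomputable def act (R : TRels ψ φ ζ) (π : G →* Spk) : Subgroup G where
  carrier := {z | ∀ v c, z * Av R v c * z⁻¹ = Av R (π z • v) c}
  one_mem' v c := by simp
  mul_mem' {a b} ha hb v c := by
    rw [map_mul, mul_smul, ← ha, ← hb]; group
  inv_mem' {a} ha v c := by
    have := ha ((π a)⁻¹ • v) c
    rw [smul_inv_smul] at this
    rw [map_inv, ← this]; group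

theorem mem_act_of {z : G} {g : Spk} (hz : π z = g)
    (h : ∀ x y c, ∃ x' y', g • vv x y = vv x' y' ∧ z * A R x y c * z⁻¹ = A R x' y' c) :
    z ∈ act R π := by
  intro v c
  obtain ⟨x', y', e, e'⟩ := h (v ∘ Sum.inl) (v ∘ Sum.inr) c
  have hv : vv (v ∘ Sum.inl) (v ∘ Sum.inr) = v := by funext i; rcases i with i | i <;> rfl
  rw [hv] at e
  rw [hz, e, Av_vec]
  exact e'

include hψ hφ

theorem map_U1 (x : Fin (k + 2) → F) (c : F) : π (A1 x c) = tv (jU x) c := by
  rw [← H40.SpModel.U1_eq_tv, U1, H40.SpQuad.map_orb, ← hψ, ← hφ]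
  rfl

theorem map_yHom (a : Multiplicative F) : π (yHom φ a) = yHom emb a := by
  rw [← hφ]
  simp [yHom]

theorem map_W1 (y : Fin (k + 2) → F) (c : F) : π (W1 y c) = tv (jW y) c := by
  rw [← H40.SpModel.W1_eq_tv, U1, H40.SpQuad.map_orb, ← hψ]
  simp only [map_yHom π hψ hφ]
  rfl

include R

theorem map_qU (S : Sy) : π (qU R S) = radU (.ofAdd S) := by
  have := H40.SpQuad.symHom_ext (π.comp (quad R.RU)) radU fun c v => by
    rw [MonoidHom.comp_apply, H40.SpQuad.quad_sqMat R.RU, map_U1 π hψ hφ, H40.SpModel.radU_sq]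
  have h1 := DFunLike.congr_fun this (.ofAdd S)
  simp only [MonoidHom.comp_apply] at h1
  exact h1

theorem map_qW (S : Sy) : π (qW R S) = radW (.ofAdd S) := by
  have := H40.SpQuad.symHom_ext (π.comp (quad R.RW)) radW fun c v => by
    rw [MonoidHom.comp_apply, H40.SpQuad.quad_sqMat R.RW, map_W1 π hψ hφ, H40.SpModel.radW_sq]
  have h1 := DFunLike.congr_fun this (.ofAdd S)
  simp only [MonoidHom.comp_apply] at h1
  exact h1

theorem map_A (x y : Fin (k + 2) → F) (c : F) : π (A R x y c) = tv (vv x y) c := by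
  by_cases hx : x = 0
  · subst hx; rw [H40.SpTrans.A_zero_left R, map_W1 π hψ hφ]
  obtain ⟨M, hM⟩ := H40.SpTrans.exists_sym hx y
  rw [H40.SpTrans.A_left R hx M hM, map_mul, map_mul, map_qW R π hψ hφ, map_qW R π hψ hφ,
    map_U1 π hψ hφ]
  have e : radW (Multiplicative.ofAdd M) = (radW (Multiplicative.ofAdd (-M)))⁻¹ := by
    rw [ofAdd_neg, map_inv, inv_inv]
  rw [e, H48.tv_conj, jU, H40.SpModel.radW_smul]
  congr 2
  rw [AddSubgroup.coe_neg, neg_mulVec, hM, sub_neg_eq_add, zero_add]

theorem psi_mem_act (g : SpecialLinearGroup (Fin (k + 2)) F) : ψ g ∈ act R π := by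
  have hp : ((ψ g : G), SpecialLinearGroup.toGL g) ∈ Egrp ψ hh ζ :=
    Subgroup.subset_closure (Or.inl ⟨g, rfl⟩)
  exact mem_act_of R π (DFunLike.congr_fun hψ g) fun x y c =>
    ⟨_, _, H40.SpModel.levGL_smul _ x y, H40.SpTrans.A_levi R hp x y c⟩

theorem qU_mem_act (S : Sy) : qU R S ∈ act R π :=
  mem_act_of R π (map_qU R π hψ hφ S) fun x y c =>
    ⟨_, _, H40.SpModel.radU_smul S x y, H40.SpTrans.A_up R S x y c⟩

theorem qW_mem_act (S : Sy) : qW R S ∈ act R π :=
  mem_act_of R π (map_qW R π hψ hφ S) fun x y c =>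
    ⟨_, _, H40.SpModel.radW_smul S x y, H40.SpTrans.A_down R S x y c⟩

omit hψ hφ in
theorem phi_le {H : Subgroup G} (hx : ∀ c, A1 (δ 0) c ∈ H) (hy : ∀ c, W1 (δ 0) c ∈ H) :
    φ.range ≤ H := by
  have hx' : ∀ c, φ (H40.CRW.xS (.ofAdd c)) ∈ H := fun c => H40.SpTrans.A1_δ R c ▸ hx c
  have htop : H.comap φ = ⊤ := H40.PSLPres.eq_top_of_root hx' (by
    show φ H40.CRW.tS ∈ H
    have hy' : φ (H40.SpTrans.lowS 1) ∈ H := by
      have := hy 1
      rw [H40.SpTrans.W1_δ R] at this
      rw [← H40.SpTrans.tS_xS]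
      simpa [yHom] using this
    rw [← tS_eq, map_mul, map_mul]
    exact mul_mem (mul_mem (hx' 1) hy') (hx' 1))
  rintro _ ⟨g, rfl⟩
  show g ∈ H.comap φ
  rw [htop]; exact Subgroup.mem_top g

theorem act_eq_top (htop : ψ.range ⊔ φ.range = ⊤) : act R π = ⊤ := by
  rw [eq_top_iff, ← htop, sup_le_iff]
  refine ⟨fun _ ⟨g, hg⟩ => hg ▸ psi_mem_act R π hψ hφ g, phi_le R (fun c => ?_) (fun c => ?_)⟩
  · rw [← H40.SpQuad.quad_sqMat R.RU]; exact qU_mem_act R π hψ hφ _
  · rw [← H40.SpQuad.quad_sqMat R.RW]; exact qW_mem_act R π hψ hφ _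

omit hψ hφ

theorem exists_sq_gam (u : F) (hu : u ≠ 0) : ∃ γ : G, ∀ t : F,
    γ * ψ (SpecialLinearGroup.transvection (show (0 : Fin (k + 2)) ≠ 1 by simp) t) * γ⁻¹ =
      ψ (SpecialLinearGroup.transvection (show (0 : Fin (k + 2)) ≠ 1 by simp) (u * u * t)) :=
  ⟨ψ (kd (Units.mk0 u hu)), fun t => by
    rw [← map_inv, ← map_mul, ← map_mul, H40.SpQuad.kd_conj01, Units.val_mk0]⟩

include hψ hφ

/-- The family generates. -/
theorem closure_eq_top (htop : ψ.range ⊔ φ.range = ⊤) :
    Subgroup.closure (Set.range fun p : Vk × F => Av R p.1 p.2) = ⊤ := by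
  set N := Subgroup.closure (Set.range fun p : Vk × F => Av R p.1 p.2)
  have hmem : ∀ x y c, A R x y c ∈ N := fun x y c => Subgroup.subset_closure ⟨(vv x y, c), rfl⟩
  haveI hN : N.Normal := ⟨fun n hn g => by
    induction hn using Subgroup.closure_induction with
    | mem a ha =>
      obtain ⟨⟨v, c⟩, rfl⟩ := ha
      have hg : g ∈ act R π := by rw [act_eq_top R π hψ hφ htop]; exact Subgroup.mem_top g
      rw [hg]
      exact Subgroup.subset_closure ⟨(π g • v, c), rfl⟩
    | one => simp
    | mul a b _ _ ha hb =>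
      rw [show g * (a * b) * g⁻¹ = (g * a * g⁻¹) * (g * b * g⁻¹) by group]; exact mul_mem ha hb
    | inv a _ ha => rw [show g * a⁻¹ * g⁻¹ = (g * a * g⁻¹)⁻¹ by group]; exact inv_mem ha⟩
  have hU : ∀ x c, A1 x c ∈ N := fun x c => H40.SpTrans.A_mk_zero R x c ▸ hmem x 0 c
  have hW : ∀ y c, W1 y c ∈ N := fun y c => H40.SpTrans.A_zero_left R y c ▸ hmem 0 y c
  have hφN : φ.range ≤ N := phi_le R (fun c => hU _ c) (fun c => hW _ c)
  have h1 : ψ (SpecialLinearGroup.transvection (show (0 : Fin (k + 2)) ≠ 1 by simp) (1 : F)) ∈ N := by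
    rw [R.link]
    have hb : ∀ c, BW ψ φ c ∈ N := fun c => mul_mem (mul_mem (hW _ _) (hW _ _)) (hW _ _)
    exact mul_mem (mul_mem (mul_mem (mul_mem (hb _) (hφN ⟨_, rfl⟩)) (hb _)) (hφN ⟨_, rfl⟩)) (hW _ _)
  obtain ⟨χ, hχ⟩ := H40.SpQuad.transvection_hom (F := F) (show (0 : Fin (k + 2)) ≠ 1 by simp)
  have hall : ∀ t, ψ (SpecialLinearGroup.transvection (show (0 : Fin (k + 2)) ≠ 1 by simp) t) ∈ N := by
    have := H40.BlockPres.hom_ext_sq ((QuotientGroup.mk' N).comp (ψ.comp χ)) 1 fun u => by
      obtain ⟨γ, hγ⟩ := exists_sq_gam R (u : F) u.ne_zero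
      have h2 := hN.conj_mem _ h1 γ
      rw [hγ, mul_one] at h2
      simpa [hχ] using (QuotientGroup.eq_one_iff _).2 h2
    intro t
    have h2 := DFunLike.congr_fun this (.ofAdd t)
    simpa [hχ] using h2
  rw [eq_top_iff, ← htop, sup_le_iff]
  refine ⟨?_, hφN⟩
  rintro _ ⟨g, rfl⟩
  have : N.comap ψ = ⊤ := eq_top_of_T01 hall
  show g ∈ N.comap ψ
  rw [this]; exact Subgroup.mem_top g

theorem ker_le_center (htop : ψ.range ⊔ φ.range = ⊤) : π.ker ≤ Subgroup.center G := by
  intro z hz
  rw [← Subgroup.centralizer_univ, ← Subgroup.coe_top, ← closure_eq_top R π hψ hφ htop,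
    Subgroup.centralizer_closure, Subgroup.mem_centralizer_iff]
  rintro _ ⟨⟨v, c⟩, rfl⟩
  have hza : z ∈ act R π := by rw [act_eq_top R π hψ hφ htop]; exact Subgroup.mem_top z
  have := hza v c
  rw [MonoidHom.mem_ker.1 hz, one_smul] at this
  exact (mul_inv_eq_iff_eq_mul.1 this).symm

theorem surjective : Function.Surjective π := by
  rw [← MonoidHom.range_eq_top, eq_top_iff, ← H48.transGroup_eq_top, H48.transGroup, H48.transSet_eq,
    Subgroup.closure_le]
  rintro _ ⟨w, c, rfl⟩
  refine ⟨Av R w c, ?_⟩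
  rw [Av, map_A R π hψ hφ]
  congr 1
  funext i; rcases i with i | i <;> rfl

theorem ab_X (htop : ψ.range ⊔ φ.range = ⊤) (z : G) :
    ∃ c : F, Abelianization.of z = Abelianization.of (φ (H40.CRW.xS (.ofAdd c))) := by
  let f : Multiplicative F →* Abelianization G := Abelianization.of.comp XX
  suffices Abelianization.of z ∈ f.range by
    obtain ⟨c, hc⟩ := this
    exact ⟨c.toAdd, hc.symm⟩
  have hz : z ∈ (f.range).comap Abelianization.of := by
    have : (f.range).comap Abelianization.of = ⊤ := by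
      rw [eq_top_iff, ← closure_eq_top R π hψ hφ htop, Subgroup.closure_le]
      rintro _ ⟨⟨v, c⟩, rfl⟩
      show Abelianization.of (A R _ _ c) ∈ f.range
      have hc : ∀ a b : G, Abelianization.of (a * b * a⁻¹) = Abelianization.of b := fun a b => by
        rw [map_mul, map_mul, map_inv, mul_comm (Abelianization.of a), mul_inv_cancel_right]
      by_cases hx : v ∘ Sum.inl = 0
      · rw [hx, H40.SpTrans.A_zero_left R]
        by_cases hy : v ∘ Sum.inr = 0
        · rw [hy, H40.SpQuad.U1_zero R.RW, map_one]; exact one_mem _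
        · obtain ⟨g, hg⟩ := H40.SpQuad.exists_col hy
          rw [← hg, H40.SpQuad.U1_eq R.RW, hc]
          refine ⟨.ofAdd c, ?_⟩
          show Abelianization.of (φ (H40.CRW.xS (.ofAdd c))) = _
          exact (hc _ _).symm
      · obtain ⟨M, hM⟩ := H40.SpTrans.exists_sym hx (v ∘ Sum.inr)
        rw [H40.SpTrans.A_left R hx M hM,
          show qW R M = (qW R (-M))⁻¹ by simp [qW, ofAdd_neg], hc]
        obtain ⟨g, hg⟩ := H40.SpQuad.exists_col hx
        rw [← hg, H40.SpQuad.U1_eq R.RU, hc]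
        exact ⟨.ofAdd c, rfl⟩
    rw [this]; exact Subgroup.mem_top z
  exact hz

theorem finite (htop : ψ.range ⊔ φ.range = ⊤) : Finite G := by
  have hs := surjective R π hψ hφ
  have hc := ker_le_center R π hψ hφ htop
  haveI : Finite (commutatorSet G) := by
    refine ((Set.finite_range fun p : Spk × Spk =>
      ⁅Function.surjInv hs p.1, Function.surjInv hs p.2⁆).subset ?_).to_subtype
    rintro _ ⟨a, b, rfl⟩
    exact ⟨(π a, π b), H76.Cover.comm_congr π hc (Function.surjInv_eq hs _) (Function.surjInv_eq hs _)⟩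
  haveI : Finite (Abelianization G) := Finite.of_surjective
    (fun c : F => Abelianization.of (φ (H40.CRW.xS (.ofAdd c)))) fun a => by
      obtain ⟨z, rfl⟩ := QuotientGroup.mk_surjective a
      obtain ⟨c, hc'⟩ := ab_X R π hψ hφ htop z
      exact ⟨c, hc'.symm⟩
  haveI : Finite (G ⧸ commutator G) := ‹Finite (Abelianization G)›
  exact Finite.of_equiv _ (Subgroup.groupEquivQuotientProdSubgroup (s := commutator G)).symm

/-- The kernel lies in the derived group. -/
theorem ker_le_commutator (htop : ψ.range ⊔ φ.range = ⊤) : π.ker ≤ commutator G := by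
  intro z hz
  classical
  obtain ⟨c, hc⟩ := ab_X R π hψ hφ htop z
  rw [← Abelianization.ker_of, MonoidHom.mem_ker, hc]
  set T := fun t => ψ (SpecialLinearGroup.transvection (show (0 : Fin (k + 2)) ≠ 1 by simp) (t : F))
  set X0 := fun a => φ (H40.CRW.xS (.ofAdd (a : F)))
  let q := (Abelianization.of : G →* Abelianization G)
  have hconj : ∀ a b : G, q (a * b * a⁻¹) = q b := fun a b => by
    rw [map_mul, map_mul, map_inv, mul_comm (q a), mul_inv_cancel_right]
  have hlink : q (T 1) = q (X0 1) := by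
    simp only [T, R.link, map_mul]
    have e : q (BW ψ φ (-1)) * q (BW ψ φ 1) = 1 := by
      rw [← map_mul, BW, ← H40.SpQuad.B_add R.RW, neg_add_cancel, H40.SpQuad.B_zero R.RW, map_one]
    have eX : q (φ (H40.CRW.xS (.ofAdd (-1 : F)))) * q (X0 1) = 1 := by
      rw [← map_mul]
      simp only [X0, ← map_mul, ← ofAdd_add, neg_add_cancel, ofAdd_zero, map_one]
    obtain ⟨g, hg⟩ := H40.SpQuad.exists_col (x := (δ 1 : Fin (k + 2) → F))
      (fun e => by simpa using congrFun e 1)
    have eW : q (W1 (δ 1) 1) = q (X0 1) := by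
      rw [← hg, H40.SpQuad.U1_eq R.RW, hconj]
      exact hconj _ _
    rw [eW]
    calc q (BW ψ φ (-1)) * q (φ (H40.CRW.xS (.ofAdd (-1 : F)))) * q (BW ψ φ 1) * q (X0 1) * q (X0 1)
        = (q (BW ψ φ (-1)) * q (BW ψ φ 1)) *
            (q (φ (H40.CRW.xS (.ofAdd (-1 : F)))) * q (X0 1)) * q (X0 1) := by
          rw [mul_assoc (q (BW ψ φ (-1)) * q (φ (H40.CRW.xS (.ofAdd (-1 : F))))) (q (BW ψ φ 1)),
            mul_mul_mul_comm]
      _ = q (X0 1) := by rw [e, eX, one_mul, one_mul]
  have of1 : q (X0 1) = 1 → ∀ a, q (X0 a) = 1 := by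
    intro h1
    have := H40.BlockPres.hom_ext_sq (q.comp XX) 1 fun u => by
      have h2 := congrArg q (H40.SpQuad.k_scale R.RU u 1)
      rw [hconj, mul_one] at h2
      exact (h2.symm.trans h1)
    exact fun a => DFunLike.congr_fun this (.ofAdd a)
  have hT : (3 ≤ Fintype.card F ∨ 3 ≤ k + 2) → q (T 1) = 1 := by
    rintro (hq | hm)
    · by_cases hζ : (ζ : F) = 1
      · exfalso
        have hall : ∀ u : Fˣ, u = 1 := by
          intro u
          obtain ⟨e, he⟩ := Subgroup.mem_zpowers_iff.1 (R.RU.hgen u)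
          rw [← he, show ζ = 1 from Units.ext hζ, _root_.one_zpow]
        have h2 : Fintype.card Fˣ ≤ 1 := Fintype.card_le_one_iff.2 fun a b => by rw [hall a, hall b]
        rw [Fintype.card_units] at h2
        omega
      · have key : ∀ t, q (T (((ζ : F) - 1) * t)) = 1 := by
          intro t
          have h2 := congrArg q (H40.SpQuad.hT_all R.RU t)
          rw [hconj] at h2
          have h3 : q (T ((ζ : F) * t)) = q (T t) := h2.symm
          have h4 : T (((ζ : F) - 1) * t) * T t = T ((ζ : F) * t) := by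
            simp only [T, ← map_mul, ← SpecialLinearGroup.transvection_add]
            congr 2; ring
          rw [← h4, map_mul] at h3
          exact mul_eq_right.1 h3
        have := key ((ζ : F) - 1)⁻¹
        rwa [mul_inv_cancel₀ (sub_ne_zero.2 hζ)] at this
    · have hm' : 3 ≤ Fintype.card (Fin (k + 2)) := by rw [Fintype.card_fin]; exact hm
      haveI := H37.isPerfect_SL (F := F) hm'
      have hle : commutator (SpecialLinearGroup (Fin (k + 2)) F) ≤ (q.comp ψ).ker :=
        Abelianization.commutator_subset_ker _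
      rw [H37.commutator_SL_eq_top hm'] at hle
      exact hle (Subgroup.mem_top _)
  by_cases hgood : 3 ≤ Fintype.card F ∨ 3 ≤ k + 2
  · exact of1 (hlink ▸ hT hgood) c
  · push Not at hgood
    obtain ⟨hq, hk⟩ := hgood
    obtain rfl : k = 0 := by omega
    have hcard : Fintype.card F = 2 := by
      have := Fintype.one_lt_card (α := F); omega
    by_cases hc0 : c = 0
    · subst hc0; simp
    have hc1 : c = 1 := by
      by_contra h
      have : ({0, 1, c} : Finset F).card = 3 := by
        rw [Finset.card_insert_of_notMem (by simp [Ne.symm hc0]), Finset.card_pair (Ne.symm h)]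
      have := Finset.card_le_univ ({0, 1, c} : Finset F)
      omega
    subst hc1
    exfalso
    -- otherwise `Sp_4(2)` would be perfect
    have hsp : tv (jU (δ 0)) (1 : F) ∈ commutator (Matrix.symplecticGroup (Fin 2) F) := by
      have h2 := congrArg (Abelianization.map π) hc
      rw [Abelianization.map_of, Abelianization.map_of, MonoidHom.mem_ker.1 hz, map_one] at h2
      have h3 : π (φ (H40.CRW.xS (.ofAdd 1))) = tv (jU (δ 0)) (1 : F) := by
        rw [← H40.SpModel.xU, ← hφ]; rfl
      rw [← Abelianization.ker_of, MonoidHom.mem_ker, ← h3]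
      exact h2.symm
    have htop' : commutator (Matrix.symplecticGroup (Fin 2) F) = ⊤ := by
      rw [eq_top_iff, ← H48.transGroup_eq_top, H48.transGroup, H48.transSet_eq, Subgroup.closure_le]
      rintro _ ⟨w, a, rfl⟩
      by_cases hw : w = 0
      · subst hw; rw [H48.tv_zero_left]; exact one_mem _
      by_cases ha : a = 0
      · subst ha; rw [H48.tv_zero]; exact one_mem _
      have ha1 : a = 1 := by
        by_contra h
        have : ({0, 1, a} : Finset F).card = 3 := by
          rw [Finset.card_insert_of_notMem (by simp [Ne.symm ha]), Finset.card_pair (Ne.symm h)]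
        have := Finset.card_le_univ ({0, 1, a} : Finset F)
        omega
      subst ha1
      obtain ⟨g, -, rfl⟩ := H48.witt_vec (u := jU (δ (0 : Fin 2) : Fin 2 → F))
        (fun e => by simpa using congrFun e (Sum.inl 0)) hw
      rw [← H48.tv_conj]
      exact (Subgroup.Normal.conj_mem inferInstance _ hsp g)
    obtain ⟨e⟩ := Cfsg.Agent.S0247.result hcard
    have hs6 : (Equiv.Perm.sign.comp e.toMonoidHom) = 1 := by
      refine MonoidHom.ext fun g => ?_
      have hle : commutator (Matrix.symplecticGroup (Fin 2) F) ≤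
          (Equiv.Perm.sign.comp e.toMonoidHom).ker := Abelianization.commutator_subset_ker _
      rw [htop'] at hle
      exact hle (Subgroup.mem_top g)
    have := DFunLike.congr_fun hs6 (e.symm (Equiv.swap 0 1))
    simp at this

omit R in
/-- The image of the Siegel parabolic's derived part has index prime to the characteristic. -/
theorem not_dvd_index {p : ℕ} [Fact p.Prime] [CharP F p] :
    ¬ p ∣ ((radU : Multiplicative Sy →* Spk).range ⊔ (lev : _ →* Spk).range).index := by
  classical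
  set H := (radU : Multiplicative Sy →* Spk).range ⊔ (lev : _ →* Spk).range
  have hnorm : (lev : SpecialLinearGroup (Fin (k + 2)) F →* Spk).range ≤
      Subgroup.normalizer ((radU : Multiplicative Sy →* Spk).range : Set Spk) := by
    rintro _ ⟨g, rfl⟩
    rw [Subgroup.mem_normalizer_iff]
    have key : ∀ (g : SpecialLinearGroup (Fin (k + 2)) F) (S : Sy),
        lev g * radU (.ofAdd S) * (lev g)⁻¹ = radU (.ofAdd (H48.congr' g.1 S)) := by
      intro g S
      rw [mul_inv_eq_iff_eq_mul]
      refine H40.SpModel.ext_vec fun x y => ?_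
      simp only [mul_smul, lev, MonoidHom.comp_apply, H40.SpModel.levGL_smul, H40.SpModel.radU_smul]
      congr 1
      rw [mulVec_add]
      congr 1
      show g.1 *ᵥ (S.1 *ᵥ y) = (g.1 * S.1 * g.1ᵀ) *ᵥ (((SpecialLinearGroup.toGL g)⁻¹ : GL (Fin (k + 2)) F).1ᵀ *ᵥ y)
      rw [mulVec_mulVec, mulVec_mulVec, mul_assoc, mul_assoc,
        show g.1ᵀ * ((SpecialLinearGroup.toGL g)⁻¹ : GL (Fin (k + 2)) F).1ᵀ = 1 from by
          rw [← transpose_mul]
          show (((SpecialLinearGroup.toGL g)⁻¹ : GL (Fin (k + 2)) F).1 *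
            (SpecialLinearGroup.toGL g : GL (Fin (k + 2)) F).1)ᵀ = 1
          rw [Units.inv_mul, transpose_one], mul_one]
    intro w
    constructor
    · rintro ⟨S, rfl⟩
      exact ⟨_, (key g S.toAdd).symm⟩
    · rintro ⟨S, hS⟩
      refine ⟨_, (key g⁻¹ S.toAdd).symm.trans ?_⟩
      rw [ofAdd_toAdd, hS, map_inv]
      group
  have hbij : Function.Bijective (fun p : Multiplicative Sy × SpecialLinearGroup (Fin (k + 2)) F =>
      (⟨radU p.1 * lev p.2, Subgroup.mul_mem_sup ⟨_, rfl⟩ ⟨_, rfl⟩⟩ : H)) := by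
    constructor
    · rintro ⟨S, g⟩ ⟨S', g'⟩ e
      have e1 : radU (.ofAdd S.toAdd) * lev g = radU (.ofAdd S'.toAdd) * lev g' := congrArg Subtype.val e
      have hg : g = g' := Subtype.ext (Matrix.ext_iff_mulVec.2 fun x => by
        have := congrArg (fun z : Spk => z • vv x 0) e1
        simp only [mul_smul, lev, MonoidHom.comp_apply, H40.SpModel.levGL_smul, H40.SpModel.radU_smul,
          mulVec_zero, add_zero] at this
        exact congrArg (fun v : Vk => v ∘ Sum.inl) this)
      subst hg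
      have e2 := mul_right_cancel e1
      have := H48.radical_injective (show H48.radical S.toAdd = H48.radical S'.toAdd from e2)
      rw [Prod.mk.injEq]
      exact ⟨Multiplicative.toAdd.injective this, rfl⟩
    · rintro ⟨w, hw⟩
      have hw' : w ∈ (H : Set Spk) := hw
      rw [Subgroup.coe_mul_of_right_le_normalizer_left _ _ hnorm] at hw'
      obtain ⟨_, ⟨S, rfl⟩, _, ⟨g, rfl⟩, rfl⟩ := hw'
      exact ⟨(S, g), rfl⟩
  have hH := (Nat.card_eq_of_bijective _ hbij).symm
  rw [Nat.card_prod] at hH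
  have hS : Nat.card (Multiplicative Sy) = Fintype.card F ^ ((k + 2 + 1).choose 2) := by
    have h1 := H48.card_fixFam_lagr (F := F) (l := Fin (k + 2))
    rw [Fintype.card_fin] at h1
    rw [← h1, ← Nat.card_range_of_injective (f := fun S : Multiplicative Sy => H48.radical S.toAdd)
      (fun a b e => Multiplicative.toAdd.injective (H48.radical_injective e))]
    refine Nat.card_congr (Equiv.setCongr ?_)
    rw [H48.fixFam_lagr_eq]
    ext w
    constructor
    · rintro ⟨S, rfl⟩; exact ⟨⟨S.toAdd.1, S.toAdd.2⟩, rfl⟩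
    · rintro ⟨B, rfl⟩; exact ⟨Multiplicative.ofAdd ⟨B.1, B.2⟩, rfl⟩
  have hSL := H37.card_SL_fin (F := F) (k + 2) (by omega)
  rw [Nat.card_eq_fintype_card] at hSL
  set q := Fintype.card F
  set P1 := ∏ i ∈ Finset.range (k + 2), (q ^ (2 * (i + 1)) - 1)
  set P2 := ∏ i ∈ Finset.range (k + 2), (q ^ (i + 1) - 1)
  have hGL : ∏ i : Fin (k + 2), (q ^ (k + 2) - q ^ (i : ℕ)) = q ^ ((k + 2).choose 2) * P2 := by
    rw [Fin.prod_univ_eq_prod_range (fun i => q ^ (k + 2) - q ^ i)]
    have e : ∀ i ∈ Finset.range (k + 2), q ^ (k + 2) - q ^ i = q ^ i * (q ^ (k + 2 - i) - 1) := by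
      intro i hi
      rw [Finset.mem_range] at hi
      rw [Nat.mul_sub_one, ← pow_add, Nat.add_sub_cancel' (by omega)]
    rw [Finset.prod_congr rfl e, Finset.prod_mul_distrib, Finset.prod_pow_eq_pow_sum,
      Finset.sum_range_id, ← Nat.choose_two_right]
    congr 1
    rw [← Finset.prod_range_reflect]
    refine Finset.prod_congr rfl fun i hi => ?_
    rw [Finset.mem_range] at hi
    congr 2
    omega
  rw [hGL] at hSL
  have hidx := Subgroup.card_mul_index H
  rw [H48.card_sp, Fintype.card_fin, hH, hS] at hidx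
  have key : q ^ ((k + 2) ^ 2) * (P2 * H.index) = q ^ ((k + 2) ^ 2) * ((q - 1) * P1) := by
    have := congrArg (fun z => (q - 1) * z) hidx
    simp only [← mul_assoc] at this ⊢
    rw [← H48.choose_two_add (k + 2), pow_add] at this ⊢
    calc q ^ (k + 2).choose 2 * q ^ (k + 2 + 1).choose 2 * P2 * H.index
        = q ^ (k + 2 + 1).choose 2 * (q ^ (k + 2).choose 2 * P2) * H.index := by ring
      _ = q ^ (k + 2 + 1).choose 2 * ((q - 1) * Nat.card (SpecialLinearGroup (Fin (k + 2)) F)) *
            H.index := by rw [hSL]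
      _ = (q - 1) * q ^ (k + 2 + 1).choose 2 * Nat.card (SpecialLinearGroup (Fin (k + 2)) F) *
            H.index := by ring
      _ = _ := this
      _ = _ := by ring
  have hq1 : 1 < q := Fintype.one_lt_card
  have key' := Nat.eq_of_mul_eq_mul_left (pow_pos (by omega) _) key
  intro hp
  have hpp : p.Prime := Fact.out
  have hpq : p ∣ q := by
    obtain ⟨n, -, hn⟩ := FiniteField.card F p
    rw [show q = p ^ (n : ℕ) from hn]
    exact dvd_pow_self _ n.pos.ne'
  have hno : ∀ a, a ≠ 0 → ¬ p ∣ q ^ a - 1 := by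
    intro a ha hd
    have h1 : p ∣ q ^ a := dvd_pow hpq ha
    have hpos : 1 ≤ q ^ a := Nat.one_le_pow _ _ (by omega)
    have h2 := Nat.dvd_sub h1 hd
    rw [Nat.sub_sub_self hpos, Nat.dvd_one] at h2
    exact hpp.one_lt.ne' h2
  have hd : p ∣ (q - 1) * P1 := key' ▸ dvd_mul_of_dvd_right hp P2
  rcases hpp.dvd_mul.1 hd with h | h
  · exact hno 1 one_ne_zero (by rwa [pow_one])
  · obtain ⟨i, -, hi⟩ := (Prime.dvd_finsetProd_iff hpp.prime _).1 h
    exact hno _ (by omega) hi

/-- The kernel is trivial. -/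
theorem ker_eq_bot (htop : ψ.range ⊔ φ.range = ⊤) : π.ker = ⊥ := by
  classical
  haveI := finite R π hψ hφ htop
  have hs := surjective R π hψ hφ
  have hc := ker_le_center R π hψ hφ htop
  have hd := ker_le_commutator R π hψ hφ htop
  obtain ⟨p, hp⟩ := CharP.exists F
  haveI : Fact p.Prime := ⟨CharP.char_is_prime F p⟩
  -- no element of order `p`
  have hp1 : ∀ z : G, π z = 1 → z ^ p = 1 → z = 1 := by
    intro z hz hzp
    have hz' := H50.CExt.mem_commutator_comap π hs hc (not_dvd_index π hψ hφ (p := p))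
      (hd hz) hz hzp
    set C := (quad R.RU).range ⊔ ψ.range
    have hnorm : ψ.range ≤ Subgroup.normalizer ((quad R.RU).range : Set G) := by
      rintro _ ⟨g, rfl⟩
      have key : ∀ (g : SpecialLinearGroup (Fin (k + 2)) F) (S : Sy),
          ψ g * quad R.RU (.ofAdd S) * (ψ g)⁻¹ = quad R.RU (.ofAdd (H48.congr' g.1 S)) := fun g S =>
        H40.SpQuad.quad_gam R.RU (g := SpecialLinearGroup.toGL g)
          (Subgroup.subset_closure (Or.inl ⟨g, rfl⟩)) S
      rw [Subgroup.mem_normalizer_iff]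
      intro w
      constructor
      · rintro ⟨S, rfl⟩
        exact ⟨_, (key g S.toAdd).symm⟩
      · rintro ⟨S, hS⟩
        refine ⟨_, (key g⁻¹ S.toAdd).symm.trans ?_⟩
        rw [ofAdd_toAdd, hS, map_inv]
        group
    have hzC : z ∈ C := by
      refine (Subgroup.commutator_le.2 ?_ : ⁅_, _⁆ ≤ C) hz'
      have lift : ∀ w ∈ ((radU : Multiplicative Sy →* Spk).range ⊔ (lev : _ →* Spk).range).comap π,
          ∃ w' ∈ C, π w = π w' := by
        intro w hw
        have himg : ((radU : Multiplicative Sy →* Spk).range ⊔ (lev : _ →* Spk).range) ≤ C.map π := by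
          rw [sup_le_iff]
          constructor
          · rintro _ ⟨S, rfl⟩
            exact ⟨_, Subgroup.mem_sup_left ⟨S, rfl⟩, map_qU R π hψ hφ S.toAdd⟩
          · rintro _ ⟨g, rfl⟩
            exact ⟨_, Subgroup.mem_sup_right ⟨g, rfl⟩, DFunLike.congr_fun hψ g⟩
        obtain ⟨w', hw', e⟩ := himg hw
        exact ⟨w', hw', e.symm⟩
      intro a ha b hb
      obtain ⟨a', ha', ea⟩ := lift a ha
      obtain ⟨b', hb', eb⟩ := lift b hb
      rw [H76.Cover.comm_congr π hc ea eb, commutatorElement_def]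
      exact mul_mem (mul_mem (mul_mem ha' hb') (inv_mem ha')) (inv_mem hb')
    have hzC' : z ∈ (C : Set G) := hzC
    rw [Subgroup.coe_mul_of_right_le_normalizer_left _ _ hnorm] at hzC'
    obtain ⟨_, ⟨S, rfl⟩, _, ⟨g, rfl⟩, rfl⟩ := hzC'
    have e1 : radU (.ofAdd S.toAdd) * lev g = 1 := by
      rw [← map_qU R π hψ hφ, ← hψ, ← hz, map_mul]; rfl
    have hg : g = 1 := Subtype.ext (Matrix.ext_iff_mulVec.2 fun x => by
      have := congrArg (fun z : Spk => z • vv x 0) e1
      simp only [mul_smul, lev, MonoidHom.comp_apply, H40.SpModel.levGL_smul, H40.SpModel.radU_smul,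
        mulVec_zero, add_zero, one_smul] at this
      rw [H40.PresStep.cone, one_mulVec]
      exact congrArg (fun v : Vk => v ∘ Sum.inl) this)
    subst hg
    rw [map_one, mul_one] at e1
    have hS : S = 1 := Multiplicative.toAdd.injective
      (H48.radical_injective (show H48.radical S.toAdd = H48.radical (0 : Sy) by
        rw [H48.radical_zero]; exact e1))
    subst hS
    simp
  have hcop : ¬ p ∣ Nat.card π.ker := by
    intro h
    obtain ⟨⟨z, hz⟩, hord⟩ := exists_prime_orderOf_dvd_card' p h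
    rw [Subgroup.orderOf_mk] at hord
    rw [hp1 z hz (hord ▸ pow_orderOf_eq_one z), orderOf_one] at hord
    exact (Fact.out : p.Prime).one_lt.ne hord
  have hsplit := H50.SpCovering.scp_all (p := p) (F := F) (k + 2) (by omega) G π hs hc hcop
  have hcomm : commutator G ≤ H50.CExt.liftGrp p π ⊤ := by
    rw [commutator_def, Subgroup.commutator_le]
    intro a _ b _
    obtain ⟨k1, hk, x, hx, rfl⟩ := H50.CExt.exists_mul_ker p π hc hcop hs H50.SpStab.pGen_Sp a
    obtain ⟨k2, hk', y, hy, rfl⟩ := H50.CExt.exists_mul_ker p π hc hcop hs H50.SpStab.pGen_Sp b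
    rw [H76.Cover.comm_congr π hc (x' := k1) (y' := k2)
      (by rw [map_mul, MonoidHom.mem_ker.1 hx, mul_one])
      (by rw [map_mul, MonoidHom.mem_ker.1 hy, mul_one]), commutatorElement_def]
    exact mul_mem (mul_mem (mul_mem hk hk') (inv_mem hk)) (inv_mem hk')
  exact eq_bot_iff.2 fun z hz => hsplit.le ⟨hcomm (hd hz), hz⟩

/-- The main theorem. -/
theorem bijective (htop : ψ.range ⊔ φ.range = ⊤) : Function.Bijective π :=
  ⟨(MonoidHom.ker_eq_bot_iff π).1 (ker_eq_bot R π hψ hφ htop), surjective R π hψ hφ⟩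

end H40.SpKill
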