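import Cfsg.Agent.H40.SpTrans

/-!
The symplectic group satisfies the Steinberg type relations.
-/

set_option autoImplicit false
set_option linter.unusedSectionVars false
set_option linter.style.haveILetI false

namespace H40.SpModel

open Matrix
open H48 (sf sp_ext tv)
open H40.SpQuad (δ Rels U1 polar Dg kd orb)
open H40.SpTrans (gT TRels BU BW yHom)
open H40.PresStep (theta iota low lowM)

variable {F : Type*} [Field F] {k : ℕ}

local notation "Vk" => (Fin (k + 2) ⊕ Fin (k + 2) → F)
local notation "Spk" => Matrix.symplecticGroup (Fin (k + 2)) F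
local notation "Sy" => H48.symMat (k + 2) F

/-- A vector from its two halves. -/
abbrev vec (x y : Fin (k + 2) → F) : Vk := Sum.elim x y

/-- The first half. -/
abbrev jU (x : Fin (k + 2) → F) : Vk := Sum.elim x 0

/-- The second half. -/
abbrev jW (y : Fin (k + 2) → F) : Vk := Sum.elim 0 y

/-- The Levi subgroup. -/
def levGL : GL (Fin (k + 2)) F →* Spk :=
  MonoidHom.mk' (fun g => ⟨fromBlocks g.1 0 0 (gT g).1, by
      rw [SymplecticGroup.fromBlocks_mem_iff]
      show _ ∧ _ ∧ g.1ᵀ * ((g⁻¹ : GL (Fin (k + 2)) F).1ᵀ) - _ = 1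
      simp [← transpose_mul, Units.inv_mul]⟩)
    fun g h => Subtype.ext (by
      show fromBlocks _ 0 0 _ = fromBlocks _ 0 0 _ * fromBlocks _ 0 0 _
      simp [fromBlocks_multiply, map_mul])

/-- The Levi embedding of `SL_m`. -/
def lev : SpecialLinearGroup (Fin (k + 2)) F →* Spk := levGL.comp SpecialLinearGroup.toGL

theorem levGL_smul (g : GL (Fin (k + 2)) F) (x y : Fin (k + 2) → F) :
    levGL g • vec x y = vec (g.1 *ᵥ x) ((gT g).1 *ᵥ y) := by
  show fromBlocks g.1 0 0 (gT g).1 *ᵥ Sum.elim x y = _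
  rw [fromBlocks_mulVec]
  simp

/-- The matrix of `SL_2` on a hyperbolic pair. -/
def emMat (g : Matrix (Fin 2) (Fin 2) F) : Matrix (Fin (k + 2) ⊕ Fin (k + 2)) (Fin (k + 2) ⊕ Fin (k + 2)) F :=
  fromBlocks (diagonal (Function.update 1 0 (g 0 0))) (diagonal (Function.update 0 0 (g 0 1)))
    (diagonal (Function.update 0 0 (g 1 0))) (diagonal (Function.update 1 0 (g 1 1)))

/-- `SL_2` on a hyperbolic pair. -/
def em : SpecialLinearGroup (Fin 2) F →* Spk :=
  MonoidHom.mk' (fun g => ⟨emMat g.1, by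
      have hd : g.1 0 0 * g.1 1 1 - g.1 0 1 * g.1 1 0 = 1 := by rw [← det_fin_two]; exact g.2
      rw [emMat, SymplecticGroup.fromBlocks_mem_iff]
      simp only [diagonal_transpose, diagonal_mul_diagonal, diagonal_sub, ← diagonal_one]
      refine ⟨congrArg diagonal ?_, congrArg diagonal ?_, congrArg diagonal ?_⟩ <;> funext i <;>
        by_cases h : i = 0 <;> simp [h]
      · ring
      · ring
      · linear_combination hd⟩)
    fun g h => Subtype.ext (by
      show emMat (g.1 * h.1) = emMat g.1 * emMat h.1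
      simp only [emMat, fromBlocks_multiply, diagonal_mul_diagonal, diagonal_add]
      congr 1 <;> refine congrArg diagonal ?_ <;> funext i <;> by_cases e : i = 0 <;>
        simp [e, Matrix.mul_apply, Fin.sum_univ_two])

theorem em_smul (g : SpecialLinearGroup (Fin 2) F) (x y : Fin (k + 2) → F) :
    (em g : Spk) • vec x y = vec (Function.update x 0 (g.1 0 0 * x 0 + g.1 0 1 * y 0))
      (Function.update y 0 (g.1 1 0 * x 0 + g.1 1 1 * y 0)) := by
  show emMat g.1 *ᵥ Sum.elim x y = _
  rw [emMat, fromBlocks_mulVec]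
  funext i
  rcases i with i | i <;> by_cases h : i = 0 <;> simp [mulVec_diagonal, h]

/-- The upper radical. -/
def radU : Multiplicative Sy →* Spk :=
  MonoidHom.mk' (fun S => H48.radical S.toAdd) fun S T => by rw [toAdd_mul, H48.radical_add]

/-- The lower radical. -/
def radW : Multiplicative Sy →* Spk :=
  MonoidHom.mk' (fun S => ⟨fromBlocks 1 0 (-S.toAdd.1) 1, by
      rw [SymplecticGroup.fromBlocks_mem_iff]
      have : S.toAdd.1ᵀ = S.toAdd.1 := S.toAdd.2
      simp [this]⟩)
    fun S T => Subtype.ext (by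
      show fromBlocks 1 0 (-(S.toAdd.1 + T.toAdd.1)) 1 = fromBlocks 1 0 _ 1 * fromBlocks 1 0 _ 1
      simp [fromBlocks_multiply, add_comm])

theorem radU_smul (S : Sy) (x y : Fin (k + 2) → F) :
    radU (.ofAdd S) • vec x y = vec (x + S.1 *ᵥ y) y := by
  show fromBlocks 1 S.1 0 1 *ᵥ Sum.elim x y = _
  rw [fromBlocks_mulVec]
  simp

theorem radW_smul (S : Sy) (x y : Fin (k + 2) → F) :
    radW (.ofAdd S) • vec x y = vec x (y - S.1 *ᵥ x) := by
  show fromBlocks 1 0 (-S.1) 1 *ᵥ Sum.elim x y = _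
  rw [fromBlocks_mulVec]
  simp [neg_mulVec, sub_eq_neg_add]

theorem ext_vec {g h : Spk} (H : ∀ x y : Fin (k + 2) → F, g • vec x y = h • vec x y) : g = h :=
  sp_ext fun v => by
    have := H (v ∘ Sum.inl) (v ∘ Sum.inr)
    rwa [show vec (v ∘ Sum.inl) (v ∘ Sum.inr) = v by funext i; rcases i with i | i <;> rfl] at this

theorem sf_vec (x y x' y' : Fin (k + 2) → F) :
    sf (vec x y) (vec x' y') = y ⬝ᵥ x' - x ⬝ᵥ y' := by
  rw [H48.sf_apply]
  simp [dotProduct, Finset.sum_sub_distrib]

theorem radU_sq (c : F) (x : Fin (k + 2) → F) : radU (.ofAdd (H48.sqMat c x)) = tv (jU x) c := by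
  refine ext_vec fun a b => ?_
  rw [radU_smul, H48.tv_smul, sf_vec]
  funext i
  rcases i with i | i <;>
    simp [H48.sqMat, smul_mulVec, vecMulVec_mulVec, dotProduct_comm x b]
  ring

theorem radW_sq (c : F) (y : Fin (k + 2) → F) : radW (.ofAdd (H48.sqMat c y)) = tv (jW y) c := by
  refine ext_vec fun a b => ?_
  rw [radW_smul, H48.tv_smul, sf_vec]
  funext i
  rcases i with i | i <;>
    simp [H48.sqMat, smul_mulVec, vecMulVec_mulVec, dotProduct_comm y a]
  ring

theorem jU_δ_em (g : SpecialLinearGroup (Fin 2) F) :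
    (em g : Spk) • (jU (δ 0) : Vk) = vec (g.1 0 0 • δ 0) (g.1 1 0 • (δ 0 : Fin (k + 2) → F)) := by
  rw [jU, em_smul]
  funext i
  rcases i with i | i <;> by_cases h : i = 0 <;> simp [h]

theorem xU (c : F) : em (k := k) (H40.CRW.xS (.ofAdd c)) = tv (jU (δ 0) : Vk) c := by
  refine ext_vec fun x y => ?_
  rw [em_smul, H48.tv_smul, sf_vec, H40.CRW.coe_xS]
  funext i
  rcases i with i | i <;> by_cases h : i = 0 <;> simp [h]

theorem xW (c : F) : yHom (em (k := k)) (.ofAdd c) = tv (jW (δ 0) : Vk) c := by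
  have e : (jW (δ 0) : Vk) = -((em (H40.CRW.tS (F := F)) : Spk) • (jU (δ 0) : Vk)) := by
    rw [jU_δ_em]
    funext i
    rcases i with i | i <;> by_cases h : i = 0 <;> simp [H40.CRW.tS, h]
  show em (H40.CRW.tS) * em (H40.CRW.xS (.ofAdd c)) * (em (H40.CRW.tS))⁻¹ = _
  rw [xU, H48.tv_conj, e, ← neg_one_smul F ((em (H40.CRW.tS (F := F)) : Spk) • (jU (δ 0) : Vk)), H48.tv_scale]
  simp

theorem lev_jU (g : SpecialLinearGroup (Fin (k + 2)) F) (x : Fin (k + 2) → F) :
    lev g • jU x = jU (g.1 *ᵥ x) := by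
  rw [jU, lev, MonoidHom.comp_apply, levGL_smul, mulVec_zero]
  rfl

theorem lev_theta_jW (g : SpecialLinearGroup (Fin (k + 2)) F) (y : Fin (k + 2) → F) :
    lev (theta g) • jW y = jW (g.1 *ᵥ y) := by
  rw [jW, lev, MonoidHom.comp_apply, levGL_smul, mulVec_zero, H40.SpTrans.gT_toGL,
    H40.PresStep.theta_theta]
  rfl

theorem U1_eq_tv (x : Fin (k + 2) → F) (c : F) :
    U1 lev (em.comp H40.CRW.xS) x c = tv (jU x) c := by
  unfold U1 orb
  split_ifs with h
  · subst h
    rw [show jU (0 : Fin (k + 2) → F) = (0 : Vk) by funext i; rcases i with i | i <;> rfl,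
      H48.tv_zero_left]
  · have hg := (H40.SpQuad.exists_col h).choose_spec
    set g := (H40.SpQuad.exists_col h).choose
    show lev g * em (H40.CRW.xS (.ofAdd c)) * (lev g)⁻¹ = _
    rw [xU, H48.tv_conj, lev_jU, hg]

theorem W1_eq_tv (y : Fin (k + 2) → F) (c : F) :
    U1 (lev.comp theta) (yHom em) y c = tv (jW y) c := by
  unfold U1 orb
  split_ifs with h
  · subst h
    rw [show jW (0 : Fin (k + 2) → F) = (0 : Vk) by funext i; rcases i with i | i <;> rfl,
      H48.tv_zero_left]
  · have hg := (H40.SpQuad.exists_col h).choose_spec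
    set g := (H40.SpQuad.exists_col h).choose
    show lev (theta g) * yHom em (.ofAdd c) * (lev (theta g))⁻¹ = _
    rw [xW, H48.tv_conj, lev_theta_jW, hg]

theorem em_hS (ζ : Fˣ) : em (k := k) (H40.CRW.hS ζ) = levGL (Dg ζ) := by
  refine ext_vec fun x y => ?_
  rw [em_smul, levGL_smul, H40.SpTrans.gT_Dg]
  show _ = vec (diagonal (Function.update 1 0 (ζ : F)) *ᵥ x)
    (diagonal (Function.update 1 0 ((ζ⁻¹ : Fˣ) : F)) *ᵥ y)
  funext i
  rcases i with i | i <;> by_cases h : i = 0 <;> simp [mulVec_diagonal, H40.CRW.hS, h]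

theorem tv_commute {u w : Vk} (h : sf u w = 0) (a b : F) : Commute (tv u a) (tv w b) := by
  have e : tv u a • w = w := by simp [H48.sf_eq_zero_comm h]
  have := H48.tv_conj (tv u a) w b
  rw [e] at this
  exact mul_inv_eq_iff_eq_mul.1 this

/-- The product of the three transvections of a polar. -/
theorem pol_smul {u w : Vk} (h : sf u w = 0) (c : F) (z : Vk) :
    (tv (u + w) c * tv u (-c) * tv w (-c)) • z = z + c • (sf z u • w + sf z w • u) := by
  simp only [mul_smul, H48.tv_smul, map_add, map_smul, LinearMap.add_apply, LinearMap.smul_apply,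
    H48.sf_self, h, H48.sf_eq_zero_comm h, smul_eq_mul, mul_zero, add_zero]
  module

section Polar

variable (j : (Fin (k + 2) → F) →ₗ[F] (Fin (k + 2) ⊕ Fin (k + 2) → F))
  (hj : ∀ x y : Fin (k + 2) → F, sf (j x) (j y) = 0)
  (o : (Fin (k + 2) → F) → F → Matrix.symplecticGroup (Fin (k + 2)) F)
  (ho : ∀ (x : Fin (k + 2) → F) (c : F), o x c = tv (j x) c)

include hj ho

theorem polar_smul (x y : Fin (k + 2) → F) (c : F) (z : Vk) :
    (polar o x y c : Spk) • z = z + c • (sf z (j x) • j y + sf z (j y) • j x) := by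
  unfold polar
  rw [ho, ho, ho, map_add]
  exact pol_smul (hj x y) c z

theorem polar_lin (a : F) (x y : Fin (k + 2) → F) : (polar o (a • x) y 1 : Spk) = polar o x y a := by
  refine sp_ext fun z => ?_
  rw [polar_smul j hj o ho, polar_smul j hj o ho]
  simp only [map_smul, smul_eq_mul]
  module

theorem polar_tri (x y y' : Fin (k + 2) → F) :
    (polar o x (y + y') 1 : Spk) = polar o x y 1 * polar o x y' 1 := by
  refine sp_ext fun z => ?_
  rw [mul_smul, polar_smul j hj o ho, polar_smul j hj o ho, polar_smul j hj o ho]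
  simp only [map_add, map_smul, LinearMap.add_apply, LinearMap.smul_apply, hj, smul_eq_mul, mul_zero,
    add_zero]
  module

end Polar

/-- The inclusion of the first half. -/
def jUl : (Fin (k + 2) → F) →ₗ[F] Vk where
  toFun := jU
  map_add' x y := by funext i; rcases i with i | i <;> simp
  map_smul' a x := by funext i; rcases i with i | i <;> simp

/-- The inclusion of the second half. -/
def jWl : (Fin (k + 2) → F) →ₗ[F] Vk where
  toFun := jW
  map_add' x y := by funext i; rcases i with i | i <;> simp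
  map_smul' a x := by funext i; rcases i with i | i <;> simp

theorem sf_jU (x y : Fin (k + 2) → F) : sf (jU x) (jU y) = 0 := by simp [sf_vec]

theorem sf_jW (x y : Fin (k + 2) → F) : sf (jW x) (jW y) = 0 := by simp [sf_vec]

theorem scale_jU {g : Spk} {a : F} (h : g • (jU (δ 0) : Vk) = a • (jU (δ 0) : Vk)) (c : F) :
    g * em (H40.CRW.xS (.ofAdd c)) * g⁻¹ = em (H40.CRW.xS (.ofAdd (a * a * c))) := by
  rw [xU, xU, H48.tv_conj, h, H48.tv_scale]

theorem scale_jW {g : Spk} {a : F} (h : g • (jW (δ 0) : Vk) = a • (jW (δ 0) : Vk)) (c : F) :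
    g * yHom em (.ofAdd c) * g⁻¹ = yHom em (.ofAdd (a * a * c)) := by
  rw [xW, xW, H48.tv_conj, h, H48.tv_scale]

theorem fix_iota (A : SpecialLinearGroup (Fin (k + 1)) F) :
    (iota A).1 *ᵥ δ 0 = δ 0 := by
  funext i
  show ((lowM 0 A.1) *ᵥ δ 0) i = _
  rw [mulVec_single_one]
  refine Fin.cases ?_ (fun j => ?_) i <;> simp [lowM]

theorem theta_fix {g : SpecialLinearGroup (Fin (k + 2)) F} (h : g.1ᵀ *ᵥ δ 0 = δ 0) :
    (theta g).1 *ᵥ δ 0 = δ 0 := by
  conv_lhs => rw [← h]
  show ((g⁻¹ : SpecialLinearGroup (Fin (k + 2)) F).1)ᵀ *ᵥ (g.1ᵀ *ᵥ δ 0) = δ 0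
  rw [mulVec_mulVec, ← transpose_mul, show g.1 * (g⁻¹ : SpecialLinearGroup (Fin (k + 2)) F).1 = 1 from
    congrArg Subtype.val (mul_inv_cancel g), transpose_one, one_mulVec]

theorem kd_theta (u : Fˣ) : theta (kd (k := k) u) = kd u⁻¹ := by
  have e : (kd (k := k) u)⁻¹ = kd u⁻¹ := inv_eq_of_mul_eq_one_right (Subtype.ext (by
    show diagonal _ * diagonal _ = 1
    rw [diagonal_mul_diagonal, ← diagonal_one]
    congr 1
    funext i
    by_cases h1 : i = 1
    · subst h1; simp
    · by_cases h0 : i = 0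
      · subst h0; simp
      · simp [h0, h1]))
  apply Subtype.ext
  show ((kd (k := k) u)⁻¹ : SpecialLinearGroup (Fin (k + 2)) F).1ᵀ = _
  rw [e]
  exact diagonal_transpose _

theorem theta_iota (A : SpecialLinearGroup (Fin (k + 1)) F) : theta (iota A) = iota (theta A) := by
  apply Subtype.ext
  show ((iota A)⁻¹ : SpecialLinearGroup (Fin (k + 2)) F).1ᵀ = lowM 0 (A⁻¹ : SpecialLinearGroup (Fin (k + 1)) F).1ᵀ
  rw [← map_inv]
  show (lowM 0 (A⁻¹ : SpecialLinearGroup (Fin (k + 1)) F).1)ᵀ = _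
  ext a b
  refine Fin.cases ?_ (fun a => ?_) a <;> refine Fin.cases ?_ (fun b => ?_) b <;> simp [lowM]

theorem Dg_comm_kd (ζ : Fˣ) :
    Commute (Dg (k := k) ζ) (SpecialLinearGroup.toGL (kd ζ) : GL (Fin (k + 2)) F) :=
  Units.ext (by
    show diagonal _ * diagonal _ = diagonal _ * diagonal _
    simp only [diagonal_mul_diagonal]
    congr 1; funext i; exact mul_comm _ _)

theorem Dg_comm_iota (ζ : Fˣ) (A : SpecialLinearGroup (Fin (k + 1)) F) :
    Commute (Dg (k := k) ζ) (SpecialLinearGroup.toGL (iota A) : GL (Fin (k + 2)) F) :=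
  Units.ext (by
    show diagonal (Function.update 1 0 (ζ : F)) * lowM 0 A.1 =
      lowM 0 A.1 * diagonal (Function.update 1 0 (ζ : F))
    ext a b
    rw [diagonal_mul, mul_diagonal]
    refine Fin.cases ?_ (fun a => ?_) a <;> refine Fin.cases ?_ (fun b => ?_) b <;> simp [lowM])

theorem Dg_T (ζ : Fˣ) {i j : Fin (k + 2)} (hij : i ≠ j) (t : F) :
    Dg (k := k) ζ * SpecialLinearGroup.toGL (SpecialLinearGroup.transvection hij t) * (Dg ζ)⁻¹ =
      SpecialLinearGroup.toGL (SpecialLinearGroup.transvection hij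
        (Function.update (1 : Fin (k + 2) → F) 0 (ζ : F) i * t *
          (Function.update (1 : Fin (k + 2) → F) 0 (ζ : F) j)⁻¹)) := by
  rw [mul_inv_eq_iff_eq_mul]
  apply Units.ext
  show diagonal _ * (1 + Matrix.single i j t) = (1 + Matrix.single i j _) * diagonal _
  rw [mul_add, add_mul, mul_one, one_mul]
  congr 1
  ext a b
  rw [diagonal_mul, mul_diagonal, Matrix.single_apply, Matrix.single_apply]
  have hne : ∀ i, Function.update (1 : Fin (k + 2) → F) 0 (ζ : F) i ≠ 0 := fun i => by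
    by_cases h : i = 0 <;> simp [h]
  split_ifs with h
  · obtain ⟨rfl, rfl⟩ := h
    rw [mul_assoc, inv_mul_cancel₀ (hne j), mul_one]
  · simp

theorem Dg_mulVec (ζ : Fˣ) :
    (Dg ζ : GL (Fin (k + 2)) F).1 *ᵥ δ 0 = (ζ : F) • δ 0 := by
  funext i
  show (diagonal (Function.update 1 0 (ζ : F)) *ᵥ δ 0) i = _
  rw [mulVec_diagonal]
  by_cases h : i = 0 <;> simp [h]

/-- The upper relations hold. -/
theorem relsU {ζ : Fˣ} (hgen : ∀ u : Fˣ, u ∈ Subgroup.zpowers ζ) :
    Rels (lev (k := k)) (em (H40.CRW.hS ζ)) (em.comp H40.CRW.xS) ζ where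
  hgen := hgen
  hX c := scale_jU (a := (ζ : F)) (by
    rw [em_hS, jU, levGL_smul, mulVec_zero, Dg_mulVec]
    funext i; rcases i with i | i <;> by_cases h : i = 0 <;> simp [h]) c
  kX c := scale_jU (a := (ζ : F)) (by
    rw [lev_jU, H40.SpQuad.kd_mulVec]
    exact jUl.map_smul (ζ : F) (δ 0)) c
  hk := by rw [em_hS]; exact (Dg_comm_kd ζ).map levGL
  hA A := by rw [em_hS]; exact (Dg_comm_iota ζ A).map levGL
  XA A c := by
    refine mul_inv_eq_iff_eq_mul.1 ?_
    have := scale_jU (g := lev (iota A)) (a := (1 : F)) (by rw [lev_jU, fix_iota, one_smul]) c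
    rwa [one_mul, one_mul] at this
  hT := by
    rw [em_hS, lev, MonoidHom.comp_apply, MonoidHom.comp_apply, ← map_inv, ← map_mul, ← map_mul, Dg_T]
    simp
  hT' := by
    rw [em_hS, lev, MonoidHom.comp_apply, MonoidHom.comp_apply, ← map_inv, ← map_mul, ← map_mul, Dg_T]
    simp
  XT := by
    refine mul_inv_eq_iff_eq_mul.1 ?_
    have := scale_jU (g := lev (SpecialLinearGroup.transvection (show (0 : Fin (k + 2)) ≠ 1 by simp) (1 : F)))
      (a := (1 : F)) (by
        rw [lev_jU, one_smul]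
        congr 1
        show (1 + Matrix.single 0 1 (1 : F)) *ᵥ δ 0 = δ 0
        rw [add_mulVec, one_mulVec, Matrix.single_mulVec]
        simp) 1
    rwa [one_mul, one_mul] at this
  comm1 := by rw [U1_eq_tv, U1_eq_tv]; exact tv_commute (sf_jU _ _) _ _
  lin := polar_lin jUl sf_jU _ U1_eq_tv _ _ _
  tri j _ := polar_tri jUl sf_jU _ U1_eq_tv _ _ _

/-- The lower relations hold. -/
theorem relsW {ζ : Fˣ} (hgen : ∀ u : Fˣ, u ∈ Subgroup.zpowers ζ) :
    Rels ((lev (k := k)).comp theta) (em (H40.CRW.hS ζ)) (yHom em) ζ⁻¹ where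
  hgen u := by rw [Subgroup.zpowers_inv]; exact hgen u
  hX c := scale_jW (a := ((ζ⁻¹ : Fˣ) : F)) (by
    rw [em_hS, jW, levGL_smul, mulVec_zero, H40.SpTrans.gT_Dg, Dg_mulVec]
    funext i; rcases i with i | i <;> by_cases h : i = 0 <;> simp [h]) c
  kX c := scale_jW (a := ((ζ⁻¹ : Fˣ) : F)) (by
    rw [MonoidHom.comp_apply, lev_theta_jW, H40.SpQuad.kd_mulVec]
    exact jWl.map_smul ((ζ⁻¹ : Fˣ) : F) (δ 0)) c
  hk := by
    rw [em_hS, MonoidHom.comp_apply, kd_theta, inv_inv]
    exact (Dg_comm_kd ζ).map levGL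
  hA A := by
    rw [em_hS, MonoidHom.comp_apply, theta_iota]
    exact (Dg_comm_iota ζ _).map levGL
  XA A c := by
    refine mul_inv_eq_iff_eq_mul.1 ?_
    have := scale_jW (g := lev (theta (iota A))) (a := (1 : F))
      (by rw [lev_theta_jW, fix_iota, one_smul]) c
    rwa [one_mul, one_mul] at this
  hT := by
    rw [em_hS, MonoidHom.comp_apply, MonoidHom.comp_apply]
    have e : ∀ t : F, theta (SpecialLinearGroup.transvection (show (0 : Fin (k + 2)) ≠ 1 by simp) t) =
        SpecialLinearGroup.transvection (show (1 : Fin (k + 2)) ≠ 0 by simp) (-t) := fun t => by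
      apply Subtype.ext
      show ((SpecialLinearGroup.transvection (show (0 : Fin (k + 2)) ≠ 1 by simp) t)⁻¹).1ᵀ = _
      rw [SpecialLinearGroup.transvection_inv, SpecialLinearGroup.transvection_coe,
        SpecialLinearGroup.transvection_coe, transpose_add, transpose_one, transpose_single]
    rw [e, e, lev, MonoidHom.comp_apply, MonoidHom.comp_apply, ← map_inv, ← map_mul, ← map_mul, Dg_T]
    simp
  hT' := by
    rw [em_hS, MonoidHom.comp_apply, MonoidHom.comp_apply]
    have e : ∀ t : F, theta (SpecialLinearGroup.transvection (show (1 : Fin (k + 2)) ≠ 0 by simp) t) =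
        SpecialLinearGroup.transvection (show (0 : Fin (k + 2)) ≠ 1 by simp) (-t) := fun t => by
      apply Subtype.ext
      show ((SpecialLinearGroup.transvection (show (1 : Fin (k + 2)) ≠ 0 by simp) t)⁻¹).1ᵀ = _
      rw [SpecialLinearGroup.transvection_inv, SpecialLinearGroup.transvection_coe,
        SpecialLinearGroup.transvection_coe, transpose_add, transpose_one, transpose_single]
    rw [e, e, lev, MonoidHom.comp_apply, MonoidHom.comp_apply, ← map_inv, ← map_mul, ← map_mul, Dg_T]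
    simp
  XT := by
    refine mul_inv_eq_iff_eq_mul.1 ?_
    have := scale_jW (g := lev (theta (SpecialLinearGroup.transvection
      (show (0 : Fin (k + 2)) ≠ 1 by simp) (1 : F)))) (a := (1 : F)) (by
        rw [lev_theta_jW, one_smul]
        congr 1
        show (1 + Matrix.single 0 1 (1 : F)) *ᵥ δ 0 = δ 0
        rw [add_mulVec, one_mulVec, Matrix.single_mulVec]
        simp) 1
    rwa [one_mul, one_mul] at this
  comm1 := by rw [W1_eq_tv, W1_eq_tv]; exact tv_commute (sf_jW _ _) _ _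
  lin := polar_lin jWl sf_jW _ W1_eq_tv _ _ _
  tri j _ := polar_tri jWl sf_jW _ W1_eq_tv _ _ _

/-- All relations hold. -/
theorem rels {ζ : Fˣ} (hgen : ∀ u : Fˣ, u ∈ Subgroup.zpowers ζ) : TRels (lev (k := k)) em ζ where
  RU := relsU hgen
  RW := relsW hgen
  mixed := by
    rw [xU, W1_eq_tv]
    exact tv_commute (by rw [sf_vec]; simp) _ _
  cons := by
    have hU : ∀ (z : Vk) (c : F), (polar (U1 lev (em.comp H40.CRW.xS)) (δ 0) (δ 1) c : Spk) • z =
        z + c • (sf z (jU (δ 0)) • jU (δ (1 : Fin (k + 2))) + sf z (jU (δ 1)) • jU (δ 0)) :=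
      fun z c => polar_smul jUl sf_jU _ U1_eq_tv _ _ c z
    have hW : ∀ (z : Vk) (c : F), (polar (U1 (lev.comp theta) (yHom em)) (δ 0) (δ 1) c : Spk) • z =
        z + c • (sf z (jW (δ 0)) • jW (δ (1 : Fin (k + 2))) + sf z (jW (δ 1)) • jW (δ 0)) :=
      fun z c => polar_smul jWl sf_jW _ W1_eq_tv _ _ c z
    have iW : (BW (lev (k := k)) em (-1 : F))⁻¹ = BW lev em 1 := by
      refine inv_eq_of_mul_eq_one_right (sp_ext fun z => ?_)
      rw [mul_smul, one_smul, hW, hW]
      simp only [map_add, map_smul, LinearMap.add_apply, LinearMap.smul_apply, sf_jW, smul_eq_mul, mul_zero,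
        add_zero]
      module
    have iU : (BU (lev (k := k)) em (1 : F))⁻¹ = BU lev em (-1) := by
      refine inv_eq_of_mul_eq_one_right (sp_ext fun z => ?_)
      rw [mul_smul, one_smul, hU, hU]
      simp only [map_add, map_smul, LinearMap.add_apply, LinearMap.smul_apply, sf_jU, smul_eq_mul, mul_zero,
        add_zero]
      module
    rw [← iW, ← iU, xU, W1_eq_tv, H48.tv_conj, H48.tv_conj, hU, hW]
    congr 1
    simp only [sf_vec]
    funext i
    rcases i with i | i <;> by_cases h0 : i = 0 <;> by_cases h1 : i = 1 <;> simp_all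
  link := by
    have hW : ∀ (z : Vk) (c : F), (polar (U1 (lev.comp theta) (yHom em)) (δ 0) (δ 1) c : Spk) • z =
        z + c • (sf z (jW (δ 0)) • jW (δ (1 : Fin (k + 2))) + sf z (jW (δ 1)) • jW (δ 0)) :=
      fun z c => polar_smul jWl sf_jW _ W1_eq_tv _ _ c z
    have iW : BW (lev (k := k)) em (1 : F) = (BW lev em (-1 : F))⁻¹ := by
      refine (inv_eq_of_mul_eq_one_right (sp_ext fun z => ?_)).symm
      rw [mul_smul, one_smul, hW, hW]
      simp only [map_add, map_smul, LinearMap.add_apply, LinearMap.smul_apply, sf_jW, smul_eq_mul, mul_zero,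
        add_zero]
      module
    rw [iW, xU, xU, W1_eq_tv, H48.tv_conj, hW]
    refine ext_vec fun x y => ?_
    rw [lev, MonoidHom.comp_apply, levGL_smul, H40.SpTrans.gT_toGL]
    show vec ((1 + Matrix.single 0 1 (1 : F)) *ᵥ x)
      ((SpecialLinearGroup.transvection (show (0 : Fin (k + 2)) ≠ 1 by simp) (1 : F))⁻¹.1ᵀ *ᵥ y) = _
    rw [SpecialLinearGroup.transvection_inv, SpecialLinearGroup.transvection_coe, transpose_add,
      transpose_one, transpose_single, add_mulVec, one_mulVec, add_mulVec, one_mulVec,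
      Matrix.single_mulVec, Matrix.single_mulVec]
    simp only [mul_smul, H48.tv_smul, map_add, map_smul, map_neg, LinearMap.add_apply,
      LinearMap.smul_apply, LinearMap.neg_apply, sf_vec, smul_eq_mul]
    funext i
    rcases i with i | i <;> by_cases h0 : i = 0 <;> by_cases h1 : i = 1 <;> simp_all <;> ring

end H40.SpModel
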