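import Cfsg.Agent.H40.PresStep
import Cfsg.Agent.H40.BlockAbstract
import Cfsg.Agent.H48.SymRadical

/-!
A root group centralised by a point stabilizer of `SL_m`: the orbit gives the group of symmetric
matrices.
-/

set_option autoImplicit false
set_option linter.unusedSectionVars false
set_option linter.style.haveILetI false

namespace H40.SpQuad

open Matrix
open H40.PresStep (e₀ iota low theta)

variable {F : Type*} [Field F]

/-- A unit vector. -/
abbrev δ {m : ℕ} (i : Fin m) : Fin m → F := Pi.single i 1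

theorem exists_gl_family {m k : ℕ} (e : Fin k ↪ Fin m) {v : Fin k → Fin m → F}
    (hv : LinearIndependent F v) :
    ∃ g : GL (Fin m) F, ∀ i, g.1 *ᵥ δ (e i) = v i := by
  classical
  let b := Module.Basis.sumExtend hv
  haveI : Finite (Fin k ⊕ Module.Basis.sumExtendIndex hv) := Module.Finite.finite_basis b
  haveI := Fintype.ofFinite (Fin k ⊕ Module.Basis.sumExtendIndex hv)
  have hcard : Fintype.card (Fin k ⊕ Module.Basis.sumExtendIndex hv) = Fintype.card (Fin m) := by
    rw [← Module.finrank_eq_card_basis b, Module.finrank_fintype_fun_eq_card]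
  let ι₀ := Fintype.equivOfCardEq hcard
  let f : Fin k ↪ Fin m := ⟨fun i => ι₀ (Sum.inl i), fun a a' h => Sum.inl_injective (ι₀.injective h)⟩
  obtain ⟨π, hπ⟩ := Equiv.Perm.exists_extending_pair f e f.injective e.injective
  let b' : Module.Basis (Fin m) F (Fin m → F) := b.reindex (ι₀.trans π)
  let L := (Pi.basisFun F (Fin m)).equiv b' (Equiv.refl _)
  have hdet : (LinearMap.toMatrix' L.toLinearMap).det ≠ 0 := by
    rw [LinearMap.det_toMatrix']
    exact (L.isUnit_det').ne_zero
  refine ⟨Matrix.GeneralLinearGroup.mkOfDetNeZero _ hdet, fun i => ?_⟩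
  show LinearMap.toMatrix' L.toLinearMap *ᵥ δ (e i) = v i
  rw [LinearMap.toMatrix'_mulVec]
  show L (δ (e i)) = v i
  rw [show (δ (e i) : Fin m → F) = Pi.basisFun F (Fin m) (e i) by simp [δ], Module.Basis.equiv_apply,
    Equiv.refl_apply, Module.Basis.reindex_apply]
  rw [show (ι₀.trans π).symm (e i) = Sum.inl i from by
    rw [Equiv.symm_apply_eq, Equiv.trans_apply]; exact (hπ i).symm]
  simp only [b, Module.Basis.sumExtend, Module.Basis.reindex_apply, Module.Basis.coe_extend,
    Equiv.symm_symm]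
  rfl

variable {k : ℕ}

/-- A chosen element moving the first unit vector. -/
theorem exists_col {x : Fin (k + 2) → F} (hx : x ≠ 0) :
    ∃ g : SpecialLinearGroup (Fin (k + 2)) F, g.1 *ᵥ δ 0 = x := by
  obtain ⟨g, hg⟩ := H40.PresStep.exists_sl_row hx
  refine ⟨⟨g.1ᵀ, by rw [det_transpose, g.2]⟩, ?_⟩
  show g.1ᵀ *ᵥ δ 0 = x
  rw [mulVec_transpose]
  exact hg

open Classical in
/-- The orbit map. -/
noncomputable def orb {M : Type*} [Group M] (ψ : SpecialLinearGroup (Fin (k + 2)) F → M) (X : F → M)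
    (x : Fin (k + 2) → F) (c : F) : M :=
  if h : x = 0 then 1 else ψ (exists_col h).choose * X c * (ψ (exists_col h).choose)⁻¹

theorem map_orb {M N : Type*} [Group M] [Group N] (f : M →* N)
    (ψ : SpecialLinearGroup (Fin (k + 2)) F → M) (X : F → M) (x : Fin (k + 2) → F) (c : F) :
    f (orb ψ X x c) = orb (fun g => f (ψ g)) (fun a => f (X a)) x c := by
  unfold orb
  split_ifs with h <;> simp

/-- The polarisation. -/
noncomputable def polar {M : Type*} [Group M] (o : (Fin (k + 2) → F) → F → M)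
    (x y : Fin (k + 2) → F) (c : F) : M :=
  o (x + y) c * o x (-c) * o y (-c)

theorem map_polar {M N : Type*} [Group M] [Group N] (f : M →* N) (o : (Fin (k + 2) → F) → F → M)
    (x y : Fin (k + 2) → F) (c : F) :
    f (polar o x y c) = polar (fun u a => f (o u a)) x y c := by
  simp [polar]

/-- The torus element `diag (u, u⁻¹, 1, …)`. -/
def kd (u : Fˣ) : SpecialLinearGroup (Fin (k + 2)) F :=
  ⟨diagonal (Function.update (Function.update 1 0 (u : F)) 1 ((u⁻¹ : Fˣ) : F)), by
    rw [det_diagonal, Finset.prod_update_of_mem (Finset.mem_univ _),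
      Finset.prod_update_of_mem (Finset.mem_sdiff.2 ⟨Finset.mem_univ _, by simp⟩)]
    simp⟩

theorem kd_mulVec (u : Fˣ) : (kd (k := k) u).1 *ᵥ δ 0 = (u : F) • δ 0 := by
  funext a
  simp only [kd, mulVec_diagonal, Pi.smul_apply, smul_eq_mul, δ]
  by_cases h : a = 0
  · subst h; simp
  · simp [h]

theorem kd_conj01 (u : Fˣ) (t : F) :
    kd u * SpecialLinearGroup.transvection (show (0 : Fin (k + 2)) ≠ 1 by simp) t * (kd u)⁻¹ =
      SpecialLinearGroup.transvection (show (0 : Fin (k + 2)) ≠ 1 by simp) ((u : F) * u * t) := by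
  rw [mul_inv_eq_iff_eq_mul]
  apply Subtype.ext
  show diagonal _ * (1 + Matrix.single 0 1 t) = (1 + Matrix.single 0 1 ((u : F) * u * t)) * diagonal _
  rw [mul_add, add_mul, mul_one, one_mul]
  congr 1
  ext a b
  rw [diagonal_mul, mul_diagonal, Matrix.single_apply, Matrix.single_apply]
  split_ifs with h
  · obtain ⟨rfl, rfl⟩ := h
    simp
    field_simp
  · simp

theorem kd_conj10 (u : Fˣ) (t : F) :
    kd u * SpecialLinearGroup.transvection (show (1 : Fin (k + 2)) ≠ 0 by simp) t * (kd u)⁻¹ =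
      SpecialLinearGroup.transvection (show (1 : Fin (k + 2)) ≠ 0 by simp)
        ((u⁻¹ : Fˣ) * (u⁻¹ : Fˣ) * t) := by
  rw [mul_inv_eq_iff_eq_mul]
  apply Subtype.ext
  show diagonal _ * (1 + Matrix.single 1 0 t) =
    (1 + Matrix.single 1 0 (((u⁻¹ : Fˣ) : F) * (u⁻¹ : Fˣ) * t)) * diagonal _
  rw [mul_add, add_mul, mul_one, one_mul]
  congr 1
  ext a b
  rw [diagonal_mul, mul_diagonal, Matrix.single_apply, Matrix.single_apply]
  split_ifs with h
  · obtain ⟨rfl, rfl⟩ := h
    simp
    field_simp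
  · simp

/-- The determinant generator. -/
def Dg (ζ : Fˣ) : GL (Fin (k + 2)) F :=
  Matrix.GeneralLinearGroup.mkOfDetNeZero (diagonal (Function.update 1 0 (ζ : F))) (by
    rw [det_diagonal, Finset.prod_update_of_mem (Finset.mem_univ _)]
    simp)

/-- Conjugation by the determinant generator. -/
def cD (ζ : Fˣ) : SpecialLinearGroup (Fin (k + 2)) F →* SpecialLinearGroup (Fin (k + 2)) F :=
  MonoidHom.mk' (fun g => ⟨(Dg ζ : GL (Fin (k + 2)) F).1 * g.1 * ((Dg ζ)⁻¹ : GL (Fin (k + 2)) F).1, by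
      rw [Matrix.det_units_conj, g.2]⟩)
    fun g h => Subtype.ext (by
      show (Dg ζ : GL (Fin (k + 2)) F).1 * (g.1 * h.1) * ((Dg ζ)⁻¹ : GL (Fin (k + 2)) F).1 = _ * _
      simp only [mul_assoc, Units.inv_mul_cancel_left])

theorem cD_eq (ζ : Fˣ) {g g' : SpecialLinearGroup (Fin (k + 2)) F}
    (h : diagonal (Function.update 1 0 (ζ : F)) * g.1 = g'.1 * diagonal (Function.update 1 0 (ζ : F))) :
    cD ζ g = g' := by
  apply Subtype.ext
  show (Dg ζ : GL (Fin (k + 2)) F).1 * g.1 * ((Dg ζ)⁻¹ : GL (Fin (k + 2)) F).1 = g'.1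
  rw [show (Dg ζ : GL (Fin (k + 2)) F).1 * g.1 = g'.1 * (Dg ζ : GL (Fin (k + 2)) F).1 from h,
    mul_assoc, Units.mul_inv, mul_one]

/-! ### The hypotheses -/

variable {G : Type*} [Group G] (ψ : SpecialLinearGroup (Fin (k + 2)) F →* G) (h : G)
  (X : Multiplicative F →* G) (ζ : Fˣ)

/-- The orbit. -/
noncomputable abbrev U1 (x : Fin (k + 2) → F) (c : F) : G := orb ψ (fun a => X (.ofAdd a)) x c

/-- The relations. -/
structure Rels : Prop where
  hgen : ∀ u : Fˣ, u ∈ Subgroup.zpowers ζ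
  hX : ∀ c : F, h * X (.ofAdd c) * h⁻¹ = X (.ofAdd ((ζ : F) * ζ * c))
  kX : ∀ c : F, ψ (kd ζ) * X (.ofAdd c) * (ψ (kd ζ))⁻¹ = X (.ofAdd ((ζ : F) * ζ * c))
  hk : Commute h (ψ (kd ζ))
  hA : ∀ A : SpecialLinearGroup (Fin (k + 1)) F, Commute h (ψ (iota A))
  XA : ∀ (A : SpecialLinearGroup (Fin (k + 1)) F) (c : F), Commute (ψ (iota A)) (X (.ofAdd c))
  hT : h * ψ (SpecialLinearGroup.transvection (show (0 : Fin (k + 2)) ≠ 1 by simp) 1) * h⁻¹ =
    ψ (SpecialLinearGroup.transvection (show (0 : Fin (k + 2)) ≠ 1 by simp) (ζ : F))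
  hT' : h * ψ (SpecialLinearGroup.transvection (show (1 : Fin (k + 2)) ≠ 0 by simp) 1) * h⁻¹ =
    ψ (SpecialLinearGroup.transvection (show (1 : Fin (k + 2)) ≠ 0 by simp) ((ζ⁻¹ : Fˣ) : F))
  XT : Commute (ψ (SpecialLinearGroup.transvection (show (0 : Fin (k + 2)) ≠ 1 by simp) 1))
    (X (.ofAdd 1))
  comm1 : Commute (U1 ψ X (δ 0) 1) (U1 ψ X (δ 1) 1)
  lin : polar (U1 ψ X) ((ζ : F) • δ 0) (δ 1) 1 = polar (U1 ψ X) (δ 0) (δ 1) (ζ : F)
  tri : ∀ j : Fin (k + 2), (j : ℕ) = 2 →
    polar (U1 ψ X) (δ 0) (δ 1 + δ j) 1 = polar (U1 ψ X) (δ 0) (δ 1) 1 * polar (U1 ψ X) (δ 0) (δ j) 1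

variable {ψ h X ζ} (R : Rels ψ h X ζ) [Finite F]

omit [Finite F] in
/-- A root subgroup of `SL_m` as a homomorphism. -/
theorem transvection_hom {i j : Fin (k + 2)} (hij : i ≠ j) :
    ∃ φ : Multiplicative F →* SpecialLinearGroup (Fin (k + 2)) F,
      ∀ t, φ (.ofAdd t) = SpecialLinearGroup.transvection hij t :=
  ⟨MonoidHom.mk' (fun t => SpecialLinearGroup.transvection hij t.toAdd) fun a b => by
    rw [toAdd_mul, SpecialLinearGroup.transvection_add], fun _ => rfl⟩

include R

/-- The torus scales the root group by squares. -/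
theorem k_scale (u : Fˣ) (c : F) :
    ψ (kd u) * X (.ofAdd c) * (ψ (kd u))⁻¹ = X (.ofAdd ((u : F) * u * c)) := by
  have hm : ∀ u v : Fˣ, (kd (k := k) (u * v)) = kd u * kd v := by
    intro u v
    apply Subtype.ext
    show diagonal _ = diagonal _ * diagonal _
    rw [diagonal_mul_diagonal]
    congr 1
    funext a
    by_cases h1 : a = 1
    · subst h1; simp [mul_comm]
    · by_cases h0 : a = 0
      · subst h0; simp
      · simp [h0, h1]
  obtain ⟨e, rfl⟩ := mem_powers_iff_mem_zpowers.2 (R.hgen u)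
  simp only
  induction e with
  | zero =>
    have h1 : kd (k := k) (1 : Fˣ) = 1 := by simpa using hm 1 1
    rw [pow_zero, h1, map_one, one_mul, inv_one, mul_one]; simp
  | succ e ih =>
    rw [pow_succ', hm, map_mul,
      show ψ (kd ζ) * ψ (kd (ζ ^ e)) * X (.ofAdd c) * (ψ (kd ζ) * ψ (kd (ζ ^ e)))⁻¹ =
        ψ (kd ζ) * (ψ (kd (ζ ^ e)) * X (.ofAdd c) * (ψ (kd (ζ ^ e)))⁻¹) * (ψ (kd ζ))⁻¹ by group,
      ih, R.kX, Units.val_mul]
    congr 2
    ring

/-- The determinant generator scales one root group. -/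
theorem hT_all (t : F) :
    h * ψ (SpecialLinearGroup.transvection (show (0 : Fin (k + 2)) ≠ 1 by simp) t) * h⁻¹ =
      ψ (SpecialLinearGroup.transvection (show (0 : Fin (k + 2)) ≠ 1 by simp) ((ζ : F) * t)) := by
  obtain ⟨φ, hφ⟩ := transvection_hom (F := F) (show (0 : Fin (k + 2)) ≠ 1 by simp)
  let s : Multiplicative F →* Multiplicative F :=
    MonoidHom.mk' (fun a => .ofAdd ((ζ : F) * a.toAdd)) fun a b => by
      rw [toAdd_mul, mul_add, ofAdd_add]
  have := H40.BlockPres.hom_ext_sq ((MulAut.conj h).toMonoidHom.comp (ψ.comp φ)) ((ψ.comp φ).comp s)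
    fun y => by
    show h * ψ (φ _) * h⁻¹ = ψ (φ (s _))
    simp only [s, MonoidHom.mk'_apply, toAdd_ofAdd, hφ]
    obtain ⟨e, rfl⟩ := mem_powers_iff_mem_zpowers.2 (R.hgen y)
    have hc : Commute h (ψ (kd ((ζ : Fˣ) ^ e))) := by
      have : ∀ e : ℕ, Commute h (ψ (kd ((ζ : Fˣ) ^ e))) := by
        intro e
        have hm : ∀ u v : Fˣ, (kd (k := k) (u * v)) = kd u * kd v := by
          intro u v
          apply Subtype.ext
          show diagonal _ = diagonal _ * diagonal _
          rw [diagonal_mul_diagonal]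
          congr 1
          funext a
          by_cases h1 : a = 1
          · subst h1; simp [mul_comm]
          · by_cases h0 : a = 0
            · subst h0; simp
            · simp [h0, h1]
        induction e with
        | zero =>
          have h1 : kd (k := k) (1 : Fˣ) = 1 := by simpa using hm 1 1
          rw [pow_zero, h1, map_one]; exact Commute.one_right _
        | succ e ih => rw [pow_succ', hm, map_mul]; exact R.hk.mul_right ih
      exact this e
    have e1 : ∀ a : F, SpecialLinearGroup.transvection (show (0 : Fin (k + 2)) ≠ 1 by simp)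
        (((ζ ^ e : Fˣ) : F) * (ζ ^ e : Fˣ) * a) =
        kd (ζ ^ e) * SpecialLinearGroup.transvection (show (0 : Fin (k + 2)) ≠ 1 by simp) a *
          (kd (ζ ^ e))⁻¹ := fun a => (kd_conj01 _ a).symm
    have e2 := e1 1
    rw [mul_one] at e2
    rw [mul_comm (ζ : F), e2, e1, map_mul, map_mul, map_mul, map_mul, map_inv, ← R.hT, ← conj_mul,
      ← conj_mul, ← conj_inv, hc.eq, mul_inv_cancel_right]
  simpa [s, hφ] using DFunLike.congr_fun this (.ofAdd t)

/-- The determinant generator scales the opposite root group. -/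
theorem hT'_all (t : F) :
    h * ψ (SpecialLinearGroup.transvection (show (1 : Fin (k + 2)) ≠ 0 by simp) t) * h⁻¹ =
      ψ (SpecialLinearGroup.transvection (show (1 : Fin (k + 2)) ≠ 0 by simp)
        (((ζ⁻¹ : Fˣ) : F) * t)) := by
  obtain ⟨φ, hφ⟩ := transvection_hom (F := F) (show (1 : Fin (k + 2)) ≠ 0 by simp)
  let s : Multiplicative F →* Multiplicative F :=
    MonoidHom.mk' (fun a => .ofAdd (((ζ⁻¹ : Fˣ) : F) * a.toAdd)) fun a b => by
      rw [toAdd_mul, mul_add, ofAdd_add]
  have := H40.BlockPres.hom_ext_sq ((MulAut.conj h).toMonoidHom.comp (ψ.comp φ)) ((ψ.comp φ).comp s)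
    fun y => by
    show h * ψ (φ _) * h⁻¹ = ψ (φ (s _))
    simp only [s, MonoidHom.mk'_apply, toAdd_ofAdd, hφ]
    obtain ⟨u, rfl⟩ : ∃ u, y = u⁻¹ := ⟨y⁻¹, (inv_inv y).symm⟩
    obtain ⟨e, rfl⟩ := mem_powers_iff_mem_zpowers.2 (R.hgen u)
    have hm : ∀ u v : Fˣ, (kd (k := k) (u * v)) = kd u * kd v := by
      intro u v
      apply Subtype.ext
      show diagonal _ = diagonal _ * diagonal _
      rw [diagonal_mul_diagonal]
      congr 1
      funext a
      by_cases h1 : a = 1
      · subst h1; simp [mul_comm]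
      · by_cases h0 : a = 0
        · subst h0; simp
        · simp [h0, h1]
    have hc : Commute h (ψ (kd (ζ ^ e))) := by
      clear * - R hm
      induction e with
      | zero =>
        have h1 : kd (k := k) (1 : Fˣ) = 1 := by simpa using hm 1 1
        rw [pow_zero, h1, map_one]; exact Commute.one_right _
      | succ e ih => rw [pow_succ', hm, map_mul]; exact R.hk.mul_right ih
    have e1 : ∀ a : F, SpecialLinearGroup.transvection (show (1 : Fin (k + 2)) ≠ 0 by simp)
        ((((ζ ^ e)⁻¹ : Fˣ) : F) * ((ζ ^ e)⁻¹ : Fˣ) * a) =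
        kd (ζ ^ e) * SpecialLinearGroup.transvection (show (1 : Fin (k + 2)) ≠ 0 by simp) a *
          (kd (ζ ^ e))⁻¹ := fun a => (kd_conj10 _ a).symm
    have e2 := e1 1
    rw [mul_one] at e2
    rw [mul_comm ((ζ⁻¹ : Fˣ) : F), e2, e1, map_mul, map_mul, map_mul, map_mul, map_inv, ← R.hT',
      ← conj_mul, ← conj_mul, ← conj_inv, hc.eq, mul_inv_cancel_right]
  simpa [s, hφ] using DFunLike.congr_fun this (.ofAdd t)

/-- The first two root elements fix the root group. -/
theorem XT_all (t c : F) :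
    Commute (ψ (SpecialLinearGroup.transvection (show (0 : Fin (k + 2)) ≠ 1 by simp) t))
      (X (.ofAdd c)) := by
  obtain ⟨φ, hφ⟩ := transvection_hom (F := F) (show (0 : Fin (k + 2)) ≠ 1 by simp)
  have hg : ∀ a : F, (ψ (kd ζ))⁻¹ * X (.ofAdd ((ζ : F) * ζ * a)) * ψ (kd ζ) = X (.ofAdd a) := by
    intro a; rw [← R.kX a]; group
  have step : ∀ e : ℕ, Commute (ψ (φ (.ofAdd ((((ζ ^ e)⁻¹ : Fˣ) : F))))) (X (.ofAdd 1)) := by
    intro e
    induction e with
    | zero => simpa [hφ] using R.XT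
    | succ e ih =>
      have h1 := ih.map (MulAut.conj ((ψ (kd ζ))⁻¹ * h)).toMonoidHom
      simp only [MulEquiv.coe_toMonoidHom, MulAut.conj_apply, _root_.mul_inv_rev, inv_inv, hφ] at h1
      have e1 : ∀ b, (ψ (kd ζ))⁻¹ * h * b * (h⁻¹ * ψ (kd ζ)) =
          (ψ (kd ζ))⁻¹ * (h * b * h⁻¹) * ψ (kd ζ) := fun b => by group
      rw [e1, e1, R.hX, hg, hT_all R] at h1
      have e2 : (ψ (kd ζ))⁻¹ * ψ (SpecialLinearGroup.transvection (show (0 : Fin (k + 2)) ≠ 1 by simp)
          ((ζ : F) * (((ζ ^ e)⁻¹ : Fˣ) : F))) * ψ (kd ζ) =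
          ψ (SpecialLinearGroup.transvection (show (0 : Fin (k + 2)) ≠ 1 by simp)
            (((ζ ^ (e + 1))⁻¹ : Fˣ) : F)) := by
        have h3 : (ζ : F) * ζ * (((ζ ^ (e + 1))⁻¹ : Fˣ) : F) = (ζ : F) * (((ζ ^ e)⁻¹ : Fˣ) : F) := by
          rw [← Units.val_mul, ← Units.val_mul, ← Units.val_mul]
          congr 1
          rw [pow_succ', _root_.mul_inv_rev]
          group
        rw [← h3, ← kd_conj01, map_mul, map_mul, map_inv]; group
      rw [e2] at h1
      simpa [hφ] using h1
  have all1 : ∀ t, Commute (ψ (φ (.ofAdd t))) (X (.ofAdd 1)) := by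
    intro t
    by_cases ht : t = 0
    · subst ht; rw [ofAdd_zero, map_one, map_one]; exact Commute.one_left _
    obtain ⟨e, he⟩ := mem_powers_iff_mem_zpowers.2 (R.hgen (Units.mk0 t ht)⁻¹)
    have := step e
    rwa [show (ζ ^ e)⁻¹ = Units.mk0 t ht by simp only at he; rw [he, inv_inv], Units.val_mk0] at this
  have hh : ∀ (e : ℕ) (t : F), Commute (ψ (φ (.ofAdd t)))
      (X (.ofAdd ((((ζ ^ e : Fˣ) : F)) * (ζ ^ e : Fˣ)))) := by
    intro e
    induction e with
    | zero => intro t; simpa using all1 t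
    | succ e ih =>
      intro t
      have h1 := (ih (((ζ⁻¹ : Fˣ) : F) * t)).map (MulAut.conj h).toMonoidHom
      simp only [MulEquiv.coe_toMonoidHom, MulAut.conj_apply, hφ] at h1
      rw [hT_all R, R.hX, ← mul_assoc, Units.mul_inv, one_mul] at h1
      rw [hφ]
      rw [show ((ζ ^ (e + 1) : Fˣ) : F) * ((ζ ^ (e + 1) : Fˣ) : F) =
        (ζ : F) * ζ * (((ζ ^ e : Fˣ) : F) * ((ζ ^ e : Fˣ) : F)) by rw [pow_succ', Units.val_mul]; ring]
      exact h1
  have := H40.BlockPres.hom_ext_sq ((MulAut.conj (ψ (φ (.ofAdd t)))).toMonoidHom.comp X) X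
    fun y => by
    obtain ⟨e, rfl⟩ := mem_powers_iff_mem_zpowers.2 (R.hgen y)
    show ψ (φ (.ofAdd t)) * X _ * (ψ (φ (.ofAdd t)))⁻¹ = X _
    rw [(hh e t).eq, mul_inv_cancel_right]
  have hc : ψ (φ (.ofAdd t)) * X (.ofAdd c) * (ψ (φ (.ofAdd t)))⁻¹ = X (.ofAdd c) :=
    DFunLike.congr_fun this (.ofAdd c)
  rw [← hφ]
  exact mul_inv_eq_iff_eq_mul.1 hc

/-- The stabilizer of the first unit vector fixes the root group. -/
theorem stab (g : SpecialLinearGroup (Fin (k + 2)) F) (hg : g.1 *ᵥ δ 0 = δ 0) (c : F) :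
    Commute (ψ g) (X (.ofAdd c)) := by
  obtain ⟨r, A, hA⟩ := H40.PresStep.exists_low (theta g) (by
    show (Pi.single 0 1) ᵥ* ((g⁻¹ : SpecialLinearGroup (Fin (k + 2)) F).1)ᵀ = _
    rw [vecMul_transpose]
    conv_lhs => rw [show (Pi.single 0 1 : Fin (k + 2) → F) = δ 0 from rfl, ← hg, mulVec_mulVec]
    rw [show (g⁻¹ : SpecialLinearGroup (Fin (k + 2)) F).1 * g.1 = 1 from
      congrArg Subtype.val (inv_mul_cancel g), one_mulVec])
  rw [← H40.PresStep.theta_theta g, hA, H40.PresStep.low_eq, map_mul, map_mul]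
  have hiota : theta (iota A) = iota (theta A) := by
    apply Subtype.ext
    show ((iota A)⁻¹ : SpecialLinearGroup (Fin (k + 2)) F).1ᵀ =
      H40.PresStep.lowM 0 (A⁻¹ : SpecialLinearGroup (Fin (k + 1)) F).1ᵀ
    rw [← map_inv]
    show (H40.PresStep.lowM 0 (A⁻¹ : SpecialLinearGroup (Fin (k + 1)) F).1)ᵀ = _
    ext a b
    refine Fin.cases ?_ (fun a => ?_) a <;> refine Fin.cases ?_ (fun b => ?_) b <;>
      simp [H40.PresStep.lowM]
  rw [hiota]
  refine Commute.mul_left ?_ (R.XA _ _)
  -- the unipotent radical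
  have hlow : ∀ (y z : Fin (k + 1) → F), low (y + z) 1 = low y 1 * low z 1 := fun y z => by
    rw [H40.PresStep.low_mul, H40.PresStep.cone, one_mulVec, one_mul]
  have hone : ∀ (j : Fin (k + 1)) (t : F), Commute (ψ (theta (low (Pi.single j t) 1))) (X (.ofAdd c)) := by
    intro j t
    have e : theta (low (Pi.single (0 : Fin (k + 1)) t) 1) =
        SpecialLinearGroup.transvection (show (0 : Fin (k + 2)) ≠ 1 by simp) (-t) := by
      apply Subtype.ext
      show ((low (Pi.single (0 : Fin (k + 1)) t) 1)⁻¹ : SpecialLinearGroup (Fin (k + 2)) F).1ᵀ = _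
      rw [H40.PresStep.low_single, SpecialLinearGroup.transvection_inv,
        SpecialLinearGroup.transvection_coe, SpecialLinearGroup.transvection_coe, transpose_add,
        transpose_one, transpose_single]
      rfl
    have h0 : Commute (ψ (theta (low (Pi.single (0 : Fin (k + 1)) t) 1))) (X (.ofAdd c)) := by
      rw [e]; exact XT_all R _ _
    obtain ⟨B, hB⟩ : ∃ B : SpecialLinearGroup (Fin (k + 1)) F,
        B.1 *ᵥ Pi.single 0 t = Pi.single j t := by
      rcases k with _ | k
      · refine ⟨1, ?_⟩; rw [H40.PresStep.cone, one_mulVec, show j = 0 from Fin.eq_zero j]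
      · obtain ⟨B, hB⟩ := exists_col (x := (δ j : Fin (k + 2) → F)) (fun e => by
          simpa using congrFun e j)
        refine ⟨B, ?_⟩
        rw [show (Pi.single 0 t : Fin (k + 2) → F) = t • δ 0 by simp [δ, ← Pi.single_smul],
          mulVec_smul, hB]
        simp [δ, ← Pi.single_smul]
    have e2 := H40.PresStep.iota_conj_low B (Pi.single (0 : Fin (k + 1)) t)
    rw [hB] at e2
    rw [← e2, map_mul, map_mul, map_inv, map_mul, map_mul, map_inv]
    have hiB : Commute (ψ (theta (iota B))) (X (.ofAdd c)) := by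
      have : theta (iota B) = iota (theta B) := by
        apply Subtype.ext
        show ((iota B)⁻¹ : SpecialLinearGroup (Fin (k + 2)) F).1ᵀ =
          H40.PresStep.lowM 0 (B⁻¹ : SpecialLinearGroup (Fin (k + 1)) F).1ᵀ
        rw [← map_inv]
        show (H40.PresStep.lowM 0 (B⁻¹ : SpecialLinearGroup (Fin (k + 1)) F).1)ᵀ = _
        ext a b
        refine Fin.cases ?_ (fun a => ?_) a <;> refine Fin.cases ?_ (fun b => ?_) b <;>
          simp [H40.PresStep.lowM]
      rw [this]; exact R.XA _ _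
    exact (hiB.mul_left h0).mul_left hiB.inv_left
  rw [← Finset.univ_sum_single r]
  refine Finset.sum_induction _ (fun r => Commute (ψ (theta (low r 1))) (X (.ofAdd c)))
    (fun a b ha hb => ?_) ?_ (fun j _ => hone j _)
  · rw [hlow, map_mul, map_mul]; exact ha.mul_left hb
  · rw [H40.PresStep.low_one, map_one, map_one]; exact Commute.one_left _

theorem U1_eq (g : SpecialLinearGroup (Fin (k + 2)) F) (c : F) :
    U1 ψ X (g.1 *ᵥ δ 0) c = ψ g * X (.ofAdd c) * (ψ g)⁻¹ := by
  have hne : g.1 *ᵥ δ 0 ≠ 0 := by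
    intro e
    have : ((g⁻¹ : SpecialLinearGroup (Fin (k + 2)) F).1 * g.1) *ᵥ δ 0 = 0 := by
      rw [← mulVec_mulVec, e, mulVec_zero]
    rw [show (g⁻¹ : SpecialLinearGroup (Fin (k + 2)) F).1 * g.1 = 1 from
      congrArg Subtype.val (inv_mul_cancel g), one_mulVec] at this
    simpa using congrFun this 0
  unfold U1 orb
  rw [dif_neg hne]
  have hg' := (exists_col hne).choose_spec
  set g' := (exists_col hne).choose
  have hs := stab R (g⁻¹ * g') (by
    show ((g⁻¹ : SpecialLinearGroup (Fin (k + 2)) F).1 * g'.1) *ᵥ δ 0 = δ 0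
    rw [← mulVec_mulVec, hg', mulVec_mulVec, show (g⁻¹ : SpecialLinearGroup (Fin (k + 2)) F).1 * g.1 = 1
      from congrArg Subtype.val (inv_mul_cancel g), one_mulVec]) c
  calc ψ g' * X (.ofAdd c) * (ψ g')⁻¹ =
        ψ g * (ψ (g⁻¹ * g') * X (.ofAdd c)) * (ψ g')⁻¹ := by rw [map_mul, map_inv]; group
    _ = _ := by rw [hs.eq, map_mul, map_inv]; group

theorem U1_zero (c : F) : U1 ψ X (0 : Fin (k + 2) → F) c = 1 := by simp [U1, orb]

theorem U1_δ (c : F) : U1 ψ X (δ 0) c = X (.ofAdd c) := by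
  have := U1_eq R 1 c
  rwa [H40.PresStep.cone, one_mulVec, map_one, one_mul, inv_one, mul_one] at this

theorem U1_add (x : Fin (k + 2) → F) (c d : F) :
    U1 ψ X x (c + d) = U1 ψ X x c * U1 ψ X x d := by
  by_cases hx : x = 0
  · subst hx; simp [U1, orb]
  obtain ⟨g, rfl⟩ := exists_col hx
  rw [U1_eq R, U1_eq R, U1_eq R, ofAdd_add, map_mul]
  group

theorem U1_smul (a : F) (x : Fin (k + 2) → F) (c : F) :
    U1 ψ X (a • x) c = U1 ψ X x (a * a * c) := by
  by_cases hx : x = 0
  · subst hx; simp [U1, orb]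
  obtain ⟨g, rfl⟩ := exists_col hx
  by_cases ha : a = 0
  · subst ha
    rw [zero_smul, U1_zero R, zero_mul, zero_mul, U1_eq R, ofAdd_zero, map_one, mul_one,
      mul_inv_cancel]
  have e : a • (g.1 *ᵥ δ 0) = (g * kd (Units.mk0 a ha)).1 *ᵥ δ 0 := by
    rw [H40.PresStep.cmul, ← mulVec_mulVec, kd_mulVec, mulVec_smul, Units.val_mk0]
  rw [e, U1_eq R, U1_eq R, map_mul,
    show ψ g * ψ (kd (Units.mk0 a ha)) * X (.ofAdd c) * (ψ g * ψ (kd (Units.mk0 a ha)))⁻¹ =
      ψ g * (ψ (kd (Units.mk0 a ha)) * X (.ofAdd c) * (ψ (kd (Units.mk0 a ha)))⁻¹) * (ψ g)⁻¹ by group,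
    k_scale R, Units.val_mk0]

/-- The determinant generator normalises `SL_m`. -/
theorem h_conj (g : SpecialLinearGroup (Fin (k + 2)) F) : h * ψ g * h⁻¹ = ψ (cD ζ g) := by
  let S : Subgroup (SpecialLinearGroup (Fin (k + 2)) F) :=
    ((MulAut.conj h).toMonoidHom.comp ψ).eqLocus (ψ.comp (cD ζ))
  suffices hS : S = ⊤ from (show g ∈ S by rw [hS]; exact Subgroup.mem_top _)
  have hi : ∀ A, iota A ∈ S := by
    intro A
    show h * ψ (iota A) * h⁻¹ = ψ (cD ζ (iota A))
    rw [cD_eq ζ (g' := iota A) ?_, (R.hA A).eq, mul_inv_cancel_right]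
    ext a b
    rw [diagonal_mul, mul_diagonal]
    revert a b
    intro a b
    show _ * H40.PresStep.lowM 0 A.1 a b = H40.PresStep.lowM 0 A.1 a b * _
    refine Fin.cases ?_ (fun a => ?_) a <;> refine Fin.cases ?_ (fun b => ?_) b <;>
      simp [H40.PresStep.lowM]
  have h01 : ∀ t, SpecialLinearGroup.transvection (show (0 : Fin (k + 2)) ≠ 1 by simp) t ∈ S := by
    intro t
    show h * ψ _ * h⁻¹ = ψ (cD ζ _)
    rw [hT_all R, cD_eq ζ (g' := SpecialLinearGroup.transvection (show (0 : Fin (k + 2)) ≠ 1 by simp)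
      ((ζ : F) * t))]
    show diagonal _ * (1 + Matrix.single 0 1 t) = (1 + Matrix.single 0 1 ((ζ : F) * t)) * diagonal _
    rw [mul_add, add_mul, mul_one, one_mul]
    congr 1
    ext a b
    rw [diagonal_mul, mul_diagonal, Matrix.single_apply, Matrix.single_apply]
    split_ifs with h
    · obtain ⟨rfl, rfl⟩ := h; simp
    · simp
  have h10 : ∀ t, SpecialLinearGroup.transvection (show (1 : Fin (k + 2)) ≠ 0 by simp) t ∈ S := by
    intro t
    show h * ψ _ * h⁻¹ = ψ (cD ζ _)
    rw [hT'_all R, cD_eq ζ (g' := SpecialLinearGroup.transvection (show (1 : Fin (k + 2)) ≠ 0 by simp)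
      (((ζ⁻¹ : Fˣ) : F) * t))]
    show diagonal _ * (1 + Matrix.single 1 0 t) =
      (1 + Matrix.single 1 0 (((ζ⁻¹ : Fˣ) : F) * t)) * diagonal _
    rw [mul_add, add_mul, mul_one, one_mul]
    congr 1
    ext a b
    rw [diagonal_mul, mul_diagonal, Matrix.single_apply, Matrix.single_apply]
    split_ifs with h
    · obtain ⟨rfl, rfl⟩ := h
      simp [mul_comm]
    · simp
  have hlow : ∀ (j : Fin (k + 1)) (t : F), SpecialLinearGroup.transvection (Fin.succ_ne_zero j) t ∈ S ∧
      SpecialLinearGroup.transvection (Fin.succ_ne_zero j).symm t ∈ S := by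
    intro j t
    rcases eq_or_ne j 0 with rfl | hj
    · exact ⟨h10 t, h01 t⟩
    · have hne : (0 : Fin (k + 1)).succ ≠ j.succ := fun e => hj (Fin.succ_inj.1 e).symm
      constructor
      · have := H37.commutator_transvection hne.symm (Fin.succ_ne_zero (0 : Fin (k + 1)))
          (Fin.succ_ne_zero j) 1 t
        rw [one_mul, commutatorElement_def] at this
        rw [← this, ← H40.PresStep.iota_transvection (show j ≠ 0 from hj)]
        exact mul_mem (mul_mem (mul_mem (hi _) (h10 t)) (inv_mem (hi _))) (inv_mem (h10 t))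
      · have := H37.commutator_transvection (Fin.succ_ne_zero (0 : Fin (k + 1))).symm hne
          (Fin.succ_ne_zero j).symm t 1
        rw [mul_one, commutatorElement_def] at this
        rw [← this, ← H40.PresStep.iota_transvection (show (0 : Fin (k + 1)) ≠ j from hj.symm)]
        exact mul_mem (mul_mem (mul_mem (h01 t) (hi _)) (inv_mem (h01 t))) (inv_mem (hi _))
  refine H37.eq_top_of_transvection_mem _ fun i j hij c => ?_
  revert hij
  refine Fin.cases ?_ (fun i => ?_) i <;> refine Fin.cases ?_ (fun j => ?_) j <;> intro hij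
  · exact absurd rfl hij
  · exact (hlow j c).2
  · exact (hlow i c).1
  · exact H40.PresStep.iota_transvection (fun e => hij (congrArg Fin.succ e)) c ▸ hi _

theorem U1_h (x : Fin (k + 2) → F) (c : F) :
    h * U1 ψ X x c * h⁻¹ = U1 ψ X ((Dg ζ : GL (Fin (k + 2)) F).1 *ᵥ x) c := by
  by_cases hx : x = 0
  · subst hx; simp [U1, orb]
  obtain ⟨g, rfl⟩ := exists_col hx
  have e0 : (cD ζ g).1 *ᵥ ((ζ : F) • δ 0) = (Dg ζ : GL (Fin (k + 2)) F).1 *ᵥ (g.1 *ᵥ δ 0) := by
    have e1 : ((ζ : F) • δ 0 : Fin (k + 2) → F) = (Dg ζ : GL (Fin (k + 2)) F).1 *ᵥ δ 0 := by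
      funext a
      show _ = (diagonal (Function.update 1 0 (ζ : F)) *ᵥ δ 0) a
      by_cases h : a = 0
      · subst h; simp [mulVec_diagonal]
      · simp [mulVec_diagonal, h]
    rw [e1]
    show ((Dg ζ : GL (Fin (k + 2)) F).1 * g.1 * ((Dg ζ)⁻¹ : GL (Fin (k + 2)) F).1) *ᵥ _ = _
    rw [mulVec_mulVec, mul_assoc, Units.inv_mul, mul_one, ← mulVec_mulVec]
  rw [← e0, mulVec_smul, U1_smul R, U1_eq R, U1_eq R,
    show h * (ψ g * X (.ofAdd c) * (ψ g)⁻¹) * h⁻¹ =
      (h * ψ g * h⁻¹) * (h * X (.ofAdd c) * h⁻¹) * (h * ψ g * h⁻¹)⁻¹ by group,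
    h_conj R, R.hX]

omit R

/-- Group elements paired with the linear maps they induce. -/
def Egrp (ψ : SpecialLinearGroup (Fin (k + 2)) F →* G) (h : G) (ζ : Fˣ) :
    Subgroup (G × GL (Fin (k + 2)) F) :=
  Subgroup.closure (Set.range (fun g => (ψ g, SpecialLinearGroup.toGL g)) ∪ {(h, Dg ζ)})

include R

theorem exists_gam (g : GL (Fin (k + 2)) F) : ∃ γ : G, (γ, g) ∈ Egrp ψ h ζ := by
  obtain ⟨e, he⟩ := Subgroup.mem_zpowers_iff.1 (R.hgen (Matrix.GeneralLinearGroup.det g))
  have hD : ∀ e : ℤ, Matrix.GeneralLinearGroup.det ((Dg ζ : GL (Fin (k + 2)) F) ^ e) = ζ ^ e := by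
    intro e
    rw [map_zpow]
    congr 1
    ext
    show (diagonal (Function.update 1 0 (ζ : F))).det = _
    rw [det_diagonal, Finset.prod_update_of_mem (Finset.mem_univ _)]
    simp
  set g0 := g * ((Dg ζ : GL (Fin (k + 2)) F) ^ e)⁻¹ with hg0
  have hdet : g0.1.det = 1 := by
    have h1 : Matrix.GeneralLinearGroup.det g0 = 1 := by
      rw [hg0, map_mul, map_inv, hD, he, mul_inv_cancel]
    exact congrArg Units.val h1
  refine ⟨ψ ⟨g0.1, hdet⟩ * h ^ e, ?_⟩
  have e1 : ((ψ ⟨g0.1, hdet⟩ * h ^ e : G), g) =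
      (ψ ⟨g0.1, hdet⟩, SpecialLinearGroup.toGL ⟨g0.1, hdet⟩) * (h, (Dg ζ : GL (Fin (k + 2)) F)) ^ e := by
    rw [Prod.pow_mk, Prod.mk_mul_mk]
    congr 1
    have : (SpecialLinearGroup.toGL ⟨g0.1, hdet⟩ : GL (Fin (k + 2)) F) = g0 := Units.ext rfl
    rw [this, hg0, inv_mul_cancel_right]
  rw [e1]
  refine mul_mem ?_ (zpow_mem ?_ e)
  · exact Subgroup.subset_closure (Or.inl ⟨_, rfl⟩)
  · exact Subgroup.subset_closure (Or.inr rfl)

theorem U1_gam {γ : G} {g : GL (Fin (k + 2)) F} (hγ : (γ, g) ∈ Egrp ψ h ζ) (x : Fin (k + 2) → F)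
    (c : F) : γ * U1 ψ X x c * γ⁻¹ = U1 ψ X (g.1 *ᵥ x) c := by
  suffices ∀ p ∈ Egrp ψ h ζ, ∀ x c, p.1 * U1 ψ X x c * (p.1)⁻¹ = U1 ψ X (p.2.1 *ᵥ x) c from
    this (γ, g) hγ x c
  intro p hp
  induction hp using Subgroup.closure_induction with
  | mem p hp =>
    rcases hp with ⟨g, rfl⟩ | rfl
    · intro x c
      by_cases hx : x = 0
      · subst hx; simp [U1, orb]
      obtain ⟨a, rfl⟩ := exists_col hx
      show ψ g * U1 ψ X (a.1 *ᵥ δ 0) c * (ψ g)⁻¹ = U1 ψ X (g.1 *ᵥ (a.1 *ᵥ δ 0)) c
      rw [mulVec_mulVec, ← H40.PresStep.cmul, U1_eq R, U1_eq R, map_mul]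
      group
    · exact U1_h R
  | one => intro x c; simp
  | mul p r _ _ hp hr =>
    intro x c
    rw [Prod.fst_mul, Prod.snd_mul, Units.val_mul, ← mulVec_mulVec, ← hp, ← hr]
    group
  | inv p _ hp =>
    intro x c
    have := hp ((p.2⁻¹).1 *ᵥ x) c
    rw [mulVec_mulVec, Units.mul_inv, one_mulVec] at this
    rw [Prod.fst_inv, Prod.snd_inv, ← this]
    group

/-- An identity between root elements that holds for every linear change of coordinates. -/
theorem transport (g : GL (Fin (k + 2)) F) :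
    ∃ γ : G, ∀ x c, γ * U1 ψ X x c * γ⁻¹ = U1 ψ X (g.1 *ᵥ x) c := by
  obtain ⟨γ, hγ⟩ := exists_gam R g
  exact ⟨γ, U1_gam R hγ⟩

theorem U1_commute (x y : Fin (k + 2) → F) (c d : F) : Commute (U1 ψ X x c) (U1 ψ X y d) := by
  by_cases hx : x = 0
  · subst hx; rw [U1_zero R]; exact Commute.one_left _
  by_cases hli : LinearIndependent F ![x, y]
  · -- the basic pair
    have base : ∀ a b : Fˣ, Commute (U1 ψ X (δ 0) ((a : F) * a)) (U1 ψ X (δ 1) ((b : F) * b)) := by
      intro a b
      have hdet : (diagonal (Function.update (Function.update 1 0 (a : F)) 1 (b : F)) :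
          Matrix (Fin (k + 2)) (Fin (k + 2)) F).det ≠ 0 := by
        rw [det_diagonal, Finset.prod_update_of_mem (Finset.mem_univ _),
          Finset.prod_update_of_mem (Finset.mem_sdiff.2 ⟨Finset.mem_univ _, by simp⟩)]
        simp
      obtain ⟨γ, hγ⟩ := transport R (Matrix.GeneralLinearGroup.mkOfDetNeZero _ hdet)
      have e := R.comm1.map (MulAut.conj γ).toMonoidHom
      simp only [MulEquiv.coe_toMonoidHom, MulAut.conj_apply, hγ] at e
      have e0 : (Matrix.GeneralLinearGroup.mkOfDetNeZero _ hdet).1 *ᵥ δ 0 = (a : F) • δ 0 := by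
        funext i
        show (diagonal _ *ᵥ δ 0) i = _
        rw [mulVec_diagonal]
        by_cases h : i = 0
        · subst h; simp
        · simp [h]
      have e1 : (Matrix.GeneralLinearGroup.mkOfDetNeZero _ hdet).1 *ᵥ δ 1 = (b : F) • δ 1 := by
        funext i
        show (diagonal _ *ᵥ δ 1) i = _
        rw [mulVec_diagonal]
        by_cases h : i = 1
        · subst h; simp
        · simp [h]
      rwa [e0, e1, U1_smul R, U1_smul R, mul_one, mul_one] at e
    have half : ∀ (b : Fˣ) (c : F), Commute (U1 ψ X (δ 0) c) (U1 ψ X (δ 1) ((b : F) * b)) := by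
      intro b c
      have := H40.BlockPres.hom_ext_sq ((MulAut.conj (U1 ψ X (δ 1) ((b : F) * b))).toMonoidHom.comp X) X
        fun a => by
        show U1 ψ X (δ 1) ((b : F) * b) * X (.ofAdd ((a : F) * a)) * (U1 ψ X (δ 1) ((b : F) * b))⁻¹ = _
        rw [← U1_δ R, (base a b).symm.eq, mul_inv_cancel_right]
      have h1 : U1 ψ X (δ 1) ((b : F) * b) * X (.ofAdd c) * (U1 ψ X (δ 1) ((b : F) * b))⁻¹ =
          X (.ofAdd c) := DFunLike.congr_fun this (.ofAdd c)
      rw [U1_δ R]
      exact (mul_inv_eq_iff_eq_mul.1 h1).symm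
    have full : ∀ c d : F, Commute (U1 ψ X (δ 0) c) (U1 ψ X (δ 1) d) := by
      intro c d
      let Y : Multiplicative F →* G :=
        MonoidHom.mk' (fun a => U1 ψ X (δ 1) a.toAdd) fun a b => by rw [toAdd_mul, U1_add R]
      have := H40.BlockPres.hom_ext_sq ((MulAut.conj (U1 ψ X (δ 0) c)).toMonoidHom.comp Y) Y
        fun b => by
        show U1 ψ X (δ 0) c * U1 ψ X (δ 1) ((b : F) * b) * (U1 ψ X (δ 0) c)⁻¹ = _
        rw [(half b c).eq, mul_inv_cancel_right]
        rfl
      exact mul_inv_eq_iff_eq_mul.1 (DFunLike.congr_fun this (.ofAdd d))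
    obtain ⟨g, hg⟩ := exists_gl_family (F := F) (m := k + 2) (k := 2) (Fin.castLEEmb (by omega)) hli
    obtain ⟨γ, hγ⟩ := transport R g
    have e := (full c d).map (MulAut.conj γ).toMonoidHom
    simp only [MulEquiv.coe_toMonoidHom, MulAut.conj_apply, hγ] at e
    have g0 : g.1 *ᵥ δ 0 = x := hg 0
    have g1 : g.1 *ᵥ δ 1 = y := hg 1
    rwa [g0, g1] at e
  · rw [linearIndependent_fin2] at hli
    simp only [Matrix.cons_val_one, Matrix.cons_val_zero, ne_eq, not_and, not_forall, not_not] at hli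
    by_cases hy : y = 0
    · subst hy; rw [U1_zero R]; exact Commute.one_right _
    · obtain ⟨a, ha⟩ := hli hy
      rw [← ha, U1_smul R]
      show U1 ψ X y (a * a * c) * U1 ψ X y d = U1 ψ X y d * U1 ψ X y (a * a * c)
      rw [← U1_add R, ← U1_add R, add_comm]

/-! ### The polarisation -/

/-- The polar of the orbit. -/
local notation "B" => polar (U1 ψ X)

theorem U1_inv (x : Fin (k + 2) → F) (c : F) : (U1 ψ X x c)⁻¹ = U1 ψ X x (-c) := by
  refine inv_eq_of_mul_eq_one_right ?_
  rw [← U1_add R, add_neg_cancel]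
  by_cases hx : x = 0
  · subst hx; exact U1_zero R _
  obtain ⟨g, rfl⟩ := exists_col hx
  rw [U1_eq R, ofAdd_zero, map_one, mul_one, mul_inv_cancel]

theorem B_comm (x y x' : Fin (k + 2) → F) (c c' : F) : Commute (B x y c) (U1 ψ X x' c') :=
  ((U1_commute R _ _ _ _).mul_left (U1_commute R _ _ _ _)).mul_left (U1_commute R _ _ _ _)

theorem B_symm (x y : Fin (k + 2) → F) (c : F) : B x y c = B y x c := by
  unfold polar
  rw [add_comm x y, mul_assoc, mul_assoc, (U1_commute R x y (-c) (-c)).eq]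

theorem B_add (x y : Fin (k + 2) → F) (c d : F) : B x y (c + d) = B x y c * B x y d := by
  have hc := fun a b u v => U1_commute R a b u v
  have key : ∀ a a' b b' e e' : G, Commute b a' → Commute e a' → Commute e b' →
      a * a' * (b * b') * (e * e') = a * b * e * (a' * b' * e') := by
    intro a a' b b' e e' h1 h2 h3
    calc a * a' * (b * b') * (e * e') = a * (a' * b) * (b' * e) * e' := by group
      _ = a * (b * a') * (e * b') * e' := by rw [h1.eq, h3.eq]
      _ = a * b * (a' * e) * (b' * e') := by group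
      _ = _ := by rw [← h2.eq]; group
  unfold polar
  rw [U1_add R, show -(c + d) = -c + -d by ring, U1_add R, U1_add R]
  exact key _ _ _ _ _ _ (hc _ _ _ _) (hc _ _ _ _) (hc _ _ _ _)

theorem B_zero (x y : Fin (k + 2) → F) : B x y 0 = 1 := by simpa using B_add R x y 0 0

theorem B_smul (a : F) (x y : Fin (k + 2) → F) (c : F) : B (a • x) (a • y) c = B x y (a * a * c) := by
  unfold polar
  rw [← smul_add, U1_smul R, U1_smul R, U1_smul R, mul_neg]

theorem B_gam {γ : G} {g : GL (Fin (k + 2)) F} (hγ : (γ, g) ∈ Egrp ψ h ζ) (x y : Fin (k + 2) → F)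
    (c : F) : γ * B x y c * γ⁻¹ = B (g.1 *ᵥ x) (g.1 *ᵥ y) c := by
  unfold polar
  rw [← mulVec_add, ← U1_gam R hγ, ← U1_gam R hγ, ← U1_gam R hγ]
  group

theorem B_left_zero (y : Fin (k + 2) → F) (c : F) : B 0 y c = 1 := by
  unfold polar
  rw [zero_add, U1_zero R, mul_one, ← U1_add R, add_neg_cancel]
  by_cases hy : y = 0
  · subst hy; exact U1_zero R _
  obtain ⟨g, rfl⟩ := exists_col hy
  rw [U1_eq R, ofAdd_zero, map_one, mul_one, mul_inv_cancel]

/-- Linearity in the first entry. -/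
theorem B_lin (t : F) (x y : Fin (k + 2) → F) (c : F) : B (t • x) y c = B x y (t * c) := by
  by_cases hx : x = 0
  · subst hx; rw [smul_zero, B_left_zero R, B_left_zero R]
  by_cases ht : t = 0
  · subst ht; rw [zero_smul, B_left_zero R, zero_mul, B_zero R]
  by_cases hli : LinearIndependent F ![x, y]
  · have step : ∀ (s : F), s ≠ 0 → ∀ u : F, B (((ζ : F) * s) • δ 0) (δ 1) u = B (s • δ 0) (δ 1) ((ζ : F) * u) := by
      intro s hs u
      let P : Multiplicative F →* G :=
        MonoidHom.mk' (fun a => B (((ζ : F) * s) • δ 0) (δ 1) a.toAdd) fun a b => by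
          rw [toAdd_mul, B_add R]
      let P' : Multiplicative F →* G :=
        MonoidHom.mk' (fun a => B (s • δ 0) (δ 1) ((ζ : F) * a.toAdd)) fun a b => by
          rw [toAdd_mul, mul_add, B_add R]
      have := H40.BlockPres.hom_ext_sq P P' fun b => by
        show B (((ζ : F) * s) • δ 0) (δ 1) ((b : F) * b) = B (s • δ 0) (δ 1) ((ζ : F) * ((b : F) * b))
        have hdet : (diagonal (Function.update (Function.update 1 0 ((b : F) * s)) 1 (b : F)) :
            Matrix (Fin (k + 2)) (Fin (k + 2)) F).det ≠ 0 := by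
          rw [det_diagonal, Finset.prod_update_of_mem (Finset.mem_univ _),
            Finset.prod_update_of_mem (Finset.mem_sdiff.2 ⟨Finset.mem_univ _, by simp⟩)]
          simp [hs]
        obtain ⟨γ, hγ⟩ := exists_gam R (Matrix.GeneralLinearGroup.mkOfDetNeZero _ hdet)
        have e0 : (Matrix.GeneralLinearGroup.mkOfDetNeZero _ hdet).1 *ᵥ δ 0 = ((b : F) * s) • δ 0 := by
          funext i
          show (diagonal _ *ᵥ δ 0) i = _
          rw [mulVec_diagonal]
          by_cases h : i = 0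
          · subst h; simp
          · simp [h]
        have e1 : (Matrix.GeneralLinearGroup.mkOfDetNeZero _ hdet).1 *ᵥ δ 1 = (b : F) • δ 1 := by
          funext i
          show (diagonal _ *ᵥ δ 1) i = _
          rw [mulVec_diagonal]
          by_cases h : i = 1
          · subst h; simp
          · simp [h]
        have e := congrArg (fun z => γ * z * γ⁻¹) R.lin
        simp only [B_gam R hγ, mulVec_smul, e0, e1, smul_smul] at e
        rw [show (ζ : F) * ((b : F) * s) = (b : F) * ((ζ : F) * s) by ring, ← smul_smul, B_smul R,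
          ← smul_smul (b : F) s, B_smul R, mul_one] at e
        rw [e, mul_comm ((ζ : F))]
      exact DFunLike.congr_fun this (.ofAdd u)
    have all : ∀ (e : ℕ) (u : F), B (((ζ : F) ^ e) • δ 0) (δ 1) u = B (δ 0) (δ 1) ((ζ : F) ^ e * u) := by
      intro e
      induction e with
      | zero => intro u; simp
      | succ e ih =>
        intro u
        rw [pow_succ', step _ (pow_ne_zero _ ζ.ne_zero), ih]
        congr 1; ring
    obtain ⟨e, he⟩ := mem_powers_iff_mem_zpowers.2 (R.hgen (Units.mk0 t ht))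
    have he' : (ζ : F) ^ e = t := by simpa using congrArg Units.val he
    obtain ⟨g, hg⟩ := exists_gl_family (F := F) (m := k + 2) (k := 2) (Fin.castLEEmb (by omega)) hli
    obtain ⟨γ, hγ⟩ := exists_gam R g
    have h1 := congrArg (fun z => γ * z * γ⁻¹) (all e c)
    simp only [B_gam R hγ, mulVec_smul, he'] at h1
    have g0 : g.1 *ᵥ δ 0 = x := hg 0
    have g1 : g.1 *ᵥ δ 1 = y := hg 1
    rwa [g0, g1] at h1
  · rw [linearIndependent_fin2] at hli
    simp only [Matrix.cons_val_one, Matrix.cons_val_zero, ne_eq, not_and, not_forall, not_not] at hli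
    by_cases hy : y = 0
    · subst hy; rw [B_symm R, B_left_zero R, B_symm R, B_left_zero R]
    · obtain ⟨a, ha⟩ := hli hy
      rw [← ha, smul_smul]
      unfold polar
      rw [show (t * a) • y + y = (t * a + 1) • y by rw [add_smul, one_smul],
        show a • y + y = (a + 1) • y by rw [add_smul, one_smul]]
      simp only [U1_smul R, ← U1_add R]
      congr 1
      ring

theorem B_tri {x y z : Fin (k + 2) → F} (hli : LinearIndependent F ![x, y, z]) (c : F) :
    B x (y + z) c = B x y c * B x z c := by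
  have hk : 3 ≤ k + 2 := by
    have := hli.fintype_card_le_finrank
    simpa using this
  let j : Fin (k + 2) := ⟨2, by omega⟩
  obtain ⟨g, hg⟩ := exists_gl_family (F := F) (m := k + 2) (k := 3) (Fin.castLEEmb hk) hli
  obtain ⟨γ, hγ⟩ := exists_gam R g
  have g0 : g.1 *ᵥ δ 0 = x := hg 0
  have g1 : g.1 *ᵥ δ 1 = y := hg 1
  have g2 : g.1 *ᵥ δ j = z := hg 2
  by_cases hc : c = 0
  · subst hc; simp [B_zero R]
  have base : B (c • δ 0) (δ 1 + δ j) 1 = B (c • δ 0) (δ 1) 1 * B (c • δ 0) (δ j) 1 := by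
    have hdet : (diagonal (Function.update 1 0 c) : Matrix (Fin (k + 2)) (Fin (k + 2)) F).det ≠ 0 := by
      rw [det_diagonal, Finset.prod_update_of_mem (Finset.mem_univ _)]
      simpa using hc
    obtain ⟨η, hη⟩ := exists_gam R (Matrix.GeneralLinearGroup.mkOfDetNeZero _ hdet)
    have e0 : (Matrix.GeneralLinearGroup.mkOfDetNeZero _ hdet).1 *ᵥ δ 0 = c • δ 0 := by
      funext i
      show (diagonal _ *ᵥ δ 0) i = _
      rw [mulVec_diagonal]
      by_cases h : i = 0
      · subst h; simp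
      · simp [h]
    have e1 : ∀ l : Fin (k + 2), l ≠ 0 →
        (Matrix.GeneralLinearGroup.mkOfDetNeZero _ hdet).1 *ᵥ δ l = δ l := by
      intro l hl
      funext i
      show (diagonal _ *ᵥ δ l) i = _
      rw [mulVec_diagonal]
      by_cases h : i = l
      · subst h; simp [hl]
      · simp [h]
    have e := congrArg (fun w => η * w * η⁻¹) (R.tri j rfl)
    simp only [show ∀ a b : G, η * (a * b) * η⁻¹ = (η * a * η⁻¹) * (η * b * η⁻¹) from fun a b => by group,
      B_gam R hη, mulVec_add, e0, e1 1 (by simp), e1 j (by simp [j, Fin.ext_iff])] at e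
    exact e
  rw [B_lin R, B_lin R, B_lin R, mul_one] at base
  have e := congrArg (fun w => γ * w * γ⁻¹) base
  simp only [show ∀ a b : G, γ * (a * b) * γ⁻¹ = (γ * a * γ⁻¹) * (γ * b * γ⁻¹) from fun a b => by group,
    B_gam R hγ, mulVec_add, g0, g1, g2] at e
  exact e

/-! ### Symmetric matrices -/

omit R

/-- The coordinates of a symmetric matrix. -/
abbrev Pairs (m : ℕ) := {p : Fin m × Fin m // p.1 ≤ p.2}

/-- The basic symmetric matrices. -/
def Sb {m : ℕ} (p : Pairs m) (c : F) : H48.symMat m F :=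
  if p.1.1 = p.1.2 then H48.sqMat c (δ p.1.1)
  else H48.sqMat c (δ p.1.1 + δ p.1.2) - H48.sqMat c (δ p.1.1) - H48.sqMat c (δ p.1.2)

theorem Sb_apply {m : ℕ} (p : Pairs m) (c : F) (a b : Fin m) :
    (Sb p c).1 a b = if (a = p.1.1 ∧ b = p.1.2) ∨ (a = p.1.2 ∧ b = p.1.1) then c else 0 := by
  obtain ⟨⟨i, j⟩, hij⟩ := p
  unfold Sb
  by_cases h : i = j
  · subst h
    rw [if_pos rfl]
    show (c • vecMulVec (δ i) (δ i) : Matrix (Fin m) (Fin m) F) a b = _
    by_cases ha : a = i <;> by_cases hb : b = i <;> simp [vecMulVec_apply, ha, hb]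
  · rw [if_neg h]
    show (c • vecMulVec (δ i + δ j) (δ i + δ j) - c • vecMulVec (δ i) (δ i) - c • vecMulVec (δ j) (δ j) :
      Matrix (Fin m) (Fin m) F) a b = _
    simp only [Matrix.sub_apply, Matrix.smul_apply, vecMulVec_apply, smul_eq_mul, Pi.add_apply, δ,
      Pi.single_apply]
    by_cases hai : a = i <;> by_cases hbi : b = i <;> by_cases haj : a = j <;> by_cases hbj : b = j <;>
      simp_all

theorem sum_Sb {m : ℕ} (S : H48.symMat m F) : ∑ p : Pairs m, Sb p (S.1 p.1.1 p.1.2) = S := by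
  classical
  apply Subtype.ext
  ext a b
  rw [AddSubgroup.val_finset_sum, Matrix.sum_apply]
  simp only [Sb_apply]
  have hs : S.1 b a = S.1 a b := congrFun (congrFun S.2 a) b
  rcases le_total a b with hab | hab
  · rw [Finset.sum_eq_single (⟨(a, b), hab⟩ : Pairs m) ?_ (by simp)]
    · simp
    · rintro ⟨⟨i, j⟩, hij⟩ - hne
      rw [if_neg]
      rintro (⟨rfl, rfl⟩ | ⟨rfl, rfl⟩)
      · exact hne rfl
      · exact hne (Subtype.ext (Prod.ext (le_antisymm hij hab) (le_antisymm hab hij)))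
  · rw [Finset.sum_eq_single (⟨(b, a), hab⟩ : Pairs m) ?_ (by simp)]
    · simp [hs]
    · rintro ⟨⟨i, j⟩, hij⟩ - hne
      rw [if_neg]
      rintro (⟨rfl, rfl⟩ | ⟨rfl, rfl⟩)
      · exact hne (Subtype.ext (Prod.ext (le_antisymm hij hab) (le_antisymm hab hij)))
      · exact hne rfl

theorem symHom_ext {m : ℕ} {H : Type*} [Group H] (φ φ' : Multiplicative (H48.symMat m F) →* H)
    (e : ∀ c v, φ (.ofAdd (H48.sqMat c v)) = φ' (.ofAdd (H48.sqMat c v))) : φ = φ' := by
  classical
  refine MonoidHom.ext fun S => ?_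
  induction S using Multiplicative.rec with
  | ofAdd S =>
  rw [← sum_Sb S]
  refine Finset.sum_induction _ (fun S => φ (Multiplicative.ofAdd S) = φ' (Multiplicative.ofAdd S))
    (fun a b ha hb => ?_) (by simp) (fun p _ => ?_)
  · simp only [ofAdd_add, map_mul, ha, hb]
  · unfold Sb
    split_ifs
    · exact e _ _
    · simp only [ofAdd_sub, map_div, e]

include R

/-- One coordinate of the quadratic map. -/
noncomputable def coordHom (p : Pairs (k + 2)) : Multiplicative F →* G :=
  MonoidHom.mk' (fun a => if p.1.1 = p.1.2 then U1 ψ X (δ p.1.1) a.toAdd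
    else B (δ p.1.1) (δ p.1.2) a.toAdd) fun a b => by
    split_ifs
    · rw [toAdd_mul, U1_add R]
    · rw [toAdd_mul, B_add R]

theorem coordHom_commute :
    Pairwise fun p p' => ∀ a b, Commute (coordHom R p a) (coordHom R p' b) := by
  intro p p' _ a b
  simp only [coordHom, MonoidHom.mk'_apply]
  split_ifs
  · exact U1_commute R _ _ _ _
  · exact (B_comm R _ _ _ _ _).symm
  · exact B_comm R _ _ _ _ _
  · exact ((B_comm R _ _ _ _ _).mul_right (B_comm R _ _ _ _ _)).mul_right (B_comm R _ _ _ _ _)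

/-- The quadratic map as a homomorphism on symmetric matrices. -/
noncomputable def quad : Multiplicative (H48.symMat (k + 2) F) →* G :=
  (MonoidHom.noncommPiCoprod (N := fun _ : Pairs (k + 2) => Multiplicative F) (coordHom R)
    (coordHom_commute R)).comp
    (MonoidHom.mk' (fun S p => Multiplicative.ofAdd (S.toAdd.1 p.1.1 p.1.2)) fun S T => by
      funext p; simp [ofAdd_add])

theorem quad_Sb (p : Pairs (k + 2)) (c : F) : quad R (.ofAdd (Sb p c)) = coordHom R p (.ofAdd c) := by
  classical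
  simp only [quad, MonoidHom.comp_apply, MonoidHom.mk'_apply, toAdd_ofAdd]
  have : (fun p' : Pairs (k + 2) => Multiplicative.ofAdd ((Sb p c).1 p'.1.1 p'.1.2)) =
      Pi.mulSingle p (Multiplicative.ofAdd c) := by
    funext p'
    rw [Sb_apply]
    by_cases h : p' = p
    · subst h; simp
    · rw [Pi.mulSingle_eq_of_ne h, if_neg, ofAdd_zero]
      obtain ⟨⟨i, j⟩, hij⟩ := p
      obtain ⟨⟨i', j'⟩, hij'⟩ := p'
      rintro (⟨rfl, rfl⟩ | ⟨rfl, rfl⟩)
      · exact h rfl
      · exact h (Subtype.ext (Prod.ext (le_antisymm hij' hij) (le_antisymm hij hij')))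
  rw [this]
  exact MonoidHom.noncommPiCoprod_mulSingle _ _ _

theorem quad_sqMat (c : F) (x : Fin (k + 2) → F) : quad R (.ofAdd (H48.sqMat c x)) = U1 ψ X x c := by
  classical
  have hoff : ∀ (i j : Fin (k + 2)), i ≠ j → ∀ a : F,
      quad R (.ofAdd (H48.sqMat a (δ i + δ j) - H48.sqMat a (δ i) - H48.sqMat a (δ j))) =
        B (δ i) (δ j) a := by
    intro i j hij a
    rcases le_total i j with h | h
    · have := quad_Sb R ⟨(i, j), h⟩ a
      simpa only [Sb, coordHom, MonoidHom.mk'_apply, toAdd_ofAdd, if_neg hij] using this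
    · have := quad_Sb R ⟨(j, i), h⟩ a
      simp only [Sb, coordHom, MonoidHom.mk'_apply, toAdd_ofAdd, if_neg hij.symm] at this
      rw [B_symm R, ← this, add_comm (δ i : Fin (k + 2) → F), sub_right_comm]
  have hdiag : ∀ (i : Fin (k + 2)) (a : F), quad R (.ofAdd (H48.sqMat a (δ i))) = U1 ψ X (δ i) a := by
    intro i a
    have := quad_Sb R ⟨(i, i), le_rfl⟩ a
    simpa only [Sb, coordHom, MonoidHom.mk'_apply, toAdd_ofAdd, if_pos] using this
  -- the cross term
  let cross : (Fin (k + 2) → F) → (Fin (k + 2) → F) → F → H48.symMat (k + 2) F := fun x y a =>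
    H48.sqMat a (x + y) - H48.sqMat a x - H48.sqMat a y
  have cross_add : ∀ x x' y a, cross (x + x') y a = cross x y a + cross x' y a := by
    intro x x' y a
    apply Subtype.ext
    ext u v
    simp only [cross, H48.sqMat, AddSubgroup.coe_sub, AddSubgroup.coe_add, Matrix.sub_apply,
      Matrix.add_apply, Matrix.smul_apply, vecMulVec_apply, smul_eq_mul, Pi.add_apply]
    ring
  have hcross : ∀ (s : Finset (Fin (k + 2))) (j : Fin (k + 2)) (t : F) (x : Fin (k + 2) → F),
      (∀ i, i ∉ s → x i = 0) → j ∉ s → ∀ a,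
      quad R (.ofAdd (cross x (t • δ j) a)) = B x (t • δ j) a := by
    intro s
    induction s using Finset.induction with
    | empty =>
      intro j t x hx _ a
      obtain rfl : x = 0 := funext fun i => hx i (by simp)
      rw [B_left_zero R, show cross 0 (t • δ j) a = 0 by
        apply Subtype.ext; ext u v
        simp [cross, H48.sqMat, vecMulVec_apply], ofAdd_zero, map_one]
    | insert i s hi ih =>
      intro j t x hx hj a
      simp only [Finset.mem_insert, not_or] at hj
      obtain ⟨x', hx', ex⟩ : ∃ x', (∀ l, l ∉ s → x' l = 0) ∧ x = x' + x i • δ i := by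
        refine ⟨Function.update x i 0, fun l hl => ?_, ?_⟩
        · by_cases h : l = i
          · subst h; simp
          · rw [Function.update_of_ne h]; exact hx l (by simp [h, hl])
        · funext l
          by_cases h : l = i
          · subst h; simp
          · simp [h]
      generalize x i = u at ex
      subst ex
      have h1 : quad R (.ofAdd (cross (u • δ i) (t • δ j) a)) = B (u • δ i) (t • δ j) a := by
        rw [show cross (u • δ i) (t • δ j) a = cross (δ i) (δ j) (u * t * a) by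
          apply Subtype.ext; ext p q
          simp only [cross, H48.sqMat, AddSubgroup.coe_sub, Matrix.sub_apply, Matrix.smul_apply,
            vecMulVec_apply, smul_eq_mul, Pi.add_apply, Pi.smul_apply]
          ring]
        rw [hoff i j (Ne.symm hj.1), B_lin R, B_symm R, B_symm R (δ i), B_lin R]
        congr 1; ring
      rw [cross_add, ofAdd_add, map_mul, ih j t x' hx' hj.2, h1]
      by_cases hz : x' = 0
      · subst hz; rw [B_left_zero R, one_mul, zero_add]
      by_cases hu : u = 0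
      · subst hu; rw [zero_smul, add_zero, B_left_zero R, mul_one]
      by_cases ht : t = 0
      · subst ht; simp only [zero_smul, B_symm R _ (0 : Fin (k + 2) → F), B_left_zero R, mul_one]
      obtain ⟨l, hl⟩ := Function.ne_iff.1 hz
      have hls : l ∈ s := by by_contra h; exact hl (hx' l h)
      have hli : LinearIndependent F ![t • δ j, x', u • δ i] := by
        rw [Fintype.linearIndependent_iff]
        intro g hg
        have ev : ∀ q, g 0 * (t * (δ j : Fin (k + 2) → F) q) + g 1 * x' q +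
            g 2 * (u * (δ i : Fin (k + 2) → F) q) = 0 := fun q => by
          simpa [Fin.sum_univ_three, mul_assoc] using congrFun hg q
        have l1 : g 1 = 0 := by
          have := ev l
          simp only [δ, Pi.single_eq_of_ne (show l ≠ j from fun e => hj.2 (e ▸ hls)),
            Pi.single_eq_of_ne (show l ≠ i from fun e => hi (e ▸ hls))] at this
          rw [Pi.zero_apply] at hl
          simpa [hl] using this
        have l0 : g 0 = 0 := by
          have := ev j
          simp only [δ, Pi.single_eq_same, Pi.single_eq_of_ne hj.1, l1] at this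
          simpa [ht] using this
        have l2 : g 2 = 0 := by
          have := ev i
          simp only [δ, Pi.single_eq_same, l0, l1] at this
          simpa [hu] using this
        intro q; fin_cases q <;> assumption
      rw [B_symm R x', B_symm R (u • δ i), B_symm R (x' + u • δ i), B_tri R hli]
  suffices ∀ (s : Finset (Fin (k + 2))) (x : Fin (k + 2) → F), (∀ i, i ∉ s → x i = 0) →
      ∀ c, quad R (.ofAdd (H48.sqMat c x)) = U1 ψ X x c from
    this Finset.univ x (fun i h => absurd (Finset.mem_univ i) h) c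
  intro s
  induction s using Finset.induction with
  | empty =>
    intro x hx c
    obtain rfl : x = 0 := funext fun i => hx i (by simp)
    rw [U1_zero R, show H48.sqMat c (0 : Fin (k + 2) → F) = 0 by
      apply Subtype.ext; ext u v; simp [H48.sqMat], ofAdd_zero, map_one]
  | insert j s hj ih =>
    intro x hx c
    set x' := Function.update x j 0
    have hx' : ∀ l, l ∉ s → x' l = 0 := by
      intro l hl
      by_cases h : l = j
      · subst h; simp [x']
      · simp only [x', Function.update_of_ne h]; exact hx l (by simp [h, hl])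
    have e : x = x' + x j • δ j := by
      funext l
      by_cases h : l = j
      · subst h; simp [x']
      · simp [x', h]
    rw [e]
    generalize x j = t
    rw [show H48.sqMat c (x' + t • δ j) =
      cross x' (t • δ j) c + H48.sqMat c x' + H48.sqMat c (t • δ j) by simp only [cross]; abel,
      ofAdd_add, ofAdd_add, map_mul, map_mul, hcross s j t x' hx' hj c, ih x' hx' c,
      show H48.sqMat c (t • δ j : Fin (k + 2) → F) = H48.sqMat (t * t * c) (δ j) by
        apply Subtype.ext; ext u v; simp [H48.sqMat, vecMulVec_apply]; ring,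
      hdiag, ← U1_smul R]
    unfold polar
    rw [mul_assoc (U1 ψ X (x' + t • δ j) c * U1 ψ X x' (-c)), ← (U1_commute R x' (t • δ j) c (-c)).eq,
      mul_assoc (U1 ψ X (x' + t • δ j) c), ← mul_assoc (U1 ψ X x' (-c)), ← U1_add R,
      mul_assoc (U1 ψ X (x' + t • δ j) c), mul_assoc, ← U1_add R, neg_add_cancel]
    have z : ∀ y : Fin (k + 2) → F, U1 ψ X y 0 = 1 := fun y => by
      have := U1_add R y 0 0
      simpa using this
    rw [z, z, mul_one, mul_one]

theorem quad_gam {γ : G} {g : GL (Fin (k + 2)) F} (hγ : (γ, g) ∈ Egrp ψ h ζ)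
    (S : H48.symMat (k + 2) F) :
    γ * quad R (.ofAdd S) * γ⁻¹ = quad R (.ofAdd (H48.congr' g.1 S)) := by
  let c : Multiplicative (H48.symMat (k + 2) F) →* Multiplicative (H48.symMat (k + 2) F) :=
    MonoidHom.mk' (fun S => .ofAdd (H48.congr' g.1 S.toAdd)) fun S T => by
      rw [← ofAdd_add]
      congr 1
      apply Subtype.ext
      show g.1 * (S.toAdd.1 + T.toAdd.1) * g.1ᵀ = g.1 * S.toAdd.1 * g.1ᵀ + g.1 * T.toAdd.1 * g.1ᵀ
      rw [mul_add, add_mul]
  have := symHom_ext ((MulAut.conj γ).toMonoidHom.comp (quad R)) ((quad R).comp c) fun a v => by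
    show γ * quad R (.ofAdd (H48.sqMat a v)) * γ⁻¹ = quad R (.ofAdd (H48.congr' g.1 (H48.sqMat a v)))
    rw [H48.congr'_sqMat, quad_sqMat R, quad_sqMat R, U1_gam R hγ]
  have h1 := DFunLike.congr_fun this (.ofAdd S)
  simp only [MonoidHom.comp_apply, MulEquiv.coe_toMonoidHom, MulAut.conj_apply, c,
    MonoidHom.mk'_apply, toAdd_ofAdd] at h1
  exact h1

end H40.SpQuad
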