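import Cfsg.Agent.H40.SpQuad
import Cfsg.Agent.H40.SL2Short

/-!
A family indexed by the transvections of `Sp_{2m}` inside a group satisfying Steinberg type relations, and the
conjugation action on it.
-/

set_option autoImplicit false
set_option linter.unusedSectionVars false
set_option linter.style.haveILetI false

namespace H40.SpTrans

open Matrix
open H40.SpQuad (δ Rels U1 polar quad Egrp Dg kd)
open H40.PresStep (theta iota low lowM)

variable {F : Type*} [Field F] {k : ℕ}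

/-- Inverse transpose. -/
def gT {n : ℕ} : GL (Fin n) F →* GL (Fin n) F :=
  MonoidHom.mk' (fun g => ⟨(g⁻¹ : GL (Fin n) F).1ᵀ, g.1ᵀ,
      by rw [← transpose_mul, Units.mul_inv, transpose_one],
      by rw [← transpose_mul, Units.inv_mul, transpose_one]⟩)
    fun g h => Units.ext (by
      show (((g * h)⁻¹ : GL (Fin n) F).1)ᵀ = (g⁻¹).1ᵀ * (h⁻¹).1ᵀ
      rw [_root_.mul_inv_rev, Units.val_mul, transpose_mul])

theorem gT_inv_coe {n : ℕ} (g : GL (Fin n) F) : ((gT g)⁻¹ : GL (Fin n) F).1 = g.1ᵀ := rfl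

theorem gT_gT {n : ℕ} (g : GL (Fin n) F) : gT (gT g) = g :=
  Units.ext (by
    show ((gT g)⁻¹ : GL (Fin n) F).1ᵀ = g.1
    rw [gT_inv_coe, transpose_transpose])

theorem gT_Dg (ζ : Fˣ) : gT (Dg (k := k) ζ) = (Dg ζ⁻¹ : GL (Fin (k + 2)) F) := by
  refine inv_injective (Units.ext ?_)
  rw [gT_inv_coe]
  symm
  refine Units.inv_eq_of_mul_eq_one_right ?_
  show diagonal (Function.update 1 0 ((ζ⁻¹ : Fˣ) : F)) * (diagonal (Function.update 1 0 (ζ : F)))ᵀ = 1
  rw [diagonal_transpose, diagonal_mul_diagonal, ← diagonal_one]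
  congr 1
  funext a
  by_cases h : a = 0
  · subst h; simp
  · simp [h]

theorem gT_mulVec_dot {n : ℕ} (g : GL (Fin n) F) (x y : Fin n → F) :
    (g.1 *ᵥ x) ⬝ᵥ ((gT g).1 *ᵥ y) = x ⬝ᵥ y := by
  show (g.1 *ᵥ x) ⬝ᵥ (((g⁻¹ : GL (Fin n) F).1)ᵀ *ᵥ y) = _
  rw [mulVec_transpose, dotProduct_comm (g.1 *ᵥ x), ← dotProduct_mulVec, mulVec_mulVec, Units.inv_mul,
    one_mulVec, dotProduct_comm]

theorem gT_toGL (g : SpecialLinearGroup (Fin (k + 2)) F) :
    (gT (SpecialLinearGroup.toGL g) : GL (Fin (k + 2)) F) = SpecialLinearGroup.toGL (theta g) := by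
  rw [gT]
  refine Units.ext ?_
  show ((SpecialLinearGroup.toGL g)⁻¹ : GL (Fin (k + 2)) F).1ᵀ =
    (g⁻¹ : SpecialLinearGroup (Fin (k + 2)) F).1ᵀ
  rw [← map_inv]
  rfl

open Classical in
/-- Moving a pair to normal form. -/
theorem exists_pair {x y : Fin (k + 2) → F} (hx : x ≠ 0) (hy : y ≠ 0) :
    ∃ g : GL (Fin (k + 2)) F, g.1 *ᵥ δ 0 = x ∧
      (gT g).1 *ᵥ (if x ⬝ᵥ y = 0 then δ 1 else (x ⬝ᵥ y) • δ 0) = y := by
  obtain ⟨g0, hg0⟩ := H40.SpQuad.exists_col hx
  set g1 : GL (Fin (k + 2)) F := SpecialLinearGroup.toGL g0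
  have hg1 : g1.1 *ᵥ δ 0 = x := hg0
  set y' := g1.1ᵀ *ᵥ y with hy'
  have hy1 : (gT g1).1 *ᵥ y' = y := by
    rw [hy', mulVec_mulVec]
    show ((g1⁻¹ : GL (Fin (k + 2)) F).1ᵀ * g1.1ᵀ) *ᵥ y = y
    rw [← transpose_mul, Units.mul_inv, transpose_one, one_mulVec]
  have h0 : y' 0 = x ⬝ᵥ y := by
    have := gT_mulVec_dot g1 (δ 0) y'
    rw [hy1, hg1] at this
    rw [this]; simp
  suffices ∃ g2 : GL (Fin (k + 2)) F, g2.1 *ᵥ δ 0 = δ 0 ∧
      (gT g2).1 *ᵥ (if x ⬝ᵥ y = 0 then δ 1 else (x ⬝ᵥ y) • δ 0) = y' by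
    obtain ⟨g2, ha, hb⟩ := this
    refine ⟨g1 * g2, ?_, ?_⟩
    · rw [Units.val_mul, ← mulVec_mulVec, ha, hg1]
    · rw [map_mul, Units.val_mul, ← mulVec_mulVec, hb, hy1]
  by_cases hβ : x ⬝ᵥ y = 0
  · rw [if_pos hβ]
    rw [hβ] at h0
    set z : Fin (k + 1) → F := fun i => y' i.succ with hz
    have hz0 : z ≠ 0 := by
      intro e
      refine hy ?_
      rw [← hy1, show y' = 0 from ?_, mulVec_zero]
      funext i
      refine Fin.cases h0 (fun j => congrFun e j) i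
    obtain ⟨A, hA⟩ := H40.SpQuad.exists_gl_family (F := F) (m := k + 1) (k := 1)
      (Fin.castLEEmb (by omega)) (v := fun _ => z) (LinearIndependent.of_subsingleton 0 hz0)
    have hdet : (lowM 0 A.1).det ≠ 0 := by
      rw [H40.PresStep.det_lowM]; exact GeneralLinearGroup.det_ne_zero A
    set h2 := Matrix.GeneralLinearGroup.mkOfDetNeZero (lowM 0 A.1) hdet
    refine ⟨gT h2, ?_, ?_⟩
    · have e1 : (gT h2)⁻¹.1 *ᵥ δ 0 = δ 0 := by
        rw [gT_inv_coe]
        funext i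
        show ((lowM 0 A.1)ᵀ *ᵥ δ 0) i = _
        rw [mulVec_single_one]
        refine Fin.cases ?_ (fun j => ?_) i <;> simp [lowM]
      conv_lhs => rw [← e1, mulVec_mulVec, Units.mul_inv, one_mulVec]
    · rw [gT_gT]
      show lowM 0 A.1 *ᵥ δ 1 = y'
      rw [mulVec_single_one]
      have hA0 := hA 0
      rw [mulVec_single_one] at hA0
      funext i
      refine Fin.cases ?_ (fun j => ?_) i
      · simp [lowM, h0]
      · have := congrFun hA0 j
        simpa [lowM, hz] using this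
  · rw [if_neg hβ]
    set b : Fin (k + 2) → F := Function.update y' 0 0 with hb
    set β := x ⬝ᵥ y
    have hb0 : b ⬝ᵥ δ 0 = 0 := by simp [hb]
    let M : F → Matrix (Fin (k + 2)) (Fin (k + 2)) F := fun t => 1 + vecMulVec (t • δ 0) b
    have hM : ∀ s t, M s * M t = M (s + t) := by
      intro s t
      simp only [M, add_mul, mul_add, one_mul, mul_one, vecMulVec_mul_vecMulVec, add_smul, add_vecMulVec]
      rw [show b ⬝ᵥ (t • δ 0 : Fin (k + 2) → F) = 0 by rw [dotProduct_smul, hb0, smul_zero],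
        zero_smul, vecMulVec_zero]
      abel
    have hM0 : M 0 = 1 := by simp [M]
    let g2 : GL (Fin (k + 2)) F := ⟨M (-β⁻¹), M β⁻¹,
      by rw [hM, neg_add_cancel, hM0], by rw [hM, add_neg_cancel, hM0]⟩
    refine ⟨g2, ?_, ?_⟩
    · show M (-β⁻¹) *ᵥ δ 0 = δ 0
      simp only [M, add_mulVec, one_mulVec, vecMulVec_mulVec, hb0]
      simp
    · show (M β⁻¹)ᵀ *ᵥ (β • δ 0) = y'
      simp only [M, transpose_add, transpose_one, transpose_vecMulVec, add_mulVec, one_mulVec,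
        vecMulVec_mulVec]
      funext i
      by_cases hi : i = 0
      · subst hi; simp [hb, h0]
      · simp [hb, hi]
        field_simp

/-- The opposite root group. -/
noncomputable def yHom {G : Type*} [Group G] (φ : SpecialLinearGroup (Fin 2) F →* G) :
    Multiplicative F →* G :=
  (MulAut.conj (φ H40.CRW.tS)).toMonoidHom.comp (φ.comp H40.CRW.xS)

/-- The polar of the standard pair for the upper root group. -/
noncomputable abbrev BU {G : Type*} [Group G] (ψ : SpecialLinearGroup (Fin (k + 2)) F →* G)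
    (φ : SpecialLinearGroup (Fin 2) F →* G) (c : F) : G :=
  polar (U1 ψ (φ.comp H40.CRW.xS)) (δ 0) (δ 1) c

/-- The polar of the standard pair for the lower root group. -/
noncomputable abbrev BW {G : Type*} [Group G] (ψ : SpecialLinearGroup (Fin (k + 2)) F →* G)
    (φ : SpecialLinearGroup (Fin 2) F →* G) (c : F) : G :=
  polar (U1 (ψ.comp theta) (yHom φ)) (δ 0) (δ 1) c

/-- The relations. -/
structure TRels {G : Type*} [Group G] (ψ : SpecialLinearGroup (Fin (k + 2)) F →* G)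
    (φ : SpecialLinearGroup (Fin 2) F →* G) (ζ : Fˣ) : Prop where
  RU : Rels ψ (φ (H40.CRW.hS ζ)) (φ.comp H40.CRW.xS) ζ
  RW : Rels (ψ.comp theta) (φ (H40.CRW.hS ζ)) (yHom φ) ζ⁻¹
  mixed : Commute (φ (H40.CRW.xS (.ofAdd 1))) (U1 (ψ.comp theta) (yHom φ) (δ 1) 1)
  cons : BW ψ φ (-1) * φ (H40.CRW.xS (.ofAdd 1)) * BW ψ φ 1 =
    BU ψ φ 1 * U1 (ψ.comp theta) (yHom φ) (δ 1) 1 * BU ψ φ (-1)
  link : ψ (SpecialLinearGroup.transvection (show (0 : Fin (k + 2)) ≠ 1 by simp) 1) =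
    BW ψ φ (-1) * φ (H40.CRW.xS (.ofAdd (-1))) * BW ψ φ 1 * φ (H40.CRW.xS (.ofAdd 1)) *
      U1 (ψ.comp theta) (yHom φ) (δ 1) 1

variable {G : Type*} [Group G] {ψ : SpecialLinearGroup (Fin (k + 2)) F →* G}
  {φ : SpecialLinearGroup (Fin 2) F →* G} {ζ : Fˣ} [Finite F]

local notation "XX" => MonoidHom.comp φ H40.CRW.xS
local notation "A1" => U1 ψ XX
local notation "W1" => U1 (MonoidHom.comp ψ theta) (yHom φ)
local notation "hh" => φ (H40.CRW.hS ζ)
local notation "Sy" => H48.symMat (k + 2) F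

theorem egrp_theta {γ : G} {g : GL (Fin (k + 2)) F} (h : (γ, g) ∈ Egrp ψ hh ζ) :
    (γ, gT g) ∈ Egrp (ψ.comp theta) hh ζ⁻¹ := by
  suffices ∀ p ∈ Egrp ψ hh ζ, (p.1, gT p.2) ∈ Egrp (ψ.comp theta) hh ζ⁻¹ from this _ h
  intro p hp
  induction hp using Subgroup.closure_induction with
  | mem p hp =>
    rcases hp with ⟨g, rfl⟩ | rfl
    · refine Subgroup.subset_closure (Or.inl ⟨theta g, ?_⟩)
      show (ψ (theta (theta g)), _) = (ψ g, _)
      rw [H40.PresStep.theta_theta, gT_toGL]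
    · refine Subgroup.subset_closure (Or.inr ?_)
      rw [gT_Dg]; rfl
  | one => rw [Prod.fst_one, Prod.snd_one, map_one]; exact one_mem _
  | mul p r _ _ hp hr =>
    rw [Prod.fst_mul, Prod.snd_mul, map_mul]
    exact mul_mem hp hr
  | inv p _ hp =>
    rw [Prod.fst_inv, Prod.snd_inv, map_inv]
    exact inv_mem hp

/-- A symmetric matrix killing `x` gives an element commuting with whatever commutes with the roots
orthogonal to `x`. -/
theorem commute_quad {ψ' : SpecialLinearGroup (Fin (k + 2)) F →* G} {h' : G}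
    {X' : Multiplicative F →* G} {ζ' : Fˣ} (R' : Rels ψ' h' X' ζ') {z : G} {x : Fin (k + 2) → F}
    (hx : x ≠ 0) (hz : ∀ y a, x ⬝ᵥ y = 0 → Commute z (U1 ψ' X' y a)) (N : Sy) (hN : N.1 *ᵥ x = 0) :
    Commute z (quad R' (.ofAdd N)) := by
  obtain ⟨i, hi⟩ := Function.ne_iff.1 hx
  rw [Pi.zero_apply] at hi
  set u : Fin (k + 2) → F := Pi.single i (x i)⁻¹
  have hux : u ⬝ᵥ x = 1 := by simp [u, hi]
  set P : Matrix (Fin (k + 2)) (Fin (k + 2)) F := 1 - vecMulVec u x
  have hPx : ∀ v, x ⬝ᵥ (P *ᵥ v) = 0 := by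
    intro v
    simp only [P, sub_mulVec, one_mulVec, vecMulVec_mulVec, dotProduct_sub, dotProduct_smul,
      dotProduct_comm x u, hux, op_smul_eq_smul, smul_eq_mul, mul_one, sub_self]
  have hNT : N.1ᵀ = N.1 := N.2
  have hPN : H48.congr' P N = N := by
    apply Subtype.ext
    show P * N.1 * Pᵀ = N.1
    have e1 : vecMulVec u x * N.1 = 0 := by
      rw [vecMulVec_mul, ← hNT, vecMul_transpose, hN]
      simp
    have e2 : N.1 * vecMulVec x u = 0 := by
      rw [mul_vecMulVec, hN]; simp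
    simp only [P, transpose_sub, transpose_one, transpose_vecMulVec, sub_mul, mul_sub, one_mul, mul_one,
      e1, e2, zero_mul, sub_zero]
  let c : Multiplicative Sy →* Multiplicative Sy :=
    MonoidHom.mk' (fun S => .ofAdd (H48.congr' P S.toAdd)) fun S T => by
      rw [← ofAdd_add]
      congr 1
      apply Subtype.ext
      show P * (S.toAdd.1 + T.toAdd.1) * Pᵀ = P * S.toAdd.1 * Pᵀ + P * T.toAdd.1 * Pᵀ
      rw [mul_add, add_mul]
  have key := H40.SpQuad.symHom_ext ((MulAut.conj z).toMonoidHom.comp ((quad R').comp c))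
    ((quad R').comp c) fun a v => by
    simp only [MonoidHom.comp_apply, MulEquiv.coe_toMonoidHom, MulAut.conj_apply, c,
      MonoidHom.mk'_apply, toAdd_ofAdd, H48.congr'_sqMat, H40.SpQuad.quad_sqMat R']
    rw [(hz _ a (hPx v)).eq, mul_inv_cancel_right]
  have h1 := DFunLike.congr_fun key (.ofAdd N)
  simp only [MonoidHom.comp_apply, MulEquiv.coe_toMonoidHom, MulAut.conj_apply, c,
    MonoidHom.mk'_apply, toAdd_ofAdd, hPN] at h1
  exact mul_inv_eq_iff_eq_mul.1 h1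

/-- A symmetric matrix with a prescribed value. -/
theorem exists_sym {x : Fin (k + 2) → F} (hx : x ≠ 0) (y : Fin (k + 2) → F) :
    ∃ M : Sy, M.1 *ᵥ x = y := by
  obtain ⟨i, hi⟩ := Function.ne_iff.1 hx
  rw [Pi.zero_apply] at hi
  set u : Fin (k + 2) → F := Pi.single i (x i)⁻¹
  have hux : u ⬝ᵥ x = 1 := by simp [u, hi]
  refine ⟨⟨vecMulVec y u + vecMulVec u y - (y ⬝ᵥ x) • vecMulVec u u, ?_⟩, ?_⟩
  · show (_ : Matrix (Fin (k + 2)) (Fin (k + 2)) F)ᵀ = _
    simp only [transpose_sub, transpose_add, transpose_smul, transpose_vecMulVec]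
    abel
  · simp only [sub_mulVec, add_mulVec, smul_mulVec, vecMulVec_mulVec, hux, op_smul_eq_smul,
      one_smul]
    abel

open Classical in
/-- The element attached to a transvection. -/
noncomputable def A (R : TRels ψ φ ζ) (x y : Fin (k + 2) → F) (c : F) : G :=
  if h : x = 0 then W1 y c
  else quad R.RW (.ofAdd (-(exists_sym h y).choose)) * A1 x c * quad R.RW (.ofAdd (exists_sym h y).choose)

/-- An upper unitriangular element. -/
noncomputable abbrev qU (R : TRels ψ φ ζ) (S : Sy) : G := quad R.RU (Multiplicative.ofAdd S)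

/-- A lower unitriangular element. -/
noncomputable abbrev qW (R : TRels ψ φ ζ) (S : Sy) : G := quad R.RW (Multiplicative.ofAdd S)

variable (R : TRels ψ φ ζ)

local notation "QU" => qU R
local notation "QW" => qW R

include R

theorem A1_δ (c : F) : A1 (δ 0) c = φ (H40.CRW.xS (.ofAdd c)) := H40.SpQuad.U1_δ R.RU c

theorem W1_δ (c : F) : W1 (δ 0) c = yHom φ (.ofAdd c) := H40.SpQuad.U1_δ R.RW c

theorem gam_U {γ : G} {g : GL (Fin (k + 2)) F} (h : (γ, g) ∈ Egrp ψ hh ζ) (x : Fin (k + 2) → F)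
    (c : F) : γ * A1 x c * γ⁻¹ = A1 (g.1 *ᵥ x) c := H40.SpQuad.U1_gam R.RU h x c

theorem gam_W {γ : G} {g : GL (Fin (k + 2)) F} (h : (γ, g) ∈ Egrp ψ hh ζ) (y : Fin (k + 2) → F)
    (c : F) : γ * W1 y c * γ⁻¹ = W1 ((gT g).1 *ᵥ y) c := H40.SpQuad.U1_gam R.RW (egrp_theta h) y c

theorem mixed_all {x y : Fin (k + 2) → F} (h : x ⬝ᵥ y = 0) (c d : F) :
    Commute (A1 x c) (W1 y d) := by
  by_cases hx : x = 0
  · subst hx; rw [H40.SpQuad.U1_zero R.RU]; exact Commute.one_left _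
  by_cases hy : y = 0
  · subst hy; rw [H40.SpQuad.U1_zero R.RW]; exact Commute.one_right _
  have base : ∀ a b : Fˣ, Commute (A1 (δ 0) ((a : F) * a)) (W1 (δ 1) ((b : F) * b)) := by
    intro a b
    have hdet : (diagonal (Function.update (Function.update 1 0 (a : F)) 1 ((b⁻¹ : Fˣ) : F)) :
        Matrix (Fin (k + 2)) (Fin (k + 2)) F).det ≠ 0 := by
      rw [det_diagonal, Finset.prod_update_of_mem (Finset.mem_univ _),
        Finset.prod_update_of_mem (Finset.mem_sdiff.2 ⟨Finset.mem_univ _, by simp⟩)]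
      simp
    set g := Matrix.GeneralLinearGroup.mkOfDetNeZero _ hdet
    obtain ⟨γ, hγ⟩ := H40.SpQuad.exists_gam R.RU g
    have e := R.mixed.map (MulAut.conj γ).toMonoidHom
    rw [← A1_δ R] at e
    simp only [MulEquiv.coe_toMonoidHom, MulAut.conj_apply, gam_U R hγ, gam_W R hγ] at e
    have e0 : g.1 *ᵥ δ 0 = (a : F) • δ 0 := by
      funext i
      show (diagonal _ *ᵥ δ 0) i = _
      rw [mulVec_diagonal]
      by_cases h : i = 0
      · subst h; simp
      · simp [h]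
    have e1 : g.1ᵀ *ᵥ ((b : F) • δ 1) = δ 1 := by
      funext i
      show ((diagonal _)ᵀ *ᵥ ((b : F) • δ 1)) i = _
      rw [diagonal_transpose, mulVec_diagonal]
      by_cases h : i = 1
      · subst h; simp
      · simp [h]
    have e2 : (gT g).1 *ᵥ δ 1 = (b : F) • δ 1 := by
      conv_lhs => rw [← e1, mulVec_mulVec]
      show ((g⁻¹ : GL (Fin (k + 2)) F).1ᵀ * g.1ᵀ) *ᵥ _ = _
      rw [← transpose_mul, Units.mul_inv, transpose_one, one_mulVec]
    rwa [e0, e2, H40.SpQuad.U1_smul R.RU, H40.SpQuad.U1_smul R.RW, mul_one, mul_one] at e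
  have half : ∀ (b : Fˣ) (c : F), Commute (A1 (δ 0) c) (W1 (δ 1) ((b : F) * b)) := by
    intro b c
    have := H40.BlockPres.hom_ext_sq ((MulAut.conj (W1 (δ 1) ((b : F) * b))).toMonoidHom.comp XX) XX
      fun a => by
      show W1 (δ 1) ((b : F) * b) * φ (H40.CRW.xS (.ofAdd ((a : F) * a))) * (W1 (δ 1) ((b : F) * b))⁻¹ = _
      rw [← A1_δ R, (base a b).symm.eq, mul_inv_cancel_right, A1_δ R]
      rfl
    have h1 : W1 (δ 1) ((b : F) * b) * φ (H40.CRW.xS (.ofAdd c)) * (W1 (δ 1) ((b : F) * b))⁻¹ =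
        φ (H40.CRW.xS (.ofAdd c)) := DFunLike.congr_fun this (.ofAdd c)
    rw [A1_δ R]
    exact (mul_inv_eq_iff_eq_mul.1 h1).symm
  have full : Commute (A1 (δ 0) c) (W1 (δ 1) d) := by
    let Y : Multiplicative F →* G :=
      MonoidHom.mk' (fun a => W1 (δ 1) a.toAdd) fun a b => by rw [toAdd_mul, H40.SpQuad.U1_add R.RW]
    have := H40.BlockPres.hom_ext_sq ((MulAut.conj (A1 (δ 0) c)).toMonoidHom.comp Y) Y fun b => by
      show A1 (δ 0) c * W1 (δ 1) ((b : F) * b) * (A1 (δ 0) c)⁻¹ = _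
      rw [(half b c).eq, mul_inv_cancel_right]
      rfl
    have h2 := DFunLike.congr_fun this (.ofAdd d)
    simp only [MonoidHom.comp_apply, MulEquiv.coe_toMonoidHom, MulAut.conj_apply, Y, MonoidHom.mk'_apply,
      toAdd_ofAdd] at h2
    exact mul_inv_eq_iff_eq_mul.1 h2
  obtain ⟨g, g0, g1⟩ := exists_pair hx hy
  rw [if_pos h] at g1
  obtain ⟨γ, hγ⟩ := H40.SpQuad.exists_gam R.RU g
  have e := full.map (MulAut.conj γ).toMonoidHom
  simp only [MulEquiv.coe_toMonoidHom, MulAut.conj_apply, gam_U R hγ, gam_W R hγ, g0, g1] at e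
  exact e

theorem QW_neg (S : Sy) : QW (-S) = (QW S)⁻¹ := by simp [qW, ofAdd_neg]

theorem QU_neg (S : Sy) : QU (-S) = (QU S)⁻¹ := by simp [qU, ofAdd_neg]

/-- Any symmetric matrix may be used. -/
theorem A_left {x y : Fin (k + 2) → F} (hx : x ≠ 0) (M : Sy) (hM : M.1 *ᵥ x = y) (c : F) :
    A R x y c = QW (-M) * A1 x c * QW M := by
  rw [A, dif_neg hx]
  set M' := (exists_sym hx y).choose
  have hM' : M'.1 *ᵥ x = y := (exists_sym hx y).choose_spec
  have hc := commute_quad R.RW hx (z := A1 x c) (fun y a hy => mixed_all R hy c a) (M' - M)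
    (by rw [AddSubgroup.coe_sub, sub_mulVec, hM, hM', sub_self])
  have e : quad R.RW (.ofAdd M') = quad R.RW (.ofAdd (M' - M)) * quad R.RW (.ofAdd M) := by
    rw [← map_mul, ← ofAdd_add, sub_add_cancel]
  show quad R.RW (.ofAdd (-M')) * A1 x c * quad R.RW (.ofAdd M') =
    quad R.RW (.ofAdd (-M)) * A1 x c * quad R.RW (.ofAdd M)
  rw [ofAdd_neg, ofAdd_neg, map_inv, map_inv, e]
  calc (quad R.RW (.ofAdd (M' - M)) * quad R.RW (.ofAdd M))⁻¹ * A1 x c *
        (quad R.RW (.ofAdd (M' - M)) * quad R.RW (.ofAdd M))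
      = (quad R.RW (.ofAdd M))⁻¹ * ((quad R.RW (.ofAdd (M' - M)))⁻¹ *
          (A1 x c * quad R.RW (.ofAdd (M' - M)))) * quad R.RW (.ofAdd M) := by group
    _ = _ := by rw [hc.eq, inv_mul_cancel_left]

theorem A_zero_left (y : Fin (k + 2) → F) (c : F) : A R 0 y c = W1 y c := by simp [A]

theorem A_mk_zero (x : Fin (k + 2) → F) (c : F) : A R x 0 c = A1 x c := by
  by_cases hx : x = 0
  · subst hx; rw [A_zero_left R, H40.SpQuad.U1_zero R.RW, H40.SpQuad.U1_zero R.RU]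
  · rw [A_left R hx 0 (by simp)]
    simp [qW]

theorem A_add (x y : Fin (k + 2) → F) (c d : F) : A R x y (c + d) = A R x y c * A R x y d := by
  by_cases hx : x = 0
  · subst hx; simp only [A_zero_left R, H40.SpQuad.U1_add R.RW]
  obtain ⟨M, hM⟩ := exists_sym hx y
  rw [A_left R hx M hM, A_left R hx M hM, A_left R hx M hM, H40.SpQuad.U1_add R.RU]
  simp only [qU, qW, ofAdd_neg, map_inv]
  group

theorem A_levi {γ : G} {g : GL (Fin (k + 2)) F} (h : (γ, g) ∈ Egrp ψ hh ζ) (x y : Fin (k + 2) → F)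
    (c : F) : γ * A R x y c * γ⁻¹ = A R (g.1 *ᵥ x) ((gT g).1 *ᵥ y) c := by
  by_cases hx : x = 0
  · subst hx; rw [mulVec_zero, A_zero_left R, A_zero_left R, gam_W R h]
  have hgx : g.1 *ᵥ x ≠ 0 := fun e => hx (by
    have := congrArg ((g⁻¹ : GL (Fin (k + 2)) F).1 *ᵥ ·) e
    simpa [mulVec_mulVec] using this)
  obtain ⟨M, hM⟩ := exists_sym hx y
  have hM' : (H48.congr' (gT g).1 M).1 *ᵥ (g.1 *ᵥ x) = (gT g).1 *ᵥ y := by
    show ((gT g).1 * M.1 * ((g⁻¹ : GL (Fin (k + 2)) F).1ᵀ)ᵀ) *ᵥ (g.1 *ᵥ x) = _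
    rw [transpose_transpose, mulVec_mulVec, mul_assoc, mul_assoc, Units.inv_mul, mul_one,
      ← mulVec_mulVec, hM]
  rw [A_left R hx M hM, A_left R hgx _ hM']
  simp only [qU, qW, ofAdd_neg, map_inv]
  rw [← gam_U R h, ← H40.SpQuad.quad_gam R.RW (egrp_theta h) M]
  group

omit R in
/-- A lower unitriangular matrix. -/
def lowS (a : F) : SpecialLinearGroup (Fin 2) F := ⟨!![1, 0; -a, 1], by simp [det_fin_two]⟩

omit R in
theorem tS_xS (a : F) :
    H40.CRW.tS * H40.CRW.xS (.ofAdd a) * H40.CRW.tS⁻¹ = lowS a := by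
  rw [_root_.mul_inv_eq_iff_eq_mul]
  apply Subtype.ext
  show !![0, 1; -1, 0] * !![1, a; 0, 1] = !![1, 0; -a, 1] * !![(0 : F), 1; -1, 0]
  simp [mul_fin_two]

/-- The `SL_2` identity. -/
theorem sl2_cons {β : F} (hβ : β ≠ 0) (c : F) :
    yHom φ (.ofAdd (-β)) * φ (H40.CRW.xS (.ofAdd c)) * yHom φ (.ofAdd β) =
      φ (H40.CRW.xS (.ofAdd β⁻¹)) * yHom φ (.ofAdd (β * β * c)) * φ (H40.CRW.xS (.ofAdd (-β⁻¹))) := by
  have hy : ∀ a, yHom φ (.ofAdd a) = φ (H40.CRW.tS * H40.CRW.xS (.ofAdd a) * H40.CRW.tS⁻¹) :=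
    fun a => by simp [yHom]
  rw [hy, hy, hy]
  simp only [← map_mul]
  congr 1
  rw [tS_xS, tS_xS, tS_xS]
  apply Subtype.ext
  show !![1, 0; -(-β), 1] * !![1, c; 0, 1] * !![1, 0; -β, 1] =
    !![1, β⁻¹; 0, 1] * !![1, 0; -(β * β * c), 1] * !![(1 : F), -β⁻¹; 0, 1]
  simp only [mul_fin_two]
  ext i j
  fin_cases i <;> fin_cases j <;> simp <;> field_simp <;> ring

/-- The two descriptions agree. -/
theorem A_right {x y : Fin (k + 2) → F} (hy : y ≠ 0) (S : Sy) (hS : S.1 *ᵥ y = x) (c : F) :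
    A R x y c = QU S * W1 y c * QU (-S) := by
  classical
  -- independence of the matrix
  have wd : ∀ {x y : Fin (k + 2) → F}, y ≠ 0 → ∀ S S' : Sy, S.1 *ᵥ y = x → S'.1 *ᵥ y = x → ∀ c,
      QU S * W1 y c * QU (-S) = QU S' * W1 y c * QU (-S') := by
    intro x y hy S S' hS hS' c
    have hc := commute_quad R.RU hy (z := W1 y c)
      (fun x a hx => (mixed_all R (by rwa [dotProduct_comm]) a c).symm) (S - S')
      (by rw [AddSubgroup.coe_sub, sub_mulVec, hS, hS', sub_self])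
    have e : quad R.RU (.ofAdd S) = quad R.RU (.ofAdd S') * quad R.RU (.ofAdd (S - S')) := by
      rw [← map_mul, ← ofAdd_add, add_sub_cancel]
    simp only [qU, ofAdd_neg, map_inv, e]
    calc quad R.RU (.ofAdd S') * quad R.RU (.ofAdd (S - S')) * W1 y c *
          (quad R.RU (.ofAdd S') * quad R.RU (.ofAdd (S - S')))⁻¹
        = quad R.RU (.ofAdd S') * (quad R.RU (.ofAdd (S - S')) * W1 y c *
          (quad R.RU (.ofAdd (S - S')))⁻¹) * (quad R.RU (.ofAdd S'))⁻¹ := by group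
      _ = _ := by rw [← hc.eq, mul_inv_cancel_right]
  by_cases hx : x = 0
  · subst hx
    rw [A_zero_left R, wd hy S 0 hS (by simp)]
    simp [qU]
  -- the normal forms
  obtain ⟨g, g0, g1⟩ := exists_pair hx hy
  obtain ⟨γ, hγ⟩ := H40.SpQuad.exists_gam R.RU g
  set y0 := if x ⬝ᵥ y = 0 then (δ 1 : Fin (k + 2) → F) else (x ⬝ᵥ y) • δ 0
  suffices ∃ S0 : Sy, S0.1 *ᵥ y0 = δ 0 ∧ A R (δ 0) y0 c = QU S0 * W1 y0 c * QU (-S0) by
    obtain ⟨S0, h0, e0⟩ := this
    have e := congrArg (fun z => γ * z * γ⁻¹) e0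
    simp only [A_levi R hγ, g0, g1] at e
    rw [e, wd hy S (H48.congr' g.1 S0) hS ?_]
    · simp only [qU, qW, ofAdd_neg, map_inv]
      rw [← g1, ← gam_W R hγ, ← H40.SpQuad.quad_gam R.RU hγ S0]
      group
    · show (g.1 * S0.1 * g.1ᵀ) *ᵥ y = x
      rw [← g1, mulVec_mulVec, mul_assoc, mul_assoc]
      show (g.1 * (S0.1 * (g.1ᵀ * (g⁻¹ : GL (Fin (k + 2)) F).1ᵀ))) *ᵥ y0 = x
      rw [← transpose_mul, Units.inv_mul, transpose_one, mul_one, ← mulVec_mulVec, h0, g0]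
  have hne : (δ 0 : Fin (k + 2) → F) ≠ 0 := fun e => by simpa using congrFun e 0
  by_cases hβ : x ⬝ᵥ y = 0
  · simp only [y0, if_pos hβ]
    set M : Sy := H48.sqMat 1 (δ 0 + δ 1) - H48.sqMat 1 (δ 0) - H48.sqMat 1 (δ 1) with hMdef
    have hM : ∀ v : Fin (k + 2) → F, M.1 *ᵥ v = v 1 • δ 0 + v 0 • δ 1 := by
      intro v
      show (((1 : F) • vecMulVec (δ 0 + δ 1) (δ 0 + δ 1) - (1 : F) • vecMulVec (δ 0) (δ 0) -
        (1 : F) • vecMulVec (δ 1) (δ 1)) *ᵥ v : Fin (k + 2) → F) = _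
      simp only [one_smul, sub_mulVec, vecMulVec_mulVec, add_dotProduct, single_dotProduct, one_mul,
        op_smul_eq_smul]
      module
    refine ⟨M, by rw [hM]; simp, ?_⟩
    rw [A_left R hne M (by rw [hM]; simp), A1_δ R]
    have eW : ∀ a, quad R.RW (.ofAdd (H48.sqMat a (δ 0 + δ 1) - H48.sqMat a (δ 0) - H48.sqMat a (δ 1))) =
        BW ψ φ a := by
      intro a
      rw [ofAdd_sub, ofAdd_sub, map_div, map_div, H40.SpQuad.quad_sqMat R.RW,
        H40.SpQuad.quad_sqMat R.RW, H40.SpQuad.quad_sqMat R.RW]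
      simp only [div_eq_mul_inv, BW, polar, H40.SpQuad.U1_inv R.RW]
    have eU : ∀ a, quad R.RU (.ofAdd (H48.sqMat a (δ 0 + δ 1) - H48.sqMat a (δ 0) - H48.sqMat a (δ 1))) =
        BU ψ φ a := by
      intro a
      rw [ofAdd_sub, ofAdd_sub, map_div, map_div, H40.SpQuad.quad_sqMat R.RU,
        H40.SpQuad.quad_sqMat R.RU, H40.SpQuad.quad_sqMat R.RU]
      simp only [div_eq_mul_inv, BU, polar, H40.SpQuad.U1_inv R.RU]
    have eM : -M = H48.sqMat (-1) (δ 0 + δ 1) - H48.sqMat (-1) (δ 0) - H48.sqMat (-1) (δ 1) := by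
      apply Subtype.ext
      ext a b
      simp [M, H48.sqMat]
      ring
    simp only [qU, qW, eM, eW]
    rw [show quad R.RU (.ofAdd M) = BU ψ φ 1 from eU 1, show quad R.RW (.ofAdd M) = BW ψ φ 1 from eW 1, eU]
    -- all scalars
    let P : Multiplicative F →* G :=
      (MulAut.conj (BW ψ φ (-1))).toMonoidHom.comp XX
    let P' : Multiplicative F →* G :=
      (MulAut.conj (BU ψ φ 1)).toMonoidHom.comp
        (MonoidHom.mk' (fun a => W1 (δ 1) a.toAdd) fun a b => by rw [toAdd_mul, H40.SpQuad.U1_add R.RW])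
    have iW : (BW ψ φ (-1))⁻¹ = BW ψ φ 1 := inv_eq_of_mul_eq_one_left (by
      rw [BW, ← H40.SpQuad.B_add R.RW, add_neg_cancel, H40.SpQuad.B_zero R.RW])
    have iU : (BU ψ φ 1)⁻¹ = BU ψ φ (-1) := inv_eq_of_mul_eq_one_left (by
      rw [BU, ← H40.SpQuad.B_add R.RU, neg_add_cancel, H40.SpQuad.B_zero R.RU])
    have key := H40.BlockPres.hom_ext_sq P P' fun a => by
      show BW ψ φ (-1) * φ (H40.CRW.xS (.ofAdd ((a : F) * a))) * (BW ψ φ (-1))⁻¹ =
        BU ψ φ 1 * W1 (δ 1) ((a : F) * a) * (BU ψ φ 1)⁻¹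
      rw [iW, iU, ← A1_δ R]
      obtain ⟨η, hη⟩ := H40.SpQuad.exists_gam R.RU (SpecialLinearGroup.toGL (kd (k := k) a))
      have hT := egrp_theta hη
      have v0 : (SpecialLinearGroup.toGL (kd (k := k) a) : GL (Fin (k + 2)) F).1 *ᵥ δ 0 = (a : F) • δ 0 :=
        H40.SpQuad.kd_mulVec a
      have v1 : (SpecialLinearGroup.toGL (kd (k := k) a) : GL (Fin (k + 2)) F).1 *ᵥ δ 1 =
          ((a⁻¹ : Fˣ) : F) • δ 1 := by
        funext i
        show (diagonal _ *ᵥ δ 1) i = _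
        rw [mulVec_diagonal]
        by_cases h : i = 1
        · subst h; simp
        · simp [h]
      have kdinv : theta (kd (k := k) a) = kd a⁻¹ := by
        have e : (kd (k := k) a)⁻¹ = kd a⁻¹ := inv_eq_of_mul_eq_one_right (Subtype.ext (by
          show diagonal _ * diagonal _ = 1
          rw [diagonal_mul_diagonal, ← diagonal_one]
          congr 1
          funext i
          by_cases h1 : i = 1
          · subst h1; simp
          · by_cases h0 : i = 0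
            · subst h0; simp
            · simp [h0, h1]))
        apply Subtype.ext
        show ((kd (k := k) a)⁻¹ : SpecialLinearGroup (Fin (k + 2)) F).1ᵀ = _
        rw [e]
        exact diagonal_transpose _
      have w0 : (gT (SpecialLinearGroup.toGL (kd (k := k) a)) : GL (Fin (k + 2)) F).1 *ᵥ δ 0 =
          ((a⁻¹ : Fˣ) : F) • δ 0 := by
        rw [gT_toGL, kdinv]; exact H40.SpQuad.kd_mulVec a⁻¹
      have w1 : (gT (SpecialLinearGroup.toGL (kd (k := k) a)) : GL (Fin (k + 2)) F).1 *ᵥ δ 1 =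
          (a : F) • δ 1 := by
        rw [gT_toGL, kdinv]
        funext i
        show (diagonal _ *ᵥ δ 1) i = _
        rw [mulVec_diagonal]
        by_cases h : i = 1
        · subst h; simp
        · simp [h]
      have e := congrArg (fun z => η * z * η⁻¹) R.cons
      rw [← A1_δ R] at e
      simp only [show ∀ p q r : G, η * (p * q * r) * η⁻¹ = (η * p * η⁻¹) * (η * q * η⁻¹) * (η * r * η⁻¹)
        from fun p q r => by group, BW, BU, H40.SpQuad.B_gam R.RW hT, H40.SpQuad.B_gam R.RU hη,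
        gam_U R hη, gam_W R hη, v0, v1, w0, w1, H40.SpQuad.U1_smul R.RU, H40.SpQuad.U1_smul R.RW,
        mul_one] at e
      have b1 : ∀ t, H40.SpQuad.polar (U1 (ψ.comp theta) (yHom φ)) (((a⁻¹ : Fˣ) : F) • δ 0) ((a : F) • δ 1) t =
          H40.SpQuad.polar (U1 (ψ.comp theta) (yHom φ)) (δ 0) (δ 1) t := fun t => by
        rw [H40.SpQuad.B_lin R.RW, H40.SpQuad.B_symm R.RW, H40.SpQuad.B_lin R.RW,
          H40.SpQuad.B_symm R.RW, ← mul_assoc, Units.mul_inv, one_mul]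
      have b2 : ∀ t, H40.SpQuad.polar (U1 ψ XX) ((a : F) • δ 0) (((a⁻¹ : Fˣ) : F) • δ 1) t =
          H40.SpQuad.polar (U1 ψ XX) (δ 0) (δ 1) t := fun t => by
        rw [H40.SpQuad.B_lin R.RU, H40.SpQuad.B_symm R.RU, H40.SpQuad.B_lin R.RU,
          H40.SpQuad.B_symm R.RU, ← mul_assoc, Units.inv_mul, one_mul]
      rw [b1, b1, b2, b2] at e
      exact e
    have h1 : BW ψ φ (-1) * φ (H40.CRW.xS (.ofAdd c)) * (BW ψ φ (-1))⁻¹ =
        BU ψ φ 1 * W1 (δ 1) c * (BU ψ φ 1)⁻¹ := DFunLike.congr_fun key (.ofAdd c)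
    rwa [iW, iU] at h1
  · simp only [y0, if_neg hβ]
    generalize x ⬝ᵥ y = β at hβ ⊢
    have hsq : ∀ a b : F, (H48.sqMat a (δ 0 : Fin (k + 2) → F)).1 *ᵥ (b • δ 0) = (a * b) • δ 0 := by
      intro a b
      show (a • vecMulVec (δ 0) (δ 0)) *ᵥ (b • δ 0) = _
      simp [smul_mulVec, vecMulVec_mulVec, smul_smul]
    refine ⟨H48.sqMat β⁻¹ (δ 0), by rw [hsq, inv_mul_cancel₀ hβ, one_smul], ?_⟩
    have hnegs : ∀ a : F, -H48.sqMat a (δ 0 : Fin (k + 2) → F) = H48.sqMat (-a) (δ 0) := fun a =>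
      Subtype.ext (by simp [H48.sqMat])
    rw [A_left R hne (H48.sqMat β (δ 0)) (by
      have := hsq β 1
      rwa [one_smul, mul_one] at this)]
    simp only [qU, qW, hnegs, H40.SpQuad.quad_sqMat R.RU, H40.SpQuad.quad_sqMat R.RW, A1_δ R, W1_δ R, H40.SpQuad.U1_smul R.RW]
    exact sl2_cons R hβ c

/-- Conjugation by upper elements. -/
theorem A_up (S : Sy) (x y : Fin (k + 2) → F) (c : F) :
    QU S * A R x y c * (QU S)⁻¹ = A R (x + S.1 *ᵥ y) y c := by
  by_cases hy : y = 0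
  · subst hy
    rw [mulVec_zero, add_zero, A_mk_zero R]
    have : A1 x c = quad R.RU (.ofAdd (H48.sqMat c x)) := (H40.SpQuad.quad_sqMat R.RU c x).symm
    rw [this]
    simp only [qU, qW, ← map_mul, ← map_inv]
    congr 1
    rw [mul_comm (Multiplicative.ofAdd S), mul_inv_cancel_right]
  obtain ⟨S0, hS0⟩ := exists_sym hy x
  rw [A_right R hy S0 hS0, A_right R hy (S + S0) (by
    rw [AddSubgroup.coe_add, add_mulVec, hS0]; exact add_comm _ _)]
  simp only [qU, ofAdd_add, ofAdd_neg, map_mul, map_inv]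
  group

/-- Conjugation by lower elements. -/
theorem A_down (N : Sy) (x y : Fin (k + 2) → F) (c : F) :
    QW N * A R x y c * (QW N)⁻¹ = A R x (y - N.1 *ᵥ x) c := by
  by_cases hx : x = 0
  · subst hx
    rw [mulVec_zero, sub_zero, A_zero_left R]
    have : W1 y c = quad R.RW (.ofAdd (H48.sqMat c y)) := (H40.SpQuad.quad_sqMat R.RW c y).symm
    rw [this]
    simp only [qU, qW, ← map_mul, ← map_inv]
    congr 1
    rw [mul_comm (Multiplicative.ofAdd N), mul_inv_cancel_right]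
  obtain ⟨M, hM⟩ := exists_sym hx y
  rw [A_left R hx M hM, A_left R hx (M - N) (by rw [AddSubgroup.coe_sub, sub_mulVec, hM])]
  simp only [qW, neg_sub, ofAdd_sub, ofAdd_neg, map_div, map_mul, map_inv, div_eq_mul_inv]
  group

end H40.SpTrans
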