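import Cfsg.Agent.H40.InvMobius
import Cfsg.Prelude.Def_LinearParabolics

/-!
# The alternating sum of fixed flags is the Möbius number of the lattice of invariant subspaces.
-/

set_option autoImplicit false

namespace H40

open Finset

section Dual

variable {α : Type*} [Lattice α] [BoundedOrder α] [Finite α]

/-- The Möbius function `μ(u, ⊤)`. -/
noncomputable def moebTop (u : α) : ℤ := moebBot (OrderDual.toDual u)

theorem sum_Ici_moebTop (u : α) [Decidable (u = ⊤)] :
    ∑ w ∈ (Set.toFinite (Set.Ici u)).toFinset, moebTop w = if u = ⊤ then 1 else 0 := by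
  classical
  have h := sum_Iic_moebBot (OrderDual.toDual u)
  have e : (OrderDual.toDual u = ⊥) ↔ u = ⊤ := Iff.rfl
  simp only [e] at h
  rw [← h]
  refine Finset.sum_nbij' OrderDual.toDual OrderDual.ofDual ?_ ?_ ?_ ?_ ?_
  · intro w hw; simpa using hw
  · intro w hw; simpa [OrderDual.le_toDual] using hw
  · intro w _; rfl
  · intro w _; rfl
  · intro w _; rfl

theorem moebTop_bot : moebTop (⊥ : α) = moebBot (⊤ : α) := by
  classical
  have := Fintype.ofFinite α
  have h1 : ∑ u : α, ∑ w ∈ (Set.toFinite (Set.Ici u)).toFinset, moebBot u * moebTop w = moebBot (⊤ : α) := by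
    simp only [← Finset.mul_sum, sum_Ici_moebTop, mul_ite, mul_one, mul_zero, Finset.sum_ite_eq',
      Finset.mem_univ, if_true]
  have h2 : ∑ w : α, ∑ u ∈ (Set.toFinite (Set.Iic w)).toFinset, moebBot u * moebTop w = moebTop (⊥ : α) := by
    simp only [← Finset.sum_mul, sum_Iic_moebBot, ite_mul, one_mul, zero_mul, Finset.sum_ite_eq',
      Finset.mem_univ, if_true]
  rw [← h1, ← h2]
  exact (Finset.sum_comm' (fun u w => by simp)).symm

end Dual

/-- The partial sum up to `k`. -/
def psum {n : ℕ} (μ : Fin n → ℕ) (k : Fin n) : ℕ := ∑ i ∈ univ.filter (fun i : Fin n => i ≤ k), μ i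

/-- The nonzero partial sums. -/
def cutSet {n : ℕ} (μ : Fin n → ℕ) : Finset ℕ := (univ.image (psum μ)).erase 0

theorem cutSet_le {n : ℕ} (μ : Fin n → ℕ) {N : ℕ} (h : ∑ i, μ i = N) {c : ℕ} (hc : c ∈ cutSet μ) : c ≤ N := by
  simp only [cutSet, Finset.mem_erase, Finset.mem_image, Finset.mem_univ, true_and] at hc
  obtain ⟨-, k, rfl⟩ := hc
  rw [← h]
  exact Finset.sum_le_sum_of_subset (Finset.subset_univ _)

theorem psum_succ {n : ℕ} (μ : Fin (n + 1) → ℕ) (k : Fin n) :
    psum μ k.succ = μ 0 + psum (fun i => μ i.succ) k := by
  simp [psum, Finset.sum_filter, Fin.sum_univ_succ]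

theorem psum_zero {n : ℕ} (μ : Fin (n + 1) → ℕ) : psum μ 0 = μ 0 := by
  simp [psum, Finset.sum_filter]

/-- The composition attached to a permutation. -/
def permComp {n : ℕ} (κ : Equiv.Perm (Fin n)) (i : Fin n) : ℕ := 1 + i.val - (κ i).val

/-- The alternating sum over the permutations with `κ i ≤ i + 1`. -/
noncomputable def altSum (n : ℕ) (H : Finset ℕ → ℤ) : ℤ :=
  ∑ κ : Equiv.Perm (Fin n),
    if ∀ i : Fin n, (κ i).val ≤ 1 + i.val then ((Equiv.Perm.sign κ : ℤˣ) : ℤ) * H (cutSet (permComp κ)) else 0

theorem altSum_congr (n : ℕ) {H H' : Finset ℕ → ℤ} (h : ∀ C : Finset ℕ, 0 ∉ C → H C = H' C) :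
    altSum n H = altSum n H' :=
  Finset.sum_congr rfl fun κ _ => by
    rw [h (cutSet (permComp κ)) (by simp [cutSet])]

theorem altSum_zero (H : Finset ℕ → ℤ) : altSum 0 H = H ∅ := by
  simp [altSum, cutSet]

theorem sum_permComp {n : ℕ} (κ : Equiv.Perm (Fin n)) (hκ : ∀ i : Fin n, (κ i).val ≤ 1 + i.val) :
    ∑ i, permComp κ i = n := by
  have h : (∑ i, permComp κ i) + ∑ i : Fin n, (κ i).val = ∑ i : Fin n, (1 + i.val) := by
    rw [← Finset.sum_add_distrib]
    exact Finset.sum_congr rfl fun i _ => Nat.sub_add_cancel (hκ i)
  rw [Equiv.sum_comp κ (fun i : Fin n => i.val), Finset.sum_add_distrib] at h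
  simpa using h

theorem altSum_succ (n : ℕ) (H : Finset ℕ → ℤ) :
    altSum (n + 1 + 1) H = altSum (n + 1) (fun C => H (insert 1 (C.image (· + 1)))) -
      altSum (n + 1) (fun C => H (C.image (· + 1))) := by
  classical
  conv_lhs => rw [altSum, ← Equiv.sum_comp Equiv.Perm.decomposeFin.symm, Fintype.sum_prod_type, Fin.sum_univ_succ,
    Fin.sum_univ_succ]
  have hzero : ∀ p : Fin n, ∀ e : Equiv.Perm (Fin (n + 1)),
      ¬ ∀ i : Fin (n + 1 + 1), ((Equiv.Perm.decomposeFin.symm (p.succ.succ, e)) i).val ≤ 1 + i.val := by
    intro p e h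
    have := h 0
    simp only [Equiv.Perm.decomposeFin_symm_apply_zero, Fin.val_succ, Fin.val_zero] at this
    omega
  rw [Finset.sum_eq_zero (fun p _ => Finset.sum_eq_zero fun e _ => if_neg (hzero p e)), add_zero, altSum, altSum,
    sub_eq_add_neg, ← Finset.sum_neg_distrib]
  congr 1
  · refine Finset.sum_congr rfl fun e _ => ?_
    set κ := Equiv.Perm.decomposeFin.symm ((0 : Fin (n + 1 + 1)), e)
    have h0 : κ 0 = 0 := Equiv.Perm.decomposeFin_symm_apply_zero _ _
    have hs : ∀ i : Fin (n + 1), κ i.succ = (e i).succ := by
      intro i; simp [κ, Equiv.Perm.decomposeFin_symm_apply_succ]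
    have hiff : (∀ i : Fin (n + 1 + 1), (κ i).val ≤ 1 + i.val) ↔ ∀ i : Fin (n + 1), (e i).val ≤ 1 + i.val := by
      rw [Fin.forall_fin_succ]
      simp only [h0, hs, Fin.val_zero, Fin.val_succ]
      constructor
      · intro h i; have := h.2 i; omega
      · exact fun h => ⟨by omega, fun i => by have := h i; omega⟩
    by_cases he : ∀ i : Fin (n + 1), (e i).val ≤ 1 + i.val
    · rw [if_pos he, if_pos (hiff.2 he), Equiv.Perm.decomposeFin.symm_sign, if_pos rfl, one_mul]
      congr 2
      have hp0 : psum (permComp κ) 0 = 1 := by rw [psum_zero, permComp, h0]; simp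
      have hps : ∀ k : Fin (n + 1), psum (permComp κ) k.succ = psum (permComp e) k + 1 := by
        intro k
        rw [psum_succ, permComp, h0, add_comm]
        congr 1
        refine Finset.sum_congr rfl fun i _ => ?_
        simp [permComp, hs]; omega
      ext c
      simp only [cutSet, Finset.mem_erase, Finset.mem_image, Finset.mem_univ, true_and, Finset.mem_insert,
        Fin.exists_fin_succ (P := fun k => psum (permComp κ) k = c), hp0, hps]
      constructor
      · rintro ⟨hc, h | ⟨k, hk⟩⟩
        · exact Or.inl h.symm
        · by_cases hz : psum (permComp e) k = 0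
          · left; omega
          · exact Or.inr ⟨_, ⟨hz, k, rfl⟩, hk⟩
      · rintro (rfl | ⟨a, ⟨-, k, rfl⟩, rfl⟩)
        · exact ⟨one_ne_zero, Or.inl rfl⟩
        · exact ⟨by omega, Or.inr ⟨k, rfl⟩⟩
    · rw [if_neg he, if_neg (fun h => he (hiff.1 h))]
  · refine Finset.sum_congr rfl fun e _ => ?_
    set κ := Equiv.Perm.decomposeFin.symm ((Fin.succ 0 : Fin (n + 1 + 1)), e)
    have h0 : κ 0 = Fin.succ 0 := Equiv.Perm.decomposeFin_symm_apply_zero _ _
    have hs : ∀ i : Fin (n + 1), κ i.succ = if e i = 0 then 0 else (e i).succ := by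
      intro i
      simp only [κ, Equiv.Perm.decomposeFin_symm_apply_succ]
      split_ifs with h
      · rw [h, Equiv.swap_apply_right]
      · rw [Equiv.swap_apply_of_ne_of_ne (Fin.succ_ne_zero _) (fun hh => h (Fin.succ_injective _ hh))]
    have hiff : (∀ i : Fin (n + 1 + 1), (κ i).val ≤ 1 + i.val) ↔ ∀ i : Fin (n + 1), (e i).val ≤ 1 + i.val := by
      rw [Fin.forall_fin_succ]
      simp only [h0, hs, Fin.val_zero, Fin.val_succ]
      constructor
      · intro h i
        have := h.2 i
        by_cases hi : e i = 0
        · rw [hi]; simp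
        · simp only [hi, if_false, Fin.val_succ] at this; omega
      · refine fun h => ⟨by simp, fun i => ?_⟩
        have := h i
        split_ifs <;> simp <;> omega
    by_cases he : ∀ i : Fin (n + 1), (e i).val ≤ 1 + i.val
    · rw [if_pos he, if_pos (hiff.2 he), Equiv.Perm.decomposeFin.symm_sign, if_neg (Fin.succ_ne_zero _)]
      simp only [neg_mul, Units.val_neg, one_mul]
      congr 3
      set i0 := e.symm 0 with hi0
      have hlt : ∀ i : Fin (n + 1), i < i0 → (e i).val = i.val + 1 := by
        intro i
        induction i using Fin.induction with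
        | zero =>
          intro h
          have h1 := he 0
          have : (e 0).val ≠ 0 := fun hh => h.ne (by rw [hi0, Equiv.eq_symm_apply]; exact Fin.ext hh)
          simp at h1 ⊢; omega
        | succ i ih =>
          intro h
          have h1 := ih (lt_trans (Fin.castSucc_lt_succ) h)
          have h2 := he i.succ
          have hne0 : (e i.succ).val ≠ 0 := fun hh => h.ne (by rw [hi0, Equiv.eq_symm_apply]; exact Fin.ext hh)
          -- the smaller values are taken by smaller indices
          by_contra hne
          have hle : (e i.succ).val ≤ i.val + 1 := by simp at h2 hne ⊢; omega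
          have : ∀ j : Fin (n + 1), j < i.succ → (e j).val = j.val + 1 := by
            clear h1 ih
            intro j
            induction j using Fin.induction with
            | zero =>
              intro hj
              have h1 := he 0
              have : (e 0).val ≠ 0 := fun hh => (hj.trans h).ne (by rw [hi0, Equiv.eq_symm_apply]; exact Fin.ext hh)
              simp at h1 ⊢; omega
            | succ j jh =>
              intro hj
              have h1 := he j.succ
              have hj0 : (e j.succ).val ≠ 0 := fun hh => (hj.trans h).ne (by rw [hi0, Equiv.eq_symm_apply]; exact Fin.ext hh)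
              by_contra hne'
              have hb : (e j.succ).val ≤ j.val + 1 := by simp at h1 hne' ⊢; omega
              have hcs := jh (lt_trans Fin.castSucc_lt_succ hj)
              simp only [Fin.val_castSucc] at hcs
              -- value `(e j.succ)` is the value of an earlier index
              have key : ∀ m : ℕ, ∀ hm : m ≤ j.val, (e ⟨m, by omega⟩).val = m + 1 := by
                intro m hm
                induction m using Nat.strong_induction_on with
                | _ m mh =>
                  by_cases hm' : m = j.val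
                  · subst hm'; exact hcs
                  · have h1 := he ⟨m, by omega⟩
                    have hm0 : (e ⟨m, by omega⟩).val ≠ 0 := fun hh => by
                      have heq : (⟨m, by omega⟩ : Fin (n + 1)) = i0 := by
                        rw [hi0, Equiv.eq_symm_apply]; exact Fin.ext hh
                      have := congrArg Fin.val heq
                      simp only [Fin.lt_def, Fin.val_succ] at hj h this; omega
                    by_contra hne''
                    have hb' : (e ⟨m, by omega⟩).val ≤ m := by simp at h1 hne'' ⊢; omega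
                    have := mh ((e ⟨m, by omega⟩).val - 1) (by omega) (by omega)
                    have heq := e.injective (Fin.ext (show (e ⟨(e ⟨m, by omega⟩).val - 1, by omega⟩).val = (e ⟨m, by omega⟩).val by omega))
                    have := congrArg Fin.val heq
                    simp at this; omega
              have := key ((e j.succ).val - 1) (by omega)
              have heq := e.injective (Fin.ext (show (e ⟨(e j.succ).val - 1, by omega⟩).val = (e j.succ).val by omega))
              have := congrArg Fin.val heq
              simp at this; omega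
          have := this ⟨(e i.succ).val - 1, by omega⟩ (Fin.lt_def.2 (show (e i.succ).val - 1 < i.val + 1 by omega))
          have heq := e.injective (Fin.ext (show (e ⟨(e i.succ).val - 1, by omega⟩).val = (e i.succ).val by simp at this; omega))
          have := congrArg Fin.val heq
          simp at this; omega
      have hei0 : e i0 = 0 := e.apply_symm_apply 0
      have hzero : ∀ k : Fin (n + 1), psum (permComp e) k = 0 ↔ k < i0 := by
        intro k
        rw [psum, Finset.sum_eq_zero_iff]
        constructor
        · intro h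
          by_contra hk
          have := h i0 (by simp; exact le_of_not_gt hk)
          simp [permComp, hei0] at this
        · intro hk i hi
          simp only [Finset.mem_filter, Finset.mem_univ, true_and] at hi
          rw [permComp, hlt i (lt_of_le_of_lt hi hk)]
          omega
      have hp0 : psum (permComp κ) 0 = 0 := by rw [psum_zero, permComp, h0]; simp
      have hps : ∀ k : Fin (n + 1), psum (permComp κ) k.succ =
          psum (permComp e) k + if i0 ≤ k then 1 else 0 := by
        intro k
        rw [psum_succ, permComp, h0, show 1 + ((0 : Fin (n + 1 + 1)) : ℕ) - ((Fin.succ 0 : Fin (n + 1 + 1)) : ℕ) = 0 by simp, zero_add]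
        rw [show (if i0 ≤ k then 1 else 0) = ∑ i ∈ univ.filter (fun i : Fin (n + 1) => i ≤ k), if i = i0 then 1 else 0 by
          rw [Finset.sum_ite_eq']; simp, psum, psum, ← Finset.sum_add_distrib]
        refine Finset.sum_congr rfl fun i _ => ?_
        have hz : e i = 0 ↔ i = i0 := by rw [hi0, Equiv.eq_symm_apply]
        by_cases hi : i = i0
        · subst hi; simp [permComp, hs, hei0]; omega
        · simp [permComp, hs, hi, hz]; omega
      ext c
      simp only [cutSet, Finset.mem_erase, Finset.mem_image, Finset.mem_univ, true_and,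
        Fin.exists_fin_succ (P := fun k => psum (permComp κ) k = c), hp0, hps]
      constructor
      · rintro ⟨hc, h | ⟨k, hk⟩⟩
        · exact absurd h.symm hc
        · by_cases hk0 : i0 ≤ k
          · rw [if_pos hk0] at hk
            exact ⟨_, ⟨fun hz => ((hzero k).1 hz).not_ge hk0, k, rfl⟩, hk⟩
          · rw [if_neg hk0, (hzero k).2 (lt_of_not_ge hk0), add_zero] at hk
            exact absurd hk.symm hc
      · rintro ⟨a, ⟨ha, k, rfl⟩, rfl⟩
        have hk : i0 ≤ k := le_of_not_gt fun hh => ha ((hzero k).2 hh)
        exact ⟨by omega, Or.inr ⟨k, by rw [if_pos hk]⟩⟩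
    · rw [if_neg he, if_neg (fun h => he (hiff.1 h)), neg_zero]

theorem altSum_one (H : Finset ℕ → ℤ) : altSum 1 H = H {1} := by
  rw [altSum, Fintype.sum_unique]
  have : cutSet (permComp (default : Equiv.Perm (Fin 1))) = {1} := by
    ext c
    simp [cutSet, psum, permComp]
  rw [this]
  simp [Subsingleton.elim (default : Equiv.Perm (Fin 1)) 1]

/-- Recursion on the first part. -/
theorem altSum_eq_sum (n : ℕ) : ∀ H : Finset ℕ → ℤ, altSum (n + 1) H =
    ∑ r ∈ range (n + 1), (-1 : ℤ) ^ r * altSum (n - r) (fun C => H (insert (r + 1) (C.image (· + (r + 1))))) := by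
  induction n with
  | zero => intro H; simp [altSum_one, altSum_zero]
  | succ n ih =>
    intro H
    rw [altSum_succ, ih (fun C => H (C.image (· + 1))), Finset.sum_range_succ' _ (n + 1), sub_eq_add_neg,
      add_comm, ← Finset.sum_neg_distrib]
    congr 1
    · refine Finset.sum_congr rfl fun r _ => ?_
      rw [show n + 1 - (r + 1) = n - r by omega, pow_succ, mul_neg_one, neg_mul]
      congr 3
      funext C
      rw [Finset.image_insert, Finset.image_image]
      rfl
    · simp

variable {F : Type*} [Field F]

section Module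

open Polynomial

variable {M : Type*} [AddCommGroup M] [Module F[X] M] [Module F M] [IsScalarTower F F[X] M] [Finite M]

/-- Flags of submodules above `U` with prescribed dimensions. -/
def flagsAbove (U : Submodule F[X] M) (C : Finset ℕ) : Set ((c : C) → Submodule F[X] M) :=
  {f | (∀ c : C, Module.finrank F (f c) = Module.finrank F U + c.1) ∧
    (∀ c d : C, c.1 ≤ d.1 → f c ≤ f d) ∧ ∀ c : C, U ≤ f c}

omit [Finite M] in
theorem finrank_mono_strict [Module.Finite F M] {U W : Submodule F[X] M} (h : U ≤ W)
    (hd : Module.finrank F W ≤ Module.finrank F U) : U = W := by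
  apply Submodule.restrictScalars_injective F F[X] M
  exact Submodule.eq_of_le_of_finrank_le (fun v hv => h hv) hd

open scoped Classical in
theorem card_flagsAbove_insert [Module.Finite F M] (U : Submodule F[X] M) (C : Finset ℕ) (r : ℕ) :
    Nat.card (flagsAbove U (insert r (C.image (· + r)))) =
      ∑ W ∈ (Set.toFinite {W : Submodule F[X] M | U ≤ W ∧ Module.finrank F W = Module.finrank F U + r}).toFinset,
        Nat.card (flagsAbove W C) := by
  have := Fintype.ofFinite M
  rw [← Finset.sum_coe_sort, ← Nat.card_sigma]
  set D := insert r (C.image (· + r)) with hD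
  have hr : r ∈ D := Finset.mem_insert_self _ _
  have hc : ∀ c : C, c.1 + r ∈ D := fun c => Finset.mem_insert_of_mem (Finset.mem_image.2 ⟨c.1, c.2, rfl⟩)
  have hdec : ∀ d : D, d.1 = r ∨ ∃ h : d.1 - r ∈ C, d.1 - r + r = d.1 := by
    intro d
    rcases Finset.mem_insert.1 d.2 with h | h
    · exact Or.inl h
    · obtain ⟨c, hc, he⟩ := Finset.mem_image.1 h
      exact Or.inr ⟨by rw [← he, Nat.add_sub_cancel]; exact hc, by omega⟩
  refine Nat.card_congr
    { toFun := fun f => ⟨⟨f.1 ⟨r, hr⟩, (Set.Finite.mem_toFinset _).2 ⟨f.2.2.2 _, f.2.1 _⟩⟩,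
        ⟨fun c => f.1 ⟨c.1 + r, hc c⟩, ⟨fun c => by
            rw [f.2.1, f.2.1]; simp only; omega,
          fun c d h => f.2.2.1 _ _ (Nat.add_le_add_right h r),
          fun c => f.2.2.1 _ _ (Nat.le_add_left r c.1)⟩⟩⟩
      invFun := fun p => ⟨fun d => if h : d.1 - r ∈ C ∧ d.1 ≠ r then p.2.1 ⟨d.1 - r, h.1⟩ else p.1.1, ?_⟩
      left_inv := ?_
      right_inv := ?_ }
  · have hp := (Set.Finite.mem_toFinset _).1 p.1.2
    let val : D → Submodule F[X] M := fun d =>
      if h : d.1 - r ∈ C ∧ d.1 ≠ r then p.2.1 ⟨d.1 - r, h.1⟩ else p.1.1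
    have hval : ∀ d : D, (∃ h : d.1 - r ∈ C, d.1 - r + r = d.1 ∧ d.1 ≠ r ∧ val d = p.2.1 ⟨d.1 - r, h⟩) ∨
        (d.1 = r ∧ val d = p.1.1) := by
      intro d
      by_cases h : d.1 - r ∈ C ∧ d.1 ≠ r
      · rcases hdec d with hd | ⟨_, hd⟩
        · exact absurd hd h.2
        · exact Or.inl ⟨h.1, hd, h.2, dif_pos h⟩
      · refine Or.inr ⟨?_, dif_neg h⟩
        rcases hdec d with hd | ⟨hd1, _⟩
        · exact hd
        · exact by_contra fun hh => h ⟨hd1, hh⟩
    show val ∈ flagsAbove U D
    refine ⟨fun d => ?_, fun d d' hdd => ?_, fun d => ?_⟩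
    · rcases hval d with ⟨h, h1, -, e⟩ | ⟨h1, e⟩
      · refine (congrArg (fun X : Submodule F[X] M => Module.finrank F X) e).trans ((p.2.2.1 _).trans ?_)
        rw [hp.2]; simp only; omega
      · exact (congrArg (fun X : Submodule F[X] M => Module.finrank F X) e).trans (by rw [hp.2, h1])
    · rcases hval d with ⟨h, h1, h2, e⟩ | ⟨h1, e⟩ <;> rcases hval d' with ⟨h', h1', h2', e'⟩ | ⟨h1', e'⟩ <;>
        rw [e, e']
      · exact p.2.2.2.1 _ _ (Nat.sub_le_sub_right hdd r)
      · omega
      · exact p.2.2.2.2 _
    · rcases hval d with ⟨h, h1, -, e⟩ | ⟨h1, e⟩ <;> rw [e]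
      · exact hp.1.trans (p.2.2.2.2 _)
      · exact hp.1
  · intro f
    refine Subtype.ext (funext fun d => ?_)
    simp only
    split_ifs with h
    · rcases hdec d with hd | ⟨_, hd⟩
      · exact absurd hd h.2
      · exact congrArg f.1 (Subtype.ext hd)
    · rcases hdec d with hd | ⟨hd1, _⟩
      · exact congrArg f.1 (Subtype.ext hd.symm)
      · exact congrArg f.1 (Subtype.ext (by_contra fun hh => h ⟨hd1, fun he => hh he.symm⟩))
  · rintro ⟨⟨W, hW⟩, g⟩
    have hp := (Set.Finite.mem_toFinset _).1 hW
    refine Sigma.subtype_ext (Subtype.ext ?_) (funext fun c => ?_)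
    · simp
    · simp only
      split_ifs with h
      · exact congrArg g.1 (Subtype.ext (Nat.add_sub_cancel _ _))
      · have h0 : c.1 = 0 := by
          by_contra h0
          exact h ⟨by rw [Nat.add_sub_cancel]; exact c.2, by omega⟩
        exact finrank_mono_strict (g.2.2.2 c) (by rw [g.2.1, h0, add_zero])

omit [Finite M] in
theorem card_flagsAbove_empty (U : Submodule F[X] M) : Nat.card (flagsAbove U ∅) = 1 := by
  rw [Nat.card_eq_one_iff_unique]
  exact ⟨⟨fun a b => Subtype.ext (funext fun c => absurd c.2 (Finset.notMem_empty _))⟩,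
    ⟨⟨fun c => absurd c.2 (Finset.notMem_empty _),
      fun c => absurd c.2 (Finset.notMem_empty _), fun c => absurd c.2 (Finset.notMem_empty _),
      fun c => absurd c.2 (Finset.notMem_empty _)⟩⟩⟩

theorem altSum_flags [Module.Finite F M] : ∀ (k : ℕ) (U : Submodule F[X] M),
    Module.finrank F U + k = Module.finrank F M →
    altSum k (fun C => (Nat.card (flagsAbove U C) : ℤ)) = (-1 : ℤ) ^ k * moebTop U := by
  classical
  intro k
  induction k using Nat.strong_induction_on with
  | _ k ih =>
    intro U hU
    have hfull : ∀ W : Submodule F[X] M, Module.finrank F W ≤ Module.finrank F M := fun W =>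
      Submodule.finrank_le (W.restrictScalars F)
    have htopd : Module.finrank F (⊤ : Submodule F[X] M) = Module.finrank F M :=
      LinearEquiv.finrank_eq ((Submodule.topEquiv (R := F[X]) (M := M)).restrictScalars F)
    rcases k with _ | k
    · rw [altSum_zero, card_flagsAbove_empty, pow_zero, one_mul, Nat.cast_one]
      have hUt : U = ⊤ := finrank_mono_strict le_top (by omega)
      subst hUt
      have h := sum_Ici_moebTop (⊤ : Submodule F[X] M)
      rw [if_pos rfl, show (Set.toFinite (Set.Ici (⊤ : Submodule F[X] M))).toFinset = {⊤} by ext; simp,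
        Finset.sum_singleton] at h
      exact h.symm
    · have hne : U ≠ ⊤ := fun h => by rw [h, htopd] at hU; omega
      have hs := sum_Ici_moebTop U
      rw [if_neg hne, show (Set.toFinite (Set.Ici U)).toFinset = insert U (Set.toFinite (Set.Ioi U)).toFinset by
        ext; simp [le_iff_lt_or_eq, eq_comm, or_comm], Finset.sum_insert (by simp)] at hs
      rw [eq_neg_of_add_eq_zero_left hs, ← Finset.sum_fiberwise_of_maps_to
        (g := fun W : Submodule F[X] M => Module.finrank F W - Module.finrank F U - 1) (t := range (k + 1)) ?_,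
        altSum_eq_sum, mul_neg, Finset.mul_sum, ← Finset.sum_neg_distrib]
      · refine Finset.sum_congr rfl fun r hr => ?_
        have hr' := Finset.mem_range.1 hr
        simp only [card_flagsAbove_insert, Nat.cast_sum]
        have hset : (Set.toFinite {W : Submodule F[X] M | U ≤ W ∧ Module.finrank F W = Module.finrank F U + (r + 1)}).toFinset =
            (Set.toFinite (Set.Ioi U)).toFinset.filter
              (fun W : Submodule F[X] M => Module.finrank F W - Module.finrank F U - 1 = r) := by
          ext W
          simp only [Set.Finite.mem_toFinset, Set.mem_ofPred_eq, Finset.mem_filter, Set.mem_Ioi]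
          constructor
          · rintro ⟨h1, h2⟩
            exact ⟨lt_of_le_of_ne h1 fun he => by rw [he] at h2; omega, by omega⟩
          · rintro ⟨h1, h2⟩
            have hlt : Module.finrank F U < Module.finrank F W := by
              by_contra hle
              push Not at hle
              exact h1.ne (finrank_mono_strict h1.le hle)
            exact ⟨h1.le, by omega⟩
        rw [hset]
        set S := (Set.toFinite (Set.Ioi U)).toFinset.filter
          (fun W : Submodule F[X] M => Module.finrank F W - Module.finrank F U - 1 = r) with hSdef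
        have hlin : altSum (k - r) (fun C => ∑ W ∈ S, (Nat.card (flagsAbove W C) : ℤ)) =
            ∑ W ∈ S, altSum (k - r) (fun C => (Nat.card (flagsAbove W C) : ℤ)) := by
          simp only [altSum]
          rw [Finset.sum_comm]
          refine Finset.sum_congr rfl fun κ _ => ?_
          split_ifs
          · rw [Finset.mul_sum]
          · rw [Finset.sum_const_zero]
        rw [hlin, Finset.sum_congr rfl (g := fun W => (-1 : ℤ) ^ (k - r) * moebTop W), ← Finset.mul_sum,
          ← mul_assoc, ← pow_add, show r + (k - r) = k by omega, ← neg_mul, pow_succ, mul_neg_one, neg_neg]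
        intro W hW
        rw [← hset] at hW
        obtain ⟨-, hW2⟩ := (Set.Finite.mem_toFinset _).1 hW
        exact ih (k - r) (by omega) W (by omega)
      · intro W hW
        simp only [Set.Finite.mem_toFinset, Set.mem_Ioi] at hW
        have := hfull W
        simp; omega

end Module

end H40
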