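import Cfsg.Agent.H40.TransvecClass

/-!
# Eigenprojections of the translation subgroup; representations with one copy of each eigencharacter
-/

set_option autoImplicit false
set_option linter.unusedSectionVars false

open Matrix Module

namespace H40.MinDeg

variable (F : Type*) [Field F] [Fintype F]

theorem exists_psi : ∃ ψ : AddChar F ℂ, ψ ≠ 1 := by
  obtain ⟨ψ, hψ⟩ := AddChar.exists_apply_ne_zero.2 (one_ne_zero : (1 : F) ≠ 0)
  exact ⟨ψ, fun h => hψ (by rw [h]; rfl)⟩

/-- a fixed non-trivial additive character -/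
noncomputable def psi : AddChar F ℂ := (exists_psi F).choose

theorem psi_ne_one : psi F ≠ 1 := (exists_psi F).choose_spec

variable {F} {m : ℕ}

theorem sum_psi_dot {w : Fin m → F} (hw : w ≠ 0) : ∑ x : Fin m → F, psi F (x ⬝ᵥ w) = 0 := by
  classical
  let χ : AddChar (Fin m → F) ℂ :=
    { toFun := fun x => psi F (x ⬝ᵥ w)
      map_zero_eq_one' := by simp
      map_add_eq_mul' := fun x y => by simp [add_dotProduct, AddChar.map_add_eq_mul] }
  refine AddChar.sum_eq_zero_of_ne_one (ψ := χ) fun h => psi_ne_one F ?_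
  obtain ⟨j, hj⟩ := Function.ne_iff.1 hw
  refine DFunLike.ext _ _ fun a => ?_
  have h1 := DFunLike.congr_fun h (Pi.single j (a / w j))
  change psi F (Pi.single j (a / w j) ⬝ᵥ w) = _ at h1
  rw [single_dotProduct, div_mul_cancel₀ a hj] at h1
  simpa using h1

theorem sum_psi_dot_dual {x : Fin m → F} (hx : x ≠ 0) : ∑ w : Fin m → F, psi F (x ⬝ᵥ w) = 0 := by
  simpa only [dotProduct_comm x] using sum_psi_dot hx

omit [Fintype F] in
theorem cons_ne_zero {a : F} {x : Fin m → F} (hx : x ≠ 0) : (Fin.cons a x : Fin (m + 1) → F) ≠ 0 :=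
  fun h => hx (funext fun i => by
    have := congrFun h i.succ
    rwa [Fin.cons_succ] at this)

omit [Fintype F] in
theorem leviSL_mul (A B : SpecialLinearGroup (Fin m) F) : leviSL (A * B) = leviSL A * leviSL B := by
  apply Subtype.ext
  show levi ((A : Matrix (Fin m) (Fin m) F) * (B : Matrix (Fin m) (Fin m) F)) = levi _ * levi _
  ext i j
  refine Fin.cases ?_ (fun i => ?_) i <;> refine Fin.cases ?_ (fun j => ?_) j <;>
    simp [levi, Matrix.mul_apply, Fin.sum_univ_succ]

omit [Fintype F] in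
theorem leviSL_one : leviSL (1 : SpecialLinearGroup (Fin m) F) = 1 := by
  apply Subtype.ext
  show levi 1 = 1
  ext i j
  refine Fin.cases ?_ (fun i => ?_) i <;> refine Fin.cases ?_ (fun j => ?_) j <;>
    simp [levi, Matrix.one_apply, Fin.ext_iff]

/-- the Levi embedding as a homomorphism -/
def leviHom : SpecialLinearGroup (Fin m) F →* SpecialLinearGroup (Fin (m + 1)) F where
  toFun := leviSL
  map_one' := leviSL_one
  map_mul' := leviSL_mul

omit [Fintype F] in
theorem translSL_zero : translSL (0 : Fin m → F) = 1 := by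
  have h := translSL_add (0 : Fin m → F) 0
  rw [add_zero] at h
  exact mul_eq_left.1 h.symm

omit [Fintype F] in
theorem translSL_eq_tvec (x : Fin m → F) :
    translSL x = tvec (Fin.cons 1 0) (Fin.cons 0 x)
      (by simp [dotProduct, Fin.sum_univ_succ]) := by
  apply Subtype.ext
  show transl x = 1 + vecMulVec _ _
  ext i j
  refine Fin.cases ?_ (fun i => ?_) i <;> refine Fin.cases ?_ (fun j => ?_) j <;>
    simp [transl, vecMulVec, Matrix.one_apply, Fin.ext_iff]

omit [Fintype F] in
theorem leviSL_tvec {u φ : Fin m → F} (h : φ ⬝ᵥ u = 0) :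
    leviSL (tvec u φ h) = tvec (Fin.cons 0 u) (Fin.cons 0 φ)
      (by simpa [dotProduct, Fin.sum_univ_succ] using h) := by
  apply Subtype.ext
  show levi (1 + vecMulVec u φ) = 1 + vecMulVec _ _
  ext i j
  refine Fin.cases ?_ (fun i => ?_) i <;> refine Fin.cases ?_ (fun j => ?_) j <;>
    simp [levi, vecMulVec, Matrix.one_apply, Fin.ext_iff]

variable [DecidableEq F] {V : Type*} [AddCommGroup V] [Module ℂ V]

/-- the eigenprojection of the translation subgroup for the character `x ↦ ψ (x ⬝ w)` -/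
noncomputable def proj (ρ : Representation ℂ (SpecialLinearGroup (Fin (m + 1)) F) V)
    (w : Fin m → F) : Module.End ℂ V :=
  ((Fintype.card F : ℂ) ^ m)⁻¹ • ∑ x : Fin m → F, psi F (-(x ⬝ᵥ w)) • ρ (translSL x)

variable (ρ : Representation ℂ (SpecialLinearGroup (Fin (m + 1)) F) V)

theorem card_pow_ne_zero : ((Fintype.card F : ℂ) ^ m) ≠ 0 :=
  pow_ne_zero _ (by exact_mod_cast Fintype.card_ne_zero)

theorem transl_mul_proj (z w : Fin m → F) :
    ρ (translSL z) * proj ρ w = psi F (z ⬝ᵥ w) • proj ρ w := by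
  simp only [proj, mul_smul_comm, Finset.mul_sum]
  rw [smul_comm (psi F (z ⬝ᵥ w))]
  congr 1
  rw [Finset.smul_sum]
  refine Fintype.sum_equiv (Equiv.addLeft z) _ _ fun x => ?_
  rw [Equiv.coe_addLeft, ← map_mul, ← translSL_add, smul_smul,
    ← AddChar.map_add_eq_mul]
  congr 2
  rw [add_dotProduct]
  ring

theorem proj_mul_proj (w w' : Fin m → F) :
    proj ρ w * proj ρ w' = if w = w' then proj ρ w' else 0 := by
  conv_lhs => rw [proj, smul_mul_assoc, Finset.sum_mul]
  simp only [smul_mul_assoc, transl_mul_proj, smul_smul, ← Finset.sum_smul]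
  -- collect
  simp only [← AddChar.map_add_eq_mul]
  split_ifs with h
  · subst h
    simp [card_pow_ne_zero]
  · rw [Finset.sum_congr rfl fun x _ => show psi F (-(x ⬝ᵥ w) + x ⬝ᵥ w') = psi F (x ⬝ᵥ (w' - w)) by
      rw [dotProduct_sub, neg_add_eq_sub]]
    rw [sum_psi_dot (sub_ne_zero.2 (Ne.symm h)), mul_zero, zero_smul]

theorem sum_proj : ∑ w, proj ρ w = 1 := by
  simp only [proj, ← Finset.smul_sum]
  rw [Finset.sum_comm, Finset.sum_eq_single (0 : Fin m → F)]
  · simp [translSL_zero, ← Finset.sum_smul, card_pow_ne_zero, smul_smul,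
      ← Nat.cast_smul_eq_nsmul ℂ]
  · intro x _ hx
    rw [← Finset.sum_smul]
    have : ∑ w : Fin m → F, psi F (-(x ⬝ᵥ w)) = 0 := by
      rw [← sum_psi_dot_dual (neg_ne_zero.2 hx)]
      exact Finset.sum_congr rfl fun w _ => by rw [neg_dotProduct]
    rw [this, zero_smul]
  · simp

/-- covariance of the eigenprojections -/
theorem mul_proj_of_normalize (g : SpecialLinearGroup (Fin (m + 1)) F)
    (σ : (Fin m → F) ≃ (Fin m → F)) (hσ : ∀ z, g * translSL z = translSL (σ z) * g)
    (w w' : Fin m → F) (hw : ∀ z, σ z ⬝ᵥ w' = z ⬝ᵥ w) :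
    ρ g * proj ρ w = proj ρ w' * ρ g := by
  simp only [proj, mul_smul_comm, smul_mul_assoc, Finset.mul_sum, Finset.sum_mul]
  congr 1
  refine Fintype.sum_equiv σ _ _ fun z => ?_
  rw [← map_mul, ← map_mul, hσ, hw]

theorem levi_mul_proj (A : SpecialLinearGroup (Fin m) F) (w : Fin m → F) :
    ρ (leviSL A) * proj ρ w = proj ρ ((A : Matrix (Fin m) (Fin m) F) *ᵥ w) * ρ (leviSL A) := by
  have h1 : (A : Matrix (Fin m) (Fin m) F) * (↑(A⁻¹) : Matrix (Fin m) (Fin m) F) = 1 :=
    congrArg Subtype.val (mul_inv_cancel A)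
  have h2 : (↑(A⁻¹) : Matrix (Fin m) (Fin m) F) * (A : Matrix (Fin m) (Fin m) F) = 1 :=
    congrArg Subtype.val (inv_mul_cancel A)
  refine mul_proj_of_normalize ρ _
    ⟨fun z => z ᵥ* (↑(A⁻¹) : Matrix (Fin m) (Fin m) F),
      fun z => z ᵥ* (A : Matrix (Fin m) (Fin m) F),
      fun z => by simp only [vecMul_vecMul, h2, vecMul_one],
      fun z => by simp only [vecMul_vecMul, h1, vecMul_one]⟩ (fun z => ?_) _ _ fun z => ?_
  · have := levi_transl A (z ᵥ* (↑(A⁻¹) : Matrix (Fin m) (Fin m) F))
    rw [vecMul_vecMul, h2, vecMul_one] at this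
    exact this
  · show z ᵥ* _ ⬝ᵥ _ = _
    rw [dotProduct_mulVec, vecMul_vecMul, h2, vecMul_one]

theorem proj_zero_mul_levi (A : SpecialLinearGroup (Fin m) F) :
    ρ (leviSL A) * proj ρ 0 = proj ρ 0 * ρ (leviSL A) := by
  rw [levi_mul_proj, mulVec_zero]

variable [FiniteDimensional ℂ V]

/-- multiplicity of the eigencharacter `w` -/
noncomputable def mult (w : Fin m → F) : ℕ := finrank ℂ (LinearMap.range (proj ρ w))

theorem trace_proj (w : Fin m → F) :
    LinearMap.trace ℂ V (proj ρ w) = (mult ρ w : ℂ) := by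
  refine LinearMap.IsProj.trace (p := LinearMap.range (proj ρ w))
    ⟨fun x => LinearMap.mem_range_self _ x, ?_⟩
  rintro x ⟨y, rfl⟩
  rw [← Module.End.mul_apply, proj_mul_proj, if_pos rfl]

theorem sum_mult : ∑ w, mult ρ w = finrank ℂ V := by
  have h := congrArg (LinearMap.trace ℂ V) (sum_proj ρ)
  rw [map_sum, LinearMap.trace_one] at h
  simp only [trace_proj] at h
  exact_mod_cast h

/-- the value of the character on a translation -/
noncomputable def tval [NeZero m] : ℂ := ρ.character (translSL (Pi.single 0 1))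

/-- the character is constant on the non-trivial translations -/
def ConstOnTransl [NeZero m] : Prop :=
  ∀ x : Fin m → F, x ≠ 0 → ρ.character (translSL x) = tval ρ

variable [NeZero m]

theorem mult_mul_card (hconst : ConstOnTransl ρ) (w : Fin m → F) :
    (mult ρ w : ℂ) * (Fintype.card F : ℂ) ^ m =
      if w = 0 then (finrank ℂ V : ℂ) + ((Fintype.card F : ℂ) ^ m - 1) * tval ρ
      else (finrank ℂ V : ℂ) - tval ρ := by
  classical
  rw [← trace_proj, proj, map_smul, map_sum, smul_eq_mul, inv_mul_eq_div,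
    div_mul_cancel₀ _ card_pow_ne_zero, ← Finset.add_sum_erase _ _ (Finset.mem_univ 0)]
  simp only [map_smul, smul_eq_mul]
  rw [translSL_zero, map_one, LinearMap.trace_one, zero_dotProduct, neg_zero,
    AddChar.map_zero_eq_one, one_mul, Finset.sum_congr rfl (g := fun x => psi F (-(x ⬝ᵥ w)) * tval ρ)
      (fun x hx => by rw [← hconst x (Finset.ne_of_mem_erase hx)]; rfl), ← Finset.sum_mul,
    Finset.sum_erase_eq_sub (Finset.mem_univ _), zero_dotProduct, neg_zero, AddChar.map_zero_eq_one]
  split_ifs with h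
  · subst h
    simp
  · have : ∑ x : Fin m → F, psi F (-(x ⬝ᵥ w)) = 0 := by
      rw [← sum_psi_dot (neg_ne_zero.2 h)]
      exact Finset.sum_congr rfl fun x _ => by rw [dotProduct_neg]
    rw [this]
    ring

/-- the common multiplicity of the non-trivial eigencharacters -/
noncomputable def mult₁ : ℕ := mult ρ (Pi.single 0 1)

/-- the dimension of the fixed space of the translations -/
noncomputable def cdim : ℕ := mult ρ 0

theorem mult_eq (hconst : ConstOnTransl ρ) {w : Fin m → F} (hw : w ≠ 0) :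
    mult ρ w = mult₁ ρ := by
  have h1 := mult_mul_card ρ hconst w
  have h2 := mult_mul_card ρ hconst (Pi.single 0 1)
  rw [if_neg hw] at h1
  rw [if_neg (by simp)] at h2
  have := mul_right_cancel₀ card_pow_ne_zero (h1.trans h2.symm)
  exact_mod_cast this

theorem finrank_eq (hconst : ConstOnTransl ρ) :
    finrank ℂ V = cdim ρ + (Fintype.card F ^ m - 1) * mult₁ ρ := by
  classical
  rw [← sum_mult ρ, ← Finset.add_sum_erase _ _ (Finset.mem_univ (0 : Fin m → F)),
    Finset.sum_congr rfl fun w hw => mult_eq ρ hconst (Finset.ne_of_mem_erase hw),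
    Finset.sum_const, Finset.card_erase_of_mem (Finset.mem_univ _), Finset.card_univ,
    Fintype.card_fun, Fintype.card_fin, smul_eq_mul]
  rfl

theorem tval_eq (hconst : ConstOnTransl ρ) : tval ρ = (cdim ρ : ℂ) - (mult₁ ρ : ℂ) := by
  have h0 := mult_mul_card ρ hconst 0
  have h1 := mult_mul_card ρ hconst (Pi.single 0 1)
  rw [if_pos rfl] at h0
  rw [if_neg (by simp)] at h1
  apply mul_right_cancel₀ (card_pow_ne_zero (F := F) (m := m))
  unfold cdim mult₁
  rw [sub_mul, h0, h1]
  ring

theorem proj_zero_eq_one (hconst : ConstOnTransl ρ) (h0 : mult₁ ρ = 0) :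
    proj ρ 0 = 1 := by
  classical
  rw [← sum_proj ρ, ← Finset.add_sum_erase _ _ (Finset.mem_univ (0 : Fin m → F)),
    Finset.sum_eq_zero, add_zero]
  intro w hw
  rw [← LinearMap.range_eq_bot, ← Submodule.finrank_eq_zero (R := ℂ) (M := V)]
  exact (mult_eq ρ hconst (Finset.ne_of_mem_erase hw)).trans h0

theorem transl_eq_one (hconst : ConstOnTransl ρ) (h0 : mult₁ ρ = 0) (z : Fin m → F) :
    ρ (translSL z) = 1 := by
  have := transl_mul_proj ρ z 0
  rwa [proj_zero_eq_one ρ hconst h0, mul_one, dotProduct_zero, AddChar.map_zero_eq_one, one_smul]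
    at this

omit [NeZero m] in
theorem isConj_transvection (hm : 2 ≤ m) {x : Fin m → F} (hx : x ≠ 0) {u φ : Fin (m + 1) → F}
    (h : φ ⬝ᵥ u = 0) (hu : u ≠ 0) (hφ : φ ≠ 0) : IsConj (translSL x) (tvec u φ h) := by
  rw [translSL_eq_tvec]
  refine isConj_tvec (by omega) _ h (fun h0 => ?_) hu (fun h0 => ?_) hφ
  · simpa using congrFun h0 0
  · exact hx (funext fun i => by simpa using congrFun h0 i.succ)

theorem constOnTransl (hm : 2 ≤ m) : ConstOnTransl ρ := by
  intro x hx
  obtain ⟨g, hg⟩ := isConj_iff.1 (isConj_transvection hm hx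
    (u := Fin.cons 1 0) (φ := Fin.cons 0 (Pi.single 0 1)) (by simp [dotProduct, Fin.sum_univ_succ])
    (fun h0 => by simpa using congrFun h0 0)
    (cons_ne_zero (by simp)))
  rw [tval, translSL_eq_tvec (Pi.single 0 1), ← hg, Representation.char_conj]

theorem character_tvec (hm : 2 ≤ m) {u φ : Fin (m + 1) → F} (h : φ ⬝ᵥ u = 0) (hu : u ≠ 0)
    (hφ : φ ≠ 0) : ρ.character (tvec u φ h) = tval ρ := by
  obtain ⟨g, hg⟩ := isConj_iff.1 (isConj_transvection hm (x := Pi.single 0 1) (by simp) h hu hφ)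
  rw [tval, ← hg, Representation.char_conj]

/-- no translation acts non-trivially only if the representation is trivial -/
theorem eq_one_of_mult₁_eq_zero (hm : 2 ≤ m) (h0 : mult₁ ρ = 0)
    (g : SpecialLinearGroup (Fin (m + 1)) F) : ρ g = 1 := by
  have h1 := transl_eq_one ρ (constOnTransl ρ hm) h0 (Pi.single 0 1)
  rw [translSL_eq_tvec] at h1
  exact hom_eq_one_of_tvec ρ (by omega) _ (fun h => by simpa using congrFun h 0)
    (cons_ne_zero (by simp)) h1 g

end H40.MinDeg
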