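import Cfsg.Agent.H40.StFlags

/-!
# Fixed cosets of parabolics as invariant flags, and the Steinberg value at semisimple elements.
-/

set_option autoImplicit false

namespace H40

open Finset Polynomial

variable {F : Type*} [Field F] {n : ℕ}

theorem compLabel_lt_iff (μ : Fin n → ℕ) (i j : Fin n) :
    Cfsg.compLabel μ j < Cfsg.compLabel μ i ↔ ∃ c ∈ cutSet μ, j.val < c ∧ c ≤ i.val := by
  simp only [cutSet, Finset.mem_erase, Finset.mem_image, Finset.mem_univ, true_and, Cfsg.compLabel]
  constructor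
  · intro h
    by_contra hno
    push Not at hno
    refine h.not_ge (Finset.card_le_card fun k hk => ?_)
    simp only [Finset.mem_filter, Finset.mem_univ, true_and] at hk ⊢
    by_contra hkj
    push Not at hkj
    exact (hno (psum μ k) ⟨(Nat.lt_of_le_of_lt (Nat.zero_le _) hkj).ne', k, rfl⟩ hkj).not_ge hk
  · rintro ⟨c, ⟨-, k, rfl⟩, hj, hi⟩
    apply Finset.card_lt_card
    rw [Finset.ssubset_iff_of_subset fun l hl => by
      simp only [Finset.mem_filter, Finset.mem_univ, true_and] at hl ⊢
      exact hl.trans (hj.le.trans hi)]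
    exact ⟨k, by simpa [psum] using hi, by simpa [psum] using hj⟩

/-- The span of the first `c` basis vectors. -/
def stdSub (F : Type*) [Field F] (n c : ℕ) : Submodule F (Fin n → F) where
  carrier := {v | ∀ i : Fin n, c ≤ i.val → v i = 0}
  add_mem' := fun ha hb i hi => by simp [ha i hi, hb i hi]
  zero_mem' := fun _ _ => rfl
  smul_mem' := fun a v hv i hi => by simp [hv i hi]

theorem stdSub_mono {c d : ℕ} (h : c ≤ d) : stdSub F n c ≤ stdSub F n d :=
  fun _ hv i hi => hv i (h.trans hi)

theorem stdSub_eq_span (c : ℕ) :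
    stdSub F n c = Submodule.span F ((fun i : Fin n => (Pi.single i 1 : Fin n → F)) '' {i | i.val < c}) := by
  refine le_antisymm (fun v hv => ?_) (Submodule.span_le.2 ?_)
  · rw [← Finset.univ_sum_single v]
    refine Submodule.sum_mem _ fun i _ => ?_
    by_cases hi : i.val < c
    · rw [show (Pi.single i (v i) : Fin n → F) = v i • Pi.single i 1 by rw [← Pi.single_smul, smul_eq_mul, mul_one]]
      exact Submodule.smul_mem _ _ (Submodule.subset_span ⟨i, hi, rfl⟩)
    · rw [hv i (not_lt.1 hi), Pi.single_zero]; exact Submodule.zero_mem _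
  · rintro _ ⟨i, hi, rfl⟩ k hk
    have : i.val < c := hi
    exact Pi.single_eq_of_ne (fun h => by subst h; omega) _

theorem finrank_stdSub {c : ℕ} (hc : c ≤ n) : Module.finrank F (stdSub F n c) = c := by
  classical
  have hli : LinearIndependent F (fun x : {i : Fin n | i.val < c} => (Pi.single x.1 1 : Fin n → F)) :=
    (Pi.linearIndependent_single_one (Fin n) F).comp _ Subtype.val_injective
  rw [stdSub_eq_span, Set.image_eq_range, finrank_span_eq_card hli]
  simp only [Set.coe_ofPred, Fintype.card_subtype]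
  have : (univ.filter fun i : Fin n => i.val < c).map Fin.valEmbedding = Finset.range c := by
    ext x
    simp only [Finset.mem_map, Finset.mem_filter, Finset.mem_univ, true_and, Fin.valEmbedding_apply,
      Finset.mem_range]
    exact ⟨fun ⟨i, hi, e⟩ => e ▸ hi, fun hx => ⟨⟨x, by omega⟩, hx, rfl⟩⟩
  rw [← Finset.card_map, this, Finset.card_range]

theorem mem_parabolic_iff_stable (μ : Fin n → ℕ) (g : GL (Fin n) F) :
    g ∈ Cfsg.parabolicGL n F μ ↔
      ∀ c ∈ cutSet μ, (stdSub F n c).map (Matrix.toLin' (g : Matrix (Fin n) (Fin n) F)) ≤ stdSub F n c := by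
  constructor
  · intro hg c hc
    rintro _ ⟨v, hv, rfl⟩ i hi
    rw [Matrix.toLin'_apply]
    show ∑ j, (g : Matrix (Fin n) (Fin n) F) i j * v j = 0
    refine Finset.sum_eq_zero fun j _ => ?_
    by_cases hj : j.val < c
    · rw [hg ((compLabel_lt_iff μ i j).2 ⟨c, hc, hj, hi⟩), zero_mul]
    · rw [hv j (not_lt.1 hj), mul_zero]
  · intro h i j hij
    obtain ⟨c, hc, hj, hi⟩ := (compLabel_lt_iff μ i j).1 hij
    have hv : (Pi.single j 1 : Fin n → F) ∈ stdSub F n c := fun k hk =>
      Pi.single_eq_of_ne (fun e => by subst e; omega) _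
    have := h c hc ⟨_, hv, rfl⟩ i hi
    rwa [Matrix.toLin'_apply, Matrix.mulVec_single_one] at this

theorem exists_spanning_seq {V : Type*} [AddCommGroup V] [Module F V] [FiniteDimensional F V]
    (C : Finset ℕ) : ∀ (W : ℕ → Submodule F V), (∀ c ∈ C, Module.finrank F (W c) = c) →
      (∀ c ∈ C, ∀ d ∈ C, c ≤ d → W c ≤ W d) →
      ∃ b : ℕ → V, ∀ c ∈ C, Submodule.span F (b '' {i | i < c}) = W c := by
  classical
  induction C using Finset.induction_on_max with
  | empty => intro W _ _; exact ⟨fun _ => 0, fun c hc => absurd hc (Finset.notMem_empty _)⟩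
  | @insert a C hlt ih =>
    intro W hd hm
    obtain ⟨b, hb⟩ := ih W (fun c hc => hd c (Finset.mem_insert_of_mem hc))
      (fun c hc d hd' => hm c (Finset.mem_insert_of_mem hc) d (Finset.mem_insert_of_mem hd'))
    obtain ⟨m, U, hUW, hUd, hmspan, hma, hmC⟩ : ∃ (m : ℕ) (U : Submodule F V), U ≤ W a ∧ Module.finrank F U = m ∧
        Submodule.span F (b '' {i | i < m}) = U ∧ m ≤ a ∧ ∀ c ∈ C, c ≤ m := by
      rcases C.eq_empty_or_nonempty with hC | hC
      · exact ⟨0, ⊥, bot_le, finrank_bot F V, by simp, Nat.zero_le _, by simp [hC]⟩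
      · have hmem := C.max'_mem hC
        exact ⟨C.max' hC, W (C.max' hC),
          hm _ (Finset.mem_insert_of_mem hmem) a (Finset.mem_insert_self _ _) (hlt _ hmem).le,
          hd _ (Finset.mem_insert_of_mem hmem), hb _ hmem, (hlt _ hmem).le, fun c hc => C.le_max' c hc⟩
    obtain ⟨U', hU'⟩ := exists_isCompl (U.comap (W a).subtype)
    have hk : Module.finrank F U' = a - m := by
      have h := Submodule.finrank_add_eq_of_isCompl hU'
      rw [LinearEquiv.finrank_eq (Submodule.comapSubtypeEquivOfLe hUW), hUd, hd a (Finset.mem_insert_self _ _)] at h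
      omega
    let B : Module.Basis (Fin (a - m)) F U' := (Module.finBasisOfFinrankEq F U' hk)
    let b' : ℕ → V := fun i => if i < m then b i else if h : i - m < a - m then (((B ⟨i - m, h⟩ : U') : W a) : V) else 0
    refine ⟨b', fun c hc => ?_⟩
    rcases Finset.mem_insert.1 hc with rfl | hc
    · have e : b' '' {i | i < c} = (b '' {i | i < m}) ∪ Set.range (fun i => (((B i : U') : W c) : V)) := by
        ext v
        simp only [Set.mem_image, Set.mem_ofPred_eq, Set.mem_union, Set.mem_range]
        constructor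
        · rintro ⟨i, hi, rfl⟩
          by_cases him : i < m
          · exact Or.inl ⟨i, him, by simp [b', him]⟩
          · exact Or.inr ⟨⟨i - m, by omega⟩, by simp [b', him, show i - m < c - m by omega]⟩
        · rintro (⟨i, hi, rfl⟩ | ⟨i, rfl⟩)
          · exact ⟨i, by omega, by simp [b', hi]⟩
          · exact ⟨m + i.val, by omega, by simp [b', i.2]⟩
      rw [e, Submodule.span_union, hmspan]
      have e2 : Submodule.span F (Set.range fun i => (((B i : U') : W c) : V)) = U'.map (W c).subtype := by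
        have hcomp : (fun i => (((B i : U') : W c) : V)) = ((W c).subtype ∘ₗ U'.subtype) ∘ B := rfl
        rw [hcomp, Set.range_comp, ← Submodule.map_span, B.span_eq, Submodule.map_comp, Submodule.map_subtype_top]
      rw [e2]
      have h := congrArg (Submodule.map (W c).subtype) hU'.sup_eq_top
      rw [Submodule.map_sup, Submodule.map_comap_subtype, inf_eq_right.2 hUW, Submodule.map_subtype_top] at h
      exact h
    · rw [← hb c hc]
      congr 1
      refine Set.image_congr fun i hi => ?_
      have : i < c := hi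
      have := hmC c hc
      simp [b', show i < m by omega]

theorem exists_flag_element (C : Finset ℕ) (hC : ∀ c ∈ C, c ≤ n) (W : C → Submodule F (Fin n → F))
    (hd : ∀ c : C, Module.finrank F (W c) = c.1) (hm : ∀ c d : C, c.1 ≤ d.1 → W c ≤ W d) :
    ∃ g : GL (Fin n) F, ∀ c : C, (stdSub F n c.1).map (Matrix.toLin' (g : Matrix (Fin n) (Fin n) F)) = W c := by
  classical
  let W' : ℕ → Submodule F (Fin n → F) := fun c => if h : c ∈ C ∧ c ≠ n then W ⟨c, h.1⟩ else ⊤
  have htop : Module.finrank F (⊤ : Submodule F (Fin n → F)) = n := by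
    rw [finrank_top, Module.finrank_fin_fun]
  have hd' : ∀ c ∈ insert n C, Module.finrank F (W' c) = c := by
    intro c hc
    by_cases h : c ∈ C ∧ c ≠ n
    · rw [show W' c = W ⟨c, h.1⟩ from dif_pos h, hd]
    · rw [show W' c = ⊤ from dif_neg h, htop]
      rcases Finset.mem_insert.1 hc with h' | h'
      · exact h'.symm
      · exact (not_ne_iff.1 fun e => h ⟨h', e⟩).symm
  obtain ⟨b, hb⟩ := exists_spanning_seq (insert n C) W' hd' (by
    intro c hc d hd2 hcd
    by_cases h' : d ∈ C ∧ d ≠ n
    · have hdn := hC d h'.1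
      by_cases h : c ∈ C ∧ c ≠ n
      · simp only [W', dif_pos h, dif_pos h']; exact hm _ _ hcd
      · have : c = n := (Finset.mem_insert.1 hc).elim id fun hh => not_ne_iff.1 fun e => h ⟨hh, e⟩
        have := h'.2
        omega
    · simp only [W', dif_neg h']; exact le_top)
  have hn := hb n (Finset.mem_insert_self _ _)
  rw [show W' n = ⊤ from dif_neg fun h => h.2 rfl] at hn
  let A : Matrix (Fin n) (Fin n) F := Matrix.of fun i j => b j.val i
  have hAe : ∀ j : Fin n, Matrix.toLin' A (Pi.single j 1) = b j.val := fun j => by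
    rw [Matrix.toLin'_apply, Matrix.mulVec_single_one]; rfl
  have hmap : ∀ c : ℕ, c ≤ n → (stdSub F n c).map (Matrix.toLin' A) = Submodule.span F (b '' {i | i < c}) := by
    intro c hc
    rw [stdSub_eq_span, Submodule.map_span, Set.image_image]
    congr 1
    ext v
    simp only [Set.mem_image, Set.mem_ofPred_eq, hAe]
    exact ⟨fun ⟨i, hi, e⟩ => ⟨i.val, hi, e⟩, fun ⟨i, hi, e⟩ => ⟨⟨i, by omega⟩, hi, e⟩⟩
  have hsurj : Function.Surjective (Matrix.toLin' A) := by
    rw [← LinearMap.range_eq_top, ← top_le_iff, ← hn, ← hmap n le_rfl]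
    exact LinearMap.map_le_range
  have hu : IsUnit A := by
    rw [← Matrix.mulVec_surjective_iff_isUnit]
    intro v
    obtain ⟨u, hu⟩ := hsurj v
    exact ⟨u, hu⟩
  refine ⟨hu.unit, fun c => ?_⟩
  show (stdSub F n c.1).map (Matrix.toLin' A) = _
  rw [hmap c.1 (hC c.1 c.2), hb c.1 (Finset.mem_insert_of_mem c.2)]
  by_cases h : c.1 ∈ C ∧ c.1 ≠ n
  · simp only [W', dif_pos h]
  · have hcn : c.1 = n := not_ne_iff.1 fun e => h ⟨c.2, e⟩
    simp only [W', dif_neg h]
    exact (Submodule.eq_top_of_finrank_eq (by rw [hd c, Module.finrank_fin_fun, hcn])).symm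

variable [Fintype F]

omit [Fintype F] in
/-- Fixed cosets correspond to invariant flags. -/
theorem card_fixedBy_eq_flagsAbove (x : GL (Fin n) F) (μ : Fin n → ℕ) (hμ : ∑ i, μ i = n)
    [Finite (Module.AEval' (Matrix.toLin' (x : Matrix (Fin n) (Fin n) F)))] :
    Nat.card (MulAction.fixedBy (GL (Fin n) F ⧸ Cfsg.parabolicGL n F μ) x) =
      Nat.card (flagsAbove (⊥ : Submodule F[X] (Module.AEval' (Matrix.toLin' (x : Matrix (Fin n) (Fin n) F))))
        (cutSet μ)) := by
  classical
  set φ := Matrix.toLin' (x : Matrix (Fin n) (Fin n) F) with hφ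
  set C := cutSet μ
  let L : GL (Fin n) F → ((Fin n → F) →ₗ[F] (Fin n → F)) := fun g => Matrix.toLin' (g : Matrix (Fin n) (Fin n) F)
  have hLmul : ∀ g h, L (g * h) = L g ∘ₗ L h := fun g h => by
    simp only [L, Units.val_mul, Matrix.toLin'_mul]
  have hLinv : ∀ g, L g⁻¹ ∘ₗ L g = LinearMap.id := fun g => by
    rw [← hLmul, inv_mul_cancel]; simp [L]
  let Φ : GL (Fin n) F → C → Submodule F (Fin n → F) := fun g c => (stdSub F n c.1).map (L g)
  have hmap_le : ∀ (g : GL (Fin n) F) (p p' : Submodule F (Fin n → F)), p.map (L g) ≤ p' ↔ p ≤ p'.map (L g⁻¹) := by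
    intro g p p'
    constructor
    · intro h v hv
      exact ⟨L g v, h ⟨v, hv, rfl⟩, by rw [← LinearMap.comp_apply, hLinv]; rfl⟩
    · intro h
      rintro _ ⟨v, hv, rfl⟩
      obtain ⟨w, hw, rfl⟩ := h hv
      have := hLinv g⁻¹
      rw [inv_inv] at this
      rw [← LinearMap.comp_apply, this]; exact hw
  have hPhimul : ∀ g h c, Φ (g * h) c = ((stdSub F n c.1).map (L h)).map (L g) := fun g h c => by
    simp only [Φ, hLmul, Submodule.map_comp]
  have hmemP : ∀ g h : GL (Fin n) F, g⁻¹ * h ∈ Cfsg.parabolicGL n F μ ↔ ∀ c : C, Φ h c ≤ Φ g c := by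
    intro g h
    rw [mem_parabolic_iff_stable]
    constructor
    · intro H c
      have h1 : Φ (g⁻¹ * h) c ≤ stdSub F n c.1 := H c.1 c.2
      rw [hPhimul, hmap_le, inv_inv] at h1
      exact h1
    · intro H c hc
      have := H ⟨c, hc⟩
      show Φ (g⁻¹ * h) ⟨c, hc⟩ ≤ stdSub F n c
      rw [hPhimul, hmap_le, inv_inv]
      exact this
  have heq : ∀ g h : GL (Fin n) F, g⁻¹ * h ∈ Cfsg.parabolicGL n F μ → Φ g = Φ h := by
    intro g h H
    funext c
    refine le_antisymm ((hmemP h g).1 ?_ c) ((hmemP g h).1 H c)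
    have := inv_mem H
    rwa [_root_.mul_inv_rev, inv_inv] at this
  have hinv : ∀ g : GL (Fin n) F, ((g : GL (Fin n) F ⧸ Cfsg.parabolicGL n F μ)) ∈ MulAction.fixedBy _ x ↔
      ∀ c : C, Φ g c ∈ (Algebra.lsmul F F (Fin n → F) φ).invtSubmodule := by
    intro g
    show ((x * g : GL (Fin n) F) : GL (Fin n) F ⧸ Cfsg.parabolicGL n F μ) = g ↔ _
    rw [eq_comm, QuotientGroup.eq, hmemP]
    refine forall_congr' fun c => ?_
    rw [Module.End.mem_invtSubmodule, ← Submodule.map_le_iff_le_comap, hPhimul]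
    rfl
  let toM := Module.AEval.mapSubmodule F (Fin n → F) φ
  have hdimM : ∀ (p : Submodule F (Fin n → F)) (hp : p ∈ (Algebra.lsmul F F (Fin n → F) φ).invtSubmodule),
      Module.finrank F (toM ⟨p, hp⟩) = Module.finrank F p := fun p hp =>
    (Module.AEval.equiv_mapSubmodule φ p hp).finrank_eq.symm
  have hbot : Module.finrank F (⊥ : Submodule F[X] (Module.AEval' φ)) = 0 := Module.finrank_zero_of_subsingleton
  have hdimPhi : ∀ g (c : C), Module.finrank F (Φ g c) = c.1 := by
    intro g c
    rw [← LinearEquiv.finrank_eq (Submodule.equivMapOfInjective (L g) ?_ (stdSub F n c.1)),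
      finrank_stdSub (cutSet_le μ hμ c.2)]
    intro u v huv
    have := congrArg (L g⁻¹) huv
    rwa [← LinearMap.comp_apply, ← LinearMap.comp_apply, hLinv] at this
  refine Nat.card_eq_of_bijective (fun q => ⟨fun c => toM ⟨Φ q.1.out c,
      (hinv q.1.out).1 (by rw [QuotientGroup.out_eq']; exact q.2) c⟩, ?_, ?_, ?_⟩) ⟨?_, ?_⟩
  · intro c; rw [hdimM, hdimPhi, hbot, zero_add]
  · intro c d h; exact toM.monotone (Subtype.mk_le_mk.2 (Submodule.map_mono (stdSub_mono h)))
  · exact fun c => bot_le
  · rintro ⟨q, hq⟩ ⟨q', hq'⟩ he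
    apply Subtype.ext
    show q = q'
    rw [← QuotientGroup.out_eq' q, ← QuotientGroup.out_eq' q', QuotientGroup.eq, hmemP]
    intro c
    have := congrFun (Subtype.ext_iff.1 he) c
    exact (Subtype.ext_iff.1 (toM.injective this)).ge
  · rintro ⟨f, hf1, hf2, hf3⟩
    let W : C → Submodule F (Fin n → F) := fun c => (toM.symm (f c)).1
    have hW : ∀ c, toM ⟨W c, (toM.symm (f c)).2⟩ = f c := fun c => toM.apply_symm_apply _
    obtain ⟨g, hg⟩ := exists_flag_element C (fun c hc => cutSet_le μ hμ hc) W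
      (fun c => by rw [← hdimM _ (toM.symm (f c)).2, hW, hf1, hbot, zero_add])
      (fun c d h => toM.symm.monotone (hf2 c d h))
    have hfix : ((g : GL (Fin n) F ⧸ Cfsg.parabolicGL n F μ)) ∈ MulAction.fixedBy _ x :=
      (hinv g).2 fun c => by rw [show Φ g c = W c from hg c]; exact (toM.symm (f c)).2
    refine ⟨⟨_, hfix⟩, Subtype.ext (funext fun c => ?_)⟩
    show toM ⟨Φ _ c, _⟩ = f c
    rw [← hW c]
    congr 1
    apply Subtype.ext
    show Φ _ c = W c
    rw [heq _ g (QuotientGroup.eq.1 (QuotientGroup.out_eq' _))]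
    exact hg c

omit [Fintype F] in
/-- Elements of order prime to the characteristic are semisimple. -/
theorem isSemisimple_of_coprime (p : ℕ) [Fact p.Prime] [CharP F p] (x : GL (Fin n) F)
    (hx : (orderOf x).Coprime p) :
    Module.End.IsSemisimple (Matrix.toLin' (x : Matrix (Fin n) (Fin n) F)) := by
  set o := orderOf x
  have ho : (o : F) ≠ 0 := by
    rw [Ne, CharP.cast_eq_zero_iff F p]
    intro hd
    have h2 : p ∣ Nat.gcd o p := Nat.dvd_gcd hd dvd_rfl
    rw [hx] at h2
    exact (Fact.out : p.Prime).not_dvd_one h2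
  have hsep : (Polynomial.X ^ o - 1 : F[X]).Separable := Polynomial.separable_X_pow_sub_C (1 : F) ho one_ne_zero
  refine Module.End.isSemisimple_of_squarefree_aeval_eq_zero hsep.squarefree ?_
  rw [map_sub, map_pow, Polynomial.aeval_X, map_one, sub_eq_zero]
  have h := congrArg (fun g : GL (Fin n) F => Matrix.toLinAlgEquiv' (g : Matrix (Fin n) (Fin n) F))
    (pow_orderOf_eq_one x)
  simp only [Units.val_pow_eq_pow_val, map_pow, Units.val_one, map_one] at h
  exact h

/-- The Steinberg value at an element of order prime to the characteristic. -/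
theorem steinberg_value [DecidableEq F] (p : ℕ) [Fact p.Prime] [CharP F p] (x : GL (Fin n) F) (hx : (orderOf x).Coprime p) :
    Cfsg.unipotentCharacterGL n F (fun _ => 1) x =
      (((-1 : ℤ) ^ n * facValue (Fintype.card F)
        (UniqueFactorizationMonoid.normalizedFactors (x : Matrix (Fin n) (Fin n) F).charpoly) : ℤ) : ℂ) := by
  classical
  set φ := Matrix.toLin' (x : Matrix (Fin n) (Fin n) F) with hφ
  have : Finite (Module.AEval' φ) := Finite.of_equiv _ (Module.AEval'.of φ).toEquiv
  have : Module.Finite F (Module.AEval' φ) := Module.Finite.equiv (Module.AEval'.of φ)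
  have : IsSemisimpleModule F[X] (Module.AEval' φ) := isSemisimple_of_coprime p x hx
  have h1 : altSum n (fun C => (Nat.card (flagsAbove (⊥ : Submodule F[X] (Module.AEval' φ)) C) : ℤ)) =
      (-1 : ℤ) ^ n * moebTop (⊥ : Submodule F[X] (Module.AEval' φ)) := by
    refine altSum_flags n ⊥ ?_
    rw [Module.finrank_zero_of_subsingleton, zero_add, ← (Module.AEval'.of φ).finrank_eq, Module.finrank_fin_fun]
  rw [moebTop_bot, (moebBot_eq_facValue (F := F) (⊤ : Submodule F[X] (Module.AEval' φ))).1] at h1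
  have hfac : facs F (⊤ : Submodule F[X] (Module.AEval' φ)) =
      UniqueFactorizationMonoid.normalizedFactors (x : Matrix (Fin n) (Fin n) F).charpoly := by
    rw [facs]
    refine Eq.trans (congrArg _ ?_) (by congr!)
    rw [charpoly_xMap_congr (Submodule.topEquiv (R := F[X]) (M := Module.AEval' φ)).symm,
      ← Matrix.charpoly_toLin', ← hφ, ← LinearEquiv.charpoly_conj (Module.AEval'.of φ) φ]
    congr 1
    ext v
    obtain ⟨u, rfl⟩ := (Module.AEval'.of φ).surjective v
    simp [LinearEquiv.conj_apply, xMap_apply, Module.AEval'.X_smul_of]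
  rw [hfac] at h1
  rw [← h1, altSum, Cfsg.unipotentCharacterGL, Int.cast_sum]
  refine Finset.sum_congr rfl fun κ _ => ?_
  by_cases hκ : ∀ i : Fin n, (κ i).val ≤ 1 + i.val
  · rw [if_pos hκ, if_pos hκ, Int.cast_mul]
    congr 1
    rw [Int.cast_natCast, Cfsg.fixedPointCharacter]
    exact congrArg Nat.cast (card_fixedBy_eq_flagsAbove x (fun i => 1 + i.val - (κ i).val) (sum_permComp κ hκ))
  · rw [if_neg hκ, if_neg hκ, Int.cast_zero]

end H40
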