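import Cfsg.Agent.H42.RankOneConj
import Cfsg.Agent.H37.Generation
import Cfsg.Agent.H12.Integral
import Cfsg.Agent.H40.CrossChar

/-!
# The class of transvections in SL_n, n ≥ 3
-/

set_option autoImplicit false

open Matrix

namespace H40.MinDeg

variable {F : Type*} [Field F] {n : ℕ}

/-- transvection `1 + u φ` -/
def tvec (u φ : Fin n → F) (h : φ ⬝ᵥ u = 0) : SpecialLinearGroup (Fin n) F :=
  ⟨1 + vecMulVec u φ, by
    rw [vecMulVec_eq (Fin 1), det_one_add_replicateCol_mul_replicateRow, h, add_zero]⟩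

theorem isConj_tvec (hn : 3 ≤ n) {u φ v ψ : Fin n → F} (h : φ ⬝ᵥ u = 0) (h' : ψ ⬝ᵥ v = 0)
    (hu : u ≠ 0) (hv : v ≠ 0) (hφ : φ ≠ 0) (hψ : ψ ≠ 0) :
    IsConj (tvec u φ h) (tvec v ψ h') := by
  obtain ⟨g, hgd, hgu, hgψ⟩ := H42.exists_det_one_intertwining (F := F) (V := Fin n → F)
    (by simpa using hn) u v (dotProductEquiv F (Fin n) φ) (dotProductEquiv F (Fin n) ψ) hu hv
    (by simpa using hφ) (by simpa using hψ) h h'
  have hGv : LinearMap.toMatrix' g *ᵥ u = v := by rw [LinearMap.toMatrix'_mulVec, hgu]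
  have hGψ : ψ ᵥ* LinearMap.toMatrix' g = φ := by
    refine dotProduct_eq _ _ fun x => ?_
    rw [← dotProduct_mulVec, LinearMap.toMatrix'_mulVec]
    exact DFunLike.congr_fun hgψ x
  let G : SpecialLinearGroup (Fin n) F :=
    ⟨LinearMap.toMatrix' g, by rw [LinearMap.det_toMatrix', hgd]⟩
  refine isConj_iff.2 ⟨G, ?_⟩
  rw [mul_inv_eq_iff_eq_mul]
  apply Subtype.ext
  show LinearMap.toMatrix' g * (1 + vecMulVec u φ) = (1 + vecMulVec v ψ) * LinearMap.toMatrix' g
  rw [mul_add, add_mul, mul_vecMulVec, vecMulVec_mul, hGv, hGψ, mul_one, one_mul]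

theorem transvection_eq_tvec {i j : Fin n} (hij : i ≠ j) (b : F) :
    SpecialLinearGroup.transvection hij b =
      tvec (Pi.single i b) (Pi.single j 1) (by simp [hij]) := by
  apply Subtype.ext
  show 1 + Matrix.single i j b = 1 + vecMulVec _ _
  congr 1
  ext a b'
  simp only [Matrix.single_apply, vecMulVec_apply, Pi.single_apply, eq_comm (a := i), eq_comm (a := j)]
  split_ifs <;> simp_all

theorem conj_tvec (g : SpecialLinearGroup (Fin n) F) (u φ : Fin n → F) (h : φ ⬝ᵥ u = 0) :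
    ∃ (v ψ : Fin n → F) (h' : ψ ⬝ᵥ v = 0), g * tvec u φ h * g⁻¹ = tvec v ψ h' ∧
      (u ≠ 0 → v ≠ 0) ∧ (φ ≠ 0 → ψ ≠ 0) := by
  have hinv : (↑(g⁻¹) : Matrix (Fin n) (Fin n) F) * (g : Matrix (Fin n) (Fin n) F) = 1 :=
    congrArg Subtype.val (inv_mul_cancel g)
  have hinv' : (g : Matrix (Fin n) (Fin n) F) * (↑(g⁻¹) : Matrix (Fin n) (Fin n) F) = 1 :=
    congrArg Subtype.val (mul_inv_cancel g)
  refine ⟨(g : Matrix (Fin n) (Fin n) F) *ᵥ u, φ ᵥ* (↑(g⁻¹) : Matrix (Fin n) (Fin n) F), ?_, ?_,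
    fun hu h0 => hu ?_, fun hφ h0 => hφ ?_⟩
  · rw [← dotProduct_mulVec, mulVec_mulVec, hinv, one_mulVec, h]
  · apply Subtype.ext
    show (g : Matrix (Fin n) (Fin n) F) * (1 + vecMulVec u φ) * (↑(g⁻¹) : Matrix (Fin n) (Fin n) F) =
      1 + _
    rw [mul_add, add_mul, mul_one, hinv', mul_vecMulVec, vecMulVec_mul]
  · have := congrArg ((↑(g⁻¹) : Matrix (Fin n) (Fin n) F) *ᵥ ·) h0
    simp only [mulVec_mulVec, hinv, one_mulVec, mulVec_zero] at this
    exact this
  · have := congrArg (· ᵥ* (g : Matrix (Fin n) (Fin n) F)) h0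
    simp only [vecMul_vecMul, hinv, vecMul_one, zero_vecMul] at this
    exact this

/-- A class function constant 1 on one transvection is so on all: if one acts trivially, all do. -/
theorem hom_eq_one_of_tvec {H : Type*} [Monoid H] (f : SpecialLinearGroup (Fin n) F →* H)
    (hn : 3 ≤ n) {u φ : Fin n → F} (h : φ ⬝ᵥ u = 0) (hu : u ≠ 0) (hφ : φ ≠ 0)
    (h1 : f (tvec u φ h) = 1) (g : SpecialLinearGroup (Fin n) F) : f g = 1 := by
  have : f.ker = ⊤ := by
    refine H37.eq_top_of_transvection_mem _ fun i j hij c => ?_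
    by_cases hc : c = 0
    · subst hc
      have : SpecialLinearGroup.transvection hij (0 : F) = 1 := by
        apply Subtype.ext
        exact transvection_zero i j
      rw [this]; exact one_mem _
    · rw [transvection_eq_tvec]
      obtain ⟨a, ha⟩ := isConj_iff.1 (isConj_tvec hn h (φ := φ)
        (v := Pi.single i c) (ψ := Pi.single j 1) (by simp [hij]) hu
        (by simpa using hc) hφ (by simp))
      rw [← ha, MonoidHom.mem_ker, map_mul, map_mul, h1, mul_one, ← map_mul, mul_inv_cancel,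
        map_one]
  have := this.symm ▸ Subgroup.mem_top g
  exact MonoidHom.mem_ker.1 this

section count

variable [Fintype F] [DecidableEq F]

/-- The set of non-trivial transvections. -/
noncomputable def tvecSet (n : ℕ) (F : Type*) [Field F] [Fintype F] [DecidableEq F] :
    Finset (SpecialLinearGroup (Fin n) F) := by
  classical
  exact (Finset.univ : Finset {p : (Fin n → F) × (Fin n → F) //
    p.1 ≠ 0 ∧ p.2 ≠ 0 ∧ p.2 ⬝ᵥ p.1 = 0}).image fun p => tvec p.1.1 p.1.2 p.2.2.2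

omit [DecidableEq F] in
theorem card_pairs : Nat.card {p : (Fin n → F) × (Fin n → F) //
    p.1 ≠ 0 ∧ p.2 ≠ 0 ∧ p.2 ⬝ᵥ p.1 = 0} =
    (Fintype.card F ^ n - 1) * (Fintype.card F ^ (n - 1) - 1) := by
  classical
  let e : {p : (Fin n → F) × (Fin n → F) // p.1 ≠ 0 ∧ p.2 ≠ 0 ∧ p.2 ⬝ᵥ p.1 = 0} ≃
      Σ u : {u : Fin n → F // u ≠ 0}, {φ : Fin n → F // φ ≠ 0 ∧ φ ⬝ᵥ u.1 = 0} :=
    { toFun := fun p => ⟨⟨p.1.1, p.2.1⟩, ⟨p.1.2, p.2.2⟩⟩
      invFun := fun s => ⟨(s.1.1, s.2.1), s.1.2, s.2.2⟩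
      left_inv := fun _ => rfl
      right_inv := fun _ => rfl }
  rw [Nat.card_congr e, Nat.card_sigma]
  have key : ∀ u : {u : Fin n → F // u ≠ 0},
      Nat.card {φ : Fin n → F // φ ≠ 0 ∧ φ ⬝ᵥ u.1 = 0} = Fintype.card F ^ (n - 1) - 1 := by
    intro u
    let L : Module.Dual F (Fin n → F) := dotProductEquiv F (Fin n) u.1
    have hL : L ≠ 0 := by simpa [L] using u.2
    let e' : {φ : Fin n → F // φ ≠ 0 ∧ φ ⬝ᵥ u.1 = 0} ≃ {x : LinearMap.ker L // x ≠ 0} :=
      { toFun := fun φ => ⟨⟨φ.1, by simp [L, dotProduct_comm u.1, φ.2.2]⟩,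
          fun h => φ.2.1 (congrArg Subtype.val h)⟩
        invFun := fun x => ⟨x.1.1, fun h => x.2 (Subtype.ext h), by
          have := x.1.2
          rw [LinearMap.mem_ker] at this
          rw [dotProduct_comm]; exact this⟩
        left_inv := fun _ => rfl
        right_inv := fun _ => rfl }
    rw [Nat.card_congr e', Nat.card_eq_fintype_card, Fintype.card_subtype_compl,
      Fintype.card_subtype_eq, Module.card_eq_pow_finrank (K := F)]
    have h1 := Module.Dual.finrank_ker_add_one_of_ne_zero hL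
    rw [Module.finrank_fin_fun] at h1
    congr 2
    omega
  rw [Finset.sum_congr rfl fun u _ => key u, Finset.sum_const, Finset.card_univ,
    Fintype.card_subtype_compl, Fintype.card_subtype_eq, Fintype.card_fun, Fintype.card_fin,
    smul_eq_mul]

theorem card_tvecSet : (Fintype.card F - 1) * (tvecSet n F).card =
    (Fintype.card F ^ n - 1) * (Fintype.card F ^ (n - 1) - 1) := by
  classical
  rw [← card_pairs (F := F) (n := n), Nat.card_eq_fintype_card, tvecSet]
  conv_rhs => rw [← Finset.card_univ]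
  rw [Finset.card_eq_sum_card_image (fun p : {p : (Fin n → F) × (Fin n → F) //
      p.1 ≠ 0 ∧ p.2 ≠ 0 ∧ p.2 ⬝ᵥ p.1 = 0} => tvec p.1.1 p.1.2 p.2.2.2) Finset.univ]
  rw [mul_comm, ← smul_eq_mul, ← Finset.sum_const]
  refine (Finset.sum_congr rfl fun g hg => ?_).symm
  obtain ⟨⟨⟨u, φ⟩, hu, hφ, h⟩, -, rfl⟩ := Finset.mem_image.1 hg
  rw [← Fintype.card_units]
  symm
  refine Finset.card_nbij (fun s : Fˣ => (⟨((s : F) • u, (s : F)⁻¹ • φ),
      smul_ne_zero s.ne_zero hu, smul_ne_zero (inv_ne_zero s.ne_zero) hφ, by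
        rw [dotProduct_smul, smul_dotProduct, h, smul_zero, smul_zero]⟩ :
      {p : (Fin n → F) × (Fin n → F) // p.1 ≠ 0 ∧ p.2 ≠ 0 ∧ p.2 ⬝ᵥ p.1 = 0})) ?_ ?_ ?_
  · intro s _
    simp only [Finset.mem_filter, Finset.mem_univ, true_and, Finset.mem_coe]
    apply Subtype.ext
    show 1 + vecMulVec ((s : F) • u) ((s : F)⁻¹ • φ) = 1 + vecMulVec u φ
    rw [smul_vecMulVec, vecMulVec_smul, smul_smul, mul_inv_cancel₀ s.ne_zero, one_smul]
  · intro s _ t _ hst
    have h1 : (s : F) • u = (t : F) • u := congrArg (fun p => p.1.1) hst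
    exact Units.ext (smul_left_injective F hu h1)
  · rintro ⟨⟨v, ψ⟩, hv, hψ, h'⟩ hp
    simp only [Finset.mem_coe, Finset.mem_filter, Finset.mem_univ, true_and] at hp
    have he : vecMulVec v ψ = vecMulVec u φ :=
      add_left_cancel (congrArg Subtype.val hp)
    obtain ⟨j, hj⟩ := Function.ne_iff.1 hψ
    have hvi : ∀ i, v i = (φ j / ψ j) * u i := fun i => by
      have := congrFun (congrFun he i) j
      simp only [vecMulVec_apply] at this
      simp only [Pi.zero_apply] at hj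
      field_simp
      linear_combination this
    have hs : φ j / ψ j ≠ 0 := by
      intro h0
      apply hv
      funext i
      show v i = 0
      rw [hvi i, h0, zero_mul]
    refine ⟨Units.mk0 _ hs, by simp, Subtype.ext (Prod.ext ?_ ?_)⟩
    · funext i; exact (hvi i).symm
    · funext k
      obtain ⟨i, hi⟩ := Function.ne_iff.1 hu
      have := congrFun (congrFun he i) k
      simp only [vecMulVec_apply, hvi i, Pi.zero_apply] at this hi
      show (φ j / ψ j)⁻¹ * φ k = ψ k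
      apply mul_left_cancel₀ (mul_ne_zero hs hi)
      rw [this]
      generalize φ j / ψ j = r at hs ⊢
      field_simp

/-- the index of the centralizer of a transvection -/
theorem card_class_tvec (hn : 3 ≤ n) {u φ : Fin n → F} (h : φ ⬝ᵥ u = 0) (hu : u ≠ 0)
    (hφ : φ ≠ 0) :
    (Fintype.card F - 1) *
      (Subgroup.centralizer ({tvec u φ h} : Set (SpecialLinearGroup (Fin n) F))).index =
      (Fintype.card F ^ n - 1) * (Fintype.card F ^ (n - 1) - 1) := by
  classical
  rw [← card_tvecSet (F := F) (n := n)]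
  congr 1
  apply Nat.eq_of_mul_eq_mul_right (Nat.card_pos (α :=
    Subgroup.centralizer ({tvec u φ h} : Set (SpecialLinearGroup (Fin n) F))))
  rw [Subgroup.index_mul_card, ← H12.card_conjClass_mul_card_centralizer (tvec u φ h)]
  congr 2
  ext x
  simp only [Finset.mem_filter, Finset.mem_univ, true_and, tvecSet, Finset.mem_image,
    Subtype.exists, Prod.exists]
  constructor
  · intro hx
    obtain ⟨c, rfl⟩ := isConj_iff.1 hx
    obtain ⟨v, ψ, h', he, h1, h2⟩ := conj_tvec c u φ h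
    exact ⟨v, ψ, ⟨h1 hu, h2 hφ, h'⟩, he.symm⟩
  · rintro ⟨v, ψ, ⟨hv, hψ, h'⟩, rfl⟩
    exact isConj_tvec hn h h' hu hv hφ hψ

end count

end H40.MinDeg
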